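import Cfsg.Agent.Base

/-!
# A kernel-friendly checker for identities between words in a family of sparse matrices

A family `X r t` of matrices (`r : ℕ`, `t : F`) is given by its sparse columns
`X r t *ᵥ b k = ∑ (k', a, j) ∈ col r k, (a t^j) • b k'`.  Parameters of the letters of a word are
integer polynomials in an abstract monoid of monomials `K`.  `applyW` applies a word to a
symbolic vector; `evV_applyW` is its soundness.  Coefficients are reduced modulo `p`
(`p = 0`: no reduction), which is sound as soon as `(p : F) = 0`.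
-/

set_option autoImplicit false

namespace CL.WC

open Matrix

/-- Operations on a type of monomials. -/
structure Mon (K : Type) where
  one : K
  mul : K → K → K
  beq : K → K → Bool

/-- Soundness of the operations for an evaluation map. -/
structure Mon.Sound {K : Type} (O : Mon K) {F : Type*} [CommRing F] (ev : K → F) : Prop where
  one : ev O.one = 1
  mul : ∀ a b, ev (O.mul a b) = ev a * ev b
  beq : ∀ a b, O.beq a b = true → ev a = ev b

/-- Polynomials: lists of (coefficient, monomial). -/
abbrev Pol (K : Type) := List (ℤ × K)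
/-- Symbolic vectors: lists of (basis index, coefficient, monomial). -/
abbrev Vec (K : Type) := List (ℕ × ℤ × K)
/-- Sparse columns: (row index, coefficient, power of the parameter). -/
abbrev Col := List (ℕ × ℤ × ℕ)

section defs
variable {K : Type} (O : Mon K)

/-- Test for the integer zero. -/
def isZ (a : ℤ) : Bool := Nat.beq (Int.natAbs a) 0

/-- Product of polynomials. -/
noncomputable def pmul (p q : Pol K) : Pol K :=
  List.rec [] (fun x _ acc => List.rec acc (fun y _ acc' => (Int.mul x.1 y.1, O.mul x.2 y.2) :: acc') q) p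

/-- Power of a polynomial. -/
noncomputable def ppow (p : Pol K) (j : ℕ) : Pol K :=
  Nat.rec [(1, O.one)] (fun _ acc => pmul O p acc) j

/-- Insert a term into a vector, merging with a term of the same index and monomial. -/
noncomputable def ins1 (p : ℤ) (k : ℕ) (a : ℤ) (m : K) (v : Vec K) : Vec K :=
  List.rec [(k, a, m)] (fun y L acc =>
    Bool.rec (y :: acc)
      (Bool.rec (y :: acc)
        (Bool.rec ((k, Int.emod (Int.add a y.2.1) p, m) :: L) L (isZ (Int.emod (Int.add a y.2.1) p)))
        (O.beq m y.2.2))
      (Nat.beq k y.1)) v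

/-- Insert a term (dropped when its coefficient vanishes modulo `p`). -/
noncomputable def ins (p : ℤ) (k : ℕ) (a : ℤ) (m : K) (v : Vec K) : Vec K :=
  Bool.rec (ins1 O p k (Int.emod a p) m v) v (isZ (Int.emod a p))

/-- Add `(a m) · P • b k` to a vector. -/
noncomputable def insP (p : ℤ) (k : ℕ) (a : ℤ) (m : K) (P : Pol K) (v : Vec K) : Vec K :=
  List.rec v (fun y _ acc => ins O p k (Int.mul a y.1) (O.mul m y.2) acc) P

/-- Add `(a m) • X r P (b k)` to a vector, `c` being the column. -/
noncomputable def insC (p : ℤ) (P : Pol K) (a : ℤ) (m : K) (c : Col) (v : Vec K) : Vec K :=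
  List.rec v (fun y _ acc =>
    Nat.rec (ins O p y.1 (Int.mul a y.2.1) m acc)
      (fun j _ => insP O p y.1 (Int.mul a y.2.1) m (ppow O P (Nat.succ j)) acc) y.2.2) c

/-- Apply the letter `X r P` to a vector. -/
noncomputable def applyL (p : ℤ) (col : ℕ → ℕ → Col) (r : ℕ) (P : Pol K) (v : Vec K) : Vec K :=
  List.rec [] (fun y _ acc => insC O p P y.2.1 y.2.2 (col r y.1) acc) v

/-- Apply a word (the rightmost letter acts first). -/
noncomputable def applyW (p : ℤ) (col : ℕ → ℕ → Col) (w : List (ℕ × Pol K)) (v : Vec K) : Vec K :=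
  List.rec v (fun y _ acc => applyL O p col y.1 y.2 acc) w

/-- The difference of two vectors. -/
noncomputable def vsub (p : ℤ) (u v : Vec K) : Vec K :=
  List.rec u (fun y _ acc => ins O p y.1 (Int.neg y.2.1) y.2.2 acc) v

/-- Test: two vectors have the same normal form. -/
noncomputable def veq (p : ℤ) (u v : Vec K) : Bool :=
  List.rec true (fun _ _ _ => false) (vsub O p u v)

/-- Bounded universal quantifier. -/
noncomputable def allLt (n : ℕ) (q : ℕ → Bool) : Bool :=
  Nat.rec true (fun k b => Bool.rec false b (q k)) n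

/-- Bounded existential quantifier. -/
noncomputable def anyLt (n : ℕ) (q : ℕ → Bool) : Bool :=
  Nat.rec false (fun k b => Bool.rec b true (q k)) n

/-- Universal quantifier over a list. -/
noncomputable def allL {α : Type} (l : List α) (q : α → Bool) : Bool :=
  List.rec true (fun a _ b => Bool.rec false b (q a)) l

/-- Test: two words agree on the basis vectors `b k`, `k < N`. -/
noncomputable def weq (p : ℤ) (col : ℕ → ℕ → Col) (N : ℕ) (w w' : List (ℕ × Pol K)) : Bool :=
  allLt N fun k => veq O p (applyW O p col w [(k, 1, O.one)]) (applyW O p col w' [(k, 1, O.one)])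

end defs

theorem allLt_iff {n : ℕ} {q : ℕ → Bool} : allLt n q = true ↔ ∀ k < n, q k = true := by
  induction n with
  | zero => simp [allLt]
  | succ n ih =>
    have : allLt (n + 1) q = Bool.rec false (allLt n q) (q n) := rfl
    rw [this]
    constructor
    · intro h k hk
      cases hq : q n with
      | false => simp [hq] at h
      | true =>
        simp only [hq] at h
        rcases Nat.lt_succ_iff_lt_or_eq.1 hk with h' | rfl
        · exact ih.1 h k h'
        · exact hq
    · intro h
      rw [h n (Nat.lt_succ_self n)]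
      exact ih.2 fun k hk => h k (Nat.lt_succ_of_lt hk)

theorem anyLt_iff {n : ℕ} {q : ℕ → Bool} : anyLt n q = true ↔ ∃ k < n, q k = true := by
  induction n with
  | zero => simp [anyLt]
  | succ n ih =>
    have : anyLt (n + 1) q = Bool.rec (anyLt n q) true (q n) := rfl
    rw [this]
    cases hq : q n with
    | true => simp only [true_iff]; exact ⟨n, Nat.lt_succ_self n, hq⟩
    | false =>
      simp only [ih]
      constructor
      · rintro ⟨k, hk, h⟩; exact ⟨k, Nat.lt_succ_of_lt hk, h⟩
      · rintro ⟨k, hk, h⟩
        rcases Nat.lt_succ_iff_lt_or_eq.1 hk with h' | rfl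
        · exact ⟨k, h', h⟩
        · simp [hq] at h

theorem allL_iff {α : Type} {l : List α} {q : α → Bool} : allL l q = true ↔ ∀ a ∈ l, q a = true := by
  induction l with
  | nil => simp [allL]
  | cons a l ih =>
    have : allL (a :: l) q = Bool.rec false (allL l q) (q a) := rfl
    rw [this]
    cases hq : q a <;> simp [hq, ih]

theorem isZ_iff {a : ℤ} : isZ a = true ↔ a = 0 := by simp [isZ]

section sound
variable {K : Type} {O : Mon K} {F : Type*} [CommRing F] {ev : K → F}
variable {V : Type*} [AddCommGroup V] [Module F V]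

/-- Value of a polynomial. -/
def evP (ev : K → F) (P : Pol K) : F := (P.map fun y => (y.1 : F) * ev y.2).sum

/-- Value of a symbolic vector. -/
def evV (ev : K → F) (b : ℕ → V) (v : Vec K) : V :=
  (v.map fun y => ((y.2.1 : F) * ev y.2.2) • b y.1).sum

/-- Value of a column at the parameter `t`. -/
def evC (b : ℕ → V) (t : F) (c : Col) : V := (c.map fun y => ((y.2.1 : F) * t ^ y.2.2) • b y.1).sum

@[simp] theorem evP_nil : evP ev [] = 0 := rfl
@[simp] theorem evP_cons (y : ℤ × K) (P : Pol K) : evP ev (y :: P) = (y.1 : F) * ev y.2 + evP ev P := by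
  simp [evP]
@[simp] theorem evV_nil (b : ℕ → V) : evV ev b [] = 0 := rfl
@[simp] theorem evV_cons (b : ℕ → V) (y : ℕ × ℤ × K) (v : Vec K) :
    evV ev b (y :: v) = ((y.2.1 : F) * ev y.2.2) • b y.1 + evV ev b v := by simp [evV]
@[simp] theorem evC_nil (b : ℕ → V) (t : F) : evC b t [] = 0 := rfl
@[simp] theorem evC_cons (b : ℕ → V) (t : F) (y : ℕ × ℤ × ℕ) (c : Col) :
    evC b t (y :: c) = ((y.2.1 : F) * t ^ y.2.2) • b y.1 + evC b t c := by simp [evC]
theorem evC_append (b : ℕ → V) (t : F) (c c' : Col) : evC b t (c ++ c') = evC b t c + evC b t c' := by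
  simp [evC]
theorem evV_append (b : ℕ → V) (c c' : Vec K) : evV ev b (c ++ c') = evV ev b c + evV ev b c' := by
  simp [evV]

theorem evP_pmul (hO : O.Sound ev) (P Q : Pol K) : evP ev (pmul O P Q) = evP ev P * evP ev Q := by
  induction P with
  | nil => simp [pmul]
  | cons x P ih =>
    have key : ∀ (Q' acc : Pol K), evP ev (List.rec (motive := fun _ => Pol K) acc
        (fun y _ acc' => (Int.mul x.1 y.1, O.mul x.2 y.2) :: acc') Q') =
        (x.1 : F) * ev x.2 * evP ev Q' + evP ev acc := by
      intro Q' acc
      induction Q' with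
      | nil => simp
      | cons y Q' ih' =>
        rw [evP_cons, ih', evP_cons, hO.mul]; simp only [Int.mul_def, Int.cast_mul]; ring
    have : pmul O (x :: P) Q = List.rec (motive := fun _ => Pol K) (pmul O P Q)
        (fun y _ acc' => (Int.mul x.1 y.1, O.mul x.2 y.2) :: acc') Q := rfl
    rw [this, key, ih, evP_cons]; ring

theorem evP_ppow (hO : O.Sound ev) (P : Pol K) (j : ℕ) : evP ev (ppow O P j) = evP ev P ^ j := by
  induction j with
  | zero => simp [ppow, hO.one]
  | succ j ih =>
    have : ppow O P (j + 1) = pmul O P (ppow O P j) := rfl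
    rw [this, evP_pmul hO, ih, pow_succ']

theorem cast_emod {p : ℤ} (hp : (p : F) = 0) (a : ℤ) : ((Int.emod a p : ℤ) : F) = a := by
  have h : Int.emod a p = a - p * (a / p) := Int.emod_def a p
  rw [h]; push_cast; rw [hp]; ring

theorem evV_ins1 (hO : O.Sound ev) {p : ℤ} (hp : (p : F) = 0) (b : ℕ → V) (k : ℕ) (a : ℤ) (m : K)
    (v : Vec K) : evV ev b (ins1 O p k a m v) = ((a : F) * ev m) • b k + evV ev b v := by
  induction v with
  | nil => simp [ins1]
  | cons y L ih =>
    have : ins1 O p k a m (y :: L) = Bool.rec (y :: ins1 O p k a m L)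
      (Bool.rec (y :: ins1 O p k a m L)
        (Bool.rec ((k, Int.emod (Int.add a y.2.1) p, m) :: L) L (isZ (Int.emod (Int.add a y.2.1) p)))
        (O.beq m y.2.2))
      (Nat.beq k y.1) := rfl
    rw [this]
    cases h1 : Nat.beq k y.1 with
    | false => simp only [evV_cons, ih]; abel
    | true =>
      have hk : k = y.1 := Nat.eq_of_beq_eq_true h1
      cases h2 : O.beq m y.2.2 with
      | false => simp only [evV_cons, ih]; abel
      | true =>
        have hm := hO.beq _ _ h2
        have hc := cast_emod hp (Int.add a y.2.1)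
        cases h3 : isZ (Int.emod (Int.add a y.2.1) p) with
        | false =>
          rw [evV_cons, evV_cons, hc]
          simp only [← hk, ← hm, Int.add_def, Int.cast_add, add_mul, add_smul]; abel
        | true =>
          rw [isZ_iff] at h3
          rw [h3] at hc
          simp only [Int.add_def, Int.cast_add, Int.cast_zero] at hc
          simp only [evV_cons, ← hk, ← hm]
          rw [← add_assoc, ← add_smul, ← add_mul, ← hc]; simp

theorem evV_ins (hO : O.Sound ev) {p : ℤ} (hp : (p : F) = 0) (b : ℕ → V) (k : ℕ) (a : ℤ) (m : K)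
    (v : Vec K) : evV ev b (ins O p k a m v) = ((a : F) * ev m) • b k + evV ev b v := by
  unfold ins
  have hc := cast_emod hp a
  cases h : isZ (Int.emod a p) with
  | false => simp only [evV_ins1 hO hp, hc]
  | true =>
    rw [isZ_iff] at h
    rw [h] at hc
    simp [← hc]

theorem evV_insP (hO : O.Sound ev) {p : ℤ} (hp : (p : F) = 0) (b : ℕ → V) (k : ℕ) (a : ℤ) (m : K)
    (P : Pol K) (v : Vec K) :
    evV ev b (insP O p k a m P v) = ((a : F) * ev m * evP ev P) • b k + evV ev b v := by
  induction P with
  | nil => simp [insP]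
  | cons y P ih =>
    have : insP O p k a m (y :: P) v = ins O p k (Int.mul a y.1) (O.mul m y.2) (insP O p k a m P v) := rfl
    rw [this, evV_ins hO hp, ih, evP_cons, hO.mul, ← add_assoc, ← add_smul]
    congr 2
    simp only [Int.mul_def, Int.cast_mul]; ring

theorem evV_insC (hO : O.Sound ev) {p : ℤ} (hp : (p : F) = 0) (b : ℕ → V) (P : Pol K) (a : ℤ) (m : K)
    (c : Col) (v : Vec K) :
    evV ev b (insC O p P a m c v) = ((a : F) * ev m) • evC b (evP ev P) c + evV ev b v := by
  induction c with
  | nil => simp [insC]
  | cons y c ih =>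
    obtain ⟨k, a', j⟩ := y
    cases j with
    | zero =>
      have : insC O p P a m ((k, a', 0) :: c) v = ins O p k (Int.mul a a') m (insC O p P a m c v) := rfl
      rw [this, evV_ins hO hp, ih, evC_cons, smul_add, smul_smul, add_assoc]
      congr 2
      simp only [Int.mul_def, Int.cast_mul]; ring
    | succ j =>
      have : insC O p P a m ((k, a', j + 1) :: c) v =
        insP O p k (Int.mul a a') m (ppow O P (j + 1)) (insC O p P a m c v) := rfl
      rw [this, evV_insP hO hp, ih, evC_cons, smul_add, smul_smul, add_assoc, evP_ppow hO]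
      congr 2
      simp only [Int.mul_def, Int.cast_mul]; ring

theorem evV_vsub (hO : O.Sound ev) {p : ℤ} (hp : (p : F) = 0) (b : ℕ → V) (u v : Vec K) :
    evV ev b (vsub O p u v) = evV ev b u - evV ev b v := by
  induction v with
  | nil => simp [vsub]
  | cons y v ih =>
    have : vsub O p u (y :: v) = ins O p y.1 (Int.neg y.2.1) y.2.2 (vsub O p u v) := rfl
    rw [this, evV_ins hO hp, ih, evV_cons]
    have : ((Int.neg y.2.1 : ℤ) : F) = -(y.2.1 : F) := Int.cast_neg _
    rw [this, neg_mul, neg_smul]; abel

theorem veq_sound (hO : O.Sound ev) {p : ℤ} (hp : (p : F) = 0) (b : ℕ → V) {u v : Vec K}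
    (h : veq O p u v = true) : evV ev b u = evV ev b v := by
  have h2 := evV_vsub hO hp b u v
  unfold veq at h
  cases hw : vsub O p u v with
  | nil => rw [hw, evV_nil] at h2; exact sub_eq_zero.1 h2.symm
  | cons y L => rw [hw] at h; simp at h

end sound

section matrices
variable {K : Type} {O : Mon K} {F : Type*} [CommRing F] {ev : K → F}
variable {I : Type*} [Fintype I] [DecidableEq I]

/-- The matrix of a word. -/
def wmat (X : ℕ → F → Matrix I I F) (w : List (ℕ × F)) : Matrix I I F := (w.map fun q => X q.1 q.2).prod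

/-- Evaluate the parameters of a symbolic word. -/
def evW (ev : K → F) (w : List (ℕ × Pol K)) : List (ℕ × F) := w.map fun q => (q.1, evP ev q.2)

omit [DecidableEq I] in
theorem evV_applyL (hO : O.Sound ev) {p : ℤ} (hp : (p : F) = 0) {b : ℕ → I → F}
    {X : ℕ → F → Matrix I I F} {col : ℕ → ℕ → Col}
    (hX : ∀ r t k, X r t *ᵥ b k = evC b t (col r k)) (r : ℕ) (P : Pol K) (v : Vec K) :
    evV ev b (applyL O p col r P v) = X r (evP ev P) *ᵥ evV ev b v := by
  induction v with
  | nil => simp [applyL]
  | cons y v ih =>
    have : applyL O p col r P (y :: v) = insC O p P y.2.1 y.2.2 (col r y.1) (applyL O p col r P v) := rfl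
    rw [this, evV_insC hO hp, ih, evV_cons, mulVec_add, mulVec_smul, hX]

theorem evV_applyW (hO : O.Sound ev) {p : ℤ} (hp : (p : F) = 0) {b : ℕ → I → F}
    {X : ℕ → F → Matrix I I F} {col : ℕ → ℕ → Col}
    (hX : ∀ r t k, X r t *ᵥ b k = evC b t (col r k)) (w : List (ℕ × Pol K)) (v : Vec K) :
    evV ev b (applyW O p col w v) = wmat X (evW ev w) *ᵥ evV ev b v := by
  induction w with
  | nil => simp [applyW, wmat, evW]
  | cons y w ih =>
    have : applyW O p col (y :: w) v = applyL O p col y.1 y.2 (applyW O p col w v) := rfl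
    rw [this, evV_applyL hO hp hX, ih, mulVec_mulVec]
    simp [wmat, evW]

/-- A word applied to a basis vector. -/
theorem wmat_mulVec_of_veq (hO : O.Sound ev) {p : ℤ} (hp : (p : F) = 0) {b : ℕ → I → F}
    {X : ℕ → F → Matrix I I F} {col : ℕ → ℕ → Col}
    (hX : ∀ r t k, X r t *ᵥ b k = evC b t (col r k)) {w : List (ℕ × Pol K)} {k : ℕ} {v : Vec K}
    (h : veq O p (applyW O p col w [(k, 1, O.one)]) v = true) :
    wmat X (evW ev w) *ᵥ b k = evV ev b v := by
  have := veq_sound hO hp b h
  rw [evV_applyW hO hp hX] at this
  simpa [hO.one] using this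

/-- Soundness of `weq`. -/
theorem weq_sound (hO : O.Sound ev) {p : ℤ} (hp : (p : F) = 0) {b : ℕ → I → F}
    {X : ℕ → F → Matrix I I F} {col : ℕ → ℕ → Col}
    (hX : ∀ r t k, X r t *ᵥ b k = evC b t (col r k)) {N : ℕ}
    (hb : ∀ i : I, ∃ k < N, b k = Pi.single i 1) {w w' : List (ℕ × Pol K)}
    (h : weq O p col N w w' = true) : wmat X (evW ev w) = wmat X (evW ev w') := by
  ext i j
  obtain ⟨k, hk, hkj⟩ := hb j
  have h1 := veq_sound hO hp b (allLt_iff.1 h k hk)
  rw [evV_applyW hO hp hX, evV_applyW hO hp hX] at h1
  simp only [evV_cons, evV_nil, hO.one, Int.cast_one, mul_one, one_smul, add_zero, hkj] at h1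
  simpa using congrFun h1 i

end matrices

/-! ### Monomials `c ^ z * t ^ i * u ^ j` with `c` invertible -/

/-- Monomials in one invertible and two ordinary variables. -/
def M3 : Mon (ℤ × ℕ × ℕ) where
  one := (0, 0, 0)
  mul a b := (Int.add a.1 b.1, Nat.add a.2.1 b.2.1, Nat.add a.2.2 b.2.2)
  beq a b := Bool.rec false (Bool.rec false (isZ (Int.sub a.1 b.1)) (Nat.beq a.2.2 b.2.2)) (Nat.beq a.2.1 b.2.1)

/-- Value of a monomial of `M3`. -/
def ev3 {F : Type*} [Field F] (c t u : F) (m : ℤ × ℕ × ℕ) : F := c ^ m.1 * t ^ m.2.1 * u ^ m.2.2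

theorem M3_sound {F : Type*} [Field F] {c : F} (hc : c ≠ 0) (t u : F) : M3.Sound (ev3 c t u) where
  one := by simp [M3, ev3]
  mul a b := by
    simp only [M3, ev3, Int.add_def, Nat.add_eq, zpow_add₀ hc, pow_add]; ring
  beq a b h := by
    obtain ⟨a1, a2, a3⟩ := a
    obtain ⟨b1, b2, b3⟩ := b
    simp only [M3] at h
    cases h1 : Nat.beq a2 b2 with
    | false => simp [h1] at h
    | true =>
      cases h2 : Nat.beq a3 b3 with
      | false => simp [h1, h2] at h
      | true =>
        simp only [h1, h2, isZ_iff] at h
        have e1 : a1 = b1 := sub_eq_zero.1 h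
        rw [Nat.eq_of_beq_eq_true h1, Nat.eq_of_beq_eq_true h2, e1]

/-! ### Monomials in two ordinary variables -/

/-- Monomials in two variables. -/
def M2 : Mon (ℕ × ℕ) where
  one := (0, 0)
  mul a b := (Nat.add a.1 b.1, Nat.add a.2 b.2)
  beq a b := Bool.rec false (Nat.beq a.2 b.2) (Nat.beq a.1 b.1)

/-- Value of a monomial of `M2`. -/
def ev2 {F : Type*} [CommRing F] (t u : F) (m : ℕ × ℕ) : F := t ^ m.1 * u ^ m.2

theorem M2_sound {F : Type*} [CommRing F] (t u : F) : M2.Sound (ev2 t u) where
  one := by simp [M2, ev2]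
  mul a b := by simp only [M2, ev2, Nat.add_eq, pow_add]; ring
  beq a b h := by
    obtain ⟨a1, a2⟩ := a
    obtain ⟨b1, b2⟩ := b
    simp only [M2] at h
    cases h1 : Nat.beq a1 b1 with
    | false => simp [h1] at h
    | true =>
      simp only [h1] at h
      rw [Nat.eq_of_beq_eq_true h1, Nat.eq_of_beq_eq_true h]

/-! ### Monomials in arbitrarily many variables: exponent lists -/

/-- Pointwise sum of exponent lists. -/
noncomputable def addL (a : List ℕ) : List ℕ → List ℕ :=
  List.rec (fun b => b) (fun x a' ih b => List.rec (x :: a') (fun y b' _ => Nat.add x y :: ih b') b) a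

/-- Equality test of exponent lists (as lists). -/
noncomputable def beqL (a : List ℕ) : List ℕ → Bool :=
  List.rec (fun b => List.rec true (fun _ _ _ => false) b)
    (fun x _ ih b => List.rec false (fun y b' _ => Bool.rec false (ih b') (Nat.beq x y)) b) a

/-- Monomials given by exponent lists, all of the same length `n` in use (`one` is the zero list). -/
noncomputable def ML (n : ℕ) : Mon (List ℕ) where
  one := List.replicate n 0
  mul := addL
  beq := beqL

/-- Value of an exponent list at a list of values (missing values count as `1`). -/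
def evL {F : Type*} [CommRing F] : List F → List ℕ → F
  | x :: xs, e :: es => x ^ e * evL xs es
  | _, _ => 1

theorem beqL_eq {a b : List ℕ} (h : beqL a b = true) : a = b := by
  induction a generalizing b with
  | nil => cases b with
    | nil => rfl
    | cons y b => simp [beqL] at h
  | cons x a ih => cases b with
    | nil => simp [beqL] at h
    | cons y b =>
      have h' : (Bool.rec false (beqL a b) (Nat.beq x y) : Bool) = true := h
      cases h1 : Nat.beq x y with
      | false => simp [h1] at h'
      | true =>
        simp only [h1] at h'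
        rw [Nat.eq_of_beq_eq_true h1, ih h']

theorem evL_addL {F : Type*} [CommRing F] (xs : List F) (a b : List ℕ) :
    evL xs (addL a b) = evL xs a * evL xs b := by
  induction a generalizing b xs with
  | nil => cases xs <;> simp [addL, evL]
  | cons x a ih =>
    cases b with
    | nil => cases xs <;> simp [addL, evL]
    | cons y b =>
      have : addL (x :: a) (y :: b) = (x + y) :: addL a b := rfl
      rw [this]
      cases xs with
      | nil => simp [evL]
      | cons z zs => simp only [evL, ih, pow_add]; ring

theorem ML_sound {F : Type*} [CommRing F] (n : ℕ) (xs : List F) : (ML n).Sound (evL xs) where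
  one := by
    change evL xs (List.replicate n 0) = 1
    induction n generalizing xs with
    | zero => cases xs <;> simp [evL]
    | succ n ih => cases xs <;> simp [List.replicate_succ, evL, ih]
  mul := evL_addL xs
  beq a b h := by rw [beqL_eq h]

end CL.WC
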