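import Cfsg.Agent.Base
import Cfsg.Agent.Chev.MatWord

/-!
# Sparse columns of the root elements `x_r(t)` and monomial matrices conjugating them
-/

set_option autoImplicit false

namespace CL.ChevM

open Matrix Cfsg.Lie Cfsg.Lie.ChevalleyDatum CL.WC

variable (D : ChevalleyDatum)

/-- Coefficient of the coroot `h_r` on the fundamental coroot `h_{p_i}`. -/
def cor (r i : ℕ) : ℤ := (D.coroot.getD r #[]).getD i 0

/-- Numbering of the basis: first the `h_{p_i}`, then the `e_r`. -/
def code : D.Idx → ℕ
  | Sum.inl j => j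
  | Sum.inr u => D.rank + u

/-- The basis vector with number `k` (zero if out of range). -/
def bv (F : Type*) [Field F] (k : ℕ) : D.Idx → F := fun row => if code D row = k then 1 else 0

theorem code_injective : Function.Injective (code D) := by
  rintro (i | i) (j | j) h <;> simp only [code] at h
  · exact congrArg _ (Fin.ext h)
  · have := i.2; omega
  · have := j.2; omega
  · exact congrArg _ (Fin.ext (by omega))

theorem code_lt (c : D.Idx) : code D c < D.rank + D.nroots := by
  rcases c with i | i <;> simp only [code]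
  · have := i.2; omega
  · have := i.2; omega

variable {F : Type*} [Field F]

theorem bv_code (c : D.Idx) : bv D F (code D c) = Pi.single c 1 := by
  funext row
  simp only [bv, Pi.single_apply, (code_injective D).eq_iff]

theorem bv_inl (i : Fin D.rank) : bv D F i = Pi.single (Sum.inl i) 1 := bv_code D (Sum.inl i)

theorem bv_inr (s : Fin D.nroots) : bv D F (D.rank + s) = Pi.single (Sum.inr s) 1 := bv_code D (Sum.inr s)

theorem bv_of_ge {k : ℕ} (hk : D.rank + D.nroots ≤ k) : bv D F k = 0 := by
  funext row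
  have := code_lt D row
  simp only [bv, Pi.zero_apply]
  rw [if_neg (by omega)]

@[simp] theorem bv_apply_inl (k : ℕ) (j : Fin D.rank) : bv D F k (Sum.inl j) = if (j : ℕ) = k then 1 else 0 := rfl
@[simp] theorem bv_apply_inr (k : ℕ) (u : Fin D.nroots) :
    bv D F k (Sum.inr u) = if D.rank + (u : ℕ) = k then 1 else 0 := rfl

theorem exists_bv_eq (i : D.Idx) : ∃ k < D.rank + D.nroots, bv D F k = Pi.single i 1 :=
  ⟨code D i, code_lt D i, bv_code D i⟩

variable {D}

/-- Two matrices agreeing on all basis vectors are equal. -/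
theorem ext_bv {A B : Matrix D.Idx D.Idx F} (h1 : ∀ i < D.rank, A *ᵥ bv D F i = B *ᵥ bv D F i)
    (h2 : ∀ s < D.nroots, A *ᵥ bv D F (D.rank + s) = B *ᵥ bv D F (D.rank + s)) : A = B := by
  ext i j
  rcases j with j | j
  · have := congrFun (h1 j j.2) i
    simpa [bv_inl] using this
  · have := congrFun (h2 j j.2) i
    simpa [bv_inr] using this

/-- The terms `M_{r,s,k} t^k e_{kr+s}` of a chain, the first one having exponent `j`. -/
noncomputable def entCol (l : ℕ) (E : List (ℕ × ℤ)) : ℕ → Col :=
  List.rec (fun _ => []) (fun e _ ih j => (Nat.add l e.1, e.2, j) :: ih (Nat.succ j)) E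

/-- The terms `c_i t h_i`, `i < m`. -/
noncomputable def corCol (c : ℕ → ℤ) (m : ℕ) : Col :=
  Nat.rec [] (fun i acc => (i, c i, 1) :: acc) m

/-- The sparse column number `k` of `x_r(t)`, for given tables. -/
noncomputable def colOf (l n : ℕ) (neg : ℕ → ℕ) (cart co : ℕ → ℕ → ℤ) (ent : ℕ → ℕ → List (ℕ × ℤ))
    (r k : ℕ) : Col :=
  Bool.rec [(k, 1, 0)]
    (Bool.rec
      (Bool.rec []
        (Bool.rec
          (Bool.rec ((k, 1, 0) :: entCol l (ent r (Nat.sub k l)) 1)
            ((k, 1, 0) :: (Nat.add l r, -1, 2) :: corCol (co r) l)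
            (Nat.beq (Nat.sub k l) (neg r)))
          [(k, 1, 0)]
          (Nat.beq (Nat.sub k l) r))
        (Nat.blt (Nat.sub k l) n))
      [(k, 1, 0), (Nat.add l r, Int.neg (cart k r), 1)]
      (Nat.blt k l))
    (Nat.blt r n)

variable (D) in
/-- The sparse column number `k` of `x_r(t)`. -/
noncomputable def col : ℕ → ℕ → Col :=
  colOf D.rank D.nroots D.neg D.cartan (cor D) D.chainEntry

variable (D) in
/-- The chain table has at most one entry for each pair of roots. -/
def ChainUniq : Prop := ∀ r s u : ℕ, D.chainCoeff r s u =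
  (((D.chainEntry r s).zipIdx).filter (fun q => q.1.1 = u)).map fun q => (q.2 + 1, q.1.2)

theorem evC_entCol (t : F) (E : List (ℕ × ℤ)) (j : ℕ) :
    evC (bv D F) t (entCol D.rank E (j + 1)) =
      ((E.zipIdx j).map fun q => ((q.1.2 : F) * t ^ (q.2 + 1)) • bv D F (D.rank + q.1.1)).sum := by
  induction E generalizing j with
  | nil => simp [entCol]
  | cons e E ih =>
    have : entCol D.rank (e :: E) (j + 1) = (D.rank + e.1, e.2, j + 1) :: entCol D.rank E (j + 1 + 1) := rfl
    rw [this, evC_cons, ih, List.zipIdx_cons]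
    simp

theorem evC_corCol (t : F) (c : ℕ → ℤ) (m : ℕ) :
    evC (bv D F) t (corCol c m) = ∑ i ∈ Finset.range m, ((c i : F) * t) • bv D F i := by
  induction m with
  | zero => simp [corCol]
  | succ m ih =>
    have : corCol c (m + 1) = (m, c m, 1) :: corCol c m := rfl
    rw [this, evC_cons, ih, Finset.sum_range_succ, pow_one, add_comm]

theorem x_of_lt {r : ℕ} (hr : r < D.nroots) (t : F) : D.x F r t = D.xMat F ⟨r, hr⟩ t := dif_pos hr

theorem x_of_ge {r : ℕ} (hr : D.nroots ≤ r) (t : F) : D.x F r t = 1 := dif_neg (by omega)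

theorem x_bv_h {r i : ℕ} (hr : r < D.nroots) (hi : i < D.rank) (t : F) :
    D.x F r t *ᵥ bv D F i = bv D F i - ((D.cartan i r : F) * t) • bv D F (D.rank + r) := by
  have := bv_inl D (F := F) ⟨i, hi⟩
  simp only at this
  rw [x_of_lt hr]
  conv_lhs => rw [this]
  funext row
  rw [mulVec_single_one]
  rcases row with j | u
  · have := j.2
    simp only [xMat, col_apply, of_apply, Pi.sub_apply, Pi.smul_apply, bv_apply_inl, Fin.ext_iff]
    rw [if_neg (show ¬ (j : ℕ) = D.rank + r by omega)]; simp
  · simp only [xMat, col_apply, of_apply, Pi.sub_apply, Pi.smul_apply, bv_apply_inr, Fin.ext_iff]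
    rw [if_neg (show ¬ D.rank + (u : ℕ) = i by omega)]
    simp only [cartan, add_right_inj]
    split_ifs <;> simp

theorem x_bv_self {r : ℕ} (hr : r < D.nroots) (t : F) :
    D.x F r t *ᵥ bv D F (D.rank + r) = bv D F (D.rank + r) := by
  have := bv_inr D (F := F) ⟨r, hr⟩
  simp only at this
  rw [x_of_lt hr]
  conv_lhs => rw [this]
  funext row
  rw [mulVec_single_one]
  rcases row with j | u
  · have := j.2
    simp only [xMat, col_apply, of_apply, bv_apply_inl, if_true]
    rw [if_neg (show ¬ (j : ℕ) = D.rank + r by omega)]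
  · simp [xMat, Fin.ext_iff]

theorem x_bv_neg {r : ℕ} (hr : r < D.nroots) (hn : D.neg r < D.nroots) (hne : D.neg r ≠ r) (t : F) :
    D.x F r t *ᵥ bv D F (D.rank + D.neg r) = bv D F (D.rank + D.neg r) - t ^ 2 • bv D F (D.rank + r)
      + ∑ i ∈ Finset.range D.rank, ((cor D r i : F) * t) • bv D F i := by
  have := bv_inr D (F := F) ⟨D.neg r, hn⟩
  simp only at this
  rw [x_of_lt hr]
  conv_lhs => rw [this]
  funext row
  rw [mulVec_single_one]
  have hne' : (⟨D.neg r, hn⟩ : Fin D.nroots) ≠ ⟨r, hr⟩ := fun h => hne (congrArg Fin.val h)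
  rcases row with j | u
  · have := j.2
    simp only [xMat, col_apply, of_apply, if_neg hne', Pi.add_apply, Pi.sub_apply, Pi.smul_apply,
      bv_apply_inl, Finset.sum_apply]
    rw [if_pos (show D.neg r = D.negIdx.getD r 0 from rfl),
      if_neg (show ¬ (j : ℕ) = D.rank + r by omega), if_neg (show ¬ (j : ℕ) = D.rank + D.neg r by omega)]
    simp [cor, j.2]
  · simp only [xMat, col_apply, of_apply, if_neg hne', Pi.add_apply, Pi.sub_apply, Pi.smul_apply,
      bv_apply_inr, Finset.sum_apply]
    rw [if_pos (show D.neg r = D.negIdx.getD r 0 from rfl), Finset.sum_eq_zero]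
    · simp only [Fin.ext_iff, add_right_inj, smul_eq_mul, mul_ite, mul_one, mul_zero, add_zero]
      by_cases h1 : (u : ℕ) = D.neg r
      · rw [if_pos h1, if_pos h1, if_neg (by omega)]; simp
      · rw [if_neg h1, if_neg h1]
        split_ifs <;> simp
    · intro i hi
      rw [Finset.mem_range] at hi
      rw [if_neg (by omega), smul_zero]

theorem x_bv_chain (hU : ChainUniq D) {r s : ℕ} (hr : r < D.nroots) (hs : s < D.nroots) (h1 : s ≠ r)
    (h2 : s ≠ D.neg r) (t : F) :
    D.x F r t *ᵥ bv D F (D.rank + s) = bv D F (D.rank + s) +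
      (((D.chainEntry r s).zipIdx).map fun q => ((q.1.2 : F) * t ^ (q.2 + 1)) • bv D F (D.rank + q.1.1)).sum := by
  have := bv_inr D (F := F) ⟨s, hs⟩
  simp only at this
  rw [x_of_lt hr]
  conv_lhs => rw [this]
  funext row
  rw [mulVec_single_one]
  have hne' : (⟨s, hs⟩ : Fin D.nroots) ≠ ⟨r, hr⟩ := fun h => h1 (congrArg Fin.val h)
  have h2' : ¬ s = D.negIdx.getD r 0 := h2
  rcases row with j | u
  · have := j.2
    simp only [xMat, col_apply, of_apply, if_neg hne', if_neg h2', Pi.add_apply, bv_apply_inl]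
    rw [if_neg (show ¬ (j : ℕ) = D.rank + s by omega), zero_add]
    generalize (D.chainEntry r s).zipIdx = L
    induction L with
    | nil => simp
    | cons q L ih =>
      simp only [List.map_cons, List.sum_cons, Pi.add_apply, ← ih, Pi.smul_apply, bv_apply_inl]
      rw [if_neg (by omega)]; simp
  · simp only [xMat, col_apply, of_apply, if_neg h1, if_neg h2', Pi.add_apply, bv_apply_inr, hU r s u,
      Fin.ext_iff, add_right_inj]
    generalize (D.chainEntry r s).zipIdx = L
    induction L with
    | nil => simp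
    | cons q L ih =>
      simp only [List.map_cons, List.sum_cons, Pi.add_apply, ← ih, Pi.smul_apply, bv_apply_inr,
        List.filter_cons, add_right_inj]
      by_cases h : q.1.1 = (u : ℕ)
      · simp [h]
      · simp [h, Ne.symm h]

/-- The sparse columns describe the action of `x_r(t)` on the basis. -/
theorem x_mulVec_bv (hU : ChainUniq D) (r : ℕ) (t : F) (k : ℕ) :
    D.x F r t *ᵥ bv D F k = evC (bv D F) t (col D r k) := by
  unfold col colOf
  cases hr : Nat.blt r D.nroots with
  | false =>
    have : D.nroots ≤ r := by simpa [← Bool.not_eq_true, Nat.blt_eq] using hr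
    simp [x_of_ge this]
  | true =>
    have hr' : r < D.nroots := by simpa [Nat.blt_eq] using hr
    cases hk : Nat.blt k D.rank with
    | true =>
      have hk' : k < D.rank := by simpa [Nat.blt_eq] using hk
      rw [x_bv_h hr' hk']
      have : ((Int.neg (D.cartan k r) : ℤ) : F) = -(D.cartan k r : F) := Int.cast_neg _
      simp [this, sub_eq_add_neg]
    | false =>
      have hk' : D.rank ≤ k := by simpa [← Bool.not_eq_true, Nat.blt_eq] using hk
      obtain ⟨s, rfl⟩ := Nat.exists_eq_add_of_le hk'
      have hs : Nat.sub (D.rank + s) D.rank = s := Nat.add_sub_cancel_left _ _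
      rw [hs]
      cases hs : Nat.blt s D.nroots with
      | false =>
        have : D.nroots ≤ s := by simpa [← Bool.not_eq_true, Nat.blt_eq] using hs
        rw [bv_of_ge D (by omega)]; simp
      | true =>
        have hs' : s < D.nroots := by simpa [Nat.blt_eq] using hs
        cases h1 : Nat.beq s r with
        | true =>
          rw [Nat.eq_of_beq_eq_true h1, x_bv_self hr']; simp
        | false =>
          have h1' : s ≠ r := Nat.ne_of_beq_eq_false h1
          cases h2 : Nat.beq s (D.neg r) with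
          | true =>
            have h2' := Nat.eq_of_beq_eq_true h2
            subst h2'
            rw [x_bv_neg hr' hs' h1']
            simp [evC_corCol, sub_eq_add_neg, add_assoc]
          | false =>
            rw [x_bv_chain hU hr' hs' h1' (Nat.ne_of_beq_eq_false h2)]
            have := evC_entCol (D := D) t (D.chainEntry r s) 0
            simp only [zero_add] at this
            simp [this]

theorem wordMat_eq_wmat (w : List (ℕ × F)) : D.wordMat F w = wmat (D.x F) w := rfl

@[simp] theorem wordMat_nil : D.wordMat F [] = 1 := rfl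
@[simp] theorem wordMat_cons (p : ℕ × F) (w : List (ℕ × F)) :
    D.wordMat F (p :: w) = D.x F p.1 p.2 * D.wordMat F w := by simp [wordMat]
theorem wordMat_append (w w' : List (ℕ × F)) :
    D.wordMat F (w ++ w') = D.wordMat F w * D.wordMat F w' := by simp [wordMat]

theorem nMat_eq (r : ℕ) (t : F) : D.nMat F r t = D.x F r t * D.x F (D.neg r) (-t⁻¹) * D.x F r t := by
  simp [nMat, nWord, mul_assoc]

theorem hMat_eq (r : ℕ) (t : F) : D.hMat F r t = D.nMat F r t * D.nMat F r (-1) := by
  simp [hMat, hWord, nMat, wordMat_append]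

/-- `x_r(0) = 1`. -/
theorem x_zero (hU : ChainUniq D) (r : ℕ) : D.x F r 0 = 1 := by
  by_cases hr : r < D.nroots
  swap
  · exact x_of_ge (by omega) _
  refine ext_bv (fun i hi => ?_) (fun s hs => ?_)
  · rw [x_bv_h hr hi]; simp
  · by_cases h1 : s = r
    · rw [h1, x_bv_self hr]; simp
    by_cases h2 : s = D.neg r
    · subst h2
      rw [x_bv_neg hr hs h1]; simp
    · rw [x_bv_chain hU hr hs h1 h2]; simp

/-! ### Monomial matrices -/

variable (D) in
/-- The matrix `h_i ↦ ∑_j A j i h_j`, `e_s ↦ lam s e_{w s}`. -/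
def nuMat (w : ℕ → ℕ) (lam : ℕ → F) (A : ℕ → ℕ → ℤ) : Matrix D.Idx D.Idx F :=
  Matrix.of fun row cl =>
    match row, cl with
    | Sum.inl j, Sum.inl i => (A j i : F)
    | Sum.inr u, Sum.inr s => if (u : ℕ) = w s then lam s else 0
    | _, _ => 0

theorem nu_bv_h (w : ℕ → ℕ) (lam : ℕ → F) (A : ℕ → ℕ → ℤ) {i : ℕ} (hi : i < D.rank) :
    nuMat D w lam A *ᵥ bv D F i = ∑ j ∈ Finset.range D.rank, (A j i : F) • bv D F j := by
  have := bv_inl D (F := F) ⟨i, hi⟩
  simp only at this
  conv_lhs => rw [this]
  funext row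
  rw [mulVec_single_one]
  rcases row with j | u
  · simp [nuMat, Finset.sum_apply, j.2]
  · simp only [nuMat, col_apply, of_apply, Finset.sum_apply, Pi.smul_apply, bv_apply_inr]
    rw [Finset.sum_eq_zero]
    intro i hi
    rw [Finset.mem_range] at hi
    rw [if_neg (by omega), smul_zero]

theorem nu_bv_e (w : ℕ → ℕ) (lam : ℕ → F) (A : ℕ → ℕ → ℤ) {s : ℕ} (hs : s < D.nroots) :
    nuMat D w lam A *ᵥ bv D F (D.rank + s) = lam s • bv D F (D.rank + w s) := by
  have := bv_inr D (F := F) ⟨s, hs⟩
  simp only at this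
  conv_lhs => rw [this]
  funext row
  rw [mulVec_single_one]
  rcases row with j | u
  · have := j.2
    simp only [nuMat, col_apply, of_apply, Pi.smul_apply, bv_apply_inl]
    rw [if_neg (by omega), smul_zero]
  · simp [nuMat]

variable (D) in
/-- Combinatorial conditions on a map `w` of the roots and an integer matrix `A` acting on the coroots. -/
structure RootAut (w : ℕ → ℕ) (A : ℕ → ℕ → ℤ) : Prop where
  lt : ∀ s < D.nroots, w s < D.nroots
  inj : ∀ s < D.nroots, ∀ s' < D.nroots, w s = w s' → s = s'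
  neg : ∀ s < D.nroots, w (D.neg s) = D.neg (w s)
  cart : ∀ i < D.rank, ∀ s < D.nroots, D.cartan i s = ∑ j ∈ Finset.range D.rank, A j i * D.cartan j (w s)
  cor : ∀ j < D.rank, ∀ s < D.nroots, cor D (w s) j = ∑ i ∈ Finset.range D.rank, A j i * cor D s i

variable (D) in
/-- Elementary facts about the tables. -/
structure TabOK : Prop where
  uniq : ChainUniq D
  neg_lt : ∀ r < D.nroots, D.neg r < D.nroots
  neg_ne : ∀ r < D.nroots, D.neg r ≠ r
  neg_neg : ∀ r < D.nroots, D.neg (D.neg r) = r
  simple_lt : ∀ i < D.rank, D.simple i < D.nroots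
  ent_lt : ∀ r < D.nroots, ∀ s < D.nroots, ∀ q ∈ D.chainEntry r s, q.1 < D.nroots
  cart_neg : ∀ i < D.rank, ∀ s < D.nroots, D.cartan i (D.neg s) = - D.cartan i s
  cart_ent : ∀ i < D.rank, ∀ r < D.nroots, ∀ s < D.nroots, ∀ q ∈ (D.chainEntry r s).zipIdx,
    D.cartan i q.1.1 = (q.2 + 1 : ℕ) * D.cartan i r + D.cartan i s

/-- A monomial matrix compatible with the tables conjugates root elements to root elements. -/
theorem nu_mul_x (hT : TabOK D) {w : ℕ → ℕ} {A : ℕ → ℕ → ℤ} (hw : RootAut D w A) {lam : ℕ → F}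
    {s : ℕ} (hs : s < D.nroots) (hl : lam s * lam (D.neg s) = 1)
    (hent : ∀ c < D.nroots, ((D.chainEntry s c).zipIdx.map fun q => (w q.1.1, (q.1.2 : F) * lam q.1.1, q.2)) =
      ((D.chainEntry (w s) (w c)).zipIdx.map fun q => (q.1.1, (q.1.2 : F) * lam c * lam s ^ (q.2 + 1), q.2)))
    (t : F) :
    nuMat D w lam A * D.x F s t = D.x F (w s) (lam s * t) * nuMat D w lam A := by
  have hws := hw.lt s hs
  refine ext_bv (fun i hi => ?_) (fun c hc => ?_)
  · rw [← mulVec_mulVec, ← mulVec_mulVec, x_bv_h hs hi, mulVec_sub, mulVec_smul, nu_bv_h _ _ _ hi,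
      nu_bv_e _ _ _ hs, mulVec_sum]
    symm
    rw [Finset.sum_congr rfl (g := fun j => (A j i : F) • bv D F j -
      ((A j i : F) * ((D.cartan j (w s) : F) * (lam s * t))) • bv D F (D.rank + w s))]
    · rw [Finset.sum_sub_distrib, ← Finset.sum_smul, hw.cart i hi s hs, smul_smul]
      congr 2
      push_cast
      rw [Finset.sum_mul, Finset.sum_mul]
      exact Finset.sum_congr rfl fun j _ => by ring
    · intro j hj
      rw [mulVec_smul, x_bv_h hws (Finset.mem_range.1 hj), smul_sub, smul_smul]
  rw [← mulVec_mulVec, ← mulVec_mulVec, nu_bv_e _ _ _ hc, mulVec_smul]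
  by_cases h1 : c = s
  · subst h1
    rw [x_bv_self hs, x_bv_self hws, nu_bv_e _ _ _ hc]
  by_cases h2 : c = D.neg s
  · subst h2
    rw [hw.neg s hs, x_bv_neg hs hc h1, x_bv_neg hws (hT.neg_lt _ hws) (hT.neg_ne _ hws), mulVec_add,
      mulVec_sub, mulVec_smul, nu_bv_e _ _ _ hs, nu_bv_e _ _ _ hc, hw.neg s hs, mulVec_sum, smul_add,
      smul_sub, smul_smul, smul_smul, Finset.smul_sum]
    congr 1
    · congr 2
      calc t ^ 2 * lam s = t ^ 2 * lam s * (lam s * lam (D.neg s)) := by rw [hl, mul_one]
        _ = _ := by ring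
    · rw [Finset.sum_congr rfl (g := fun i => ∑ j ∈ Finset.range D.rank,
        ((cor D s i : F) * t * (A j i : F)) • bv D F j)]
      · rw [Finset.sum_comm]
        refine Finset.sum_congr rfl fun j hj => ?_
        rw [← Finset.sum_smul, smul_smul, hw.cor j (Finset.mem_range.1 hj) s hs]
        congr 1
        push_cast
        rw [Finset.sum_mul, Finset.mul_sum]
        refine Finset.sum_congr rfl fun i _ => ?_
        calc (cor D s i : F) * t * (A j i : F) = (cor D s i : F) * t * (A j i : F) * (lam s * lam (D.neg s)) := by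
              rw [hl, mul_one]
          _ = _ := by ring
      · intro i hi
        rw [mulVec_smul, nu_bv_h _ _ _ (Finset.mem_range.1 hi), Finset.smul_sum]
        simp only [smul_smul]
  have hwc := hw.lt c hc
  have h1' : w c ≠ w s := fun h => h1 (hw.inj _ hc _ hs h)
  have h2' : w c ≠ D.neg (w s) := fun h => h2 (hw.inj _ hc _ (hT.neg_lt s hs) (h.trans (hw.neg s hs).symm))
  rw [x_bv_chain hT.uniq hs hc h1 h2, x_bv_chain hT.uniq hws hwc h1' h2', mulVec_add, nu_bv_e _ _ _ hc,
    smul_add]
  congr 1
  have e1 : nuMat D w lam A *ᵥ (((D.chainEntry s c).zipIdx).map fun q =>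
      ((q.1.2 : F) * t ^ (q.2 + 1)) • bv D F (D.rank + q.1.1)).sum =
      (((D.chainEntry s c).zipIdx.map fun q => (w q.1.1, (q.1.2 : F) * lam q.1.1, q.2)).map
        fun z : ℕ × F × ℕ => (z.2.1 * t ^ (z.2.2 + 1)) • bv D F (D.rank + z.1)).sum := by
    have hlt : ∀ q ∈ (D.chainEntry s c).zipIdx, q.1.1 < D.nroots := fun q hq =>
      hT.ent_lt s hs c hc q.1 (List.fst_mem_of_mem_zipIdx hq)
    generalize (D.chainEntry s c).zipIdx = L at hlt
    induction L with
    | nil => simp
    | cons q L ih =>
      simp only [List.map_cons, List.sum_cons, mulVec_add, mulVec_smul]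
      rw [ih fun q hq => hlt q (List.mem_cons_of_mem _ hq), nu_bv_e _ _ _ (hlt q List.mem_cons_self), smul_smul]
      congr 2
      ring
  rw [e1, hent c hc]
  generalize (D.chainEntry (w s) (w c)).zipIdx = L
  induction L with
  | nil => simp
  | cons q L ih =>
    simp only [List.map_cons, List.sum_cons, smul_add, ih, smul_smul]
    congr 2
    ring

end CL.ChevM
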