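import Cfsg.Agent.Base
import Cfsg.Agent.Chev.MatCol

/-!
# Signed automorphisms of the tables, diagonal matrices, transport of identities between words
-/

set_option autoImplicit false

namespace CL.ChevM

open Matrix Cfsg.Lie Cfsg.Lie.ChevalleyDatum CL.WC

variable {D : ChevalleyDatum} {F : Type*} [Field F]

variable (D) in
/-- A signed permutation of the root vectors, together with a map of the coroots, compatible with the tables. -/
structure SignedAut (w : ℕ → ℕ) (η : ℕ → ℤ) (A : ℕ → ℕ → ℤ) : Prop extends RootAut D w A where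
  sgn : ∀ s < D.nroots, η s = 1 ∨ η s = -1
  sgn_neg : ∀ s < D.nroots, η (D.neg s) = η s
  ent : ∀ r < D.nroots, ∀ s < D.nroots, D.chainEntry (w r) (w s) =
    (D.chainEntry r s).zipIdx.map fun q => (w q.1.1, q.1.2 * η q.1.1 * η s * η r ^ (q.2 + 1))

theorem SignedAut.sq {w : ℕ → ℕ} {η : ℕ → ℤ} {A : ℕ → ℕ → ℤ} (h : SignedAut D w η A) {s : ℕ}
    (hs : s < D.nroots) : η s * η s = 1 := by
  rcases h.sgn s hs with h | h <;> simp [h]

theorem SignedAut.sq' {w : ℕ → ℕ} {η : ℕ → ℤ} {A : ℕ → ℕ → ℤ} (h : SignedAut D w η A) {s : ℕ}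
    (hs : s < D.nroots) : (η s : F) * (η s : F) = 1 := by
  rw [← Int.cast_mul, h.sq hs, Int.cast_one]

theorem zipIdx_map_zipIdx {α β : Type*} (L : List α) (f : α × ℕ → β) (j : ℕ) :
    ((L.zipIdx j).map f).zipIdx j = (L.zipIdx j).map fun q => (f q, q.2) := by
  induction L generalizing j with
  | nil => simp
  | cons a L ih => simp [List.zipIdx_cons, ih]

/-- A signed automorphism of the tables conjugates `x_s(t)` to `x_{w s}(η_s t)`. -/
theorem SignedAut.nu_mul_x (hT : TabOK D) {w : ℕ → ℕ} {η : ℕ → ℤ} {A : ℕ → ℕ → ℤ} (h : SignedAut D w η A)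
    {s : ℕ} (hs : s < D.nroots) (t : F) :
    nuMat D w (fun s => (η s : F)) A * D.x F s t =
      D.x F (w s) ((η s : F) * t) * nuMat D w (fun s => (η s : F)) A := by
  refine CL.ChevM.nu_mul_x hT h.toRootAut hs ?_ (fun c hc => ?_) t
  · rw [h.sgn_neg s hs, h.sq' hs]
  · rw [h.ent s hs c hc, zipIdx_map_zipIdx, List.map_map]
    refine List.map_congr_left fun q _ => ?_
    simp only [Function.comp, Prod.mk.injEq, true_and, and_true]
    push_cast
    have h1 := h.sq' (F := F) hc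
    have h2 : (η s : F) ^ (q.2 + 1) * (η s : F) ^ (q.2 + 1) = 1 := by rw [← mul_pow, h.sq' hs, one_pow]
    calc (q.1.2 : F) * η q.1.1 = (q.1.2 : F) * η q.1.1 * ((η c : F) * η c) *
        ((η s : F) ^ (q.2 + 1) * (η s : F) ^ (q.2 + 1)) := by rw [h1, h2, mul_one, mul_one]
      _ = _ := by ring

/-! ### Products of monomial matrices -/

theorem nu_mul_nu {w w' : ℕ → ℕ} (lam lam' : ℕ → F) (A A' : ℕ → ℕ → ℤ) (hw' : ∀ s < D.nroots, w' s < D.nroots) :
    nuMat D w lam A * nuMat D w' lam' A' = nuMat D (fun s => w (w' s)) (fun s => lam' s * lam (w' s))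
      (fun j i => ∑ k ∈ Finset.range D.rank, A j k * A' k i) := by
  refine ext_bv (fun i hi => ?_) (fun s hs => ?_)
  · rw [← mulVec_mulVec, nu_bv_h _ _ _ hi, nu_bv_h _ _ _ hi, mulVec_sum]
    rw [Finset.sum_congr rfl (g := fun k => ∑ j ∈ Finset.range D.rank, ((A' k i : F) * (A j k : F)) • bv D F j)]
    · rw [Finset.sum_comm]
      refine Finset.sum_congr rfl fun j _ => ?_
      rw [← Finset.sum_smul]
      congr 1
      push_cast
      exact Finset.sum_congr rfl fun k _ => mul_comm _ _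
    · intro k hk
      rw [mulVec_smul, nu_bv_h _ _ _ (Finset.mem_range.1 hk), Finset.smul_sum]
      simp only [smul_smul]
  · rw [← mulVec_mulVec, nu_bv_e _ _ _ hs, nu_bv_e _ _ _ hs, mulVec_smul, nu_bv_e _ _ _ (hw' s hs), smul_smul]

theorem nu_congr {w w' : ℕ → ℕ} {lam lam' : ℕ → F} {A A' : ℕ → ℕ → ℤ} (hw : ∀ s < D.nroots, w s = w' s)
    (hl : ∀ s < D.nroots, lam s = lam' s) (hA : ∀ j < D.rank, ∀ i < D.rank, A j i = A' j i) :
    nuMat D w lam A = nuMat D w' lam' A' := by
  ext row cl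
  rcases row with j | u <;> rcases cl with i | s <;> simp only [nuMat, of_apply]
  · rw [hA j j.2 i i.2]
  · rw [hw s s.2, hl s s.2]

/-- The identity matrix on the coroots. -/
def idA (j i : ℕ) : ℤ := if j = i then 1 else 0

variable (D) in
/-- The diagonal matrix fixing the `h_i` and multiplying `e_s` by `χ s`. -/
def diagM (χ : ℕ → F) : Matrix D.Idx D.Idx F :=
  Matrix.diagonal (Sum.elim (fun _ => (1 : F)) (fun s : Fin D.nroots => χ s))

theorem diagM_eq_nu (χ : ℕ → F) : diagM D χ = nuMat D id χ idA := by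
  ext row cl
  rcases row with j | u <;> rcases cl with i | s <;>
    simp [nuMat, diagM, diagonal_apply, idA, Fin.ext_iff]
  split_ifs with h
  · rw [h]
  · rfl

theorem diagM_mul (χ χ' : ℕ → F) : diagM D χ * diagM D χ' = diagM D fun s => χ s * χ' s := by
  simp only [diagM, diagonal_mul_diagonal]
  congr 1
  funext i
  rcases i with i | i <;> simp

theorem diagM_congr {χ χ' : ℕ → F} (h : ∀ s < D.nroots, χ s = χ' s) : diagM D χ = diagM D χ' := by
  simp only [diagM]
  congr 1
  funext i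
  rcases i with i | i
  · rfl
  · exact h i i.2

theorem diagM_one : diagM D (fun _ => (1 : F)) = 1 := by
  rw [diagM, ← diagonal_one]
  congr 1
  funext i
  rcases i with i | i <;> rfl

theorem diagM_comm (χ χ' : ℕ → F) : diagM D χ * diagM D χ' = diagM D χ' * diagM D χ := by
  rw [diagM_mul, diagM_mul]; simp only [mul_comm]

theorem rootAut_id : RootAut D id idA where
  lt _ h := h
  inj _ _ _ _ h := h
  neg _ _ := rfl
  cart i hi s _ := by simp [idA, hi]
  cor j hj s _ := by simp [idA, hj]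

theorem nu_mul_diagM (w : ℕ → ℕ) (lam χ : ℕ → F) (A : ℕ → ℕ → ℤ) :
    nuMat D w lam A * diagM D χ = nuMat D w (fun s => lam s * χ s) A := by
  rw [diagM_eq_nu, nu_mul_nu (w' := id) _ _ _ _ fun _ h => h]
  exact nu_congr (fun _ _ => rfl) (fun _ _ => mul_comm _ _) fun j _ i hi => by simp [idA, hi]

theorem diagM_mul_nu {w : ℕ → ℕ} (lam χ : ℕ → F) (A : ℕ → ℕ → ℤ) (hw : ∀ s < D.nroots, w s < D.nroots) :
    diagM D χ * nuMat D w lam A = nuMat D w (fun s => lam s * χ (w s)) A := by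
  rw [diagM_eq_nu, nu_mul_nu _ _ _ _ hw]
  exact nu_congr (fun _ _ => rfl) (fun _ _ => rfl) fun j hj i _ => by simp [idA, hj]

/-- A monomial matrix conjugates diagonal matrices to diagonal matrices. -/
theorem nu_mul_diagM_comm {w : ℕ → ℕ} (lam : ℕ → F) {χ χ' : ℕ → F} (A : ℕ → ℕ → ℤ)
    (hw : ∀ s < D.nroots, w s < D.nroots) (h : ∀ s < D.nroots, χ' (w s) = χ s) :
    nuMat D w lam A * diagM D χ = diagM D χ' * nuMat D w lam A := by
  rw [nu_mul_diagM, diagM_mul_nu _ _ _ hw]
  exact nu_congr (fun _ _ => rfl) (fun s hs => by rw [h s hs]) fun _ _ _ _ => rfl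

/-- A diagonal matrix given by a character of the root lattice conjugates `x_s(t)` to `x_s(χ(s) t)`. -/
theorem diagM_mul_x (hT : TabOK D) {χ : ℕ → F} {s : ℕ} (hs : s < D.nroots) (hneg : χ s * χ (D.neg s) = 1)
    (hent : ∀ c < D.nroots, ∀ q ∈ (D.chainEntry s c).zipIdx, χ q.1.1 = χ c * χ s ^ (q.2 + 1)) (t : F) :
    diagM D χ * D.x F s t = D.x F s (χ s * t) * diagM D χ := by
  rw [diagM_eq_nu]
  refine nu_mul_x hT rootAut_id hs hneg (fun c hc => ?_) t
  refine List.map_congr_left fun q hq => ?_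
  simp only [id, hent c hc q hq, mul_assoc]

/-- The case of the character `s ↦ c ^ f s` for an additive integer-valued function `f` on the roots. -/
theorem diagM_zpow_mul_x (hT : TabOK D) {f : ℕ → ℤ} {s : ℕ} (hs : s < D.nroots) (hneg : f (D.neg s) = - f s)
    (hent : ∀ c < D.nroots, ∀ q ∈ (D.chainEntry s c).zipIdx, f q.1.1 = (q.2 + 1 : ℕ) * f s + f c)
    {c : F} (hc : c ≠ 0) (t : F) :
    diagM D (fun s => c ^ f s) * D.x F s t = D.x F s (c ^ f s * t) * diagM D (fun s => c ^ f s) := by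
  refine diagM_mul_x hT hs ?_ (fun d hd q hq => ?_) t
  · rw [hneg, ← zpow_add₀ hc, add_neg_cancel, zpow_zero]
  · rw [hent d hd q hq, zpow_add₀ hc, mul_comm ((q.2 + 1 : ℕ) : ℤ), _root_.zpow_mul, zpow_natCast, mul_comm]

/-! ### Transport of words -/

/-- If `ν` conjugates each `x_s(t)` to `x_{w s}(λ_s t)`, it conjugates words letter by letter. -/
theorem mul_wordMat {ν : Matrix D.Idx D.Idx F} {w : ℕ → ℕ} {lam : ℕ → F}
    (h : ∀ s < D.nroots, ∀ t, ν * D.x F s t = D.x F (w s) (lam s * t) * ν)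
    (W : List (ℕ × F)) (hW : ∀ q ∈ W, q.1 < D.nroots) :
    ν * D.wordMat F W = D.wordMat F (W.map fun q => (w q.1, lam q.1 * q.2)) * ν := by
  induction W with
  | nil => simp
  | cons q W ih =>
    rw [List.map_cons, wordMat_cons, wordMat_cons, ← mul_assoc, h _ (hW q List.mem_cons_self), mul_assoc,
      ih fun q hq => hW q (List.mem_cons_of_mem _ hq), mul_assoc]

theorem cancel_nu {ν ν' X Y : Matrix D.Idx D.Idx F} (hν : ν * ν' = 1) (h : X * ν = Y * ν) : X = Y := by
  rw [← mul_one X, ← mul_one Y, ← hν, ← mul_assoc, h, mul_assoc]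

/-- The commutator formula for the pair `(r, s)`. -/
def CommAt (D : ChevalleyDatum) (F : Type*) [Field F] (r s : ℕ) : Prop :=
  ∀ t u : F, D.x F s u * D.x F r t = D.x F r t * D.x F s u * D.wordMat F (D.commWord F r s t u)

/-- Additivity for the root `r`. -/
def AddAt (D : ChevalleyDatum) (F : Type*) [Field F] (r : ℕ) : Prop :=
  ∀ t u : F, D.x F r t * D.x F r u = D.x F r (t + u)

theorem SignedAut.addAt (hT : TabOK D) {w : ℕ → ℕ} {η : ℕ → ℤ} {A : ℕ → ℕ → ℤ} (h : SignedAut D w η A)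
    {ν' : Matrix D.Idx D.Idx F} (hν : nuMat D w (fun s => (η s : F)) A * ν' = 1) {r : ℕ} (hr : r < D.nroots)
    (ha : AddAt D F r) : AddAt D F (w r) := by
  intro t u
  refine cancel_nu hν ?_
  have e : ∀ t : F, t = η r * (η r * t) := fun t => by rw [← mul_assoc, h.sq' hr, one_mul]
  rw [e t, e u, ← mul_add, mul_assoc, ← h.nu_mul_x hT hr, ← mul_assoc, ← h.nu_mul_x hT hr,
    ← h.nu_mul_x hT hr, mul_assoc, ha]

theorem commTerms_of_length_le {r s : ℕ}
    (h1 : (D.chainEntry r s).length ≤ 2) (h2 : (D.chainEntry s r).length ≤ 2) :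
    D.commTerms r s = (((D.chainEntry r s)[0]?).map fun a => (a.1, a.2, 1, 1)).toList ++
      (((D.chainEntry r s)[1]?).map fun a => (a.1, a.2, 2, 1)).toList ++
      (((D.chainEntry s r)[1]?).map fun a => (a.1, a.2, 1, 2)).toList := by
  unfold commTerms chainRoot chainM
  generalize D.chainEntry r s = E at *
  generalize D.chainEntry s r = E' at *
  rcases E with _ | ⟨a, _ | ⟨b, _ | ⟨c, E⟩⟩⟩ <;> rcases E' with _ | ⟨a', _ | ⟨b', _ | ⟨c', E'⟩⟩⟩ <;>
    simp_all

theorem commTerms_lt (hT : TabOK D) {r s : ℕ} (hr : r < D.nroots) (hs : s < D.nroots)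
    (h1 : (D.chainEntry r s).length ≤ 2) (h2 : (D.chainEntry s r).length ≤ 2) :
    ∀ c ∈ D.commTerms r s, c.1 < D.nroots := by
  intro c hc
  rw [commTerms_of_length_le h1 h2] at hc
  simp only [List.mem_append, Option.mem_toList, Option.map_eq_some_iff] at hc
  rcases hc with (⟨a, ha, rfl⟩ | ⟨a, ha, rfl⟩) | ⟨a, ha, rfl⟩
  · exact hT.ent_lt r hr s hs a (List.mem_of_getElem? ha)
  · exact hT.ent_lt r hr s hs a (List.mem_of_getElem? ha)
  · exact hT.ent_lt s hs r hr a (List.mem_of_getElem? ha)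

theorem SignedAut.commWord_eq {w : ℕ → ℕ} {η : ℕ → ℤ} {A : ℕ → ℕ → ℤ} (h : SignedAut D w η A)
    {r s : ℕ} (hr : r < D.nroots) (hs : s < D.nroots)
    (h1 : (D.chainEntry r s).length ≤ 2) (h2 : (D.chainEntry s r).length ≤ 2) (t u : F) :
    D.commWord F (w r) (w s) (η r * t) (η s * u) =
      (D.commWord F r s t u).map fun q => (w q.1, (η q.1 : F) * q.2) := by
  have e1 := h.ent r hr s hs
  have e2 := h.ent s hs r hr
  unfold commWord
  rw [commTerms_of_length_le h1 h2, commTerms_of_length_le (by simpa [e1] using h1) (by simpa [e2] using h2),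
    e1, e2]
  simp only [List.map_append, List.getElem?_map, List.getElem?_zipIdx, Option.map_map, ← Option.toList_map]
  have hr2 := h.sq' (F := F) hr
  have hs2 := h.sq' (F := F) hs
  congr 2
  · congr 2
    funext a
    simp only [Function.comp, Prod.mk.injEq, true_and]
    push_cast
    linear_combination (-(a.2 : F) * η a.1 * t * u * ((η s : F) * η s)) * hr2 + (-(a.2 : F) * η a.1 * t * u) * hs2
  · congr 2
    funext a
    simp only [Function.comp, Prod.mk.injEq, true_and]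
    push_cast
    linear_combination ((a.2 : F) * η a.1 * t ^ 2 * u * ((η s : F) * η s) * (1 + (η r : F) * η r)) * hr2 +
      ((a.2 : F) * η a.1 * t ^ 2 * u) * hs2
  · congr 1
    funext a
    simp only [Function.comp, Prod.mk.injEq, true_and]
    push_cast
    linear_combination (-(a.2 : F) * η a.1 * t * u ^ 2 * ((η r : F) * η r) * (1 + (η s : F) * η s)) * hs2 +
      (-(a.2 : F) * η a.1 * t * u ^ 2) * hr2

theorem SignedAut.commAt (hT : TabOK D) {w : ℕ → ℕ} {η : ℕ → ℤ} {A : ℕ → ℕ → ℤ} (h : SignedAut D w η A)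
    {ν' : Matrix D.Idx D.Idx F} (hν : nuMat D w (fun s => (η s : F)) A * ν' = 1) {r s : ℕ} (hr : r < D.nroots)
    (hs : s < D.nroots) (h1 : (D.chainEntry r s).length ≤ 2) (h2 : (D.chainEntry s r).length ≤ 2)
    (ha : CommAt D F r s) : CommAt D F (w r) (w s) := by
  intro t u
  refine cancel_nu hν ?_
  have e : ∀ {r}, r < D.nroots → ∀ t : F, t = η r * (η r * t) := fun hr t => by
    rw [← mul_assoc, h.sq' hr, one_mul]
  rw [e hr t, e hs u, h.commWord_eq hr hs h1 h2, mul_assoc (_ * _),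
    ← mul_wordMat (fun s hs t => h.nu_mul_x hT hs t), mul_assoc, ← h.nu_mul_x hT hr, ← mul_assoc,
    ← h.nu_mul_x hT hs, mul_assoc, ha, ← mul_assoc, ← mul_assoc, ← mul_assoc, h.nu_mul_x hT hr,
    mul_assoc _ (nuMat _ _ _ _), h.nu_mul_x hT hs, ← mul_assoc]
  intro q hq
  simp only [commWord, List.mem_map] at hq
  obtain ⟨c, hc, rfl⟩ := hq
  exact commTerms_lt hT hr hs h1 h2 c hc

end CL.ChevM
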