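import Cfsg.Agent.Base
import Cfsg.Agent.Chev.MatSigned

/-!
# The Steinberg relations for the matrices `x_r(t)`, from finitely many checks on the tables
-/

set_option autoImplicit false

namespace CL.ChevM

open Matrix Cfsg.Lie Cfsg.Lie.ChevalleyDatum CL.WC

variable {D : ChevalleyDatum} {F : Type*} [Field F]

variable (D) in
/-- The matrix of the reflection in the `i`-th fundamental root on the fundamental coroots. -/
def reflA (i j' j : ℕ) : ℤ := (if j' = j then 1 else 0) - (if j' = i then D.cartan j (D.simple i) else 0)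

variable (D) in
/-- The Cartan integer `A_{r,s}` of two arbitrary roots. -/
def cartR (r s : ℕ) : ℤ := ∑ i ∈ Finset.range D.rank, cor D r i * D.cartan i s

/-- The symbolic word `n_p(c)`. -/
def nSym (p np : ℕ) : List (ℕ × Pol (ℤ × ℕ × ℕ)) :=
  [(p, [(1, (1, 0, 0))]), (np, [(-1, (-1, 0, 0))]), (p, [(1, (1, 0, 0))])]

/-- The expected image of the `k`-th basis vector under `n_p(c)`. -/
noncomputable def nExp (l : ℕ) (cart : ℕ → ℕ → ℤ) (w : ℕ → ℕ) (η : ℕ → ℤ) (i p k : ℕ) : Vec (ℤ × ℕ × ℕ) :=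
  Bool.rec [(Nat.add l (w (Nat.sub k l)), η (Nat.sub k l), (Int.neg (cart i (Nat.sub k l)), 0, 0))]
    [(k, 1, (0, 0, 0)), (i, Int.neg (cart k p), (0, 0, 0))] (Nat.blt k l)

/-- The check that `n_p(c)` is the expected monomial matrix. -/
noncomputable def nChk (l N : ℕ) (col : ℕ → ℕ → Col) (cart : ℕ → ℕ → ℤ) (w : ℕ → ℕ) (η : ℕ → ℤ)
    (i p np : ℕ) : Bool :=
  allLt N fun k => veq M3 0 (applyW M3 0 col (nSym p np) [(k, 1, M3.one)]) (nExp l cart w η i p k)

/-- The check of additivity for the root `p`. -/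
noncomputable def addChk (N : ℕ) (col : ℕ → ℕ → Col) (p : ℕ) : Bool :=
  weq M2 0 col N [(p, [(1, (1, 0))]), (p, [(1, (0, 1))])] [(p, [(1, (1, 0)), (1, (0, 1))])]

/-- The check of the commutator formula for the pair `(r, s)`, `L` being the list of terms. -/
noncomputable def commChk (N : ℕ) (col : ℕ → ℕ → Col) (r s : ℕ) (L : List (ℕ × ℤ × ℕ × ℕ)) : Bool :=
  weq M2 0 col N [(s, [(1, (0, 1))]), (r, [(1, (1, 0))])]
    ((r, [(1, (1, 0))]) :: (s, [(1, (0, 1))]) :: L.map fun c => (c.1, [(c.2.1 * (-1) ^ c.2.2.1, c.2.2)]))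

theorem addChk_sound (hU : ChainUniq D) {p : ℕ} (h : addChk (D.rank + D.nroots) (col D) p = true) :
    AddAt D F p := by
  intro t u
  have := weq_sound (M2_sound t u) (p := 0) (by simp) (x_mulVec_bv hU) (exists_bv_eq D) h
  simpa [wmat, evW, ev2] using this

theorem commChk_sound (hU : ChainUniq D) {r s : ℕ}
    (h : commChk (D.rank + D.nroots) (col D) r s (D.commTerms r s) = true) : CommAt D F r s := by
  intro t u
  have := weq_sound (M2_sound t u) (p := 0) (by simp) (x_mulVec_bv hU) (exists_bv_eq D) h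
  rw [← wordMat_eq_wmat, ← wordMat_eq_wmat] at this
  simp only [evW, List.map_cons, wordMat_cons, List.map_map, List.map_nil, wordMat_nil] at this
  simp only [evP_cons, evP_nil, ev2, Int.cast_one, pow_zero, pow_one, mul_one, one_mul, add_zero] at this
  rw [this, mul_assoc]
  congr 3
  refine List.map_congr_left fun c _ => ?_
  simp only [Function.comp, evP_cons, evP_nil, ev2, add_zero, Prod.mk.injEq, true_and]
  push_cast
  rw [neg_pow t]; ring

theorem nChk_sound (hU : ChainUniq D) {w : ℕ → ℕ} {η : ℕ → ℤ} {i : ℕ} (hi : i < D.rank)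
    (h : nChk D.rank (D.rank + D.nroots) (col D) D.cartan w η i (D.simple i) (D.neg (D.simple i)) = true)
    {c : F} (hc : c ≠ 0) :
    D.nMat F (D.simple i) c = nuMat D w (fun s => (η s : F) * c ^ (-D.cartan i s)) (reflA D i) := by
  have key : ∀ k < D.rank + D.nroots, D.nMat F (D.simple i) c *ᵥ bv D F k =
      evV (ev3 c 0 0) (bv D F) (nExp D.rank D.cartan w η i (D.simple i) k) := by
    intro k hk
    have := wmat_mulVec_of_veq (M3_sound hc 0 0) (p := 0) (by simp) (x_mulVec_bv hU) (allLt_iff.1 h k hk)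
    rw [← this]
    congr 1
    simp [nMat, nWord, wordMat_eq_wmat, evW, nSym, ev3]
  refine ext_bv (fun j hj => ?_) (fun s hs => ?_)
  · have h1 : Nat.blt j D.rank = true := by rw [Nat.blt_eq]; exact hj
    rw [key j (by omega), nu_bv_h _ _ _ hj, nExp, h1]
    have : ((Int.neg (D.cartan j (D.simple i)) : ℤ) : F) = -(D.cartan j (D.simple i) : F) := Int.cast_neg _
    simp only [reflA, Int.cast_sub, Int.cast_ite, Int.cast_one, Int.cast_zero, sub_smul, ite_smul, one_smul,
      zero_smul, Finset.sum_sub_distrib, Finset.sum_ite_eq', Finset.mem_range, hi, hj, if_true]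
    simp [ev3, this, sub_eq_add_neg]
  · have h1 : Nat.blt (D.rank + s) D.rank = false := by
      rw [← Bool.not_eq_true, Nat.blt_eq]; omega
    have h2 : Nat.sub (D.rank + s) D.rank = s := Nat.add_sub_cancel_left _ _
    rw [key _ (by omega), nu_bv_e _ _ _ hs, nExp, h1, h2]
    have : Int.neg (D.cartan i s) = -D.cartan i s := rfl
    simp [ev3, this]

variable (D) in
/-- The finitely many facts on the tables from which the Steinberg relations follow. -/
structure Core (η : ℕ → ℕ → ℤ) : Prop where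
  tab : TabOK D
  sa : ∀ i < D.rank, SignedAut D (D.reflectRoot i) (η i) (reflA D i)
  invol : ∀ i < D.rank, ∀ s < D.nroots, D.reflectRoot i (D.reflectRoot i s) = s
  cart_simple : ∀ i < D.rank, D.cartan i (D.simple i) = 2
  cor_simple : ∀ i < D.rank, ∀ j < D.rank, cor D (D.simple i) j = if j = i then 1 else 0
  eta_simple : ∀ i < D.rank, η i (D.simple i) = -1
  eta_refl : ∀ i < D.rank, ∀ s < D.nroots, η i s * η i (D.reflectRoot i s) = (-1) ^ (D.cartan i s).natAbs
  nchk : ∀ i < D.rank, ∃ w : ℕ → ℕ, (∀ s < D.nroots, w s = D.reflectRoot i s) ∧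
    nChk D.rank (D.rank + D.nroots) (col D) D.cartan w (η i) i (D.simple i) (D.neg (D.simple i)) = true
  addchk : ∀ i < D.rank, addChk (D.rank + D.nroots) (col D) (D.simple i) = true
  red : ∃ μ : ℕ → ℕ, ∀ r < D.nroots, (∃ i < D.rank, r = D.simple i) ∨ ∃ i < D.rank, μ (D.reflectRoot i r) < μ r
  comm : ((∀ r < D.nroots, ∀ s < D.nroots, (D.chainEntry r s).length ≤ 2) ∧
      ∀ r < D.nroots, (∃ i < D.rank, r < D.reflectRoot i r) ∨ ∀ s < D.nroots, s = r ∨ s = D.neg r ∨
        (∃ i < D.rank, D.reflectRoot i r = r ∧ s < D.reflectRoot i s) ∨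
        commChk (D.rank + D.nroots) (col D) r s (D.commTerms r s) = true) ∨
    (∀ r < D.nroots, ∀ s < D.nroots, s = r ∨ s = D.neg r ∨
        commChk (D.rank + D.nroots) (col D) r s (D.commTerms r s) = true) ∧
    ∀ r < D.nroots, ∀ s < D.nroots, ∀ c ∈ D.commTerms r s, c.1 < D.nroots

namespace Core

variable {η : ℕ → ℕ → ℤ} (C : Core D η)
include C

theorem refl_lt {i s : ℕ} (hi : i < D.rank) (hs : s < D.nroots) : D.reflectRoot i s < D.nroots :=
  (C.sa i hi).lt s hs

theorem cart_refl {i s : ℕ} (hi : i < D.rank) (hs : s < D.nroots) :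
    D.cartan i (D.reflectRoot i s) = -D.cartan i s := by
  rw [(C.sa i hi).cart i hi s hs]
  simp only [reflA, C.cart_simple i hi, sub_mul, ite_mul, one_mul, zero_mul, Finset.sum_sub_distrib,
    Finset.sum_ite_eq', Finset.mem_range, hi, if_true]
  ring

theorem reflA_sq {i : ℕ} (hi : i < D.rank) (j m : ℕ) (hm : m < D.rank) :
    ∑ k ∈ Finset.range D.rank, reflA D i j k * reflA D i k m = idA j m := by
  simp only [reflA, idA, mul_sub, mul_ite, mul_one, mul_zero, Finset.sum_sub_distrib,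
    Finset.sum_ite_eq', Finset.mem_range, hi, hm, if_true, C.cart_simple i hi]
  split_ifs <;> ring

/-- Induction on roots: a property of the fundamental roots preserved by the fundamental reflections holds for
all roots. -/
theorem root_induction {P : ℕ → Prop} (h0 : ∀ i < D.rank, P (D.simple i))
    (h1 : ∀ i < D.rank, ∀ r < D.nroots, P r → P (D.reflectRoot i r)) : ∀ r < D.nroots, P r := by
  obtain ⟨μ, hμ⟩ := C.red
  intro r
  induction h : μ r using Nat.strong_induction_on generalizing r with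
  | _ m ih =>
    intro hr
    rcases hμ r hr with ⟨i, hi, rfl⟩ | ⟨i, hi, hlt⟩
    · exact h0 i hi
    · have := h1 i hi _ (C.refl_lt hi hr) (ih _ (h ▸ hlt) _ rfl (C.refl_lt hi hr))
      rwa [C.invol i hi r hr] at this

/-- `n_p(c)` is a monomial matrix. -/
theorem nMat_simple {i : ℕ} (hi : i < D.rank) {c : F} (hc : c ≠ 0) :
    D.nMat F (D.simple i) c =
      nuMat D (D.reflectRoot i) (fun s => (η i s : F) * c ^ (-D.cartan i s)) (reflA D i) := by
  obtain ⟨w, hw, h⟩ := C.nchk i hi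
  rw [nChk_sound C.tab.uniq hi h hc]
  exact nu_congr hw (fun _ _ => rfl) fun _ _ _ _ => rfl

theorem nMat_simple_one {i : ℕ} (hi : i < D.rank) :
    D.nMat F (D.simple i) 1 = nuMat D (D.reflectRoot i) (fun s => (η i s : F)) (reflA D i) := by
  rw [C.nMat_simple hi one_ne_zero]; simp

theorem nu_inv {i : ℕ} (hi : i < D.rank) :
    nuMat D (D.reflectRoot i) (fun s => (η i s : F)) (reflA D i) *
      nuMat D (D.reflectRoot i) (fun s => (η i (D.reflectRoot i s) : F)) (reflA D i) = 1 := by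
  rw [nu_mul_nu _ _ _ _ (C.sa i hi).lt, ← diagM_one, diagM_eq_nu]
  exact nu_congr (fun s hs => C.invol i hi s hs) (fun s hs => (C.sa i hi).sq' (C.refl_lt hi hs))
    fun j _ m hm => C.reflA_sq hi j m hm

/-- Conjugation of root elements by `n_p`. -/
theorem nMat_mul_x {i s : ℕ} (hi : i < D.rank) (hs : s < D.nroots) (t : F) :
    D.nMat F (D.simple i) 1 * D.x F s t =
      D.x F (D.reflectRoot i s) ((η i s : F) * t) * D.nMat F (D.simple i) 1 := by
  rw [C.nMat_simple_one hi]; exact (C.sa i hi).nu_mul_x C.tab hs t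

/-- Additivity. -/
theorem x_add {r : ℕ} (hr : r < D.nroots) (t u : F) : D.x F r t * D.x F r u = D.x F r (t + u) :=
  C.root_induction (P := AddAt D F) (fun i hi => addChk_sound C.tab.uniq (C.addchk i hi))
    (fun i hi _ hr h => (C.sa i hi).addAt C.tab (C.nu_inv hi) hr h) r hr t u

theorem x_add' (r : ℕ) (t u : F) : D.x F r t * D.x F r u = D.x F r (t + u) := by
  by_cases hr : r < D.nroots
  · exact C.x_add hr t u
  · simp [x_of_ge (not_lt.1 hr)]

theorem x_zero (r : ℕ) : D.x F r 0 = 1 := CL.ChevM.x_zero C.tab.uniq r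

theorem x_mul_x_neg (r : ℕ) (t : F) : D.x F r t * D.x F r (-t) = 1 := by
  rw [C.x_add', add_neg_cancel, C.x_zero]

theorem x_neg_mul_x (r : ℕ) (t : F) : D.x F r (-t) * D.x F r t = 1 := by
  rw [C.x_add', neg_add_cancel, C.x_zero]

theorem x_eq_one_iff {r : ℕ} (hr : r < D.nroots) (t : F) : D.x F r t = 1 ↔ t = 0 := by
  refine ⟨fun h => ?_, fun h => h ▸ C.x_zero r⟩
  have h1 := x_bv_neg (F := F) hr (C.tab.neg_lt r hr) (C.tab.neg_ne r hr) t
  rw [h, one_mulVec] at h1
  have h2 := congrFun h1 (Sum.inr ⟨r, hr⟩)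
  simp only [Pi.add_apply, Pi.sub_apply, Pi.smul_apply, bv_apply_inr, Finset.sum_apply, if_true] at h2
  rw [Finset.sum_eq_zero] at h2
  · rw [add_zero, smul_eq_mul, mul_one, eq_comm, sub_eq_self] at h2
    exact pow_eq_zero_iff two_ne_zero |>.1 h2
  · intro i hi
    rw [Finset.mem_range] at hi
    rw [if_neg (by omega), smul_zero]

/-- The commutator formula. -/
theorem x_comm {r s : ℕ} (hr : r < D.nroots) (hs : s < D.nroots) (h1 : s ≠ r) (h2 : s ≠ D.neg r) (t u : F) :
    D.x F s u * D.x F r t = D.x F r t * D.x F s u * D.wordMat F (D.commWord F r s t u) := by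
  suffices H : CommAt D F r s from H t u
  rcases C.comm with ⟨hl, hc⟩ | ⟨hc, -⟩
  swap
  · exact commChk_sound C.tab.uniq (((hc r hr s hs).resolve_left h1).resolve_left h2)
  have step : ∀ i < D.rank, ∀ r < D.nroots, ∀ s < D.nroots,
      CommAt D F (D.reflectRoot i r) (D.reflectRoot i s) → CommAt D F r s := by
    intro i hi r hr s hs h
    have hr' := C.refl_lt hi hr
    have hs' := C.refl_lt hi hs
    have := (C.sa i hi).commAt C.tab (C.nu_inv hi) hr' hs' (hl _ hr' _ hs') (hl _ hs' _ hr') h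
    rwa [C.invol i hi r hr, C.invol i hi s hs] at this
  have ne1 : ∀ i < D.rank, ∀ r < D.nroots, ∀ s < D.nroots, s ≠ r → D.reflectRoot i s ≠ D.reflectRoot i r :=
    fun i hi r hr s hs h e => h ((C.sa i hi).inj _ hs _ hr e)
  have ne2 : ∀ i < D.rank, ∀ r < D.nroots, ∀ s < D.nroots, s ≠ D.neg r →
      D.reflectRoot i s ≠ D.neg (D.reflectRoot i r) :=
    fun i hi r hr s hs h e => h ((C.sa i hi).inj _ hs _ (C.tab.neg_lt r hr) (e.trans ((C.sa i hi).neg r hr).symm))
  induction h : D.nroots - r using Nat.strong_induction_on generalizing r s with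
  | _ m ih =>
    rcases hc r hr with ⟨i, hi, hlt⟩ | hc'
    · have hr' := C.refl_lt hi hr
      exact step i hi r hr s hs (ih _ (by omega) hr' (C.refl_lt hi hs) (ne1 i hi r hr s hs h1)
        (ne2 i hi r hr s hs h2) rfl)
    · clear ih h
      induction h : D.nroots - s using Nat.strong_induction_on generalizing s with
      | _ m ih =>
        rcases hc' s hs with h' | h' | ⟨i, hi, e, hlt⟩ | h'
        · exact absurd h' h1
        · exact absurd h' h2
        · have hs' := C.refl_lt hi hs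
          refine step i hi r hr s hs ?_
          rw [e]
          refine ih _ (by omega) hs' ?_ ?_ rfl
          · simpa [e] using ne1 i hi r hr s hs h1
          · simpa [e] using ne2 i hi r hr s hs h2
        · exact commChk_sound C.tab.uniq h'

theorem commTerms_lt {r s : ℕ} (hr : r < D.nroots) (hs : s < D.nroots) :
    ∀ c ∈ D.commTerms r s, c.1 < D.nroots := by
  rcases C.comm with ⟨hl, -⟩ | ⟨-, hc⟩
  · exact CL.ChevM.commTerms_lt C.tab hr hs (hl r hr s hs) (hl s hs r hr)
  · exact hc r hr s hs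

theorem nMat_mul_nMat_neg (r : ℕ) (t : F) : D.nMat F r t * D.nMat F r (-t) = 1 := by
  rw [nMat_eq, nMat_eq, inv_neg, neg_neg]
  simp only [mul_assoc]
  rw [← mul_assoc (D.x F r t) (D.x F r (-t)), C.x_mul_x_neg, one_mul, ← mul_assoc (D.x F _ (-t⁻¹)),
    C.x_neg_mul_x, one_mul, C.x_mul_x_neg]

theorem nMat_neg_mul_nMat (r : ℕ) (t : F) : D.nMat F r (-t) * D.nMat F r t = 1 := by
  simpa using C.nMat_mul_nMat_neg r (-t)

/-- `h_p(c)` is diagonal, `p` fundamental. -/
theorem hMat_simple {i : ℕ} (hi : i < D.rank) {c : F} (hc : c ≠ 0) :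
    D.hMat F (D.simple i) c = diagM D fun s => c ^ D.cartan i s := by
  rw [hMat_eq, C.nMat_simple hi hc, C.nMat_simple hi (neg_ne_zero.2 one_ne_zero),
    nu_mul_nu _ _ _ _ (C.sa i hi).lt, diagM_eq_nu]
  refine nu_congr (fun s hs => C.invol i hi s hs) (fun s hs => ?_) fun j _ m hm => C.reflA_sq hi j m hm
  rw [C.cart_refl hi hs, neg_neg]
  have h1 : (η i s : F) * η i (D.reflectRoot i s) = (-1) ^ (D.cartan i s).natAbs := by
    rw [← Int.cast_mul, C.eta_refl i hi s hs]; push_cast; rfl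
  have h2 : (-1 : F) ^ (D.cartan i s).natAbs * (-1) ^ (-D.cartan i s) = 1 := by
    generalize D.cartan i s = a
    obtain ⟨m, rfl | rfl⟩ := Int.eq_nat_or_neg a
    · simp [_root_.zpow_neg]
    · simp [← mul_pow]
  calc (η i s : F) * (-1) ^ (-D.cartan i s) * (η i (D.reflectRoot i s) * c ^ D.cartan i s)
      = ((η i s : F) * η i (D.reflectRoot i s)) * (-1) ^ (-D.cartan i s) * c ^ D.cartan i s := by ring
    _ = _ := by rw [h1, h2, one_mul]

theorem cartR_simple {i : ℕ} (hi : i < D.rank) (s : ℕ) : cartR D (D.simple i) s = D.cartan i s := by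
  unfold cartR
  rw [Finset.sum_congr rfl (g := fun j => if j = i then D.cartan j s else 0)]
  · simp [hi]
  · intro j hj
    rw [C.cor_simple i hi j (Finset.mem_range.1 hj)]
    split_ifs <;> simp

omit C in
theorem _root_.CL.ChevM.RootAut.cartR_eq {w : ℕ → ℕ} {A : ℕ → ℕ → ℤ} (h : RootAut D w A) {r s : ℕ}
    (hr : r < D.nroots) (hs : s < D.nroots) : cartR D (w r) (w s) = cartR D r s := by
  unfold cartR
  rw [Finset.sum_congr rfl (g := fun j => ∑ i ∈ Finset.range D.rank, A j i * cor D r i * D.cartan j (w s)),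
    Finset.sum_comm]
  · refine Finset.sum_congr rfl fun i hi => ?_
    rw [h.cart i (Finset.mem_range.1 hi) s hs, Finset.mul_sum]
    exact Finset.sum_congr rfl fun j _ => by ring
  · intro j hj
    rw [h.cor j (Finset.mem_range.1 hj) r hr, Finset.sum_mul]

omit C in
/-- Conjugation of `n_r(t)` by a signed automorphism. -/
theorem _root_.CL.ChevM.SignedAut.nu_mul_nMat (hT : TabOK D) {w : ℕ → ℕ} {η : ℕ → ℤ} {A : ℕ → ℕ → ℤ}
    (h : SignedAut D w η A) {r : ℕ} (hr : r < D.nroots) (t : F) :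
    nuMat D w (fun s => (η s : F)) A * D.nMat F r t =
      D.nMat F (w r) ((η r : F) * t) * nuMat D w (fun s => (η s : F)) A := by
  have hn := hT.neg_lt r hr
  rw [nMat, mul_wordMat (fun s hs t => h.nu_mul_x hT hs t)]
  · congr 2
    simp only [nWord, List.map_cons, List.map_nil, h.neg r hr, h.sgn_neg r hr]
    congr 3
    rcases h.sgn r hr with e | e <;> simp [e]
  · simp [nWord, hr, hn]

theorem hMat_one (r : ℕ) : D.hMat F r 1 = 1 := by rw [hMat_eq, C.nMat_mul_nMat_neg]

/-- `h_r(c)` is diagonal for every root `r`. -/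
theorem hMat_eq_diagM {r : ℕ} (hr : r < D.nroots) {c : F} (hc : c ≠ 0) :
    D.hMat F r c = diagM D fun s => c ^ cartR D r s := by
  revert c
  refine C.root_induction (P := fun r => ∀ {c : F}, c ≠ 0 → D.hMat F r c = diagM D fun s => c ^ cartR D r s)
    (fun i hi c hc => ?_) (fun i hi r hr ih c hc => ?_) r hr
  · rw [C.hMat_simple hi hc]
    exact diagM_congr fun s _ => by rw [C.cartR_simple hi]
  · have sa := C.sa i hi
    refine cancel_nu (C.nu_inv hi) ?_
    rw [← nu_mul_diagM_comm _ _ sa.lt (χ := fun s => c ^ cartR D r s) fun s hs => by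
      rw [sa.toRootAut.cartR_eq hr hs]]
    have e : ∀ t : F, t = η i r * (η i r * t) := fun t => by rw [← mul_assoc, sa.sq' hr, one_mul]
    rw [hMat_eq, e c, e (-1), mul_assoc, ← sa.nu_mul_nMat C.tab hr, ← mul_assoc, ← sa.nu_mul_nMat C.tab hr,
      mul_assoc, ← e c]
    congr 1
    rcases sa.sgn r hr with h | h
    · simp only [h, Int.cast_one, one_mul]
      rw [← hMat_eq, ih hc]
    · simp only [h, Int.cast_neg, Int.cast_one, neg_mul, one_mul, neg_neg]
      have h1 : D.hMat F r (-1) * D.hMat F r (-1) = 1 := by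
        rw [ih (neg_ne_zero.2 one_ne_zero), diagM_mul, ← diagM_one]
        exact diagM_congr fun s _ => by rw [← mul_zpow]; simp
      have h2 : D.nMat F r 1 = D.nMat F r (-1) * D.hMat F r (-1) := by
        calc D.nMat F r 1 = D.nMat F r 1 * (D.hMat F r (-1) * D.hMat F r (-1)) := by rw [h1, mul_one]
          _ = D.nMat F r 1 * D.nMat F r (-1) * D.nMat F r (-1) * D.hMat F r (-1) := by
            rw [hMat_eq]; simp only [mul_assoc]
          _ = _ := by rw [C.nMat_mul_nMat_neg, one_mul]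
      rw [h2, ← mul_assoc, ← hMat_eq, ih (neg_ne_zero.2 hc), ih (neg_ne_zero.2 one_ne_zero), diagM_mul]
      exact diagM_congr fun s _ => by rw [← mul_zpow]; simp

theorem hMat_mul {r : ℕ} (hr : r < D.nroots) {c d : F} (hc : c ≠ 0) (hd : d ≠ 0) :
    D.hMat F r c * D.hMat F r d = D.hMat F r (c * d) := by
  rw [C.hMat_eq_diagM hr hc, C.hMat_eq_diagM hr hd, C.hMat_eq_diagM hr (mul_ne_zero hc hd), diagM_mul]
  exact diagM_congr fun s _ => by rw [mul_zpow]

theorem cartR_neg (r : ℕ) {s : ℕ} (hs : s < D.nroots) : cartR D r (D.neg s) = -cartR D r s := by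
  unfold cartR
  rw [← Finset.sum_neg_distrib]
  exact Finset.sum_congr rfl fun i hi => by rw [C.tab.cart_neg i (Finset.mem_range.1 hi) s hs, mul_neg]

theorem cartR_ent (r : ℕ) {s c : ℕ} (hs : s < D.nroots) (hc : c < D.nroots) :
    ∀ q ∈ (D.chainEntry s c).zipIdx, cartR D r q.1.1 = (q.2 + 1 : ℕ) * cartR D r s + cartR D r c := by
  intro q hq
  unfold cartR
  rw [Finset.mul_sum, ← Finset.sum_add_distrib]
  exact Finset.sum_congr rfl fun i hi => by
    rw [C.tab.cart_ent i (Finset.mem_range.1 hi) s hs c hc q hq]; ring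

/-- Conjugation of root elements by `h_r(c)`. -/
theorem hMat_mul_x {r s : ℕ} (hr : r < D.nroots) (hs : s < D.nroots) {c : F} (hc : c ≠ 0) (t : F) :
    D.hMat F r c * D.x F s t = D.x F s (c ^ cartR D r s * t) * D.hMat F r c := by
  rw [C.hMat_eq_diagM hr hc]
  exact diagM_zpow_mul_x C.tab hs (C.cartR_neg r hs) (fun d hd => C.cartR_ent r hs hd) hc t

theorem hMat_simple_mul_x {i s : ℕ} (hi : i < D.rank) (hs : s < D.nroots) {c : F} (hc : c ≠ 0) (t : F) :
    D.hMat F (D.simple i) c * D.x F s t = D.x F s (c ^ D.cartan i s * t) * D.hMat F (D.simple i) c := by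
  rw [C.hMat_mul_x (C.tab.simple_lt i hi) hs hc, C.cartR_simple hi]

/-- Conjugation of `h_r(c)` by `n_p`. -/
theorem nMat_mul_hMat {i r : ℕ} (hi : i < D.rank) (hr : r < D.nroots) {c : F} (hc : c ≠ 0) :
    D.nMat F (D.simple i) 1 * D.hMat F r c = D.hMat F (D.reflectRoot i r) c * D.nMat F (D.simple i) 1 := by
  rw [C.nMat_simple_one hi, C.hMat_eq_diagM hr hc, C.hMat_eq_diagM (C.refl_lt hi hr) hc]
  exact nu_mul_diagM_comm _ _ (C.sa i hi).lt fun s hs => by rw [(C.sa i hi).toRootAut.cartR_eq hr hs]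

theorem nMat_eq_hMat_mul (r : ℕ) (c : F) : D.nMat F r c = D.hMat F r c * D.nMat F r 1 := by
  rw [hMat_eq, mul_assoc, C.nMat_neg_mul_nMat, mul_one]

theorem cartR_self {r : ℕ} (hr : r < D.nroots) : cartR D r r = 2 :=
  C.root_induction (P := fun r => cartR D r r = 2)
    (fun i hi => by rw [C.cartR_simple hi, C.cart_simple i hi])
    (fun i hi r hr h => by rw [(C.sa i hi).toRootAut.cartR_eq hr hr, h]) r hr

omit C in
theorem refl_simple (i : ℕ) : D.reflectRoot i (D.simple i) = D.neg (D.simple i) := by simp [reflectRoot]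

/-- The `SL₂` relation `n_r(c) x_r(t) n_r(c)⁻¹ = x_{-r}(-c⁻² t)`. -/
theorem nMat_mul_x_self {r : ℕ} (hr : r < D.nroots) {c : F} (hc : c ≠ 0) (t : F) :
    D.nMat F r c * D.x F r t = D.x F (D.neg r) (-(c⁻¹ ^ 2 * t)) * D.nMat F r c := by
  revert c t
  refine C.root_induction (P := fun r => ∀ {c : F}, c ≠ 0 → ∀ t : F,
    D.nMat F r c * D.x F r t = D.x F (D.neg r) (-(c⁻¹ ^ 2 * t)) * D.nMat F r c)
    (fun i hi c hc t => ?_) (fun i hi r hr ih c hc t => ?_) r hr
  · have hp := C.tab.simple_lt i hi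
    rw [C.nMat_eq_hMat_mul, mul_assoc, C.nMat_mul_x hi hp, refl_simple, C.eta_simple i hi, ← mul_assoc,
      C.hMat_simple_mul_x hi (C.tab.neg_lt _ hp) hc, C.tab.cart_neg i hi _ hp, C.cart_simple i hi, mul_assoc]
    congr 2
    simp [_root_.zpow_neg, zpow_ofNat]
  · have sa := C.sa i hi
    refine cancel_nu (C.nu_inv hi) ?_
    have e : ∀ t : F, t = η i r * (η i r * t) := fun t => by rw [← mul_assoc, sa.sq' hr, one_mul]
    have hη : (η i r : F) ≠ 0 := left_ne_zero_of_mul_eq_one (sa.sq' hr)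
    rw [e c, e t, mul_assoc, ← sa.nu_mul_x C.tab hr, ← mul_assoc, ← sa.nu_mul_nMat C.tab hr, mul_assoc,
      ih (mul_ne_zero hη hc), ← mul_assoc, sa.nu_mul_x C.tab (C.tab.neg_lt r hr), mul_assoc,
      sa.nu_mul_nMat C.tab hr, ← mul_assoc, sa.neg r hr, sa.sgn_neg r hr]
    congr 3
    rcases sa.sgn r hr with h | h <;> simp [h]

end Core

end CL.ChevM
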