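import Cfsg.Agent.Base
import Cfsg.Agent.Chev.MatCore
import Cfsg.Agent.Auto.ACL_ChevM_col_acddeb

/-!
# Fast coded tables and the Boolean checks implying `Core`
-/

set_option autoImplicit false

namespace CL.ChevM

open Cfsg.Lie Cfsg.Lie.ChevalleyDatum CL.WC

/-- The `k`-th entry of a list of natural numbers. -/
noncomputable def nth (L : List ℕ) : ℕ → ℕ :=
  List.rec (fun _ => 0) (fun a _ ih k => Nat.rec a (fun k' _ => ih k') k) L

/-- The `s`-th field of width `B` (mask `m`) of a natural number. -/
def fld (R B m s : ℕ) : ℕ := Nat.land (Nat.shiftRight R (Nat.mul B s)) m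

/-- Boolean conjunction, lazy in the second argument. -/
noncomputable def band (a b : Bool) : Bool := Bool.rec false b a
/-- Boolean disjunction, lazy in the second argument. -/
noncomputable def bor (a b : Bool) : Bool := Bool.rec b true a

theorem band_iff {a b : Bool} : band a b = true ↔ a = true ∧ b = true := by cases a <;> simp [band]
theorem bor_iff {a b : Bool} : bor a b = true ↔ a = true ∨ b = true := by cases a <;> simp [bor]

/-- The sign `(-1)^b`. -/
noncomputable def sgn (b : ℕ) : ℤ := Bool.rec (-1) 1 (Nat.beq (Nat.mod b 2) 0)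

theorem sgn_eq (b : ℕ) : sgn b = (-1) ^ b := by
  unfold sgn
  rcases Nat.mod_two_eq_zero_or_one b with h | h
  · have : Nat.mod b 2 = 0 := h
    rw [this, Even.neg_one_pow (Nat.even_iff.2 h)]; rfl
  · have : Nat.mod b 2 = 1 := h
    rw [this, Odd.neg_one_pow (Nat.odd_iff.2 h)]; rfl

/-- Root index of the lowest term of a code. -/
def cIdx (v : ℕ) : ℕ := Nat.land v 255
/-- Coefficient (plus four) of the lowest term of a code. -/
def cM (v : ℕ) : ℕ := Nat.land (Nat.shiftRight v 8) 7
/-- The code with its lowest term removed. -/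
def cTl (v : ℕ) : ℕ := Nat.shiftRight v 11

/-- Decoding of a chain entry. -/
noncomputable def dec (fuel : ℕ) : ℕ → List (ℕ × ℤ) :=
  Nat.rec (fun _ => []) (fun _ ih v =>
    Bool.rec ((cIdx v, Int.subNatNat (cM v) 4) :: ih (cTl v)) [] (Nat.beq v 0)) fuel

theorem dec_succ (f v : ℕ) :
    dec (f + 1) v = Bool.rec ((cIdx v, Int.subNatNat (cM v) 4) :: dec f (cTl v)) [] (Nat.beq v 0) := rfl

theorem dec_zero (f : ℕ) : dec f 0 = [] := by cases f <;> rfl

theorem length_dec (f v : ℕ) : (dec f v).length ≤ f := by
  induction f generalizing v with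
  | zero => simp [dec]
  | succ f ih =>
    rw [dec_succ]
    cases Nat.beq v 0 with
    | true => simp
    | false => simpa using ih _

/-- Coded tables. -/
structure Fast where
  l : ℕ
  n : ℕ
  fuel : ℕ
  raw : ℕ → ℕ → ℕ
  caN : ℕ → ℕ → ℕ
  coN : ℕ → ℕ → ℕ
  wN : ℕ → ℕ → ℕ
  eN : ℕ → ℕ → ℕ
  sim : ℕ → ℕ

/-- Coded tables from lists of packed rows. -/
noncomputable def mkFast (l n fuel B m : ℕ) (rows ca co w e sim : List ℕ) : Fast where
  l := l
  n := n
  fuel := fuel
  raw r s := fld (nth rows r) B m s
  caN i s := fld (nth ca i) 4 15 s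
  coN r i := fld (nth co i) 4 15 r
  wN i s := fld (nth w i) 8 255 s
  eN i s := fld (nth e i) 1 1 s
  sim := nth sim

/-- `reflectRoot` in terms of abstract tables. -/
def reflOf (simple neg : ℕ → ℕ) (cart : ℕ → ℕ → ℤ) (ent : ℕ → ℕ → List (ℕ × ℤ)) (i s : ℕ) : ℕ :=
  let p := simple i
  let A := cart i s
  if s = p then neg p
  else if s = neg p then p
  else if 0 < A then (((ent (neg p) s)[A.toNat - 1]?).map Prod.fst).getD s
  else if A < 0 then (((ent p s)[(-A).toNat - 1]?).map Prod.fst).getD s
  else s

theorem reflectRoot_eq_reflOf (D : ChevalleyDatum) :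
    D.reflectRoot = reflOf D.simple D.neg D.cartan D.chainEntry := rfl

/-- `commTerms` in terms of an abstract chain table. -/
def commTermsOf (ent : ℕ → ℕ → List (ℕ × ℤ)) (r s : ℕ) : List (ℕ × ℤ × ℕ × ℕ) :=
  let cR := fun r s i => ((ent r s)[i - 1]?).map Prod.fst
  let cM := fun r s i => (((ent r s)[i - 1]?).map Prod.snd).getD 0
  let rs := cR r s 1
  let cands : List (Option ℕ × ℤ × ℕ × ℕ) :=
    [ (cR r s 1, cM r s 1, 1, 1),
      (cR r s 2, cM r s 2, 2, 1),
      (cR s r 2, cM s r 2, 1, 2),
      (cR r s 3, cM r s 3, 3, 1),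
      (cR s r 3, - cM s r 3, 1, 3),
      ((cR r s 3).bind fun k => cR k s 1, (rs.map fun k => cM k r 2 / 3).getD 0, 3, 2),
      ((cR s r 3).bind fun k => cR k r 1, (rs.map fun k => -2 * cM k s 2 / 3).getD 0, 2, 3) ]
  cands.filterMap fun c => c.1.map fun k => (k, c.2)

theorem commTerms_eq_commTermsOf (D : ChevalleyDatum) : D.commTerms = commTermsOf D.chainEntry := rfl

namespace Fast
variable (T : Fast)

/-- Chain entries. -/
noncomputable def ent (r s : ℕ) : List (ℕ × ℤ) :=
  Bool.rec [] (Bool.rec [] (dec T.fuel (T.raw r s)) (Nat.blt s T.n)) (Nat.blt r T.n)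
/-- Cartan integers. -/
noncomputable def cart (i s : ℕ) : ℤ :=
  Bool.rec 0 (Bool.rec 0 (Int.subNatNat (T.caN i s) 8) (Nat.blt s T.n)) (Nat.blt i T.l)
/-- Coroot coefficients. -/
noncomputable def cor (r i : ℕ) : ℤ :=
  Bool.rec 0 (Bool.rec 0 (Int.subNatNat (T.coN r i) 8) (Nat.blt i T.l)) (Nat.blt r T.n)
/-- Negation without range check. -/
def ng (r : ℕ) : ℕ := Nat.sub (Nat.pred T.n) r
/-- Negation. -/
noncomputable def neg (r : ℕ) : ℕ := Bool.rec 0 (T.ng r) (Nat.blt r T.n)
/-- Fundamental roots. -/
noncomputable def simple (i : ℕ) : ℕ := Bool.rec 0 (T.sim i) (Nat.blt i T.l)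
/-- Sparse columns. -/
noncomputable def col : ℕ → ℕ → Col := colOf T.l T.n T.neg T.cart T.cor T.ent
/-- Signs. -/
noncomputable def eta (i s : ℕ) : ℤ := sgn (T.eN i s)

/-- A row of the chain table. -/
noncomputable def rowOf (r : ℕ) : List (ℕ × List (ℕ × ℤ)) :=
  (List.range T.n).filterMap fun s => Bool.rec (some (s, dec T.fuel (T.raw r s))) none (Nat.beq (T.raw r s) 0)

theorem blt_true {a b : ℕ} (h : a < b) : Nat.blt a b = true := by rw [Nat.blt_eq]; exact h
theorem blt_false {a b : ℕ} (h : ¬ a < b) : Nat.blt a b = false := by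
  rw [← Bool.not_eq_true, Nat.blt_eq]; exact h

theorem ent_eq {r s : ℕ} (hr : r < T.n) (hs : s < T.n) : T.ent r s = dec T.fuel (T.raw r s) := by
  rw [ent, blt_true hr, blt_true hs]
theorem cart_eq {i s : ℕ} (hi : i < T.l) (hs : s < T.n) : T.cart i s = (T.caN i s : ℤ) - 8 := by
  rw [cart, blt_true hi, blt_true hs]; exact Int.subNatNat_eq_coe
theorem cor_eq {r i : ℕ} (hr : r < T.n) (hi : i < T.l) : T.cor r i = (T.coN r i : ℤ) - 8 := by
  rw [cor, blt_true hi, blt_true hr]; exact Int.subNatNat_eq_coe
theorem ng_eq (r : ℕ) : T.ng r = T.n - 1 - r := rfl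
theorem neg_eq {r : ℕ} (hr : r < T.n) : T.neg r = T.ng r := by rw [neg, blt_true hr]
theorem simple_eq {i : ℕ} (hi : i < T.l) : T.simple i = T.sim i := by rw [simple, blt_true hi]

end Fast

/-- The coded tables agree with those of the datum. -/
structure Agree (D : ChevalleyDatum) (T : Fast) : Prop where
  l : D.rank = T.l
  n : D.nroots = T.n
  ent : D.chainEntry = T.ent
  cart : D.cartan = T.cart
  cor : cor D = T.cor
  neg : D.neg = T.neg
  simple : D.simple = T.simple
  uniq : ChainUniq D

theorem Agree.col {D : ChevalleyDatum} {T : Fast} (h : Agree D T) : col D = T.col := by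
  rw [CL.ChevM.col, Fast.col, h.l, h.n, h.ent, h.cart, h.cor, h.neg]

theorem Agree.commTerms {D : ChevalleyDatum} {T : Fast} (h : Agree D T) : D.commTerms = commTermsOf T.ent := by
  rw [commTerms_eq_commTermsOf, h.ent]

theorem Agree.refl {D : ChevalleyDatum} {T : Fast} (h : Agree D T) :
    D.reflectRoot = reflOf T.simple T.neg T.cart T.ent := by
  rw [reflectRoot_eq_reflOf, h.ent, h.cart, h.neg, h.simple]

theorem getD_of_toList {α β : Type} (a : Array α) (f : α → β) (g : ℕ → β) {n : ℕ}
    (h : a.toList.map f = (List.range n).map g) (d : α) (r : ℕ) :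
    f (a.getD r d) = if r < n then g r else f d := by
  have hl : a.size = n := by simpa using congrArg List.length h
  split_ifs with hr
  · have := congrArg (fun L => L[r]?) h
    simp only [List.getElem?_map, List.getElem?_range hr, Option.map_some, Array.getElem?_toList] at this
    rw [Array.getD_eq_getD_getElem?]
    rcases h' : a[r]? with _ | x
    · simp [h'] at this
    · simpa [h'] using this
  · rw [Array.getD_eq_getD_getElem?, Array.getElem?_eq_none (by omega)]; rfl

theorem filter_rowOf (T : Fast) (r s : ℕ) : (T.rowOf r).filter (fun e => e.1 = s) =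
    if s < T.n ∧ T.raw r s ≠ 0 then [(s, dec T.fuel (T.raw r s))] else [] := by
  unfold Fast.rowOf
  generalize T.n = n
  induction n with
  | zero => simp
  | succ n ih =>
    rw [List.range_succ, List.filterMap_append, List.filter_append, ih]
    cases h : Nat.beq (T.raw r n) 0 with
    | true =>
      have h0 := Nat.eq_of_beq_eq_true h
      simp only [List.filterMap_cons, h, List.filterMap_nil, List.filter_nil, List.append_nil]
      by_cases hs : s = n
      · subst hs; simp [h0]
      · have : s < n + 1 ↔ s < n := by omega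
        simp only [this]
    | false =>
      have h0 := Nat.ne_of_beq_eq_false h
      simp only [List.filterMap_cons, h, List.filterMap_nil, List.filter_cons, List.filter_nil]
      by_cases hs : s = n
      · subst hs; simp [h0]
      · have : s < n + 1 ↔ s < n := by omega
        simp [this, Ne.symm hs]

theorem agree_of_lists {D : ChevalleyDatum} {T : Fast} (hl : D.rank = T.l) (hn : D.nroots = T.n)
    (hchain : D.chain.toList.map (fun row => row.toList.map fun e => (e.1, e.2.toList)) =
      (List.range T.n).map T.rowOf)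
    (hcart : D.cartanSR.toList.map Array.toList =
      (List.range T.l).map fun i => (List.range T.n).map fun s => Int.subNatNat (T.caN i s) 8)
    (hcor : D.coroot.toList.map Array.toList =
      (List.range T.n).map fun r => (List.range T.l).map fun i => Int.subNatNat (T.coN r i) 8)
    (hneg : D.negIdx.toList = (List.range T.n).map T.ng)
    (hsimple : D.simpleIdx.toList = (List.range T.l).map T.sim) : Agree D T := by
  have key : ∀ r s, ((D.chain.getD r #[]).toList.filter (fun e => e.1 = s)).map (fun e => (e.1, e.2.toList)) =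
      if r < T.n ∧ s < T.n ∧ T.raw r s ≠ 0 then [(s, dec T.fuel (T.raw r s))] else [] := by
    intro r s
    have h1 := getD_of_toList _ _ _ hchain #[] r
    have h2 : ((D.chain.getD r #[]).toList.filter (fun e => e.1 = s)).map (fun e => (e.1, e.2.toList)) =
        ((D.chain.getD r #[]).toList.map (fun e => (e.1, e.2.toList))).filter (fun e => e.1 = s) := by
      rw [List.filter_map]; rfl
    rw [h2, h1]
    by_cases hr : r < T.n
    · simp [hr, filter_rowOf]
    · simp [hr]
  have hent : D.chainEntry = T.ent := by
    funext r s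
    have := key r s
    unfold chainEntry
    rw [← List.head?_filter]
    generalize (D.chain.getD r #[]).toList.filter (fun e => e.1 = s) = L at this
    by_cases hr : r < T.n
    · by_cases hs : s < T.n
      · rw [T.ent_eq hr hs]
        by_cases h0 : T.raw r s = 0
        · simp only [h0, ne_eq, not_true, and_false, if_false, List.map_eq_nil_iff] at this
          simp [this, h0, dec_zero]
        · simp only [hr, hs, h0, ne_eq, not_false_iff, and_true, if_true] at this
          rcases L with _ | ⟨a, L⟩
          · simp at this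
          · simp only [List.map_cons, List.cons.injEq, Prod.mk.injEq] at this
            simp [this.1.2]
      · simp only [hs, false_and, and_false, if_false, List.map_eq_nil_iff] at this
        simp [this, Fast.ent, Fast.blt_false hs, Fast.blt_true hr]
    · simp only [hr, false_and, if_false, List.map_eq_nil_iff] at this
      simp [this, Fast.ent, Fast.blt_false hr]
  refine ⟨hl, hn, hent, ?_, ?_, ?_, ?_, ?_⟩
  · funext i s
    have h1 := getD_of_toList _ _ _ hcart #[] i
    unfold cartan Fast.cart
    by_cases hi : i < T.l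
    · rw [if_pos hi] at h1
      have h2 := getD_of_toList (D.cartanSR.getD i #[]) id _ (by simpa using h1) 0 s
      by_cases hs : s < T.n
      · simpa [hs, Fast.blt_true hi, Fast.blt_true hs] using h2
      · simpa [hs, Fast.blt_true hi, Fast.blt_false hs] using h2
    · rw [if_neg hi] at h1
      have : D.cartanSR.getD i #[] = #[] := by simpa using h1
      rw [this, Fast.blt_false hi]; rfl
  · funext r i
    have h1 := getD_of_toList _ _ _ hcor #[] r
    unfold CL.ChevM.cor Fast.cor
    by_cases hr : r < T.n
    · rw [if_pos hr] at h1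
      have h2 := getD_of_toList (D.coroot.getD r #[]) id _ (by simpa using h1) 0 i
      by_cases hi : i < T.l
      · simpa [hi, Fast.blt_true hi, Fast.blt_true hr] using h2
      · simpa [hi, Fast.blt_true hr, Fast.blt_false hi] using h2
    · rw [if_neg hr] at h1
      have : D.coroot.getD r #[] = #[] := by simpa using h1
      rw [this, Fast.blt_false hr]; rfl
  · funext r
    have h1 := getD_of_toList D.negIdx id _ (by simpa using hneg) 0 r
    unfold ChevalleyDatum.neg Fast.neg
    by_cases hr : r < T.n
    · simpa [hr, Fast.blt_true hr] using h1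
    · simpa [hr, Fast.blt_false hr] using h1
  · funext r
    have h1 := getD_of_toList D.simpleIdx id _ (by simpa using hsimple) 0 r
    unfold ChevalleyDatum.simple Fast.simple
    by_cases hr : r < T.l
    · simpa [hr, Fast.blt_true hr] using h1
    · simpa [hr, Fast.blt_false hr] using h1
  · intro r s u
    have := key r s
    unfold chainCoeff chainEntry
    rw [← List.head?_filter]
    generalize (D.chain.getD r #[]).toList.filter (fun e => e.1 = s) = L at this
    rcases L with _ | ⟨a, _ | ⟨b, L⟩⟩
    · simp
    · simp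
    · split_ifs at this <;> simp at this

/-! ### A fast check of the agreement of the chain tables -/

/-- Test `a = m - 4`. -/
noncomputable def eqM (a : ℤ) (m : ℕ) : Bool :=
  Int.rec (fun x => Nat.beq (Nat.add x 4) m) (fun x => Nat.beq (Nat.add m (Nat.succ x)) 4) a

theorem eqM_sound {a : ℤ} {m : ℕ} (h : eqM a m = true) : a = Int.subNatNat m 4 := by
  rw [Int.subNatNat_eq_coe]
  cases a with
  | ofNat x =>
    have : x + 4 = m := Nat.eq_of_beq_eq_true h
    simp only [Int.ofNat_eq_natCast]; omega
  | negSucc x =>
    have : m + (x + 1) = 4 := Nat.eq_of_beq_eq_true h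
    rw [Int.negSucc_eq]; omega

/-- Test `E = dec f v`. -/
noncomputable def eqE (E : List (ℕ × ℤ)) : ℕ → ℕ → Bool :=
  List.rec (fun _ v => Nat.beq v 0) (fun e _ ih f v =>
    Nat.rec false (fun f' _ => Bool.rec
      (band (Nat.beq e.1 (cIdx v)) (band (eqM e.2 (cM v)) (ih f' (cTl v)))) false (Nat.beq v 0)) f) E

theorem eqE_sound {E : List (ℕ × ℤ)} {f v : ℕ} (h : eqE E f v = true) : E = dec f v := by
  induction E generalizing f v with
  | nil => rw [Nat.eq_of_beq_eq_true h, dec_zero]
  | cons e E ih =>
    cases f with
    | zero => exact absurd h Bool.false_ne_true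
    | succ f =>
      have h' : (Bool.rec (band (Nat.beq e.1 (cIdx v)) (band (eqM e.2 (cM v)) (eqE E f (cTl v)))) false
        (Nat.beq v 0) : Bool) = true := h
      rw [dec_succ]
      cases h0 : Nat.beq v 0 with
      | true => simp [h0] at h'
      | false =>
        simp only [h0, band_iff] at h'
        rw [← ih h'.2.2, ← eqM_sound h'.2.1, ← Nat.eq_of_beq_eq_true h'.1]

/-- Check of one row: `R` is the code of the entry as a function of the second root. -/
noncomputable def rowChk (fuel : ℕ) (R : ℕ → ℕ) (m : ℕ) : ℕ → List (ℕ × Array (ℕ × ℤ)) → Bool :=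
  Nat.rec (fun _ row => List.rec true (fun _ _ _ => false) row) (fun _ ih s row =>
    Bool.rec
      (List.rec false (fun e rest _ =>
        band (Nat.beq e.1 s) (band (eqE e.2.toList fuel (R s)) (ih (Nat.succ s) rest))) row)
      (ih (Nat.succ s) row) (Nat.beq (R s) 0)) m

theorem rowChk_sound {fuel : ℕ} {R : ℕ → ℕ} {m s : ℕ} {row : List (ℕ × Array (ℕ × ℤ))}
    (h : rowChk fuel R m s row = true) : row.map (fun e => (e.1, e.2.toList)) =
      (List.range' s m).filterMap fun s => Bool.rec (some (s, dec fuel (R s))) none (Nat.beq (R s) 0) := by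
  induction m generalizing s row with
  | zero =>
    cases row with
    | nil => rfl
    | cons e row => exact absurd h Bool.false_ne_true
  | succ m ih =>
    have h' : (Bool.rec
      (List.rec false (fun e rest _ =>
        band (Nat.beq e.1 s) (band (eqE e.2.toList fuel (R s)) (rowChk fuel R m (s + 1) rest))) row)
      (rowChk fuel R m (s + 1) row) (Nat.beq (R s) 0) : Bool) = true := h
    rw [List.range'_succ, List.filterMap_cons]
    cases h0 : Nat.beq (R s) 0 with
    | true => simp only [h0] at h'; exact ih h'
    | false =>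
      cases row with
      | nil => simp [h0] at h'
      | cons e row =>
        simp only [h0, band_iff] at h'
        rw [List.map_cons, ih h'.2.2, eqE_sound h'.2.1, Nat.eq_of_beq_eq_true h'.1]

/-- Check of all rows. -/
noncomputable def rowsChk (T : Fast) (L : List (Array (ℕ × Array (ℕ × ℤ)))) : ℕ → Bool :=
  List.rec (fun r => Nat.beq r T.n) (fun row _ ih r =>
    band (rowChk T.fuel (T.raw r) T.n 0 row.toList) (ih (Nat.succ r))) L

theorem rowsChk_sound {T : Fast} {L : List (Array (ℕ × Array (ℕ × ℤ)))} {r : ℕ} (h : rowsChk T L r = true) :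
    r + L.length = T.n ∧ L.map (fun row => row.toList.map fun e => (e.1, e.2.toList)) =
      (List.range' r L.length).map T.rowOf := by
  induction L generalizing r with
  | nil => exact ⟨Nat.eq_of_beq_eq_true h, rfl⟩
  | cons row L ih =>
    have h' : band (rowChk T.fuel (T.raw r) T.n 0 row.toList) (rowsChk T L (r + 1)) = true := h
    rw [band_iff] at h'
    obtain ⟨h1, h2⟩ := ih h'.2
    refine ⟨by rw [List.length_cons]; omega, ?_⟩
    rw [List.map_cons, List.length_cons, List.range'_succ, List.map_cons, h2, rowChk_sound h'.1, Fast.rowOf,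
      List.range_eq_range']

theorem chain_eq_of_rowsChk {D : ChevalleyDatum} {T : Fast} (h : rowsChk T D.chain.toList 0 = true) :
    D.chain.toList.map (fun row => row.toList.map fun e => (e.1, e.2.toList)) =
      (List.range T.n).map T.rowOf := by
  obtain ⟨h1, h2⟩ := rowsChk_sound h
  rw [h2, List.range_eq_range', ← h1, zero_add]

end CL.ChevM
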