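import Cfsg.Agent.Base

/-!
# Generation of the isometry group of a cubic form by elementary transformations (certificate checker)
-/

set_option linter.unusedSectionVars false

namespace CL.Cubic

open Matrix

variable {ι : Type} [DecidableEq ι] {F : Type*} [Field F]

/-- monomials `c x_a x_b x_c` -/
abbrev Mons (ι : Type) : Type := List (ι × ι × ι × ℤ)

def cub (M : Mons ι) (v : ι → F) : F := (M.map fun m => (m.2.2.2 : F) * (v m.1 * v m.2.1 * v m.2.2.1)).sum

def qd (M : Mons ι) (u w : ι → F) : F :=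
  (M.map fun m => (m.2.2.2 : F) *
    (u m.1 * u m.2.1 * w m.2.2.1 + u m.1 * w m.2.1 * u m.2.2.1 + w m.1 * u m.2.1 * u m.2.2.1)).sum

def tri (M : Mons ι) (u v w : ι → F) : F :=
  (M.map fun m => (m.2.2.2 : F) *
    (u m.1 * v m.2.1 * w m.2.2.1 + v m.1 * u m.2.1 * w m.2.2.1 + u m.1 * w m.2.1 * v m.2.2.1 +
      v m.1 * w m.2.1 * u m.2.2.1 + w m.1 * u m.2.1 * v m.2.2.1 + w m.1 * v m.2.1 * u m.2.2.1)).sum

theorem cub_add_smul (M : Mons ι) (u w : ι → F) (t : F) :
    cub M (u + t • w) = cub M u + t * qd M u w + t ^ 2 * qd M w u + t ^ 3 * cub M w := by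
  induction M with
  | nil => simp [cub, qd]
  | cons m M ih =>
    simp only [cub, qd, List.map_cons, List.sum_cons, Pi.add_apply, Pi.smul_apply, smul_eq_mul] at ih ⊢
    rw [ih]; ring

theorem qd_add (M : Mons ι) (u v w : ι → F) : qd M (u + v) w = qd M u w + qd M v w + tri M u v w := by
  induction M with
  | nil => simp [tri, qd]
  | cons m M ih =>
    simp only [tri, qd, List.map_cons, List.sum_cons, Pi.add_apply] at ih ⊢
    rw [ih]; ring

theorem tri_swap23 (M : Mons ι) (u v w : ι → F) : tri M u v w = tri M u w v := by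
  unfold tri
  congr 1
  apply List.map_congr_left
  intro m _
  ring

theorem tri_add2 (M : Mons ι) (u v v' w : ι → F) : tri M u (v + v') w = tri M u v w + tri M u v' w := by
  induction M with
  | nil => simp [tri]
  | cons m M ih =>
    simp only [tri, List.map_cons, List.sum_cons, Pi.add_apply] at ih ⊢
    rw [ih]; ring

theorem tri_smul2 (M : Mons ι) (u v w : ι → F) (c : F) : tri M u (c • v) w = c * tri M u v w := by
  induction M with
  | nil => simp [tri]
  | cons m M ih =>
    simp only [tri, List.map_cons, List.sum_cons, Pi.smul_apply, smul_eq_mul] at ih ⊢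
    rw [ih]; ring

/-- basis vector -/
abbrev bv (a : ι) : ι → F := Pi.single a 1

def opt {α : Type} (c : Prop) [Decidable c] (x : α) : List α := if c then [x] else []

theorem sum_opt {α : Type} (c : Prop) [Decidable c] (x : α) (f : α → F) :
    ((opt c x).map f).sum = if c then f x else 0 := by
  unfold opt; split_ifs <;> simp

/-- the linear form `tri (e μ) (e μ') ·` -/
def triL (M : Mons ι) (μ μ' : ι) : List (ℤ × ι) :=
  M.flatMap fun m =>
    opt (m.1 = μ ∧ m.2.1 = μ') (m.2.2.2, m.2.2.1) ++ opt (m.1 = μ' ∧ m.2.1 = μ) (m.2.2.2, m.2.2.1) ++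
    opt (m.1 = μ ∧ m.2.2.1 = μ') (m.2.2.2, m.2.1) ++ opt (m.1 = μ' ∧ m.2.2.1 = μ) (m.2.2.2, m.2.1) ++
    opt (m.2.1 = μ ∧ m.2.2.1 = μ') (m.2.2.2, m.1) ++ opt (m.2.1 = μ' ∧ m.2.2.1 = μ) (m.2.2.2, m.1)

theorem tri_bv (M : Mons ι) (μ μ' : ι) (w : ι → F) :
    tri M (bv μ) (bv μ') w = ((triL M μ μ').map fun e => (e.1 : F) * w e.2).sum := by
  induction M with
  | nil => simp [tri, triL]
  | cons m M ih =>
    simp only [tri, triL, List.map_cons, List.sum_cons, List.flatMap_cons, List.map_append, List.sum_append,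
      sum_opt] at ih ⊢
    rw [ih]
    congr 1
    simp only [Pi.single_apply, ite_and]
    split_ifs <;> ring

/-- the quadratic form `qd · (e κ)` -/
def qL (M : Mons ι) (κ : ι) : List (ℤ × ι × ι) :=
  M.flatMap fun m => opt (m.2.2.1 = κ) (m.2.2.2, m.1, m.2.1) ++ opt (m.2.1 = κ) (m.2.2.2, m.1, m.2.2.1) ++
    opt (m.1 = κ) (m.2.2.2, m.2.1, m.2.2.1)

theorem qd_bv (M : Mons ι) (u : ι → F) (κ : ι) :
    qd M u (bv κ) = ((qL M κ).map fun e => (e.1 : F) * (u e.2.1 * u e.2.2)).sum := by
  induction M with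
  | nil => simp [qd, qL]
  | cons m M ih =>
    simp only [qd, qL, List.map_cons, List.sum_cons, List.flatMap_cons, List.map_append, List.sum_append,
      sum_opt] at ih ⊢
    rw [ih]
    congr 1
    simp only [Pi.single_apply]
    split_ifs <;> ring

def sqfree (M : Mons ι) : Bool := M.all fun m => decide (m.1 ≠ m.2.1 ∧ m.1 ≠ m.2.2.1 ∧ m.2.1 ≠ m.2.2.1)

theorem qd_bv_left {M : Mons ι} (h : sqfree M = true) (ν : ι) (w : ι → F) : qd M (bv ν) w = 0 := by
  apply List.sum_eq_zero
  intro x hx
  obtain ⟨m, hm, rfl⟩ := List.mem_map.mp hx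
  have := List.all_eq_true.mp h m hm
  simp only [decide_eq_true_eq] at this
  obtain ⟨h1, h2, h3⟩ := this
  simp only [Pi.single_apply]
  split_ifs <;> simp_all

/-- elementary transformations: entries `(row, col, c)` -/
abbrev Rts (ι : Type) : Type := ℕ → List (ι × ι × ℤ)

/-- `v + t X_r v` -/
def xact (R : Rts ι) (r : ℕ) (t : F) (v : ι → F) : ι → F :=
  v + ((R r).map fun e => ((e.2.2 : F) * t * v e.2.1) • (bv e.1 : ι → F)).sum

def rowL (R : Rts ι) (r : ℕ) (κ : ι) : List (ι × ℤ) := (R r).flatMap fun e => opt (e.1 = κ) e.2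

theorem xact_apply (R : Rts ι) (r : ℕ) (t : F) (v : ι → F) (κ : ι) :
    xact R r t v κ = v κ + ((rowL R r κ).map fun e => (e.2 : F) * t * v e.1).sum := by
  unfold xact rowL
  rw [Pi.add_apply]
  congr 1
  induction R r with
  | nil => simp
  | cons e l ih =>
    simp only [List.map_cons, List.sum_cons, List.flatMap_cons, List.map_append, List.sum_append, Pi.add_apply, ih,
      sum_opt, Pi.smul_apply, Pi.single_apply, smul_eq_mul]
    congr 1
    by_cases h : e.1 = κ
    · simp [h]
    · simp [h, Ne.symm h]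

def fixes (R : Rts ι) (r : ℕ) (S : List ι) : Bool := (R r).all fun e => decide (e.2.1 ∉ S)

theorem xact_fix {R : Rts ι} {r : ℕ} {S : List ι} (h : fixes R r S = true) (t : F) {μ : ι} (hμ : μ ∈ S) :
    xact R r t (bv μ) = bv μ := by
  rw [xact, add_eq_left]
  apply List.sum_eq_zero
  intro x hx
  obtain ⟨e, he, rfl⟩ := List.mem_map.mp hx
  have := List.all_eq_true.mp h e he
  simp only [decide_eq_true_eq] at this
  have h2 : e.2.1 ≠ μ := fun h => this (h ▸ hμ)
  simp [h2]

/-! ### invariance check -/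

def addK {κ : Type} [DecidableEq κ] (a : κ × ℤ) : List (κ × ℤ) → List (κ × ℤ)
  | [] => [a]
  | b :: l => if a.1 = b.1 then (if a.2 + b.2 = 0 then l else (b.1, a.2 + b.2) :: l) else b :: addK a l

def addKs {κ : Type} [DecidableEq κ] : List (κ × ℤ) → List (κ × ℤ) → List (κ × ℤ)
  | [], acc => acc
  | a :: l, acc => addKs l (addK a acc)

theorem sum_addK {κ : Type} [DecidableEq κ] (φ : κ → F) (a : κ × ℤ) (l : List (κ × ℤ)) :
    ((addK a l).map fun b => (b.2 : F) * φ b.1).sum = (a.2 : F) * φ a.1 + (l.map fun b => (b.2 : F) * φ b.1).sum := by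
  induction l with
  | nil => simp [addK]
  | cons b l ih =>
    unfold addK
    split_ifs with h1 h2
    · have : (a.2 : F) + b.2 = 0 := by exact_mod_cast congrArg (Int.cast : ℤ → F) h2
      simp only [List.map_cons, List.sum_cons, h1]
      linear_combination -φ b.1 * this
    · simp only [List.map_cons, List.sum_cons, h1]; push_cast; ring
    · simp only [List.map_cons, List.sum_cons, ih]; ring

theorem sum_addKs {κ : Type} [DecidableEq κ] (φ : κ → F) (l acc : List (κ × ℤ)) :
    ((addKs l acc).map fun b => (b.2 : F) * φ b.1).sum =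
      (l.map fun b => (b.2 : F) * φ b.1).sum + (acc.map fun b => (b.2 : F) * φ b.1).sum := by
  induction l generalizing acc with
  | nil => simp [addKs]
  | cons a l ih => rw [addKs, ih, sum_addK, List.map_cons, List.sum_cons]; ring

def sort3 (enc : ι → ℕ) (a b c : ι) : ι × ι × ι :=
  if enc a ≤ enc b then (if enc b ≤ enc c then (a, b, c) else if enc a ≤ enc c then (a, c, b) else (c, a, b))
  else (if enc a ≤ enc c then (b, a, c) else if enc b ≤ enc c then (b, c, a) else (c, b, a))

theorem prod_sort3 (enc : ι → ℕ) (a b c : ι) (v : ι → F) :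
    v (sort3 enc a b c).1 * v (sort3 enc a b c).2.1 * v (sort3 enc a b c).2.2 = v a * v b * v c := by
  unfold sort3; split_ifs <;> ring

/-- the terms `(variable, power of t, coefficient)` of the coordinate `κ` of `xact r t v` -/
def subL (R : Rts ι) (r : ℕ) (κ : ι) : List (ι × ℕ × ℤ) := (κ, 0, 1) :: (rowL R r κ).map fun e => (e.1, 1, e.2)

theorem xact_apply' (R : Rts ι) (r : ℕ) (t : F) (v : ι → F) (κ : ι) :
    xact R r t v κ = ((subL R r κ).map fun e => (e.2.2 : F) * t ^ e.2.1 * v e.1).sum := by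
  rw [xact_apply, subL]; simp [Function.comp_def]

def invTerms (enc : ι → ℕ) (M : Mons ι) (R : Rts ι) (r : ℕ) : List (((ι × ι × ι) × ℕ) × ℤ) :=
  M.flatMap fun m => ((sort3 enc m.1 m.2.1 m.2.2.1, 0), -m.2.2.2) ::
    (subL R r m.1).flatMap fun a => (subL R r m.2.1).flatMap fun b => (subL R r m.2.2.1).map fun c =>
      ((sort3 enc a.1 b.1 c.1, a.2.1 + b.2.1 + c.2.1), m.2.2.2 * (a.2.2 * b.2.2 * c.2.2))

def invOK (enc : ι → ℕ) (M : Mons ι) (R : Rts ι) (r : ℕ) : Bool := (addKs (invTerms enc M R r) []).isEmpty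

theorem sum_flatMap' {α β : Type} (l : List α) (f : α → List β) (g : β → F) :
    ((l.flatMap f).map g).sum = (l.map fun a => ((f a).map g).sum).sum := by
  induction l with
  | nil => simp
  | cons a l ih => simp [ih]

theorem cub_xact {enc : ι → ℕ} {M : Mons ι} {R : Rts ι} {r : ℕ} (h : invOK enc M R r = true) (t : F) (v : ι → F) :
    cub M (xact R r t v) = cub M v := by
  have h1 := sum_addKs (fun k : (ι × ι × ι) × ℕ => t ^ k.2 * (v k.1.1 * v k.1.2.1 * v k.1.2.2)) (invTerms enc M R r) []
  rw [invOK, List.isEmpty_iff] at h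
  rw [h, List.map_nil, List.sum_nil, add_zero, invTerms, sum_flatMap'] at h1
  rw [← sub_eq_zero, h1, cub, cub, sub_eq_add_neg, List.sum_neg, List.map_map, ← List.sum_map_add]
  congr 1
  apply List.map_congr_left
  intro m _
  simp only [List.map_cons, List.sum_cons, prod_sort3, sum_flatMap', List.map_map, Function.comp_def, xact_apply']
  rw [add_comm]
  congr 1
  · push_cast; ring
  · rw [mul_assoc, ← List.sum_map_mul_right, ← List.sum_map_mul_left]
    congr 1
    apply List.map_congr_left
    intro a _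
    rw [← List.sum_map_mul_right, ← List.sum_map_mul_left, ← List.sum_map_mul_left]
    congr 1
    apply List.map_congr_left
    intro b _
    rw [← List.sum_map_mul_left, ← List.sum_map_mul_left, ← List.sum_map_mul_left]
    congr 1
    apply List.map_congr_left
    intro c _
    push_cast; ring

end CL.Cubic
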