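import Cfsg.Agent.Base
import Cfsg.Agent.Chev.Cubic
import Cfsg.Agent.Auto.ACL_Cubic_fixes_92f6bb

/-!
# Generation of the isometry group of a cubic form: the steps of the elimination
-/

set_option linter.unusedSectionVars false

namespace CL.Cubic

open Matrix

variable {ι : Type} [Fintype ι] [DecidableEq ι] {F : Type*} [Field F] {M : Mons ι}

variable (F M) in
/-- the isometry group of the cubic form -/
abbrev Γ : Subgroup (GL ι F) := Cfsg.Lie.funStab F (cub M)

/-- The action of an isometry on vectors. -/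
def act (g : Γ F M) : (ι → F) →ₗ[F] (ι → F) := Matrix.mulVecLin ((g : GL ι F) : Matrix ι ι F)

theorem act_apply (g : Γ F M) (v : ι → F) : act g v = ((g : GL ι F) : Matrix ι ι F) *ᵥ v := rfl

theorem act_mul (g h : Γ F M) (v : ι → F) : act (g * h) v = act g (act h v) := by
  simp [act_apply, Matrix.mulVec_mulVec]

theorem act_one (v : ι → F) : act (1 : Γ F M) v = v := by simp [act_apply]

theorem act_act_inv (g : Γ F M) (v : ι → F) : act g (act g⁻¹ v) = v := by
  rw [← act_mul, mul_inv_cancel, act_one]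

theorem act_inv_act (g : Γ F M) (v : ι → F) : act g⁻¹ (act g v) = v := by
  rw [← act_mul, inv_mul_cancel, act_one]

theorem cub_act (g : Γ F M) (v : ι → F) : cub M (act g v) = cub M v := g.2 v

theorem qd_act (hF : ∃ a : F, a ≠ 0 ∧ a ≠ 1) (g : Γ F M) (u w : ι → F) :
    qd M (act g u) (act g w) = qd M u w := by
  obtain ⟨a, h0, h1⟩ := hF
  have e : ∀ t : F, t * qd M (act g u) (act g w) + t ^ 2 * qd M (act g w) (act g u) =
      t * qd M u w + t ^ 2 * qd M w u := by
    intro t
    have := cub_act g (u + t • w)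
    rw [map_add, map_smul, cub_add_smul, cub_add_smul, cub_act, cub_act] at this
    linear_combination this
  have : a * (1 - a) * (qd M (act g u) (act g w) - qd M u w) = 0 := by
    linear_combination e a - a ^ 2 * e 1
  rcases mul_eq_zero.mp this with h | h
  · rcases mul_eq_zero.mp h with h | h
    · exact absurd h h0
    · exact absurd (sub_eq_zero.mp h).symm h1
  · exact sub_eq_zero.mp h

theorem tri_act (hF : ∃ a : F, a ≠ 0 ∧ a ≠ 1) (g : Γ F M) (u v w : ι → F) :
    tri M (act g u) (act g v) (act g w) = tri M u v w := by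
  have := qd_act hF g (u + v) w
  rw [map_add, qd_add, qd_add, qd_act hF, qd_act hF] at this
  linear_combination this

/-- `g` fixes the basis vectors in `S` -/
def Fix (S : List ι) (g : Γ F M) : Prop := ∀ μ ∈ S, act g (bv μ) = bv μ

theorem Fix.mul {S : List ι} {g h : Γ F M} (hg : Fix S g) (hh : Fix S h) : Fix S (g * h) :=
  fun μ hμ => by rw [act_mul, hh μ hμ, hg μ hμ]

theorem Fix.one (S : List ι) : Fix S (1 : Γ F M) := fun _ _ => act_one _

def isPM (l : List (ℤ × ι)) (κ : ι) : Bool := decide (l = [(1, κ)]) || decide (l = [(-1, κ)])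

theorem isPM_spec {l : List (ℤ × ι)} {κ : ι} (h : isPM l κ = true) :
    ∃ c : F, c * c = 1 ∧ ∀ w : ι → F, (l.map fun e => (e.1 : F) * w e.2).sum = c * w κ := by
  simp only [isPM, Bool.or_eq_true, decide_eq_true_eq] at h
  rcases h with rfl | rfl
  · exact ⟨1, by simp, by simp⟩
  · exact ⟨-1, by simp, by simp⟩

def rowPM (R : Rts ι) (r : ℕ) (κ κ' : ι) : Bool :=
  decide (rowL R r κ' = [(κ, 1)]) || decide (rowL R r κ' = [(κ, -1)])

theorem rowPM_spec {R : Rts ι} {r : ℕ} {κ κ' : ι} (h : rowPM R r κ κ' = true) :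
    ∃ c : F, c * c = 1 ∧ ∀ (t : F) (v : ι → F), xact R r t v κ' = v κ' + c * t * v κ := by
  simp only [rowPM, Bool.or_eq_true, decide_eq_true_eq] at h
  rcases h with h | h
  · exact ⟨1, by simp, fun t v => by simp [xact_apply, h]⟩
  · exact ⟨-1, by simp, fun t v => by simp [xact_apply, h]⟩

theorem ne_zero_of_sq {c : F} (h : c * c = 1) : c ≠ 0 := by
  rintro rfl
  simp at h

def zOK (M : Mons ι) (S : List ι) (ν : ι) (z : ι × ι × ι) : Bool :=
  isPM (triL M z.2.1 z.2.2) z.1 && decide (z.2.1 ∈ S) &&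
    ((triL M z.2.1 ν).isEmpty || (decide (z.2.2 ∈ S) && decide (z.1 ≠ ν)))

theorem zOK_spec (hF : ∃ a : F, a ≠ 0 ∧ a ≠ 1) {S : List ι} {ν : ι} {z : ι × ι × ι} (h : zOK M S ν z = true)
    {g : Γ F M} (hg : Fix S g) : act g (bv ν) z.1 = 0 := by
  simp only [zOK, Bool.and_eq_true, Bool.or_eq_true, decide_eq_true_eq, List.isEmpty_iff] at h
  obtain ⟨⟨h1, h2⟩, h3⟩ := h
  obtain ⟨c, hc, hl⟩ := isPM_spec (F := F) h1
  have e := tri_bv M z.2.1 z.2.2 (act g (bv ν))
  rw [hl] at e
  have : c * act g (bv ν) z.1 = 0 := by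
    rw [← e]
    rcases h3 with h3 | ⟨h3, h4⟩
    · rw [tri_swap23, ← hg _ h2, ← act_act_inv g (bv z.2.2), tri_act hF, tri_bv, h3]; simp
    · rw [← hg _ h2, ← hg _ h3, tri_act hF, tri_bv, hl]; simp [h4]
  exact (mul_eq_zero.mp this).resolve_left (ne_zero_of_sq hc)

def oneOK (M : Mons ι) (S : List ι) (ν : ι) (o : ι × ι) : Bool :=
  decide (o.1 ∈ S) && decide (o.2 ∈ S) && isPM (triL M o.1 o.2) ν

theorem oneOK_spec (hF : ∃ a : F, a ≠ 0 ∧ a ≠ 1) {S : List ι} {ν : ι} {o : ι × ι} (h : oneOK M S ν o = true)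
    {g : Γ F M} (hg : Fix S g) : act g (bv ν) ν = 1 := by
  simp only [oneOK, Bool.and_eq_true, decide_eq_true_eq] at h
  obtain ⟨⟨h1, h2⟩, h3⟩ := h
  obtain ⟨c, hc, hl⟩ := isPM_spec (F := F) h3
  have e := tri_bv M o.1 o.2 (act g (bv ν))
  rw [hl, ← hg _ h1, ← hg _ h2, tri_act hF, tri_bv, hl] at e
  simp only [Pi.single_eq_same] at e
  exact (mul_left_cancel₀ (ne_zero_of_sq hc) e).symm

section WithH

variable {R : Rts ι} {H : Subgroup (Γ F M)} (hH : ∀ r t, ∃ h ∈ H, ∀ v, act h v = xact R r t v)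

variable (H) in
/-- from a non-zero coordinate `κ` one can reach coordinate one at `ν` -/
def Good (S : List ι) (ν κ : ι) : Prop :=
  ∀ g : Γ F M, Fix S g → act g (bv ν) κ ≠ 0 → ∃ h ∈ H, Fix S h ∧ act (h * g) (bv ν) ν = 1

include hH in
theorem exists_x {r : ℕ} {S : List ι} (hr : fixes R r S = true) (t : F) :
    ∃ h ∈ H, Fix S h ∧ ∀ v, act h v = xact R r t v := by
  obtain ⟨h, h1, h2⟩ := hH r t
  exact ⟨h, h1, fun μ hμ => by rw [h2, xact_fix hr t hμ], h2⟩

include hH in
theorem good_base {S : List ι} {ν τ : ι} {r : ℕ} (h1 : rowPM R r τ ν = true) (h2 : fixes R r S = true) :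
    Good H S ν τ := by
  intro g _ hτ
  obtain ⟨c, hc, hx⟩ := rowPM_spec (F := F) h1
  obtain ⟨h, hh, hf, he⟩ := exists_x hH h2 (c * (1 - act g (bv ν) ν) * (act g (bv ν) τ)⁻¹)
  refine ⟨h, hh, hf, ?_⟩
  rw [act_mul, he, hx]
  field_simp
  linear_combination (1 - act g (bv ν) ν) * hc

include hH in
theorem good_step {S : List ι} {ν κ κ' : ι} {r : ℕ} (h0 : Good H S ν κ') (h1 : rowPM R r κ κ' = true)
    (h2 : fixes R r S = true) : Good H S ν κ := by
  intro g hg hκ
  by_cases hκ' : act g (bv ν) κ' = 0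
  swap
  · exact h0 g hg hκ'
  obtain ⟨c, hc, hx⟩ := rowPM_spec (F := F) h1
  obtain ⟨h, hh, hf, he⟩ := exists_x hH h2 1
  obtain ⟨k, hk, kf, ke⟩ := h0 (h * g) (hf.mul hg) (by
    rw [act_mul, he, hx, hκ', zero_add, mul_one]; exact mul_ne_zero (ne_zero_of_sq hc) hκ)
  exact ⟨k * h, H.mul_mem hk hh, kf.mul hf, by rwa [mul_assoc]⟩

def pathOK (R : Rts ι) (S : List ι) (cover : List ι → Bool) : List ι → List (ι × ℕ × ι) → Bool
  | good, [] => cover good
  | good, e :: p => decide (e.2.2 ∈ good) && rowPM R e.2.1 e.1 e.2.2 && fixes R e.2.1 S &&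
      pathOK R S cover (e.1 :: good) p

include hH in
theorem pathOK_spec {S : List ι} {ν : ι} {cover : List ι → Bool} (p : List (ι × ℕ × ι)) (good : List ι)
    (hg : ∀ κ ∈ good, Good H S ν κ) (h : pathOK R S cover good p = true) :
    ∃ good', cover good' = true ∧ ∀ κ ∈ good', Good H S ν κ := by
  induction p generalizing good with
  | nil => exact ⟨good, h, hg⟩
  | cons e p ih =>
    simp only [pathOK, Bool.and_eq_true, decide_eq_true_eq] at h
    obtain ⟨⟨⟨h1, h2⟩, h3⟩, h4⟩ := h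
    refine ih (e.1 :: good) ?_ h4
    intro κ hκ
    rcases List.mem_cons.mp hκ with rfl | hκ
    · exact good_step hH (hg _ h1) h2 h3
    · exact hg κ hκ

def killOK (R : Rts ι) (S : List ι) (ν : ι) : List ι → List (ι × ℕ) → Bool
  | _, [] => true
  | done, e :: l => rowPM R e.2 ν e.1 && fixes R e.2 S && (rowL R e.2 ν).isEmpty &&
      (done.all fun κ => (rowL R e.2 κ).isEmpty) && killOK R S ν (e.1 :: done) l

include hH in
theorem killOK_spec {S : List ι} {ν : ι} (l : List (ι × ℕ)) (done : List ι) (h : killOK R S ν done l = true)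
    (g : Γ F M) (h1 : act g (bv ν) ν = 1) (h2 : ∀ κ ∈ done, act g (bv ν) κ = 0) :
    ∃ h ∈ H, Fix S h ∧ act (h * g) (bv ν) ν = 1 ∧ (∀ κ ∈ done, act (h * g) (bv ν) κ = 0) ∧
      ∀ κ ∈ l.map Prod.fst, act (h * g) (bv ν) κ = 0 := by
  induction l generalizing done g with
  | nil => exact ⟨1, H.one_mem, Fix.one S, by rwa [one_mul], by rwa [one_mul], by simp⟩
  | cons e l ih =>
    simp only [killOK, Bool.and_eq_true, List.isEmpty_iff, List.all_eq_true] at h
    obtain ⟨⟨⟨⟨k1, k2⟩, k3⟩, k4⟩, k5⟩ := h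
    obtain ⟨c, hc, hx⟩ := rowPM_spec (F := F) k1
    obtain ⟨h, hh, hf, he⟩ := exists_x hH k2 (-c * act g (bv ν) e.1)
    obtain ⟨k, hk, kf, ke1, ke2, ke3⟩ := ih (e.1 :: done) k5 (h * g)
      (by rw [act_mul, he, xact_apply, k3, h1]; simp) (by
        intro κ hκ
        rcases List.mem_cons.mp hκ with rfl | hκ
        · rw [act_mul, he, hx, h1]; linear_combination (-act g (bv ν) e.1) * hc
        · rw [act_mul, he, xact_apply, k4 κ hκ, h2 κ hκ]; simp)
    refine ⟨k * h, H.mul_mem hk hh, kf.mul hf, by rwa [mul_assoc], ?_, ?_⟩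
    · intro κ hκ
      rw [mul_assoc]; exact ke2 κ (List.mem_cons_of_mem _ hκ)
    · intro κ hκ
      rw [mul_assoc]
      rcases List.mem_cons.mp hκ with rfl | hκ
      · exact ke2 _ List.mem_cons_self
      · exact ke3 κ hκ

def finOK (M : Mons ι) (Z : List ι) (ν : ι) (e : ι × ι) : Bool :=
  let l := (qL M e.2).filter fun a => decide (a.2.1 ∉ Z) && decide (a.2.2 ∉ Z)
  decide (l = [(1, ν, e.1)]) || decide (l = [(-1, ν, e.1)]) || decide (l = [(1, e.1, ν)]) ||
    decide (l = [(-1, e.1, ν)])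

theorem finOK_spec (hF : ∃ a : F, a ≠ 0 ∧ a ≠ 1) (hM : sqfree M = true) {Z : List ι} {ν : ι} {e : ι × ι}
    (h : finOK M Z ν e = true) {g : Γ F M} (h1 : act g (bv ν) ν = 1) (h2 : ∀ κ ∈ Z, act g (bv ν) κ = 0) :
    act g (bv ν) e.1 = 0 := by
  have e0 : qd M (act g (bv ν)) (bv e.2) = 0 := by
    rw [← act_act_inv g (bv e.2), qd_act hF, qd_bv_left hM]
  rw [qd_bv] at e0
  have e1 : ∀ l : List (ℤ × ι × ι), (l.map fun a => (a.1 : F) * (act g (bv ν) a.2.1 * act g (bv ν) a.2.2)).sum =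
      ((l.filter fun a => decide (a.2.1 ∉ Z) && decide (a.2.2 ∉ Z)).map
        fun a => (a.1 : F) * (act g (bv ν) a.2.1 * act g (bv ν) a.2.2)).sum := by
    intro l
    induction l with
    | nil => simp
    | cons a l ih =>
      rw [List.filter_cons]
      split_ifs with ha
      · simp only [List.map_cons, List.sum_cons, ih]
      · simp only [Bool.and_eq_true, decide_eq_true_eq, not_and_or, not_not] at ha
        rw [List.map_cons, List.sum_cons, ih]
        rcases ha with ha | ha <;> simp [h2 _ ha]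
  rw [e1] at e0
  simp only [finOK, Bool.or_eq_true, decide_eq_true_eq] at h
  rcases h with ((h | h) | h) | h <;> (rw [h] at e0; simpa [h1] using e0)

/-- certificate for one step of the elimination -/
structure Step (ι : Type) where
  ν : ι
  zs : List (ι × ι × ι)
  one : Option (ι × ι)
  nz : Option (ι × ι)
  base : ι × ℕ
  path : List (ι × ℕ × ι)
  kill : List (ι × ℕ)
  fin : List (ι × ι)

def nzOK (M : Mons ι) (S : List ι) (ν : ι) : Option (ι × ι) → Bool
  | none => true
  | some o => decide (o.1 ∈ S) && isPM (triL M o.1 ν) o.2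

def nzOut (M : Mons ι) (κ : ι) : Option (ι × ι) → Bool
  | none => false
  | some o => (triL M o.1 κ).isEmpty

def reachOK (M : Mons ι) (R : Rts ι) (all S : List ι) (s : Step ι) : Bool :=
  match s.one with
  | some o => oneOK M S s.ν o
  | none => nzOK M S s.ν s.nz && rowPM R s.base.2 s.base.1 s.ν && fixes R s.base.2 S &&
      pathOK R S (fun good => all.all fun κ => decide (κ ∈ s.zs.map Prod.fst) || decide (κ ∈ good) ||
        nzOut M κ s.nz) [s.base.1] s.path

def stepOK (M : Mons ι) (R : Rts ι) (all S : List ι) (s : Step ι) : Bool :=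
  s.zs.all (zOK M S s.ν) && reachOK M R all S s && killOK R S s.ν [] s.kill &&
    s.fin.all (finOK M (s.zs.map Prod.fst ++ s.kill.map Prod.fst) s.ν) &&
    all.all fun κ => decide (κ = s.ν) || decide (κ ∈ s.zs.map Prod.fst ++ s.kill.map Prod.fst) ||
      decide (κ ∈ s.fin.map Prod.fst)

theorem exists_ne_zero (hF : ∃ a : F, a ≠ 0 ∧ a ≠ 1) {S : List ι} {ν : ι} {o : Option (ι × ι)}
    (h : nzOK M S ν o = true) {g : Γ F M} (hg : Fix S g) : ∃ κ, act g (bv ν) κ ≠ 0 ∧ nzOut M κ o = false := by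
  by_contra hc
  push Not at hc
  rcases o with _ | o
  · have : act g (bv ν) = 0 := funext fun κ => by_contra fun h => hc κ h rfl
    have h2 := act_inv_act g (bv ν)
    rw [this, map_zero] at h2
    have := congrFun h2 ν
    simp at this
  · simp only [nzOK, Bool.and_eq_true, decide_eq_true_eq] at h
    obtain ⟨c, hc1, hl⟩ := isPM_spec (F := F) h.2
    have e : tri M (bv o.1) (act g (bv ν)) (act g (bv o.2)) = c := by
      rw [← hg _ h.1, tri_act hF, tri_bv, hl]; simp
    have e2 : ∀ (s : Finset ι) (w : ι → F),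
        tri M (bv o.1) (∑ κ ∈ s, act g (bv ν) κ • (bv κ : ι → F)) w = 0 := by
      intro s w
      induction s using Finset.induction_on with
      | empty => simpa using tri_smul2 M (bv o.1) 0 w 0
      | insert κ s hκ ih =>
        rw [Finset.sum_insert hκ, tri_add2, ih, tri_smul2, add_zero]
        by_cases h0 : act g (bv ν) κ = 0
        · rw [h0, zero_mul]
        · have := hc κ h0
          simp only [nzOut, ne_eq, Bool.not_eq_false, List.isEmpty_iff] at this
          rw [tri_bv, this]; simp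
    have e3 : act g (bv ν) = ∑ κ, act g (bv ν) κ • (bv κ : ι → F) := by
      ext x; simp [Finset.sum_apply, Pi.single_apply]
    rw [e3, e2] at e
    exact ne_zero_of_sq hc1 e.symm

include hH in
theorem stepOK_spec (hF : ∃ a : F, a ≠ 0 ∧ a ≠ 1) (hM : sqfree M = true) {all S : List ι} (hall : ∀ x, x ∈ all)
    {s : Step ι} (h : stepOK M R all S s = true) (g : Γ F M) (hg : Fix S g) :
    ∃ h ∈ H, Fix S h ∧ act (h * g) (bv s.ν) = bv s.ν := by
  simp only [stepOK, Bool.and_eq_true, List.all_eq_true, Bool.or_eq_true, decide_eq_true_eq] at h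
  obtain ⟨⟨⟨⟨h1, h2⟩, h3⟩, h4⟩, h5⟩ := h
  have hz : ∀ g : Γ F M, Fix S g → ∀ κ ∈ s.zs.map Prod.fst, act g (bv s.ν) κ = 0 := by
    intro g hg κ hκ
    obtain ⟨z, hz, rfl⟩ := List.mem_map.mp hκ
    exact zOK_spec hF (h1 z hz) hg
  obtain ⟨k, hk, kf, k1⟩ : ∃ h ∈ H, Fix S h ∧ act (h * g) (bv s.ν) s.ν = 1 := by
    unfold reachOK at h2
    split at h2
    · exact ⟨1, H.one_mem, Fix.one S, by rw [one_mul]; exact oneOK_spec hF h2 hg⟩
    · simp only [Bool.and_eq_true] at h2
      obtain ⟨⟨⟨j1, j2⟩, j3⟩, j4⟩ := h2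
      obtain ⟨good, hc, hgood⟩ := pathOK_spec hH (ν := s.ν) s.path [s.base.1]
        (fun κ hκ => by rw [List.mem_singleton.mp hκ]; exact good_base hH j2 j3) j4
      obtain ⟨κ, hκ1, hκ2⟩ := exists_ne_zero hF j1 hg
      have := List.all_eq_true.mp hc κ (hall κ)
      simp only [Bool.or_eq_true, decide_eq_true_eq, hκ2, Bool.false_eq_true, or_false] at this
      rcases this with h | h
      · exact absurd (hz g hg κ h) hκ1
      · exact hgood κ h g hg hκ1
  obtain ⟨l, hl, lf, l1, -, l2⟩ := killOK_spec hH s.kill [] h3 (k * g) k1 (by simp)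
  refine ⟨l * k, H.mul_mem hl hk, lf.mul kf, ?_⟩
  rw [mul_assoc]
  have hZ : ∀ κ ∈ s.zs.map Prod.fst ++ s.kill.map Prod.fst, act (l * (k * g)) (bv s.ν) κ = 0 := by
    intro κ hκ
    rcases List.mem_append.mp hκ with hκ | hκ
    · exact hz _ (lf.mul (kf.mul hg)) κ hκ
    · exact l2 κ hκ
  ext κ
  by_cases hκ : κ = s.ν
  · rw [hκ, l1]; simp
  rw [show (bv s.ν : ι → F) κ = 0 from Pi.single_eq_of_ne hκ _]
  rcases h5 κ (hall κ) with (h | h) | h
  · exact absurd h hκ
  · exact hZ κ h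
  · obtain ⟨e, he, rfl⟩ := List.mem_map.mp h
    exact finOK_spec hF hM (h4 e he) l1 hZ

def stepsOK (M : Mons ι) (R : Rts ι) (all : List ι) : List ι → List (Step ι) → Bool
  | S, [] => all.all fun κ => decide (κ ∈ S)
  | S, s :: l => stepOK M R all S s && stepsOK M R all (s.ν :: S) l

include hH in
theorem stepsOK_spec (hF : ∃ a : F, a ≠ 0 ∧ a ≠ 1) (hM : sqfree M = true) {all : List ι} (hall : ∀ x, x ∈ all)
    (l : List (Step ι)) (S : List ι) (h : stepsOK M R all S l = true) (g : Γ F M) (hg : Fix S g) : g ∈ H := by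
  induction l generalizing S g with
  | nil =>
    have : g = 1 := by
      apply Subtype.ext
      apply Units.ext
      ext x y
      have h1 := List.all_eq_true.mp h y (hall y)
      have := congrFun (hg y (of_decide_eq_true h1)) x
      rw [act_apply, Matrix.mulVec_single_one] at this
      simpa [Matrix.one_apply, Pi.single_apply] using this
    rw [this]; exact H.one_mem
  | cons s l ih =>
    simp only [stepsOK, Bool.and_eq_true] at h
    obtain ⟨k, hk, kf, k1⟩ := stepOK_spec hH hF hM hall h.1 g hg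
    have := ih (s.ν :: S) h.2 (k * g) (by
      intro μ hμ
      rcases List.mem_cons.mp hμ with rfl | hμ
      · exact k1
      · exact (kf.mul hg) μ hμ)
    simpa using H.mul_mem (H.inv_mem hk) this

end WithH

end CL.Cubic
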