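import Cfsg.Agent.Base

/-!
# The commutator subgroup of a split orthogonal group over an arbitrary field

For a quadratic form with a hyperbolic basis (plus possibly one more vector of norm one) and at least two hyperbolic
pairs, the commutator subgroup of the isometry group lies in the subgroup generated by the Eichler transformations
attached to pairs of basis vectors.
-/

set_option linter.unusedSectionVars false

namespace CL.SplitO

open Matrix QuadraticMap

variable {ι : Type} [Fintype ι] [DecidableEq ι] {F : Type*} [Field F] (Q : QuadraticForm F (ι → F))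

/-- The isometry group. -/
abbrev O : Subgroup (GL ι F) := Cfsg.isometryGroup F (⇑Q)

variable {Q}

/-- The action of an isometry on vectors. -/
def act (g : O Q) : (ι → F) →ₗ[F] (ι → F) := Matrix.mulVecLin ((g : GL ι F) : Matrix ι ι F)

theorem act_apply (g : O Q) (v : ι → F) : act g v = ((g : GL ι F) : Matrix ι ι F) *ᵥ v := rfl

theorem act_mul (g h : O Q) (v : ι → F) : act (g * h) v = act g (act h v) := by
  simp [act_apply, Matrix.mulVec_mulVec]

theorem act_one (v : ι → F) : act (1 : O Q) v = v := by simp [act_apply]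

theorem act_inv_act (g : O Q) (v : ι → F) : act g⁻¹ (act g v) = v := by
  rw [← act_mul, inv_mul_cancel, act_one]

theorem act_act_inv (g : O Q) (v : ι → F) : act g (act g⁻¹ v) = v := by
  rw [← act_mul, mul_inv_cancel, act_one]

theorem act_ext {g h : O Q} (H : ∀ v, act g v = act h v) : g = h := by
  apply Subtype.ext
  apply Units.ext
  apply Matrix.toLin'.injective
  ext1
  rw [LinearMap.ext_iff]
  intro v
  exact H _

theorem Q_act (g : O Q) (v : ι → F) : Q (act g v) = Q v := g.2 v v

theorem polar_act (g : O Q) (v w : ι → F) : polar Q (act g v) (act g w) = polar Q v w := by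
  simp only [polar, ← map_add, Q_act]

/-- An isometry from a linear map with a right inverse. -/
noncomputable def mk (φ ψ : (ι → F) →ₗ[F] (ι → F)) (h : ∀ v, φ (ψ v) = v) (hQ : ∀ v, Q (φ v) = Q v) : O Q :=
  ⟨⟨LinearMap.toMatrix' φ, LinearMap.toMatrix' ψ, by
      rw [← LinearMap.toMatrix'_comp, show φ.comp ψ = LinearMap.id from LinearMap.ext h, LinearMap.toMatrix'_id],
      by
      rw [mul_eq_one_comm, ← LinearMap.toMatrix'_comp, show φ.comp ψ = LinearMap.id from LinearMap.ext h,
        LinearMap.toMatrix'_id]⟩, by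
    intro u _
    change Q (LinearMap.toMatrix' φ *ᵥ u) = Q u
    rw [LinearMap.toMatrix'_mulVec, hQ]⟩

theorem act_mk (φ ψ : (ι → F) →ₗ[F] (ι → F)) (h : ∀ v, φ (ψ v) = v) (hQ : ∀ v, Q (φ v) = Q v) (v : ι → F) :
    act (mk φ ψ h hQ) v = φ v := LinearMap.toMatrix'_mulVec φ v

theorem Q_add (x y : ι → F) : Q (x + y) = Q x + Q y + polar Q x y := by
  simp only [polar]; ring

theorem Q_sub (x y : ι → F) : Q (x - y) = Q x + Q y - polar Q x y := by
  rw [sub_eq_add_neg, Q_add, QuadraticMap.map_neg, polar_neg_right]; ring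

theorem Q_smul (c : F) (x : ι → F) : Q (c • x) = c * c * Q x := by
  rw [QuadraticMap.map_smul, smul_eq_mul]

theorem polar_self' (x : ι → F) : polar Q x x = 2 * Q x := by
  rw [polar_self, two_smul, two_mul]

variable (Q) in
/-- The linear map underlying the Eichler transformation. -/
def eichL (u v : ι → F) : (ι → F) →ₗ[F] (ι → F) where
  toFun x := x + polar Q x v • u - polar Q x u • v - (Q v * polar Q x u) • u
  map_add' x y := by simp only [polar_add_left, add_smul, mul_add]; abel
  map_smul' c x := by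
    simp only [polar_smul_left, smul_eq_mul, RingHom.id_apply, smul_sub, smul_add, smul_smul]
    congr 2; ring

theorem eichL_apply (u v x : ι → F) :
    eichL Q u v x = x + polar Q x v • u - polar Q x u • v - (Q v * polar Q x u) • u := rfl

theorem eichL_eichL {u v w : ι → F} (hu : Q u = 0) (hv : polar Q u v = 0) (hw : polar Q u w = 0) (x : ι → F) :
    eichL Q u v (eichL Q u w x) = eichL Q u (v + w) x := by
  simp only [eichL_apply, polar_add_left, polar_sub_left, polar_smul_left, polar_add_right, polar_self', hu, hv,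
    polar_comm Q w u, hw, Q_add, polar_comm Q w v, smul_eq_mul]
  module

theorem eichL_zero (u x : ι → F) : eichL Q u 0 x = x := by simp [eichL_apply]

theorem Q_eichL {u v : ι → F} (hu : Q u = 0) (hv : polar Q u v = 0) (x : ι → F) : Q (eichL Q u v x) = Q x := by
  simp only [eichL_apply, Q_sub, Q_add, Q_smul, polar_add_left, polar_sub_left, polar_smul_left, polar_smul_right,
    polar_self', hu, hv, polar_comm Q v u, smul_eq_mul]
  ring

open Classical in
variable (Q) in
/-- The Eichler transformation attached to a singular vector `u` and a vector `v` orthogonal to it. -/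
noncomputable def eich (u v : ι → F) : O Q :=
  if h : Q u = 0 ∧ polar Q u v = 0 then
    mk (eichL Q u v) (eichL Q u (-v))
      (fun x => by rw [eichL_eichL h.1 h.2 (by rw [polar_neg_right, h.2, neg_zero]), add_neg_cancel, eichL_zero])
      (Q_eichL h.1 h.2)
  else 1

theorem act_eich {u v : ι → F} (hu : Q u = 0) (hv : polar Q u v = 0) (x : ι → F) :
    act (eich Q u v) x = x + polar Q x v • u - polar Q x u • v - (Q v * polar Q x u) • u := by
  rw [eich, dif_pos ⟨hu, hv⟩, act_mk, eichL_apply]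

theorem eich_add {u v w : ι → F} (hu : Q u = 0) (hv : polar Q u v = 0) (hw : polar Q u w = 0) :
    eich Q u (v + w) = eich Q u v * eich Q u w := by
  apply act_ext
  intro x
  rw [act_mul, act_eich hu hv, act_eich hu hw, act_eich hu (by rw [polar_add_right, hv, hw, add_zero]),
    ← eichL_apply, ← eichL_apply, ← eichL_apply, eichL_eichL hu hv hw]

theorem eich_zero {u : ι → F} (hu : Q u = 0) : eich Q u 0 = 1 := by
  apply act_ext
  intro x
  rw [act_eich hu (by simp), act_one, ← eichL_apply, eichL_zero]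

theorem eich_conj (g : O Q) {u v : ι → F} (hu : Q u = 0) (hv : polar Q u v = 0) :
    g * eich Q u v * g⁻¹ = eich Q (act g u) (act g v) := by
  apply act_ext
  intro x
  rw [act_mul, act_mul, act_eich hu hv, act_eich (by rw [Q_act, hu]) (by rw [polar_act, hv])]
  simp only [map_sub, map_add, map_smul, act_act_inv, Q_act]
  rw [← polar_act g (act g⁻¹ x) v, ← polar_act g (act g⁻¹ x) u, act_act_inv]

theorem eich_smul (c : F) {u v : ι → F} (hu : Q u = 0) (hv : polar Q u v = 0) :
    eich Q (c • u) v = eich Q u (c • v) := by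
  apply act_ext
  intro x
  rw [act_eich (by rw [Q_smul, hu, mul_zero]) (by rw [polar_smul_left, hv, smul_zero]),
    act_eich hu (by rw [polar_smul_right, hv, smul_zero])]
  simp only [polar_smul_right, Q_smul, smul_eq_mul]
  module

variable (Q) in
/-- The linear map underlying a reflection. -/
def reflL (v : ι → F) : (ι → F) →ₗ[F] (ι → F) where
  toFun x := x - ((Q v)⁻¹ * polar Q x v) • v
  map_add' x y := by simp only [polar_add_left, add_smul, mul_add]; abel
  map_smul' c x := by
    simp only [polar_smul_left, smul_eq_mul, RingHom.id_apply, smul_sub, smul_smul]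
    congr 2; ring

theorem reflL_apply (v x : ι → F) : reflL Q v x = x - ((Q v)⁻¹ * polar Q x v) • v := rfl

variable (Q) in
/-- The reflection in `v` (the identity when `Q v = 0`). -/
noncomputable def refl (v : ι → F) : O Q :=
  mk (reflL Q v) (reflL Q v)
    (fun x => by
      by_cases h : Q v = 0
      · simp [reflL_apply, h]
      simp only [reflL_apply, polar_sub_left, polar_smul_left, polar_self', smul_eq_mul]
      have : (Q v)⁻¹ * (polar Q x v - (Q v)⁻¹ * polar Q x v * (2 * Q v)) = -((Q v)⁻¹ * polar Q x v) := by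
        field_simp; ring
      rw [this]; module)
    (fun x => by
      by_cases h : Q v = 0
      · simp [reflL_apply, h]
      simp only [reflL_apply, Q_sub, Q_smul, polar_smul_right, smul_eq_mul]
      field_simp; ring)

theorem act_refl (v x : ι → F) : act (refl Q v) x = x - ((Q v)⁻¹ * polar Q x v) • v := by
  rw [refl, act_mk, reflL_apply]

theorem act_refl_of_orth {v x : ι → F} (h : polar Q x v = 0) : act (refl Q v) x = x := by
  rw [act_refl, h, mul_zero, zero_smul, sub_zero]

theorem refl_conj (g : O Q) (v : ι → F) : g * refl Q v * g⁻¹ = refl Q (act g v) := by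
  apply act_ext
  intro x
  rw [act_mul, act_mul, act_refl, act_refl]
  simp only [map_sub, map_smul, act_act_inv, Q_act]
  rw [← polar_act g (act g⁻¹ x) v, act_act_inv]

theorem refl_comm {v w : ι → F} (h : polar Q v w = 0) : refl Q v * refl Q w = refl Q w * refl Q v := by
  have := refl_conj (refl Q w) v
  rw [act_refl_of_orth h] at this
  exact (mul_inv_eq_iff_eq_mul.mp this).symm

/-- A hyperbolic basis `b` with pairing `σ`, and one more vector `z` (zero, or of norm one). -/
structure Split (Q : QuadraticForm F (ι → F)) (κ : Type) [Fintype κ] [DecidableEq κ] where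
  b : κ → ι → F
  σ : κ → κ
  z : ι → F
  σσ : ∀ a, σ (σ a) = a
  σne : ∀ a, σ a ≠ a
  Qb : ∀ a, Q (b a) = 0
  polar_b : ∀ a c, polar Q (b a) (b c) = if c = σ a then 1 else 0
  polar_z : ∀ a, polar Q (b a) z = 0
  Qz : z = 0 ∨ Q z = 1
  span : ∀ v, ∃ γ : F, v = ∑ a, polar Q v (b (σ a)) • b a + γ • z

namespace Split

variable {κ : Type} [Fintype κ] [DecidableEq κ] (P : Split Q κ)

theorem polar_same (a : κ) : polar Q (P.b a) (P.b a) = 0 := by rw [P.polar_b, if_neg (P.σne a).symm]

theorem polar_σ (a : κ) : polar Q (P.b a) (P.b (P.σ a)) = 1 := by rw [P.polar_b, if_pos rfl]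

theorem polar_σ' (a : κ) : polar Q (P.b (P.σ a)) (P.b a) = 1 := by rw [polar_comm, P.polar_σ]

/-- The subgroup generated by the Eichler transformations based at the basis vectors. -/
def E : Subgroup (O Q) :=
  Subgroup.closure {g | ∃ a v, polar Q (P.b a) v = 0 ∧ polar Q (P.b (P.σ a)) v = 0 ∧ g = eich Q (P.b a) v}

theorem eich_mem {a : κ} {v : ι → F} (h1 : polar Q (P.b a) v = 0) (h2 : polar Q (P.b (P.σ a)) v = 0) :
    eich Q (P.b a) v ∈ P.E := Subgroup.subset_closure ⟨a, v, h1, h2, rfl⟩

/-- The reflection interchanging the lines of a hyperbolic pair. -/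
noncomputable def rr (a : κ) (t : F) : O Q := refl Q (P.b a - t • P.b (P.σ a))

theorem Q_rr (a : κ) (t : F) : Q (P.b a - t • P.b (P.σ a)) = -t := by
  rw [Q_sub, Q_smul, P.Qb, P.Qb, polar_smul_right, P.polar_σ]; simp

theorem rr_b (a : κ) {t : F} (ht : t ≠ 0) : act (P.rr a t) (P.b a) = t • P.b (P.σ a) := by
  rw [rr, act_refl, P.Q_rr, polar_sub_right, polar_smul_right, P.polar_same, P.polar_σ]
  have : (-t)⁻¹ * (0 - t • (1 : F)) = 1 := by simp; field_simp
  rw [this]; module

theorem rr_bσ (a : κ) {t : F} (ht : t ≠ 0) : act (P.rr a t) (P.b (P.σ a)) = t⁻¹ • P.b a := by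
  rw [rr, act_refl, P.Q_rr, polar_sub_right, polar_smul_right, P.polar_same, P.polar_σ']
  have : (-t)⁻¹ * (1 - t • (0 : F)) = -t⁻¹ := by simp [inv_neg]
  rw [this, neg_smul, sub_neg_eq_add, smul_sub, smul_smul, inv_mul_cancel₀ ht]; module

theorem rr_orth (a : κ) (t : F) {v : ι → F} (h1 : polar Q (P.b a) v = 0) (h2 : polar Q (P.b (P.σ a)) v = 0) :
    act (P.rr a t) v = v := by
  apply act_refl_of_orth
  rw [polar_comm, polar_sub_left, polar_smul_left, h1, h2]; simp

theorem rr_other (a : κ) (t : F) {c : κ} (h1 : c ≠ a) (h2 : c ≠ P.σ a) : act (P.rr a t) (P.b c) = P.b c := by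
  apply P.rr_orth
  · rw [P.polar_b, if_neg h2]
  · rw [P.polar_b, P.σσ, if_neg h1]

/-- The reflections used to generate the isometry group over `E`. -/
def R : Set (O Q) := {g | (∃ a t, t ≠ 0 ∧ g = P.rr a t) ∨ g = refl Q P.z}

theorem conj_mem_E_of_fix (g : O Q) {a : κ} {v : ι → F} (h1 : polar Q (P.b a) v = 0)
    (h2 : polar Q (P.b (P.σ a)) v = 0) (g1 : act g (P.b a) = P.b a) (g2 : act g (P.b (P.σ a)) = P.b (P.σ a)) :
    g * eich Q (P.b a) v * g⁻¹ ∈ P.E := by
  rw [eich_conj g (P.Qb a) h1, g1]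
  apply P.eich_mem
  · rw [← g1, polar_act, h1]
  · rw [← g2, polar_act, h2]

theorem R_conj_mem {g : O Q} (hg : g ∈ P.R) {x : O Q} (hx : x ∈ P.E) : g * x * g⁻¹ ∈ P.E := by
  induction hx using Subgroup.closure_induction with
  | mem x hx =>
    obtain ⟨a, v, h1, h2, rfl⟩ := hx
    rcases hg with ⟨c, t, ht, rfl⟩ | rfl
    · by_cases hca : a = c
      · subst hca
        rw [eich_conj _ (P.Qb a) h1, P.rr_b a ht, P.rr_orth a t h1 h2, eich_smul _ (P.Qb _) h2]
        apply P.eich_mem
        · rw [polar_smul_right, h2, smul_zero]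
        · rw [P.σσ, polar_smul_right, h1, smul_zero]
      by_cases hca' : a = P.σ c
      · subst hca'
        rw [P.σσ] at h2
        rw [eich_conj _ (P.Qb _) h1, P.rr_bσ c ht, P.rr_orth c t h2 h1, eich_smul _ (P.Qb _) h2]
        apply P.eich_mem
        · rw [polar_smul_right, h2, smul_zero]
        · rw [polar_smul_right, h1, smul_zero]
      apply P.conj_mem_E_of_fix _ h1 h2 (P.rr_other c t hca hca')
      apply P.rr_other
      · intro h; apply hca'; rw [← h, P.σσ]
      · intro h; apply hca; rw [← P.σσ a, h, P.σσ]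
    · exact P.conj_mem_E_of_fix _ h1 h2 (act_refl_of_orth (P.polar_z _)) (act_refl_of_orth (P.polar_z _))
  | one => simp
  | mul x y _ _ hx hy =>
    have : g * (x * y) * g⁻¹ = (g * x * g⁻¹) * (g * y * g⁻¹) := by group
    rw [this]; exact P.E.mul_mem hx hy
  | inv x _ hx =>
    have : g * x⁻¹ * g⁻¹ = (g * x * g⁻¹)⁻¹ := by group
    rw [this]; exact P.E.inv_mem hx

/-- The subgroup generated by `E` and the reflections. -/
def M : Subgroup (O Q) := P.E ⊔ Subgroup.closure P.R

theorem rr_mem (a : κ) {t : F} (ht : t ≠ 0) : P.rr a t ∈ P.M :=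
  Subgroup.mem_sup_right (Subgroup.subset_closure (Or.inl ⟨a, t, ht, rfl⟩))

theorem exists_reduce (S : Finset κ) (a : κ) (ha : ∀ c ∈ S, c ≠ a ∧ c ≠ P.σ a) (v : ι → F) (hv : Q v = 0)
    (hS : ∀ c ∈ S, polar Q (P.b c) v = 0) (hα : polar Q (P.b (P.σ a)) v ≠ 0) :
    ∃ h ∈ P.E, (∀ c ∈ S, act h (P.b c) = P.b c) ∧ act h (P.b (P.σ a)) = P.b (P.σ a) ∧
      act h v = polar Q (P.b (P.σ a)) v • P.b a := by
  set α := polar Q (P.b (P.σ a)) v with hαd
  set β := polar Q (P.b a) v with hβd
  set u := α⁻¹ • (v - α • P.b a - β • P.b (P.σ a)) with hu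
  have u1 : polar Q (P.b (P.σ a)) u = 0 := by
    rw [hu, polar_smul_right, polar_sub_right, polar_sub_right, polar_smul_right, polar_smul_right, P.polar_same,
      P.polar_σ', ← hαd]; simp
  have u2 : polar Q (P.b a) u = 0 := by
    rw [hu, polar_smul_right, polar_sub_right, polar_sub_right, polar_smul_right, polar_smul_right, P.polar_same,
      P.polar_σ, ← hβd]; simp
  refine ⟨eich Q (P.b (P.σ a)) u, P.eich_mem u1 (by rw [P.σσ]; exact u2), ?_, ?_, ?_⟩
  · intro c hc
    have e1 : polar Q (P.b c) (P.b (P.σ a)) = 0 := by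
      rw [polar_comm, P.polar_b, P.σσ, if_neg (ha c hc).1]
    have e2 : polar Q (P.b c) (P.b a) = 0 := by
      rw [polar_comm, P.polar_b, if_neg (ha c hc).2]
    have e3 : polar Q (P.b c) u = 0 := by
      rw [hu, polar_smul_right, polar_sub_right, polar_sub_right, polar_smul_right, polar_smul_right, e1, e2,
        hS c hc]; simp
    rw [act_eich (P.Qb _) u1, e1, e3]; simp
  · rw [act_eich (P.Qb _) u1, u1, P.polar_same]; simp
  · have hQ := Q_act (eich Q (P.b (P.σ a)) u) v
    have e : act (eich Q (P.b (P.σ a)) u) v =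
        α • P.b a + (β + polar Q v u - Q u * α) • P.b (P.σ a) := by
      rw [act_eich (P.Qb _) u1, polar_comm Q v (P.b (P.σ a)), ← hαd]
      nth_rewrite 2 [hu]
      rw [smul_smul, mul_inv_cancel₀ hα]
      module
    generalize β + polar Q v u - Q u * α = δ at e
    rw [e, hv, Q_add, Q_smul, Q_smul, P.Qb, P.Qb, polar_smul_left, polar_smul_right, P.polar_σ] at hQ
    have : δ = 0 := by
      simpa [hα] using hQ
    rw [e, this, zero_smul, add_zero]

theorem exists_fix (S : Finset κ) (hSσ : ∀ c ∈ S, P.σ c ∈ S) (a : κ) (haS : a ∉ S) (g : O Q)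
    (hg : ∀ c ∈ S, act g (P.b c) = P.b c) :
    ∃ h ∈ P.M, (∀ c ∈ S, act h (P.b c) = P.b c) ∧ act (h * g) (P.b a) = P.b a := by
  have ha : ∀ c ∈ S, c ≠ a ∧ c ≠ P.σ a := fun c hc =>
    ⟨fun h => haS (h ▸ hc), fun h => haS (by have := hSσ c hc; rwa [h, P.σσ] at this)⟩
  have key : ∀ g : O Q, (∀ c ∈ S, act g (P.b c) = P.b c) → polar Q (P.b (P.σ a)) (act g (P.b a)) ≠ 0 →
      ∃ h ∈ P.M, (∀ c ∈ S, act h (P.b c) = P.b c) ∧ act (h * g) (P.b a) = P.b a := by
    intro g hg hα
    obtain ⟨h, hE, h1, -, h3⟩ := P.exists_reduce S a ha (act g (P.b a)) (by rw [Q_act, P.Qb])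
      (fun c hc => by rw [← hg c hc, polar_act, polar_comm, P.polar_b, if_neg (ha c hc).2]) hα
    refine ⟨P.rr a 1 * P.rr a (polar Q (P.b (P.σ a)) (act g (P.b a)))⁻¹ * h,
      P.M.mul_mem (P.M.mul_mem (P.rr_mem a one_ne_zero) (P.rr_mem a (inv_ne_zero hα))) (Subgroup.mem_sup_left hE),
      fun c hc => ?_, ?_⟩
    · rw [act_mul, act_mul, h1 c hc, P.rr_other a _ (ha c hc).1 (ha c hc).2, P.rr_other a _ (ha c hc).1 (ha c hc).2]
    · rw [act_mul, act_mul, act_mul, h3, map_smul, P.rr_b a (inv_ne_zero hα), smul_smul, mul_inv_cancel₀ hα,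
        one_smul, P.rr_bσ a one_ne_zero, inv_one, one_smul]
  have step : ∀ k ∈ P.M, (∀ c ∈ S, act k (P.b c) = P.b c) → polar Q (P.b (P.σ a)) (act (k * g) (P.b a)) ≠ 0 →
      ∃ h ∈ P.M, (∀ c ∈ S, act h (P.b c) = P.b c) ∧ act (h * g) (P.b a) = P.b a := by
    intro k hk hkS hα
    obtain ⟨h, hM, h1, h2⟩ := key (k * g) (fun c hc => by rw [act_mul, hg c hc, hkS c hc]) hα
    exact ⟨h * k, P.M.mul_mem hM hk, fun c hc => by rw [act_mul, hkS c hc, h1 c hc], by rwa [mul_assoc]⟩
  by_cases hα : polar Q (P.b (P.σ a)) (act g (P.b a)) = 0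
  swap
  · exact key g hg hα
  by_cases hβ : polar Q (P.b a) (act g (P.b a)) = 0
  swap
  · apply step (P.rr a 1) (P.rr_mem a one_ne_zero) (fun c hc => P.rr_other a _ (ha c hc).1 (ha c hc).2)
    have := P.rr_b a (t := (1 : F)) one_ne_zero
    rw [one_smul] at this
    rwa [act_mul, ← this, polar_act]
  set w := act g (P.b (P.σ a)) with hw
  set u := w - polar Q (P.b (P.σ a)) w • P.b a - polar Q (P.b a) w • P.b (P.σ a) with hu
  have u1 : polar Q (P.b (P.σ a)) u = 0 := by
    rw [hu, polar_sub_right, polar_sub_right, polar_smul_right, polar_smul_right, P.polar_same, P.polar_σ']; simp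
  have u2 : polar Q (P.b a) u = 0 := by
    rw [hu, polar_sub_right, polar_sub_right, polar_smul_right, polar_smul_right, P.polar_same, P.polar_σ]; simp
  apply step (eich Q (P.b a) u) (Subgroup.mem_sup_left (P.eich_mem u2 u1))
  · intro c hc
    have e1 : polar Q (P.b c) (P.b (P.σ a)) = 0 := by
      rw [polar_comm, P.polar_b, P.σσ, if_neg (ha c hc).1]
    have e2 : polar Q (P.b c) (P.b a) = 0 := by
      rw [polar_comm, P.polar_b, if_neg (ha c hc).2]
    have e3 : polar Q (P.b c) u = 0 := by
      rw [hu, polar_sub_right, polar_sub_right, polar_smul_right, polar_smul_right, e1, e2, hw, ← hg c hc,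
        polar_act, e1]; simp
    rw [act_eich (P.Qb _) u2, e2, e3]; simp
  · have e3 : polar Q (act g (P.b a)) u = 1 := by
      rw [hu, polar_sub_right, polar_sub_right, polar_smul_right, polar_smul_right, polar_comm Q _ (P.b a), hβ,
        polar_comm Q _ (P.b (P.σ a)), hα, hw, polar_act, P.polar_σ]; simp
    rw [act_mul, act_eich (P.Qb _) u2, e3, polar_comm Q _ (P.b a), hβ]
    simp [hα, P.polar_σ']

theorem mem_M_of_fix_all (g : O Q) (hg : ∀ c, act g (P.b c) = P.b c) : g ∈ P.M := by
  have hfix : ∀ h : O Q, (∀ c, act h (P.b c) = P.b c) → act h P.z = act g P.z → g = h := by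
    intro h hh hz
    apply act_ext
    intro v
    obtain ⟨γ, hv⟩ := P.span v
    rw [hv]
    simp only [map_add, map_sum, map_smul, hg, hh, hz]
  obtain ⟨γ, hγ⟩ := P.span (act g P.z)
  have e0 : ∀ a, polar Q (act g P.z) (P.b a) = 0 := fun a => by
    rw [← hg a, polar_act, polar_comm, P.polar_z]
  simp only [e0, zero_smul, Finset.sum_const_zero, zero_add] at hγ
  rcases P.Qz with hz | hz
  · rw [hfix 1 (fun c => act_one _) (by rw [hz, map_zero, map_zero])]; exact P.M.one_mem
  have hQ := Q_act g P.z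
  rw [hγ, Q_smul, hz, mul_one, mul_self_eq_one_iff] at hQ
  rcases hQ with rfl | rfl
  · rw [hfix 1 (fun c => act_one _) (by rw [act_one, hγ, one_smul])]; exact P.M.one_mem
  · rw [hfix (refl Q P.z) (fun c => act_refl_of_orth (P.polar_z c))
      (by rw [act_refl, hγ, polar_self', hz]; module)]
    exact Subgroup.mem_sup_right (Subgroup.subset_closure (Or.inr rfl))

theorem M_eq_top : P.M = ⊤ := by
  have key : ∀ (n : ℕ) (S : Finset κ), (∀ c ∈ S, P.σ c ∈ S) → Sᶜ.card ≤ n → ∀ g : O Q,
      (∀ c ∈ S, act g (P.b c) = P.b c) → g ∈ P.M := by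
    intro n
    induction n with
    | zero =>
      intro S _ hS g hg
      have : S = Finset.univ := by simpa using hS
      exact P.mem_M_of_fix_all g fun c => hg c (this ▸ Finset.mem_univ c)
    | succ n ih =>
      intro S hSσ hS g hg
      by_cases hSu : S = Finset.univ
      · exact P.mem_M_of_fix_all g fun c => hg c (hSu ▸ Finset.mem_univ c)
      obtain ⟨a, haS⟩ : ∃ a, a ∉ S := by
        by_contra h
        push Not at h
        exact hSu (Finset.eq_univ_of_forall h)
      have ha : ∀ c ∈ S, c ≠ P.σ a ∧ c ≠ P.σ (P.σ a) := fun c hc =>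
        ⟨fun h => haS (by have := hSσ c hc; rwa [h, P.σσ] at this), fun h => haS (by rwa [h, P.σσ] at hc)⟩
      obtain ⟨h, hM, h1, h2⟩ := P.exists_fix S hSσ a haS g hg
      have e1 : polar Q (P.b (P.σ (P.σ a))) (act (h * g) (P.b (P.σ a))) = 1 := by
        rw [P.σσ, ← h2, polar_act, P.polar_σ]
      obtain ⟨k, kE, k1, k2, k3⟩ := P.exists_reduce S (P.σ a) ha (act (h * g) (P.b (P.σ a))) (by rw [Q_act, P.Qb])
        (fun c hc => by
          have : act (h * g) (P.b c) = P.b c := by rw [act_mul, hg c hc, h1 c hc]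
          rw [← this, polar_act, polar_comm, P.polar_b, if_neg (ha c hc).2]) (by rw [e1]; exact one_ne_zero)
      rw [e1, one_smul] at k3
      rw [P.σσ] at k2
      have hmem : k * (h * g) ∈ P.M := by
        apply ih (insert a (insert (P.σ a) S))
        · intro c hc
          simp only [Finset.mem_insert] at hc ⊢
          rcases hc with rfl | rfl | hc
          · exact Or.inr (Or.inl rfl)
          · exact Or.inl (P.σσ a)
          · exact Or.inr (Or.inr (hSσ c hc))
        · have : (insert a (insert (P.σ a) S))ᶜ ⊂ Sᶜ := by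
            rw [Finset.ssubset_iff_of_subset (Finset.compl_subset_compl.mpr
              ((Finset.subset_insert _ _).trans (Finset.subset_insert _ _)))]
            exact ⟨a, by simpa using haS, by simp⟩
          have := Finset.card_lt_card this
          omega
        · intro c hc
          simp only [Finset.mem_insert] at hc
          rcases hc with rfl | rfl | hc
          · rw [act_mul, h2, k2]
          · rw [act_mul, k3]
          · rw [act_mul, act_mul, hg c hc, h1 c hc, k1 c hc]
      have : g = h⁻¹ * (k⁻¹ * (k * (h * g))) := by group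
      rw [this]
      exact P.M.mul_mem (P.M.inv_mem hM) (P.M.mul_mem (P.M.inv_mem (Subgroup.mem_sup_left kE)) hmem)
  rw [eq_top_iff]
  intro g _
  exact key _ ∅ (by simp) le_rfl g (by simp)

theorem refl_mul_self (v : ι → F) : refl Q v * refl Q v = 1 := by
  apply act_ext
  intro x
  rw [act_mul, act_one, act_refl, act_refl]
  by_cases h : Q v = 0
  · simp [h]
  simp only [polar_sub_left, polar_smul_left, polar_self', smul_eq_mul]
  have : (Q v)⁻¹ * (polar Q x v - (Q v)⁻¹ * polar Q x v * (2 * Q v)) = -((Q v)⁻¹ * polar Q x v) := by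
    field_simp; ring
  rw [this]; module

theorem R_inv {g : O Q} (hg : g ∈ P.R) : g⁻¹ = g := by
  rw [inv_eq_iff_mul_eq_one]
  rcases hg with ⟨c, t, -, rfl⟩ | rfl <;> exact refl_mul_self _

theorem E_normal : P.E.Normal := by
  rw [← Subgroup.normalizer_eq_top_iff, eq_top_iff, ← P.M_eq_top]
  refine sup_le Subgroup.le_normalizer ((Subgroup.closure_le _).mpr fun g hg => ?_)
  refine Subgroup.mem_normalizer_iff.mpr fun x => ⟨P.R_conj_mem hg, fun hx => ?_⟩
  have := P.R_conj_mem hg hx
  rw [P.R_inv hg] at this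
  have e : g * (g * x * g) * g = x := by
    have h2 : g * g = 1 := by nth_rewrite 1 [← P.R_inv hg]; exact inv_mul_cancel g
    calc g * (g * x * g) * g = (g * g) * x * (g * g) := by group
      _ = x := by rw [h2]; simp
  rwa [e] at this

theorem rr_congr {a c : κ} (h1 : c ≠ a) (h2 : c ≠ P.σ a) (t : F) :
    ∃ g ∈ P.E, g * P.rr a t * g⁻¹ = P.rr c t := by
  have h3 : P.σ c ≠ a := fun h => h2 (by rw [← h, P.σσ])
  have h4 : P.σ c ≠ P.σ a := fun h => h1 (by rw [← P.σσ c, h, P.σσ])
  have e1 : polar Q (P.b a) (P.b c) = 0 := by rw [P.polar_b, if_neg h2]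
  have e2 : polar Q (P.b a) (P.b (P.σ c)) = 0 := by rw [P.polar_b, if_neg h4]
  have e3 : polar Q (P.b (P.σ a)) (P.b c) = 0 := by rw [P.polar_b, P.σσ, if_neg h1]
  have e4 : polar Q (P.b (P.σ a)) (P.b (P.σ c)) = 0 := by rw [P.polar_b, P.σσ, if_neg h3]
  have u1 : polar Q (P.b (P.σ a)) (-(P.b c - t • P.b (P.σ c))) = 0 := by simp [e3, e4]
  have u2 : polar Q (P.b a) (-(P.b c - t • P.b (P.σ c))) = 0 := by simp [e1, e2]
  have w1 : polar Q (P.b a) (-P.b (P.σ c)) = 0 := by simp [e2]
  have w2 : polar Q (P.b (P.σ a)) (-P.b (P.σ c)) = 0 := by simp [e4]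
  refine ⟨eich Q (P.b a) (-P.b (P.σ c)) * eich Q (P.b (P.σ a)) (-(P.b c - t • P.b (P.σ c))),
    P.E.mul_mem (P.eich_mem w1 w2) (P.eich_mem u1 (by rw [P.σσ]; exact u2)), ?_⟩
  rw [rr, refl_conj, rr]
  congr 1
  have s1 : act (eich Q (P.b (P.σ a)) (-(P.b c - t • P.b (P.σ c)))) (P.b a - t • P.b (P.σ a)) =
      P.b a + (P.b c - t • P.b (P.σ c)) := by
    rw [act_eich (P.Qb _) u1, polar_sub_left, polar_smul_left, u1, u2, QuadraticMap.map_neg, P.Q_rr,
      polar_sub_left, polar_smul_left, P.polar_same, P.polar_σ]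
    simp only [smul_eq_mul]
    module
  have s2 : polar Q (P.b a + (P.b c - t • P.b (P.σ c))) (P.b a) = 0 := by
    rw [polar_comm]; simp [e1, e2, P.polar_same]
  have s3 : polar Q (P.b a + (P.b c - t • P.b (P.σ c))) (-P.b (P.σ c)) = -1 := by
    simp [e2, P.polar_same, P.polar_σ]
  rw [act_mul, s1, act_eich (P.Qb _) w1, s2, s3]
  module

theorem commutator_le (h2 : ∀ a, ∃ c, c ≠ a ∧ c ≠ P.σ a) : commutator (O Q) ≤ P.E := by
  have := P.E_normal
  have hc : ∀ g ∈ P.R, ∀ h ∈ P.R, (QuotientGroup.mk' P.E) g * (QuotientGroup.mk' P.E) h =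
      (QuotientGroup.mk' P.E) h * (QuotientGroup.mk' P.E) g := by
    have horth : ∀ a t, P.rr a t * refl Q P.z = refl Q P.z * P.rr a t := fun a t =>
      refl_comm (by rw [polar_sub_left, polar_smul_left, P.polar_z, P.polar_z]; simp)
    have horth2 : ∀ a c s t, c ≠ a → c ≠ P.σ a → P.rr a s * P.rr c t = P.rr c t * P.rr a s := by
      intro a c s t h1 h2
      have h3 : P.σ c ≠ a := fun h => h2 (by rw [← h, P.σσ])
      have h4 : P.σ c ≠ P.σ a := fun h => h1 (by rw [← P.σσ c, h, P.σσ])
      apply refl_comm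
      simp only [polar_sub_left, polar_sub_right, polar_smul_left, polar_smul_right, P.polar_b, P.σσ, if_neg h1,
        if_neg h2, if_neg h3, if_neg h4]
      simp
    rintro g (⟨a, s, -, rfl⟩ | rfl) h (⟨c, t, -, rfl⟩ | rfl)
    · by_cases hca : c ≠ a ∧ c ≠ P.σ a
      · rw [← map_mul, ← map_mul, horth2 a c s t hca.1 hca.2]
      obtain ⟨d, hd1, hd2⟩ := h2 a
      obtain ⟨k, kE, hk⟩ := P.rr_congr hd1 hd2 s
      have hk1 : (QuotientGroup.mk' P.E) k = 1 := (QuotientGroup.eq_one_iff k).mpr kE
      have : (QuotientGroup.mk' P.E) (P.rr a s) = (QuotientGroup.mk' P.E) (P.rr d s) := by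
        rw [← hk, map_mul, map_mul, map_inv, hk1]; simp
      rw [this, ← map_mul, ← map_mul, horth2 d c s t]
      · intro h; subst h; exact hca ⟨hd1, hd2⟩
      · intro h; subst h; apply hca
        exact ⟨fun h => hd2 (by rw [← h, P.σσ]), fun h => hd1 (by rw [← P.σσ d, h, P.σσ])⟩
    · rw [← map_mul, ← map_mul, horth]
    · rw [← map_mul, ← map_mul, horth]
    · rfl
  have htop : Subgroup.closure ((QuotientGroup.mk' P.E) '' P.R) = ⊤ := by
    rw [← MonoidHom.map_closure, eq_top_iff, ← Subgroup.map_top_of_surjective _ (QuotientGroup.mk'_surjective P.E),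
      ← P.M_eq_top, M, Subgroup.map_sup, (Subgroup.map_eq_bot_iff _).mpr (by rw [QuotientGroup.ker_mk']), bot_sup_eq]
  have hcomm : ∀ x y : O Q ⧸ P.E, x * y = y * x := by
    have hz : Subgroup.closure ((QuotientGroup.mk' P.E) '' P.R) ≤
        Subgroup.centralizer ((QuotientGroup.mk' P.E) '' P.R) := by
      rw [Subgroup.closure_le]
      rintro _ ⟨g, hg, rfl⟩ _ ⟨h, hh, rfl⟩
      exact hc h hh g hg
    have hz2 : Subgroup.closure ((QuotientGroup.mk' P.E) '' P.R) ≤ Subgroup.center _ := by
      rw [Subgroup.closure_le]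
      intro x hx
      rw [SetLike.mem_coe, Subgroup.mem_center_iff]
      intro y
      exact ((hz (htop ▸ Subgroup.mem_top y)) x hx).symm
    intro x y
    exact Subgroup.mem_center_iff.mp (hz2 (htop ▸ Subgroup.mem_top y)) x
  rw [commutator_def, Subgroup.commutator_le]
  intro g _ h _
  rw [← QuotientGroup.eq_one_iff, ← QuotientGroup.mk'_apply, map_commutatorElement,
    commutatorElement_eq_one_iff_mul_comm]
  exact hcomm _ _

/-- `E` lies in every subgroup containing the elementary Eichler transformations. -/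
theorem E_le (H : Subgroup (O Q))
    (h1 : ∀ a c (t : F), c ≠ a → c ≠ P.σ a → eich Q (P.b a) (t • P.b c) ∈ H)
    (h2 : ∀ a (t : F), eich Q (P.b a) (t • P.z) ∈ H) : P.E ≤ H := by
  rw [E, Subgroup.closure_le]
  rintro _ ⟨a, v, v1, v2, rfl⟩
  obtain ⟨γ, hv⟩ := P.span v
  have hs : ∀ s : Finset κ, polar Q (P.b a) (∑ c ∈ s, polar Q v (P.b (P.σ c)) • P.b c) = 0 ∧
      eich Q (P.b a) (∑ c ∈ s, polar Q v (P.b (P.σ c)) • P.b c) ∈ H := by
    intro s
    induction s using Finset.induction_on with
    | empty => simp [eich_zero (P.Qb a)]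
    | insert c s hc ih =>
      rw [Finset.sum_insert hc]
      have : polar Q (P.b a) (polar Q v (P.b (P.σ c)) • P.b c) = 0 ∧
          eich Q (P.b a) (polar Q v (P.b (P.σ c)) • P.b c) ∈ H := by
        by_cases hca : c = a
        · subst hca; rw [polar_comm Q v, v2]; simp [eich_zero (P.Qb c)]
        by_cases hca' : c = P.σ a
        · subst hca'; rw [P.σσ, polar_comm Q v, v1]; simp [eich_zero (P.Qb a)]
        exact ⟨by rw [polar_smul_right, P.polar_b, if_neg hca', smul_zero], h1 a c _ hca hca'⟩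
      exact ⟨by rw [polar_add_right, this.1, ih.1, add_zero],
        by rw [eich_add (P.Qb a) this.1 ih.1]; exact H.mul_mem this.2 ih.2⟩
  rw [SetLike.mem_coe, hv, eich_add (P.Qb a) (hs _).1 (by rw [polar_smul_right, P.polar_z, smul_zero])]
  exact H.mul_mem (hs _).2 (h2 a γ)

end Split

end CL.SplitO
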