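import Cfsg.Agent.Base

/-!
# Kernel checker for words in sparse matrix families

A family `ent : ℕ → List (ℕ × ℕ × ℕ × ℤ)` of entries `(row, col, k, c)` describes matrices
`xm r t = 1 + ∑ c t^k E_{row,col}`.  Words in such matrices whose arguments are Laurent polynomials in two
units `t, u` are multiplied out symbolically; two words are equal when the difference cancels.
-/

namespace CL.Rep

/-- A term `k t^i u^j E_{r,c}`. -/
structure Tm where
  r : ℕ
  c : ℕ
  i : ℤ
  j : ℤ
  k : ℤ

/-- Laurent polynomials in two variables: lists of `(i, j, k)` meaning `k t^i u^j`. -/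
abbrev Pol : Type := List (ℤ × ℤ × ℤ)

/-- Entry tables. -/
abbrev Ent : Type := ℕ → List (ℕ × ℕ × ℕ × ℤ)

def addTm (p : ℤ) (a : Tm) : List Tm → List Tm
  | [] => [a]
  | b :: l =>
    if a.r = b.r ∧ a.c = b.c ∧ a.i = b.i ∧ a.j = b.j then
      (if (a.k + b.k) % p = 0 then l else ⟨b.r, b.c, b.i, b.j, (a.k + b.k) % p⟩ :: l)
    else b :: addTm p a l

def addTm' (p : ℤ) (a : Tm) (l : List Tm) : List Tm := if a.k % p = 0 then l else addTm p a l

def addAll (p : ℤ) : List Tm → List Tm → List Tm
  | [], acc => acc
  | a :: l, acc => addAll p l (addTm' p a acc)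

def mulOne (a : Tm) : List Tm → List Tm
  | [] => []
  | b :: l => if a.c = b.r then ⟨a.r, b.c, a.i + b.i, a.j + b.j, a.k * b.k⟩ :: mulOne a l else mulOne a l

def mulAll (p : ℤ) (B : List Tm) : List Tm → List Tm → List Tm
  | [], acc => acc
  | a :: l, acc => mulAll p B l (addAll p (mulOne a B) acc)

def pmul (P Q : Pol) : Pol :=
  P.flatMap fun a => Q.map fun b => (a.1 + b.1, a.2.1 + b.2.1, a.2.2 * b.2.2)

def ppow (P : Pol) : ℕ → Pol
  | 0 => [(0, 0, 1)]
  | k + 1 => pmul P (ppow P k)

/-- The terms of `xm r P - 1`. -/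
def letter (ent : Ent) (r : ℕ) (P : Pol) : List Tm :=
  (ent r).flatMap fun e => (ppow P e.2.2.1).map fun a => ⟨e.1, e.2.1, a.1, a.2.1, e.2.2.2 * a.2.2⟩

/-- `(1 + A)(1 + B) - 1`. -/
def step (p : ℤ) (A B : List Tm) : List Tm := mulAll p B A (addAll p B A)

def evalW (p : ℤ) (ent : Ent) : List (ℕ × Pol) → List Tm → List Tm
  | [], acc => acc
  | a :: w, acc => evalW p ent w (step p acc (letter ent a.1 a.2))

def negAll (L : List Tm) : List Tm := L.map fun a => ⟨a.r, a.c, a.i, a.j, -a.k⟩

/-- The two words give the same matrix. -/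
def wordEq (p : ℤ) (ent : Ent) (w w' : List (ℕ × Pol)) : Bool :=
  (addAll p (negAll (evalW p ent w' [])) (evalW p ent w [])).isEmpty

/-- The word gives the matrix `1 + L`. -/
def wordIs (p : ℤ) (ent : Ent) (w : List (ℕ × Pol)) (L : List Tm) : Bool :=
  (addAll p (negAll L) (evalW p ent w [])).isEmpty

section Sem

variable {ι : Type*} {F : Type*} [Field F] (enc : ι → ℕ) (t u : Fˣ)

def mono (i j k : ℤ) : F := (k : F) * ((t ^ i * u ^ j : Fˣ) : F)

def pval (P : Pol) : F := (P.map fun a => mono t u a.1 a.2.1 a.2.2).sum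

def Tm.mat (a : Tm) : Matrix ι ι F :=
  Matrix.of fun x y => if a.r = enc x ∧ a.c = enc y then mono t u a.i a.j a.k else 0

def sem (L : List Tm) : Matrix ι ι F := (L.map (Tm.mat enc t u)).sum

/-- `xm r c - 1`. -/
def xm0 (ent : Ent) (r : ℕ) (c : F) : Matrix ι ι F :=
  ((ent r).map fun e => Matrix.of fun x y =>
    if e.1 = enc x ∧ e.2.1 = enc y then (e.2.2.2 : F) * c ^ e.2.2.1 else 0).sum

/-- The matrix `1 + ∑ c t^k E_{row,col}`. -/
def xm [DecidableEq ι] (ent : Ent) (r : ℕ) (c : F) : Matrix ι ι F := 1 + xm0 enc ent r c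

theorem mono_mul (i j k i' j' k' : ℤ) :
    mono t u (i + i') (j + j') (k * k') = mono t u i j k * mono t u i' j' k' := by
  simp only [mono, zpow_add, Units.val_mul, Int.cast_mul]; ring

theorem mono_add (i j k k' : ℤ) : mono t u i j (k + k') = mono t u i j k + mono t u i j k' := by
  simp only [mono, Int.cast_add]; ring

theorem mono_emod {p : ℤ} (hp : (p : F) = 0) (i j k : ℤ) : mono t u i j (k % p) = mono t u i j k := by
  simp only [mono]
  congr 1
  rw [Int.emod_def]; push_cast; rw [hp]; ring

theorem mono_zero (i j : ℤ) : mono t u i j 0 = 0 := by simp [mono]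

theorem mono_neg (i j k : ℤ) : mono t u i j (-k) = -mono t u i j k := by simp [mono]

theorem sem_nil : sem enc t u [] = 0 := rfl

theorem sem_cons (a : Tm) (L : List Tm) : sem enc t u (a :: L) = a.mat enc t u + sem enc t u L := by
  simp [sem]

theorem sem_append (L L' : List Tm) : sem enc t u (L ++ L') = sem enc t u L + sem enc t u L' := by
  simp [sem]

theorem mat_emod_zero {p : ℤ} (hp : (p : F) = 0) (a : Tm) (h : a.k % p = 0) : a.mat enc t u = 0 := by
  ext x y
  simp only [Tm.mat, Matrix.of_apply, Matrix.zero_apply]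
  rw [← mono_emod t u hp, h, mono_zero]; simp

theorem sem_addTm {p : ℤ} (hp : (p : F) = 0) (a : Tm) (L : List Tm) :
    sem enc t u (addTm p a L) = a.mat enc t u + sem enc t u L := by
  induction L with
  | nil => simp [addTm, sem]
  | cons b l ih =>
    unfold addTm
    split_ifs with h h2
    · obtain ⟨h1, h3, h4, h5⟩ := h
      rw [sem_cons, ← add_assoc]
      have : a.mat enc t u + b.mat enc t u = 0 := by
        ext x y
        simp only [Tm.mat, Matrix.add_apply, Matrix.of_apply, Matrix.zero_apply, h1, h3, h4, h5]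
        split_ifs
        · rw [← mono_add, ← mono_emod t u hp, h2, mono_zero]
        · simp
      rw [this, zero_add]
    · obtain ⟨h1, h3, h4, h5⟩ := h
      rw [sem_cons, sem_cons, ← add_assoc]
      congr 1
      ext x y
      simp only [Tm.mat, Matrix.add_apply, Matrix.of_apply, h1, h3, h4, h5]
      split_ifs
      · rw [mono_emod t u hp, mono_add]
      · simp
    · rw [sem_cons, sem_cons, ih]; abel

theorem sem_addTm' {p : ℤ} (hp : (p : F) = 0) (a : Tm) (L : List Tm) :
    sem enc t u (addTm' p a L) = a.mat enc t u + sem enc t u L := by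
  unfold addTm'
  split_ifs with h
  · rw [mat_emod_zero enc t u hp a h, zero_add]
  · exact sem_addTm enc t u hp a L

theorem sem_addAll {p : ℤ} (hp : (p : F) = 0) (L acc : List Tm) :
    sem enc t u (addAll p L acc) = sem enc t u L + sem enc t u acc := by
  induction L generalizing acc with
  | nil => simp [addAll, sem]
  | cons a l ih => rw [addAll, ih, sem_addTm' enc t u hp, sem_cons]; abel

theorem sem_negAll (L : List Tm) : sem enc t u (negAll L) = -sem enc t u L := by
  induction L with
  | nil => simp [negAll, sem]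
  | cons a l ih =>
    have : negAll (a :: l) = ⟨a.r, a.c, a.i, a.j, -a.k⟩ :: negAll l := rfl
    rw [this, sem_cons, sem_cons, ih, neg_add]
    congr 1
    ext x y
    simp only [Tm.mat, Matrix.of_apply, Matrix.neg_apply, mono_neg]
    split_ifs <;> simp

variable [Fintype ι]

theorem mat_mul (henc : Function.Injective enc) (a b : Tm) (hb : ∃ z, enc z = b.r) :
    a.mat enc t u * b.mat enc t u =
      if a.c = b.r then Tm.mat enc t u ⟨a.r, b.c, a.i + b.i, a.j + b.j, a.k * b.k⟩ else 0 := by
  obtain ⟨z, hz⟩ := hb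
  ext x y
  rw [Matrix.mul_apply, Finset.sum_eq_single z]
  · simp only [Tm.mat, Matrix.of_apply, hz]
    by_cases h1 : a.c = b.r
    · simp only [h1, and_true, true_and, if_true, Matrix.of_apply, mono_mul]
      by_cases h2 : a.r = enc x <;> by_cases h3 : b.c = enc y <;> simp [h2, h3]
    · simp [h1]
  · intro w _ hw
    have : b.r ≠ enc w := fun h => hw (henc (h.symm.trans hz.symm))
    simp [Tm.mat, this]
  · simp

theorem sem_mulOne (henc : Function.Injective enc) (a : Tm) (B : List Tm)
    (hB : ∀ b ∈ B, ∃ z, enc z = b.r) :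
    sem enc t u (mulOne a B) = a.mat enc t u * sem enc t u B := by
  induction B with
  | nil => simp [mulOne, sem]
  | cons b l ih =>
    have ih' := ih fun b hb => hB b (List.mem_cons_of_mem _ hb)
    rw [sem_cons, mul_add, mat_mul enc t u henc a b (hB b List.mem_cons_self), mulOne]
    split_ifs with h
    · rw [sem_cons, ih']
    · rw [ih', zero_add]

theorem sem_mulAll {p : ℤ} (hp : (p : F) = 0) (henc : Function.Injective enc) (B : List Tm)
    (hB : ∀ b ∈ B, ∃ z, enc z = b.r) (A acc : List Tm) :
    sem enc t u (mulAll p B A acc) = sem enc t u A * sem enc t u B + sem enc t u acc := by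
  induction A generalizing acc with
  | nil => simp [mulAll, sem]
  | cons a l ih =>
    rw [mulAll, ih, sem_addAll enc t u hp, sem_mulOne enc t u henc a B hB, sem_cons, add_mul]; abel

omit [Fintype ι] in
theorem pval_pmul (P Q : Pol) : pval t u (pmul P Q) = pval t u P * pval t u Q := by
  induction P with
  | nil => simp [pmul, pval]
  | cons a l ih =>
    have h1 : pmul (a :: l) Q = (Q.map fun b => (a.1 + b.1, a.2.1 + b.2.1, a.2.2 * b.2.2)) ++ pmul l Q := by
      simp [pmul]
    have h2 : pval t u (a :: l) = mono t u a.1 a.2.1 a.2.2 + pval t u l := by simp [pval]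
    rw [h1, h2, add_mul, ← ih]
    simp only [pval, List.map_append, List.sum_append, List.map_map]
    congr 1
    rw [← List.sum_map_mul_left]
    congr 1
    apply List.map_congr_left
    intro b _
    simp [mono_mul]

omit [Fintype ι] in
theorem pval_ppow (P : Pol) (k : ℕ) : pval t u (ppow P k) = pval t u P ^ k := by
  induction k with
  | zero => simp [ppow, pval, mono]
  | succ k ih => rw [ppow, pval_pmul, ih, pow_succ']

omit [Fintype ι] in
theorem sem_letter (ent : Ent) (r : ℕ) (P : Pol) :
    sem enc t u (letter ent r P) = xm0 enc ent r (pval t u P) := by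
  unfold letter xm0
  induction ent r with
  | nil => simp [sem]
  | cons e l ih =>
    rw [List.flatMap_cons, sem_append, ih, List.map_cons, List.sum_cons]
    congr 1
    rw [← pval_ppow]
    generalize ppow P e.2.2.1 = Q
    induction Q with
    | nil => ext x y; simp [sem, pval]
    | cons a Q ihQ =>
      rw [List.map_cons, sem_cons, ihQ]
      ext x y
      simp only [Tm.mat, Matrix.add_apply, Matrix.of_apply, pval, List.map_cons, List.sum_cons]
      split_ifs
      · simp only [mono]; push_cast; ring
      · simp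

omit [Fintype ι] in
theorem letter_valid (ent : Ent) (hent : ∀ r, ∀ e ∈ ent r, ∃ z, enc z = e.1) (r : ℕ) (P : Pol) :
    ∀ b ∈ letter ent r P, ∃ z, enc z = b.r := by
  intro b hb
  simp only [letter, List.mem_flatMap, List.mem_map] at hb
  obtain ⟨e, he, a, _, rfl⟩ := hb
  exact hent r e he

variable [DecidableEq ι]

/-- The matrix of a word whose arguments are field elements. -/
def wordM (ent : Ent) (w : List (ℕ × F)) : Matrix ι ι F := (w.map fun a => xm enc ent a.1 a.2).prod

theorem sem_evalW {p : ℤ} (hp : (p : F) = 0) (henc : Function.Injective enc) (ent : Ent)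
    (hent : ∀ r, ∀ e ∈ ent r, ∃ z, enc z = e.1) (w : List (ℕ × Pol)) (acc : List Tm) :
    1 + sem enc t u (evalW p ent w acc) =
      (1 + sem enc t u acc) * wordM enc ent (w.map fun a => (a.1, pval t u a.2)) := by
  induction w generalizing acc with
  | nil => simp [evalW, wordM]
  | cons a w ih =>
    rw [evalW, ih, step, sem_mulAll enc t u hp henc _ (letter_valid enc ent hent _ _),
      sem_addAll enc t u hp, sem_letter]
    simp only [wordM, List.map_cons, List.prod_cons, xm]
    rw [← mul_assoc]
    congr 1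
    noncomm_ring

theorem wordIs_sound {p : ℤ} (hp : (p : F) = 0) (henc : Function.Injective enc) (ent : Ent)
    (hent : ∀ r, ∀ e ∈ ent r, ∃ z, enc z = e.1) (w : List (ℕ × Pol)) (L : List Tm)
    (h : wordIs p ent w L = true) :
    wordM enc ent (w.map fun a => (a.1, pval t u a.2)) = 1 + sem enc t u L := by
  have h1 := sem_evalW enc t u hp henc ent hent w []
  rw [sem_nil, add_zero, one_mul] at h1
  rw [← h1]
  have h2 := sem_addAll enc t u hp (negAll L) (evalW p ent w [])
  rw [wordIs, List.isEmpty_iff] at h
  rw [h, sem_nil, sem_negAll] at h2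
  congr 1
  exact (neg_add_eq_zero.mp h2.symm).symm

theorem wordEq_sound {p : ℤ} (hp : (p : F) = 0) (henc : Function.Injective enc) (ent : Ent)
    (hent : ∀ r, ∀ e ∈ ent r, ∃ z, enc z = e.1) (w w' : List (ℕ × Pol))
    (h : wordEq p ent w w' = true) :
    wordM enc ent (w.map fun a => (a.1, pval t u a.2)) =
      wordM enc ent (w'.map fun a => (a.1, pval t u a.2)) := by
  rw [wordIs_sound enc t u hp henc ent hent w _ h]
  have h1 := sem_evalW enc t u hp henc ent hent w' []
  rw [sem_nil, add_zero, one_mul] at h1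
  exact h1

end Sem

end CL.Rep
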