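import Cfsg.Agent.Base
import Cfsg.Agent.Chev.RepCheck
import Cfsg.Agent.Auto.ACL_Rep_xm0_964277

/-!
# Homomorphisms out of the Steinberg group

`StRel D x`: the elements `x r t` of a group satisfy Steinberg's relations; then there is a homomorphism from
the presented group.  `repOK`: a kernel check that a sparse matrix family satisfies the relations.
-/

set_option linter.unusedSectionVars false

namespace CL.Rep

open Cfsg.Lie

section Abstract

variable {K : Type*} [Field K] {G : Type*} [Group G]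

/-- product of a word in elements `x r t` -/
def wP (x : ℕ → K → G) (w : List (ℕ × K)) : G := (w.map fun p => x p.1 p.2).prod

@[simp] theorem wP_nil (x : ℕ → K → G) : wP x [] = 1 := rfl

@[simp] theorem wP_cons (x : ℕ → K → G) (a : ℕ × K) (w : List (ℕ × K)) :
    wP x (a :: w) = x a.1 a.2 * wP x w := by simp [wP]

@[simp] theorem wP_append (x : ℕ → K → G) (w w' : List (ℕ × K)) :
    wP x (w ++ w') = wP x w * wP x w' := by simp [wP]

theorem map_wP {H : Type*} [Group H] (φ : G →* H) (x : ℕ → K → G) (w : List (ℕ × K)) :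
    φ (wP x w) = wP (fun r t => φ (x r t)) w := by
  simp [wP, map_list_prod, List.map_map, Function.comp_def]

/-- Steinberg's relations for a family `x r t` in a group (trivial out of range). -/
structure StRel (D : ChevalleyDatum) (x : ℕ → K → G) : Prop where
  out : ∀ r, D.nroots ≤ r → ∀ t, x r t = 1
  add : ∀ r < D.nroots, ∀ t u, x r t * x r u = x r (t + u)
  comm : ∀ r < D.nroots, ∀ s < D.nroots, s ≠ r → s ≠ D.neg r → ∀ t u,
    x s u * x r t = x r t * x s u * wP x (D.commWord K r s t u)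
  hmul : ∀ r < D.nroots, ∀ t u : K, t ≠ 0 → u ≠ 0 →
    wP x (D.hWord r t) * wP x (D.hWord r u) = wP x (D.hWord r (t * u))

variable (D : ChevalleyDatum)

theorem lift_stX (x : ℕ → K → G) (hout : ∀ r, D.nroots ≤ r → ∀ t, x r t = 1) (r : ℕ) (t : K) :
    FreeGroup.lift (fun a : Fin D.nroots × K => x a.1 a.2) (D.stX r t) = x r t := by
  unfold ChevalleyDatum.stX
  split_ifs with h
  · simp
  · rw [map_one, hout r (not_lt.mp h)]

theorem lift_stWord (x : ℕ → K → G) (hout : ∀ r, D.nroots ≤ r → ∀ t, x r t = 1) (w : List (ℕ × K)) :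
    FreeGroup.lift (fun a : Fin D.nroots × K => x a.1 a.2) (D.stWord w) = wP x w := by
  simp only [ChevalleyDatum.stWord, map_list_prod, List.map_map, wP]
  congr 1
  apply List.map_congr_left
  intro a _
  exact lift_stX D x hout a.1 a.2

variable {D}

/-- The homomorphism out of the Steinberg group. -/
def StRel.hom {x : ℕ → K → G} (h : StRel D x) : D.SteinbergGroup K →* G :=
  PresentedGroup.toGroup (f := fun a : Fin D.nroots × K => x a.1 a.2) (by
    rintro g ((⟨r, t₁, t₂, hr, rfl⟩ | ⟨r, s, t, u, hr, hs, h1, h2, rfl⟩) | ⟨r, t₁, t₂, hr, h1, h2, rfl⟩)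
    · simp only [map_mul, map_inv, lift_stX D x h.out, h.add r hr, mul_inv_cancel]
    · simp only [map_mul, map_inv, lift_stX D x h.out, lift_stWord D x h.out]
      rw [mul_assoc _ (x s u), h.comm r hr s hs h1 h2]
      group
    · simp only [map_mul, map_inv, ChevalleyDatum.stH, lift_stWord D x h.out, h.hmul r hr _ _ h1 h2,
        mul_inv_cancel])

theorem StRel.hom_mk {x : ℕ → K → G} (h : StRel D x) (g : FreeGroup (Fin D.nroots × K)) :
    h.hom (PresentedGroup.mk _ g) = FreeGroup.lift (fun a : Fin D.nroots × K => x a.1 a.2) g := rfl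

theorem StRel.hom_stGen {x : ℕ → K → G} (h : StRel D x) (r : ℕ) (t : K) :
    h.hom (D.stGen K r t) = x r t := by
  rw [ChevalleyDatum.stGen, h.hom_mk, lift_stX D x h.out]

theorem mk_stWord (w : List (ℕ × K)) (R : Set (FreeGroup (Fin D.nroots × K))) :
    PresentedGroup.mk R (D.stWord w) = wP (fun r t => PresentedGroup.mk R (D.stX r t)) w := by
  simp [ChevalleyDatum.stWord, map_list_prod, List.map_map, wP, Function.comp_def]

variable (D K) in
/-- The Steinberg group satisfies Steinberg's relations. -/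
theorem stRel_stGen : StRel D (D.stGen K) where
  out r hr t := by simp [ChevalleyDatum.stGen, ChevalleyDatum.stX, not_lt.mpr hr]
  add r hr t u := by
    have := PresentedGroup.one_of_mem (rels := D.steinbergRels K)
      (x := D.stX r t * D.stX r u * (D.stX r (t + u))⁻¹) (Or.inl (Or.inl ⟨r, t, u, hr, rfl⟩))
    simp only [map_mul, map_inv, mul_inv_eq_one] at this
    exact this
  comm r hr s hs h1 h2 t u := by
    have := PresentedGroup.one_of_mem (rels := D.steinbergRels K)
      (x := (D.stX s u)⁻¹ * (D.stX r t)⁻¹ * D.stX s u * D.stX r t * (D.stWord (D.commWord K r s t u))⁻¹)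
      (Or.inl (Or.inr ⟨r, s, t, u, hr, hs, h1, h2, rfl⟩))
    simp only [map_mul, map_inv, mul_inv_eq_one, mk_stWord] at this
    change (D.stGen K s u)⁻¹ * (D.stGen K r t)⁻¹ * D.stGen K s u * D.stGen K r t = wP (D.stGen K) _ at this
    rw [← this]; group
  hmul r hr t u h1 h2 := by
    have := PresentedGroup.one_of_mem (rels := D.steinbergRels K)
      (x := D.stH r t * D.stH r u * (D.stH r (t * u))⁻¹) (Or.inr ⟨r, t, u, hr, h1, h2, rfl⟩)
    simp only [map_mul, map_inv, mul_inv_eq_one, ChevalleyDatum.stH, mk_stWord] at this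
    exact this

variable (D K) in
theorem closure_stGen :
    Subgroup.closure {g | ∃ r < D.nroots, ∃ t : K, g = D.stGen K r t} = ⊤ := by
  rw [eq_top_iff, ← PresentedGroup.closure_range_of, Subgroup.closure_le]
  rintro g ⟨⟨r, t⟩, rfl⟩
  apply Subgroup.subset_closure
  refine ⟨r, r.2, t, ?_⟩
  simp [ChevalleyDatum.stGen, ChevalleyDatum.stX, PresentedGroup.of]

theorem StRel.range_hom {x : ℕ → K → G} (h : StRel D x) :
    h.hom.range = Subgroup.closure {g | ∃ r < D.nroots, ∃ t : K, g = x r t} := by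
  rw [MonoidHom.range_eq_map, ← closure_stGen K D, MonoidHom.map_closure]
  congr 1
  ext g
  constructor
  · rintro ⟨_, ⟨r, hr, t, rfl⟩, rfl⟩
    exact ⟨r, hr, t, h.hom_stGen r t⟩
  · rintro ⟨r, hr, t, rfl⟩
    exact ⟨_, ⟨r, hr, t, rfl⟩, h.hom_stGen r t⟩

theorem StRel.zero {x : ℕ → K → G} (h : StRel D x) (r : ℕ) : x r 0 = 1 := by
  by_cases hr : r < D.nroots
  · have := h.add r hr 0 0
    rw [add_zero] at this
    exact mul_eq_left.mp this
  · exact h.out r (not_lt.mp hr) 0

theorem StRel.map {x : ℕ → K → G} (h : StRel D x) {H : Type*} [Group H] (φ : G →* H) :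
    StRel D (fun r t => φ (x r t)) where
  out r hr t := by rw [h.out r hr, map_one]
  add r hr t u := by rw [← map_mul, h.add r hr]
  comm r hr s hs h1 h2 t u := by rw [← map_mul, h.comm r hr s hs h1 h2, map_mul, map_mul, map_wP]
  hmul r hr t u h1 h2 := by rw [← map_wP, ← map_wP, ← map_wP, ← map_mul, h.hmul r hr t u h1 h2]

theorem StRel.of_injective {x : ℕ → K → G} {H : Type*} [Group H] (φ : G →* H) (hφ : Function.Injective φ)
    (h : StRel D (fun r t => φ (x r t))) : StRel D x where
  out r hr t := hφ (by rw [map_one]; exact h.out r hr t)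
  add r hr t u := hφ (by rw [map_mul]; exact h.add r hr t u)
  comm r hr s hs h1 h2 t u := hφ (by rw [map_mul, map_mul, map_mul, map_wP]; exact h.comm r hr s hs h1 h2 t u)
  hmul r hr t u h1 h2 := hφ (by rw [map_mul, map_wP, map_wP, map_wP]; exact h.hmul r hr t u h1 h2)

theorem commTerms_pos (r s : ℕ) : ∀ c ∈ D.commTerms r s, 1 ≤ c.2.2.1 ∧ 1 ≤ c.2.2.2 := by
  intro c hc
  simp only [ChevalleyDatum.commTerms, List.mem_filterMap, Option.map_eq_some_iff] at hc
  obtain ⟨a, ha, k, -, rfl⟩ := hc
  simp only [List.mem_cons, List.not_mem_nil, or_false] at ha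
  rcases ha with rfl | rfl | rfl | rfl | rfl | rfl | rfl <;> simp

end Abstract

section Check

/-- symbolic right-hand side of the commutator formula -/
def commP (D : ChevalleyDatum) (r s : ℕ) : List (ℕ × Pol) :=
  (D.commTerms r s).map fun c => (c.1, [((c.2.2.1 : ℤ), (c.2.2.2 : ℤ), c.2.1 * (-1) ^ c.2.2.1)])

/-- symbolic `h_r(t^i u^j)` -/
def hP (D : ChevalleyDatum) (r : ℕ) (i j : ℤ) : List (ℕ × Pol) :=
  [(r, [(i, j, 1)]), (D.neg r, [(-i, -j, -1)]), (r, [(i, j, 1)]),
   (r, [(0, 0, -1)]), (D.neg r, [(0, 0, 1)]), (r, [(0, 0, -1)])]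

def chk1 (p : ℤ) (ent : Ent) (r : ℕ) : Bool :=
  wordEq p ent [(r, [(1, 0, 1)]), (r, [(0, 1, 1)])] [(r, [(1, 0, 1), (0, 1, 1)])]

def chk2 (D : ChevalleyDatum) (p : ℤ) (ent : Ent) (r s : ℕ) : Bool :=
  s == r || s == D.neg r ||
    wordEq p ent [(s, [(0, 1, 1)]), (r, [(1, 0, 1)])] ((r, [(1, 0, 1)]) :: (s, [(0, 1, 1)]) :: commP D r s)

def chk3 (D : ChevalleyDatum) (p : ℤ) (ent : Ent) (r : ℕ) : Bool :=
  wordEq p ent (hP D r 1 0 ++ hP D r 0 1) (hP D r 1 1)

/-- entry table from a list -/
def entOf (T : List (List (ℕ × ℕ × ℕ × ℤ))) : Ent := fun r => T.getD r []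

def chk0 (n : ℕ) (T : List (List (ℕ × ℕ × ℕ × ℤ))) : Bool :=
  T.all fun l => l.all fun e => decide (e.1 < n) && decide (1 ≤ e.2.2.1)

theorem chk0_spec {n : ℕ} {T : List (List (ℕ × ℕ × ℕ × ℤ))} (h : chk0 n T = true) (r : ℕ) :
    ∀ e ∈ entOf T r, e.1 < n ∧ 1 ≤ e.2.2.1 := by
  intro e he
  simp only [entOf, List.getD_eq_getElem?_getD] at he
  rcases hr : T[r]? with _ | l
  · simp [hr] at he
  · rw [hr] at he
    simp only [chk0, List.all_eq_true, Bool.and_eq_true, decide_eq_true_eq] at h
    exact h l (List.mem_of_getElem? hr) e he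

variable {ι : Type*} [Fintype ι] [DecidableEq ι] {F : Type*} [Field F] (enc : ι → ℕ)

omit [Fintype ι] in
theorem xm_zero (ent : Ent) (r : ℕ) (h : ∀ e ∈ ent r, 1 ≤ e.2.2.1) : xm enc ent r (0 : F) = 1 := by
  rw [xm, xm0, add_eq_left]
  apply List.sum_eq_zero
  intro m hm
  obtain ⟨e, he, rfl⟩ := List.mem_map.mp hm
  ext x y
  have : e.2.2.1 ≠ 0 := by have := h e he; omega
  simp [this]

/-- All data needed to turn a checked table into a representation of the Steinberg group. -/
structure RepOK (D : ChevalleyDatum) (p : ℤ) (enc : ι → ℕ) (ent : Ent) : Prop where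
  inj : Function.Injective enc
  valid : ∀ r, ∀ e ∈ ent r, ∃ z, enc z = e.1
  pos : ∀ r, ∀ e ∈ ent r, 1 ≤ e.2.2.1
  out : ∀ r, D.nroots ≤ r → ent r = []
  c1 : ∀ r < D.nroots, chk1 p ent r = true
  c2 : ∀ r < D.nroots, ∀ s < D.nroots, chk2 D p ent r s = true
  c3 : ∀ r < D.nroots, chk3 D p ent r = true

variable {enc} {D : ChevalleyDatum} {p : ℤ} {ent : Ent}

theorem RepOK.add (h : RepOK D p enc ent) (hp : (p : F) = 0) (r : ℕ) (t u : F) :
    xm enc ent r t * xm enc ent r u = xm enc ent r (t + u) := by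
  by_cases hr : r < D.nroots
  swap
  · simp [xm, xm0, h.out r (not_lt.mp hr)]
  by_cases ht : t = 0
  · rw [ht, xm_zero enc ent r (h.pos r), one_mul, zero_add]
  by_cases hu : u = 0
  · rw [hu, xm_zero enc ent r (h.pos r), mul_one, add_zero]
  have := wordEq_sound enc (Units.mk0 t ht) (Units.mk0 u hu) hp h.inj ent h.valid _ _ (h.c1 r hr)
  simpa [wordM, pval, mono] using this

/-- The root elements as invertible matrices. -/
def RepOK.xg (h : RepOK D p enc ent) (hp : (p : F) = 0) (r : ℕ) (t : F) : GL ι F :=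
  ⟨xm enc ent r t, xm enc ent r (-t), by rw [h.add hp, add_neg_cancel, xm_zero enc ent r (h.pos r)],
    by rw [h.add hp, neg_add_cancel, xm_zero enc ent r (h.pos r)]⟩

theorem RepOK.coe_xg (h : RepOK D p enc ent) (hp : (p : F) = 0) (r : ℕ) (t : F) :
    (h.xg hp r t : Matrix ι ι F) = xm enc ent r t := rfl

theorem RepOK.coe_wP (h : RepOK D p enc ent) (hp : (p : F) = 0) (w : List (ℕ × F)) :
    ((wP (h.xg hp) w : GL ι F) : Matrix ι ι F) = wordM enc ent w := by
  induction w with
  | nil => simp [wordM]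
  | cons a w ih => rw [wP_cons, Units.val_mul, ih, h.coe_xg]; simp [wordM]

theorem RepOK.stRel (h : RepOK D p enc ent) (hp : (p : F) = 0) : StRel D (h.xg hp) where
  out r hr t := by
    ext1
    simp [h.coe_xg, xm, xm0, h.out r hr]
  add r _ t u := by
    ext1
    simp [h.coe_xg, h.add hp]
  comm r hr s hs h1 h2 t u := by
    have hz : ∀ r, h.xg hp r (0 : F) = 1 := fun r => by
      ext1; simp [h.coe_xg, xm_zero enc ent r (h.pos r)]
    by_cases ht0 : t = 0 ∨ u = 0
    · have : wP (h.xg hp) (D.commWord F r s t u) = 1 := by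
        apply List.prod_eq_one
        intro g hg
        simp only [ChevalleyDatum.commWord, List.map_map, List.mem_map] at hg
        obtain ⟨c, hc, rfl⟩ := hg
        obtain ⟨hc1, hc2⟩ := commTerms_pos r s c hc
        have h3 : c.2.2.1 ≠ 0 := by omega
        have h4 : c.2.2.2 ≠ 0 := by omega
        rcases ht0 with rfl | rfl <;> simp [h3, h4, hz]
      rw [this]
      rcases ht0 with rfl | rfl <;> simp [hz]
    push Not at ht0
    obtain ⟨ht, hu⟩ := ht0
    have h3 := h.c2 r hr s hs
    simp only [chk2, Bool.or_eq_true, beq_iff_eq, h1, h2, false_or] at h3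
    have := wordEq_sound enc (Units.mk0 t ht) (Units.mk0 u hu) hp h.inj ent h.valid _ _ h3
    ext1
    rw [Units.val_mul, Units.val_mul, Units.val_mul, h.coe_wP, h.coe_xg, h.coe_xg]
    have e1 : (commP D r s).map (fun a => (a.1, pval (Units.mk0 t ht) (Units.mk0 u hu) a.2)) =
        D.commWord F r s t u := by
      simp only [commP, ChevalleyDatum.commWord, List.map_map]
      apply List.map_congr_left
      intro c _
      simp only [Function.comp, pval, mono, List.map_cons, List.map_nil, List.sum_cons, List.sum_nil,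
        add_zero, zpow_natCast, Units.val_mul, Units.val_pow_eq_pow_val, Units.val_mk0, Prod.mk.injEq,
        true_and]
      push_cast
      rw [neg_pow t]; ring
    rw [List.map_cons, List.map_cons, List.map_cons, List.map_cons, e1] at this
    simpa [wordM, pval, mono, mul_assoc] using this
  hmul r hr t u ht hu := by
    have := wordEq_sound enc (Units.mk0 t ht) (Units.mk0 u hu) hp h.inj ent h.valid _ _ (h.c3 r hr)
    ext1
    rw [← wP_append, h.coe_wP, h.coe_wP]
    convert this using 2 <;>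
      simp [hP, ChevalleyDatum.hWord, ChevalleyDatum.nWord, pval, mono, mul_comm]

end Check

end CL.Rep
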