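import Cfsg.Agent.Base
import Cfsg.Agent.Chev.StHom
import Cfsg.Agent.Chev.SplitOrth

/-!
# The natural representations of the Steinberg groups of types D4 and B2
-/

set_option linter.unusedSectionVars false

namespace CL.Rep

open Matrix QuadraticMap Cfsg.Lie CL.SplitO

section mulVec

variable {ι : Type*} [Fintype ι] [DecidableEq ι] {F : Type*} [Field F] (enc : ι → ℕ) (dec : ℕ → ι)

theorem xm_mulVec (henc : Function.Injective enc) (ent : Ent) (r : ℕ)
    (h : ∀ e ∈ ent r, enc (dec e.1) = e.1 ∧ enc (dec e.2.1) = e.2.1) (t : F) (v : ι → F) :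
    xm enc ent r t *ᵥ v = v + ((ent r).map fun e =>
      ((e.2.2.2 : F) * t ^ e.2.2.1 * v (dec e.2.1)) • (Pi.single (dec e.1) 1 : ι → F)).sum := by
  rw [xm, Matrix.add_mulVec, Matrix.one_mulVec, xm0]
  congr 1
  generalize ent r = l at h
  induction l with
  | nil => simp
  | cons e l ih =>
    rw [List.map_cons, List.sum_cons, Matrix.add_mulVec, ih fun e he => h e (List.mem_cons_of_mem _ he),
      List.map_cons, List.sum_cons]
    congr 1
    obtain ⟨h1, h2⟩ := h e List.mem_cons_self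
    ext x
    simp only [Matrix.mulVec, dotProduct, Matrix.of_apply, Pi.smul_apply, smul_eq_mul]
    rw [Finset.sum_eq_single (dec e.2.1)]
    · by_cases hx : x = dec e.1
      · subst hx; simp [h1, h2]
      · have : e.1 ≠ enc x := fun h => hx (henc (h.symm.trans h1.symm))
        simp [this, hx]
    · intro y _ hy
      have : e.2.1 ≠ enc y := fun h => hy (henc (h.symm.trans h2.symm))
      simp [this]
    · simp

end mulVec

section D4

variable (F : Type*) [Field F]

/-- The plus type form as a quadratic form. -/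
noncomputable def qPlus (m : ℕ) : QuadraticForm F (Fin m ⊕ Fin m → F) :=
  ∑ i : Fin m, QuadraticMap.proj (Sum.inl i) (Sum.inr i)

theorem coe_qPlus (m : ℕ) : ⇑(qPlus F m) = Cfsg.quadFormPlus m F := by
  ext v; simp [qPlus, Cfsg.quadFormPlus]

variable {F}

theorem polar_qPlus (m : ℕ) (v w : Fin m ⊕ Fin m → F) :
    polar (qPlus F m) v w = ∑ a, v a * w a.swap := by
  simp only [polar, coe_qPlus, Cfsg.quadFormPlus, Pi.add_apply, Fintype.sum_sum_type, Sum.swap_inl, Sum.swap_inr,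
    ← Finset.sum_sub_distrib, ← Finset.sum_add_distrib]
  exact Finset.sum_congr rfl fun i _ => by ring

theorem polar_qPlus_single (m : ℕ) (v : Fin m ⊕ Fin m → F) (a : Fin m ⊕ Fin m) :
    polar (qPlus F m) v (Pi.single a 1) = v a.swap := by
  rw [polar_qPlus, Finset.sum_eq_single a.swap]
  · simp
  · intro b _ hb
    have : b.swap ≠ a := fun h => hb (by rw [← h, Sum.swap_swap])
    simp [this]
  · simp

variable (F) in
/-- The hyperbolic basis. -/
def splitPlus (m : ℕ) : Split (qPlus F m) (Fin m ⊕ Fin m) where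
  b a := Pi.single a 1
  σ := Sum.swap
  z := 0
  σσ := Sum.swap_swap
  σne a := by rcases a with a | a <;> simp
  Qb a := by
    rw [coe_qPlus]
    rcases a with a | a <;> simp [Cfsg.quadFormPlus]
  polar_b a c := by
    rw [polar_qPlus_single, Pi.single_apply]
    congr 1
    rcases a with a | a <;> rcases c with c | c <;> simp
  polar_z a := by simp
  Qz := Or.inl rfl
  span v := ⟨0, by
    simp only [polar_qPlus_single, Sum.swap_swap, smul_zero, add_zero]
    ext x
    simp [Finset.sum_apply, Pi.single_apply]⟩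

def encD4 : Fin 4 ⊕ Fin 4 → ℕ := Sum.elim (fun i => i) (fun i => i + 4)

def decD4 (n : ℕ) : Fin 4 ⊕ Fin 4 := if n < 4 then .inl (Fin.ofNat 4 n) else .inr (Fin.ofNat 4 n)

def tabD4 : List (ℕ × ℕ × ℤ) :=
  [(4, 5, -1), (4, 6, -1), (3, 4, 1), (4, 7, -1), (2, 4, -1), (1, 4, 1), (5, 6, 1), (3, 5, -1), (5, 7, 1), (2, 5, 1),
   (3, 6, 1), (6, 7, -1), (2, 3, 1), (2, 7, 1), (1, 6, 1), (1, 3, -1), (1, 7, -1), (1, 2, -1), (0, 5, 1), (0, 6, -1),
   (0, 3, 1), (0, 7, 1), (0, 2, 1), (0, 1, 1)]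

def entTD4 : List (List (ℕ × ℕ × ℕ × ℤ)) :=
  tabD4.map fun e => [(e.1, (e.2.1 + 4) % 8, 1, e.2.2), (e.2.1, (e.1 + 4) % 8, 1, -e.2.2)]

theorem encD4_inj : Function.Injective encD4 := by decide

theorem encD4_surj : ∀ n < 8, encD4 (decD4 n) = n := by decide

theorem repOK_D4 : RepOK chevD4 0 encD4 (entOf entTD4) where
  inj := encD4_inj
  valid r e he := ⟨_, encD4_surj _ (chk0_spec (n := 8) (by decide +kernel) r e he).1⟩
  pos r e he := (chk0_spec (n := 8) (by decide +kernel) r e he).2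
  out r hr := List.getD_eq_default _ _ hr
  c1 := by decide +kernel
  c2 := by decide +kernel
  c3 := by decide +kernel

theorem tabD4_spec : ∀ r < 24, ∃ e ∈ tabD4, tabD4.getD r (0, 0, 0) = e ∧
    entOf entTD4 r = [(e.1, (e.2.1 + 4) % 8, 1, e.2.2), (e.2.1, (e.1 + 4) % 8, 1, -e.2.2)] := by decide +kernel

theorem tabD4_spec2 : ∀ e ∈ tabD4, e.1 < 8 ∧ e.2.1 < 8 ∧ decD4 ((e.1 + 4) % 8) = (decD4 e.1).swap ∧
    decD4 ((e.2.1 + 4) % 8) = (decD4 e.2.1).swap ∧ decD4 e.2.1 ≠ (decD4 e.1).swap := by decide +kernel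

theorem tabD4_surj : ∀ a c : Fin 4 ⊕ Fin 4, c ≠ a → c ≠ a.swap → ∃ r < 24,
    ((decD4 (tabD4.getD r (0, 0, 0)).1 = a ∧ decD4 (tabD4.getD r (0, 0, 0)).2.1 = c) ∨
      (decD4 (tabD4.getD r (0, 0, 0)).1 = c ∧ decD4 (tabD4.getD r (0, 0, 0)).2.1 = a)) ∧
      ((tabD4.getD r (0, 0, 0)).2.2 = 1 ∨ (tabD4.getD r (0, 0, 0)).2.2 = -1) := by decide +kernel

variable (F) in
/-- Root elements of type D4 in the orthogonal group. -/
noncomputable def xD4 (r : ℕ) (t : F) : O (qPlus F 4) :=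
  if r < 24 then eich (qPlus F 4) (Pi.single (decD4 (tabD4.getD r (0, 0, 0)).1) 1)
    ((((tabD4.getD r (0, 0, 0)).2.2 : F) * t) • Pi.single (decD4 (tabD4.getD r (0, 0, 0)).2.1) 1) else 1

theorem coe_xD4 (r : ℕ) (t : F) : (xD4 F r t : GL (Fin 4 ⊕ Fin 4) F) = repOK_D4.xg Int.cast_zero r t := by
  by_cases hr : r < 24
  swap
  · rw [xD4, if_neg hr, (repOK_D4.stRel (F := F) Int.cast_zero).out r (not_lt.mp hr)]; rfl
  apply Units.ext
  apply Matrix.toLin'.injective
  rw [LinearMap.ext_iff]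
  intro v
  obtain ⟨e, he, h1, h2⟩ := tabD4_spec r hr
  obtain ⟨k1, k2, k3, k4, k5⟩ := tabD4_spec2 e he
  have hb : ∀ a, qPlus F 4 (Pi.single a 1) = 0 := (splitPlus F 4).Qb
  rw [Matrix.toLin'_apply, Matrix.toLin'_apply, ← act_apply, RepOK.coe_xg, xm_mulVec encD4 decD4 encD4_inj, xD4,
    if_pos hr, h1, h2, act_eich (hb _)]
  · simp only [polar_smul_right, polar_qPlus_single, Q_smul, hb, List.map_cons, List.map_nil, List.sum_cons,
      List.sum_nil, k3, k4, smul_eq_mul]
    push_cast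
    module
  · rw [polar_smul_right, polar_qPlus_single, Pi.single_apply, if_neg, smul_zero]
    intro h
    apply k5
    rw [← h, Sum.swap_swap]
  · rw [h2]
    intro e' he'
    simp only [List.mem_cons, List.not_mem_nil, or_false] at he'
    rcases he' with rfl | rfl
    · exact ⟨encD4_surj _ k1, encD4_surj _ (Nat.mod_lt _ (by norm_num))⟩
    · exact ⟨encD4_surj _ k2, encD4_surj _ (Nat.mod_lt _ (by norm_num))⟩

theorem stRel_xD4 : StRel chevD4 (xD4 F) :=
  StRel.of_injective (O (qPlus F 4)).subtype Subtype.val_injective (by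
    have : (fun r t => (O (qPlus F 4)).subtype (xD4 F r t)) = repOK_D4.xg (F := F) Int.cast_zero := by
      funext r t; exact coe_xD4 r t
    rw [this]; exact repOK_D4.stRel _)

theorem eich_swap {ι : Type} [Fintype ι] [DecidableEq ι] {Q : QuadraticForm F (ι → F)} {u v : ι → F}
    (hu : Q u = 0) (hv : Q v = 0) (h : polar Q u v = 0) (t : F) : eich Q u (t • v) = eich Q v ((-t) • u) := by
  apply act_ext
  intro x
  rw [act_eich hu (by rw [polar_smul_right, h, smul_zero]),
    act_eich hv (by rw [polar_smul_right, polar_comm, h, smul_zero])]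
  simp only [polar_smul_right, Q_smul, hu, hv, smul_eq_mul]
  module

theorem commutator_le_range_D4 : commutator (O (qPlus F 4)) ≤ (stRel_xD4 (F := F)).hom.range := by
  refine ((splitPlus F 4).commutator_le ?_).trans ((splitPlus F 4).E_le _ ?_ ?_)
  · change ∀ a : Fin 4 ⊕ Fin 4, ∃ c, c ≠ a ∧ c ≠ a.swap
    decide
  · intro a c t h1 h2
    obtain ⟨r, hr, h3, h4⟩ := tabD4_surj a c h1 h2
    have hx : ∀ t, xD4 F r t ∈ (stRel_xD4 (F := F)).hom.range := fun t => ⟨_, stRel_xD4.hom_stGen r t⟩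
    have hsq : ((tabD4.getD r (0, 0, 0)).2.2 : F) * ((tabD4.getD r (0, 0, 0)).2.2 : F) = 1 := by
      rcases h4 with h | h <;> rw [h] <;> simp
    rcases h3 with ⟨h5, h6⟩ | ⟨h5, h6⟩
    · have := hx (((tabD4.getD r (0, 0, 0)).2.2 : F) * t)
      rwa [xD4, if_pos hr, h5, h6, ← mul_assoc, hsq, one_mul] at this
    · have := hx (((tabD4.getD r (0, 0, 0)).2.2 : F) * (-t))
      rw [xD4, if_pos hr, h5, h6, ← mul_assoc, hsq, one_mul] at this
      rw [eich_swap ((splitPlus F 4).Qb a) ((splitPlus F 4).Qb c) (by rw [(splitPlus F 4).polar_b, if_neg h2])]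
      exact this
  · intro a t
    have : (splitPlus F 4).z = 0 := rfl
    rw [this, smul_zero, eich_zero ((splitPlus F 4).Qb a)]
    exact Subgroup.one_mem _

theorem xD4_noncomm : xD4 F 18 1 * xD4 F 14 1 ≠ xD4 F 14 1 * xD4 F 18 1 := by
  intro h
  have h1 := (stRel_xD4 (F := F)).comm 14 (by decide) 18 (by decide) (by decide) (by decide) 1 1
  rw [h, left_eq_mul] at h1
  have e : chevD4.commTerms 14 18 = [(19, 1, 1, 1)] := by decide +kernel
  rw [ChevalleyDatum.commWord, e] at h1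
  simp only [List.map_cons, List.map_nil, wP_cons, wP_nil, mul_one] at h1
  have h2 := congrArg (fun g : O (qPlus F 4) => (g : GL (Fin 4 ⊕ Fin 4) F).val (.inl 0) (.inl 2)) h1
  simp only [coe_xD4, RepOK.coe_xg] at h2
  have e2 : entOf entTD4 19 = [(0, 2, 1, -1), (6, 4, 1, 1)] := by decide +kernel
  simp [xm, xm0, e2, encD4] at h2

end D4

section B2

variable (F : Type*) [Field F]

/-- The odd-dimensional split form as a quadratic form. -/
noncomputable def qOdd (m : ℕ) : QuadraticForm F (Unit ⊕ (Fin m ⊕ Fin m) → F) :=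
  QuadraticMap.proj (Sum.inl ()) (Sum.inl ()) + ∑ i : Fin m, QuadraticMap.proj (Sum.inr (Sum.inl i)) (Sum.inr (Sum.inr i))

theorem coe_qOdd (m : ℕ) : ⇑(qOdd F m) = Cfsg.quadFormOdd m F := by
  ext v; simp [qOdd, Cfsg.quadFormOdd, pow_two]

variable {F}

theorem polar_qOdd (m : ℕ) (v w : Unit ⊕ (Fin m ⊕ Fin m) → F) :
    polar (qOdd F m) v w = 2 * v (.inl ()) * w (.inl ()) + ∑ a, v (.inr a) * w (.inr a.swap) := by
  simp only [polar, coe_qOdd, Cfsg.quadFormOdd, Pi.add_apply, Fintype.sum_sum_type, Sum.swap_inl, Sum.swap_inr,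
    add_mul, mul_add, Finset.sum_add_distrib, mul_comm (w (Sum.inr _)) (v (Sum.inr _))]
  ring

theorem polar_qOdd_single (m : ℕ) (v : Unit ⊕ (Fin m ⊕ Fin m) → F) (a : Fin m ⊕ Fin m) :
    polar (qOdd F m) v (Pi.single (.inr a) 1) = v (.inr a.swap) := by
  rw [polar_qOdd, Finset.sum_eq_single a.swap]
  · simp
  · intro b _ hb
    have : b.swap ≠ a := fun h => hb (by rw [← h, Sum.swap_swap])
    simp [this]
  · simp

theorem polar_qOdd_z (m : ℕ) (v : Unit ⊕ (Fin m ⊕ Fin m) → F) :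
    polar (qOdd F m) v (Pi.single (.inl ()) 1) = 2 * v (.inl ()) := by
  rw [polar_qOdd]; simp

variable (F) in
/-- The hyperbolic basis and the vector of norm one. -/
def splitOdd (m : ℕ) : Split (qOdd F m) (Fin m ⊕ Fin m) where
  b a := Pi.single (.inr a) 1
  σ := Sum.swap
  z := Pi.single (.inl ()) 1
  σσ := Sum.swap_swap
  σne a := by rcases a with a | a <;> simp
  Qb a := by
    rw [coe_qOdd]
    rcases a with a | a <;> simp [Cfsg.quadFormOdd]
  polar_b a c := by
    rw [polar_qOdd_single, Pi.single_apply]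
    congr 1
    rcases a with a | a <;> rcases c with c | c <;> simp
  polar_z a := by rw [polar_qOdd_z]; simp
  Qz := Or.inr (by rw [coe_qOdd]; simp [Cfsg.quadFormOdd])
  span v := ⟨v (.inl ()), by
    simp only [polar_qOdd_single, Sum.swap_swap]
    ext x
    rcases x with x | x | x <;> simp [Finset.sum_apply, Pi.single_apply]⟩

def encB2 : Unit ⊕ (Fin 2 ⊕ Fin 2) → ℕ := Sum.elim (fun _ => 0) (Sum.elim (fun i => i + 1) (fun i => i + 3))

def decB2 (n : ℕ) : Unit ⊕ (Fin 2 ⊕ Fin 2) :=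
  if n = 0 then .inl () else if n < 3 then .inr (.inl (Fin.ofNat 2 (n + 1))) else .inr (.inr (Fin.ofNat 2 (n + 1)))

def entTB2 : List (List (ℕ × ℕ × ℕ × ℤ)) :=
  [[(3,2,1,-1), (4,1,1,1)],
   [(0,1,1,1), (3,0,1,-2), (3,1,2,-1)],
   [(0,2,1,1), (4,0,1,-2), (4,2,2,-1)],
   [(2,1,1,1), (3,4,1,-1)],
   [(1,2,1,1), (4,3,1,-1)],
   [(0,4,1,-1), (2,0,1,2), (2,4,2,-1)],
   [(0,3,1,-1), (1,0,1,2), (1,3,2,-1)],
   [(1,4,1,1), (2,3,1,-1)]]

theorem encB2_inj : Function.Injective encB2 := by decide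

theorem encB2_surj : ∀ n < 5, encB2 (decB2 n) = n := by decide

theorem repOK_B2 : RepOK chevB2 0 encB2 (entOf entTB2) where
  inj := encB2_inj
  valid r e he := ⟨_, encB2_surj _ (chk0_spec (n := 5) (by decide +kernel) r e he).1⟩
  pos r e he := (chk0_spec (n := 5) (by decide +kernel) r e he).2
  out r hr := List.getD_eq_default _ _ hr
  c1 := by decide +kernel
  c2 := by decide +kernel
  c3 := by decide +kernel

/-- `(a, c, ε)`: the root element is the Eichler transformation of the pair `(a, ε t c)`. -/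
def tabB2 : List ((Fin 2 ⊕ Fin 2) × (Unit ⊕ (Fin 2 ⊕ Fin 2)) × ℤ) :=
  [(.inr 1, .inr (.inr 0), 1), (.inr 0, .inl (), -1), (.inr 1, .inl (), -1), (.inl 1, .inr (.inr 0), 1),
   (.inl 0, .inr (.inr 1), 1), (.inl 1, .inl (), 1), (.inl 0, .inl (), 1), (.inl 0, .inr (.inl 1), 1)]

variable (F) in
/-- Root elements of type B2 in the orthogonal group. -/
noncomputable def xB2 (r : ℕ) (t : F) : O (qOdd F 2) :=
  if r < 8 then eich (qOdd F 2) (Pi.single (.inr (tabB2.getD r (.inl 0, .inl (), 0)).1) 1)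
    ((((tabB2.getD r (.inl 0, .inl (), 0)).2.2 : F) * t) • Pi.single (tabB2.getD r (.inl 0, .inl (), 0)).2.1 1)
  else 1

theorem coe_xB2 (r : ℕ) (t : F) : (xB2 F r t : GL (Unit ⊕ (Fin 2 ⊕ Fin 2)) F) = repOK_B2.xg Int.cast_zero r t := by
  by_cases hr : r < 8
  swap
  · rw [xB2, if_neg hr, (repOK_B2.stRel (F := F) Int.cast_zero).out r (not_lt.mp hr)]; rfl
  apply Units.ext
  apply Matrix.toLin'.injective
  rw [LinearMap.ext_iff]
  intro v
  have hz : qOdd F 2 (Pi.single (.inl ()) 1) = 1 := by rw [coe_qOdd]; simp [Cfsg.quadFormOdd]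
  have hb : ∀ a, qOdd F 2 (Pi.single (.inr a) 1) = 0 := (splitOdd F 2).Qb
  rw [Matrix.toLin'_apply, Matrix.toLin'_apply, ← act_apply, RepOK.coe_xg, xm_mulVec encB2 decB2 encB2_inj, xB2,
    if_pos hr, act_eich (hb _)]
  · interval_cases r <;>
    · simp only [tabB2, entOf, entTB2, List.getD_cons_succ, List.getD_cons_zero, polar_smul_right, polar_qOdd_single,
        polar_qOdd_z, Q_smul, hz, hb, List.map_cons, List.map_nil, List.sum_cons, List.sum_nil, smul_eq_mul,
        Sum.swap_inl, Sum.swap_inr, show decB2 0 = .inl () from rfl, show decB2 1 = .inr (.inl 0) from rfl,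
        show decB2 2 = .inr (.inl 1) from rfl, show decB2 3 = .inr (.inr 0) from rfl,
        show decB2 4 = .inr (.inr 1) from rfl]
      push_cast
      module
  · interval_cases r <;> simp [tabB2, polar_qOdd_single, polar_qOdd_z]
  · revert r; decide +kernel

theorem stRel_xB2 : StRel chevB2 (xB2 F) :=
  StRel.of_injective (O (qOdd F 2)).subtype Subtype.val_injective (by
    have : (fun r t => (O (qOdd F 2)).subtype (xB2 F r t)) = repOK_B2.xg (F := F) Int.cast_zero := by
      funext r t; exact coe_xB2 r t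
    rw [this]; exact repOK_B2.stRel _)

theorem commutator_le_range_B2 : commutator (O (qOdd F 2)) ≤ (stRel_xB2 (F := F)).hom.range := by
  have hx : ∀ r t, xB2 F r t ∈ (stRel_xB2 (F := F)).hom.range := fun r t => ⟨_, stRel_xB2.hom_stGen r t⟩
  refine ((splitOdd F 2).commutator_le ?_).trans ((splitOdd F 2).E_le _ ?_ ?_)
  · change ∀ a : Fin 2 ⊕ Fin 2, ∃ c, c ≠ a ∧ c ≠ a.swap
    decide
  · have key : ∀ a c : Fin 2 ⊕ Fin 2, c ≠ a → c ≠ a.swap → ∃ r < 8,
        tabB2.getD r (.inl 0, .inl (), 0) = (a, .inr c, 1) ∨ tabB2.getD r (.inl 0, .inl (), 0) = (c, .inr a, 1) := by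
      set_option synthInstance.maxSize 1000 in decide +kernel
    intro a c t h1 h2
    obtain ⟨r, hr, h | h⟩ := key a c h1 h2
    · have := hx r t
      rwa [xB2, if_pos hr, h, Int.cast_one, one_mul] at this
    · have := hx r (-t)
      rw [xB2, if_pos hr, h, Int.cast_one, one_mul] at this
      rw [eich_swap ((splitOdd F 2).Qb a) ((splitOdd F 2).Qb c) (by rw [(splitOdd F 2).polar_b, if_neg h2])]
      exact this
  · have key : ∀ a : Fin 2 ⊕ Fin 2, ∃ r < 8,
        tabB2.getD r (.inl 0, .inl (), 0) = (a, .inl (), 1) ∨ tabB2.getD r (.inl 0, .inl (), 0) = (a, .inl (), -1) := by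
      decide +kernel
    intro a t
    obtain ⟨r, hr, h | h⟩ := key a
    · have := hx r t
      rwa [xB2, if_pos hr, h, Int.cast_one, one_mul] at this
    · have := hx r (-t)
      rwa [xB2, if_pos hr, h, Int.cast_neg, Int.cast_one, neg_mul_neg, one_mul] at this

theorem xB2_noncomm : xB2 F 4 1 * xB2 F 3 1 ≠ xB2 F 3 1 * xB2 F 4 1 := by
  intro h
  have h2 := congrArg (fun g : O (qOdd F 2) => (g : GL (Unit ⊕ (Fin 2 ⊕ Fin 2)) F).val (.inr (.inl 0)) (.inr (.inl 0))) h
  simp only [Subgroup.coe_mul, Units.val_mul, coe_xB2, RepOK.coe_xg] at h2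
  simp [xm, xm0, entOf, entTB2, encB2, Matrix.mul_apply, Matrix.one_apply] at h2

end B2

end CL.Rep
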