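import Cfsg.Agent.Base
import Cfsg.Agent.Chev.OrthD4

/-!
# The 27-dimensional representation of the Steinberg group of type E6
-/

set_option linter.unusedSectionVars false

namespace CL.Rep

open Matrix Cfsg.Lie

def encE6 (x : I27) : ℕ := 9 * x.1 + 3 * x.2.1 + x.2.2

def decE6 (n : ℕ) : I27 := (Fin.ofNat 3 (n / 9), Fin.ofNat 3 (n / 3), Fin.ofNat 3 n)

theorem encE6_inj : Function.Injective encE6 := by decide +kernel

theorem encE6_surj : ∀ n < 27, encE6 (decE6 n) = n := by decide +kernel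

/-- entries `(row, col, sign)` coded as `54 row + 2 col + sign` -/
def tabNE6 : List (List ℕ) :=
  [[559, 727, 895, 1014, 1070, 1126], [612, 780, 948, 1021, 1077, 1133], [348, 397, 916, 965, 982, 1031],
   [355, 450, 754, 803, 980, 1029], [408, 457, 592, 641, 978, 1027], [187, 234, 915, 962, 988, 1085],
   [192, 289, 753, 800, 986, 1083], [247, 294, 591, 638, 984, 1081], [209, 368, 707, 866, 994, 1315],
   [262, 423, 545, 864, 1001, 1320], [317, 476, 543, 702, 1006, 1327], [214, 375, 760, 921, 992, 1153],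
   [269, 428, 598, 919, 999, 1158], [322, 483, 596, 757, 1004, 1165], [325, 381, 437, 1012, 1180, 1348],
   [162, 218, 274, 1011, 1179, 1347], [25, 72, 913, 960, 1043, 1090], [30, 127, 751, 798, 1041, 1088],
   [85, 132, 589, 636, 1039, 1086], [47, 366, 712, 873, 1049, 1368], [100, 421, 550, 871, 1054, 1375],
   [155, 474, 548, 709, 1061, 1380], [44, 205, 718, 879, 1103, 1422], [99, 258, 556, 877, 1108, 1429],
   [152, 313, 554, 715, 1115, 1434], [562, 730, 898, 1339, 1395, 1451], [52, 373, 767, 926, 1047, 1206],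
   [107, 426, 605, 924, 1052, 1213], [160, 481, 603, 762, 1059, 1218], [330, 386, 442, 1067, 1235, 1403],
   [50, 211, 772, 933, 1100, 1261], [105, 264, 610, 931, 1107, 1266], [158, 319, 608, 769, 1112, 1273],
   [5, 173, 341, 828, 884, 940], [58, 226, 394, 835, 891, 947], [2, 170, 338, 667, 723, 779],
   [54, 222, 390, 511, 567, 623], [110, 278, 446, 679, 735, 791], [109, 277, 445, 516, 572, 628],
   [353, 400, 857, 904, 1307, 1354], [359, 454, 694, 743, 1304, 1353], [413, 460, 533, 580, 1303, 1350],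
   [174, 230, 286, 1119, 1287, 1455], [190, 239, 854, 903, 1313, 1408], [196, 293, 693, 740, 1310, 1407],
   [250, 299, 530, 579, 1309, 1404], [614, 782, 950, 1183, 1239, 1295], [351, 398, 862, 959, 1145, 1192],
   [357, 452, 701, 796, 1142, 1191], [411, 458, 538, 635, 1141, 1188], [189, 236, 860, 957, 1150, 1247],
   [195, 290, 699, 794, 1149, 1244], [249, 296, 536, 633, 1146, 1243], [202, 363, 652, 813, 1156, 1317],
   [256, 417, 491, 810, 1162, 1323], [310, 471, 488, 649, 1168, 1329], [6, 62, 118, 1063, 1231, 1399],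
   [13, 69, 125, 1116, 1284, 1452], [29, 76, 853, 900, 1367, 1414], [35, 130, 690, 739, 1364, 1413],
   [89, 136, 529, 576, 1363, 1410], [26, 75, 859, 954, 1204, 1253], [32, 129, 696, 793, 1203, 1250],
   [86, 135, 535, 630, 1200, 1249], [41, 360, 658, 819, 1210, 1371], [95, 414, 497, 816, 1216, 1377],
   [149, 468, 494, 655, 1222, 1383], [39, 198, 665, 824, 1265, 1424], [93, 252, 502, 823, 1271, 1430],
   [147, 306, 501, 660, 1277, 1436], [508, 676, 844, 1333, 1389, 1445], [507, 675, 843, 1170, 1226, 1282]]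

def tabE6 : List (List (ℕ × ℕ × ℤ)) :=
  tabNE6.map fun l => l.map fun n => (n / 54, n / 2 % 27, if n % 2 = 0 then 1 else -1)

def entTE6 : List (List (ℕ × ℕ × ℕ × ℤ)) := tabE6.map fun l => l.map fun e => (e.1, e.2.1, 1, e.2.2)

theorem forall_lt_of_chunks {P : ℕ → Prop} (m n : ℕ) (hm : 0 < m) (h : ∀ k < n, ∀ r < m, P (m * k + r)) :
    ∀ r < m * n, P r := fun r hr => by
  have := h (r / m) (Nat.div_lt_of_lt_mul hr) (r % m) (Nat.mod_lt _ hm)
  rwa [Nat.div_add_mod] at this

theorem c2E6_0 : ∀ r < 6, ∀ s < chevE6.nroots, chk2 chevE6 0 (entOf entTE6) (6 * 0 + r) s = true := by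
  decide +kernel

theorem c2E6_1 : ∀ r < 6, ∀ s < chevE6.nroots, chk2 chevE6 0 (entOf entTE6) (6 * 1 + r) s = true := by
  decide +kernel

theorem c2E6_2 : ∀ r < 6, ∀ s < chevE6.nroots, chk2 chevE6 0 (entOf entTE6) (6 * 2 + r) s = true := by
  decide +kernel

theorem c2E6_3 : ∀ r < 6, ∀ s < chevE6.nroots, chk2 chevE6 0 (entOf entTE6) (6 * 3 + r) s = true := by
  decide +kernel

theorem c2E6_4 : ∀ r < 6, ∀ s < chevE6.nroots, chk2 chevE6 0 (entOf entTE6) (6 * 4 + r) s = true := by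
  decide +kernel

theorem c2E6_5 : ∀ r < 6, ∀ s < chevE6.nroots, chk2 chevE6 0 (entOf entTE6) (6 * 5 + r) s = true := by
  decide +kernel

theorem c2E6_6 : ∀ r < 6, ∀ s < chevE6.nroots, chk2 chevE6 0 (entOf entTE6) (6 * 6 + r) s = true := by
  decide +kernel

theorem c2E6_7 : ∀ r < 6, ∀ s < chevE6.nroots, chk2 chevE6 0 (entOf entTE6) (6 * 7 + r) s = true := by
  decide +kernel

theorem c2E6_8 : ∀ r < 6, ∀ s < chevE6.nroots, chk2 chevE6 0 (entOf entTE6) (6 * 8 + r) s = true := by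
  decide +kernel

theorem c2E6_9 : ∀ r < 6, ∀ s < chevE6.nroots, chk2 chevE6 0 (entOf entTE6) (6 * 9 + r) s = true := by
  decide +kernel

theorem c2E6_10 : ∀ r < 6, ∀ s < chevE6.nroots, chk2 chevE6 0 (entOf entTE6) (6 * 10 + r) s = true := by
  decide +kernel

theorem c2E6_11 : ∀ r < 6, ∀ s < chevE6.nroots, chk2 chevE6 0 (entOf entTE6) (6 * 11 + r) s = true := by
  decide +kernel

theorem c3E6_0 : ∀ r < 4, chk3 chevE6 0 (entOf entTE6) (4 * 0 + r) = true := by decide +kernel

theorem c3E6_1 : ∀ r < 4, chk3 chevE6 0 (entOf entTE6) (4 * 1 + r) = true := by decide +kernel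

theorem c3E6_2 : ∀ r < 4, chk3 chevE6 0 (entOf entTE6) (4 * 2 + r) = true := by decide +kernel

theorem c3E6_3 : ∀ r < 4, chk3 chevE6 0 (entOf entTE6) (4 * 3 + r) = true := by decide +kernel

theorem c3E6_4 : ∀ r < 4, chk3 chevE6 0 (entOf entTE6) (4 * 4 + r) = true := by decide +kernel

theorem c3E6_5 : ∀ r < 4, chk3 chevE6 0 (entOf entTE6) (4 * 5 + r) = true := by decide +kernel

theorem c3E6_6 : ∀ r < 4, chk3 chevE6 0 (entOf entTE6) (4 * 6 + r) = true := by decide +kernel

theorem c3E6_7 : ∀ r < 4, chk3 chevE6 0 (entOf entTE6) (4 * 7 + r) = true := by decide +kernel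

theorem c3E6_8 : ∀ r < 4, chk3 chevE6 0 (entOf entTE6) (4 * 8 + r) = true := by decide +kernel

theorem c3E6_9 : ∀ r < 4, chk3 chevE6 0 (entOf entTE6) (4 * 9 + r) = true := by decide +kernel

theorem c3E6_10 : ∀ r < 4, chk3 chevE6 0 (entOf entTE6) (4 * 10 + r) = true := by decide +kernel

theorem c3E6_11 : ∀ r < 4, chk3 chevE6 0 (entOf entTE6) (4 * 11 + r) = true := by decide +kernel

theorem c3E6_12 : ∀ r < 4, chk3 chevE6 0 (entOf entTE6) (4 * 12 + r) = true := by decide +kernel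

theorem c3E6_13 : ∀ r < 4, chk3 chevE6 0 (entOf entTE6) (4 * 13 + r) = true := by decide +kernel

theorem c3E6_14 : ∀ r < 4, chk3 chevE6 0 (entOf entTE6) (4 * 14 + r) = true := by decide +kernel

theorem c3E6_15 : ∀ r < 4, chk3 chevE6 0 (entOf entTE6) (4 * 15 + r) = true := by decide +kernel

theorem c3E6_16 : ∀ r < 4, chk3 chevE6 0 (entOf entTE6) (4 * 16 + r) = true := by decide +kernel

theorem c3E6_17 : ∀ r < 4, chk3 chevE6 0 (entOf entTE6) (4 * 17 + r) = true := by decide +kernel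

theorem repOK_E6 : RepOK chevE6 0 encE6 (entOf entTE6) where
  inj := encE6_inj
  valid r e he := ⟨_, encE6_surj _ (chk0_spec (n := 27) (by decide +kernel) r e he).1⟩
  pos r e he := (chk0_spec (n := 27) (by decide +kernel) r e he).2
  out r hr := List.getD_eq_default _ _ hr
  c1 := by decide +kernel
  c2 := forall_lt_of_chunks 6 12 (by norm_num) fun k hk => by
    interval_cases k
    exacts [c2E6_0, c2E6_1, c2E6_2, c2E6_3, c2E6_4, c2E6_5, c2E6_6, c2E6_7, c2E6_8, c2E6_9, c2E6_10, c2E6_11]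
  c3 := forall_lt_of_chunks 4 18 (by norm_num) fun k hk => by
    interval_cases k
    exacts [c3E6_0, c3E6_1, c3E6_2, c3E6_3, c3E6_4, c3E6_5, c3E6_6, c3E6_7, c3E6_8, c3E6_9, c3E6_10, c3E6_11, c3E6_12, c3E6_13, c3E6_14, c3E6_15, c3E6_16, c3E6_17]

end CL.Rep
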