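import Cfsg.Agent.Base

/-!
# Identifying a central quotient

If `θ : S → G` is onto a non-abelian simple group with central kernel and `φ : S → O` has non-abelian image `E`,
then every subgroup `Ω` with `[E, E] ≤ Ω ≤ E` has `Ω / Z(Ω) ≅ G`.
-/

namespace CL.Rep

open scoped commutatorElement

theorem center_eq_bot_of_simple_nonab {G : Type*} [Group G] [IsSimpleGroup G] (hG : ¬ IsMulCommutative G) :
    Subgroup.center G = ⊥ := by
  rcases Subgroup.Normal.eq_bot_or_eq_top (inferInstance : (Subgroup.center G).Normal) with h | h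
  · exact h
  · exact absurd ⟨⟨fun a b => (Subgroup.mem_center_iff.mp (h ▸ Subgroup.mem_top b : b ∈ Subgroup.center G) a)⟩⟩ hG

theorem commutator_eq_top_of_simple_nonab {G : Type*} [Group G] [IsSimpleGroup G]
    (hG : ¬ IsMulCommutative G) : commutator G = ⊤ := by
  rcases Subgroup.Normal.eq_bot_or_eq_top (inferInstance : (commutator G).Normal) with h | h
  · exfalso
    apply hG
    refine ⟨⟨fun a b => ?_⟩⟩
    have : ⁅a, b⁆ ∈ commutator G := Subgroup.commutator_mem_commutator (Subgroup.mem_top a) (Subgroup.mem_top b)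
    rw [h, Subgroup.mem_bot, commutatorElement_eq_one_iff_mul_comm] at this
    exact this
  · exact h

theorem central_quotient_equiv {S G O : Type*} [Group S] [Group G] [Group O] [IsSimpleGroup G]
    (hG : ¬ IsMulCommutative G) (θ : S →* G) (hθ : Function.Surjective θ) (hker : θ.ker ≤ Subgroup.center S)
    (φ : S →* O) (hφ : ∃ a b : S, φ a * φ b ≠ φ b * φ a) (Ω : Subgroup O)
    (h1 : ⁅φ.range, φ.range⁆ ≤ Ω) (h2 : Ω ≤ φ.range) :
    Nonempty (G ≃* Ω ⧸ Subgroup.center Ω) := by
  have hk : φ.ker ≤ θ.ker := by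
    rcases Subgroup.Normal.eq_bot_or_eq_top (Subgroup.Normal.map (inferInstance : φ.ker.Normal) θ hθ) with h | h
    · exact (Subgroup.map_eq_bot_iff _).mp h
    · exfalso
      obtain ⟨a, b, hab⟩ := hφ
      apply hab
      obtain ⟨k, hk, hka⟩ : θ a ∈ φ.ker.map θ := h ▸ Subgroup.mem_top _
      have hz : k⁻¹ * a ∈ Subgroup.center S := hker (by rw [MonoidHom.mem_ker, map_mul, map_inv, hka, inv_mul_cancel])
      have e1 : φ a = φ (k⁻¹ * a) := by
        rw [map_mul, map_inv, (MonoidHom.mem_ker.mp hk : φ k = 1), inv_one, one_mul]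
      rw [e1, ← map_mul, ← map_mul, Subgroup.mem_center_iff.mp hz b]
  have hk' : φ.rangeRestrict.ker ≤ θ.ker := by rwa [MonoidHom.ker_rangeRestrict]
  let ψ : φ.range →* G := φ.rangeRestrict.liftOfSurjective φ.rangeRestrict_surjective ⟨θ, hk'⟩
  have hψ : ∀ s, ψ (φ.rangeRestrict s) = θ s := fun s =>
    MonoidHom.liftOfRightInverse_comp_apply _ _ _ _ s
  let χ : Ω →* G := ψ.comp (Subgroup.inclusion h2)
  have hχ : ∀ (s : S) (hs : φ s ∈ Ω), χ ⟨φ s, hs⟩ = θ s := fun s hs => hψ s
  have hsurj : Function.Surjective χ := by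
    rw [← MonoidHom.range_eq_top, eq_top_iff, ← commutator_eq_top_of_simple_nonab hG, commutator_def,
      Subgroup.commutator_le]
    intro g₁ _ g₂ _
    obtain ⟨s₁, rfl⟩ := hθ g₁
    obtain ⟨s₂, rfl⟩ := hθ g₂
    have : φ ⁅s₁, s₂⁆ ∈ Ω := by
      rw [map_commutatorElement]
      exact h1 (Subgroup.commutator_mem_commutator ⟨s₁, rfl⟩ ⟨s₂, rfl⟩)
    exact ⟨⟨_, this⟩, by rw [hχ, map_commutatorElement]⟩
  have hkc : χ.ker = Subgroup.center Ω := by
    apply le_antisymm
    · rintro ⟨a, ha⟩ hak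
      obtain ⟨s, rfl⟩ := h2 ha
      rw [MonoidHom.mem_ker, hχ] at hak
      have hz := hker hak
      rw [Subgroup.mem_center_iff]
      rintro ⟨b, hb⟩
      obtain ⟨s', rfl⟩ := h2 hb
      apply Subtype.ext
      change φ s' * φ s = φ s * φ s'
      rw [← map_mul, ← map_mul, Subgroup.mem_center_iff.mp hz s']
    · intro a ha
      rw [MonoidHom.mem_ker, ← Subgroup.mem_bot, ← center_eq_bot_of_simple_nonab hG, Subgroup.mem_center_iff]
      intro g
      obtain ⟨b, rfl⟩ := hsurj g
      rw [← map_mul, ← map_mul, Subgroup.mem_center_iff.mp ha b]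
  exact ⟨((QuotientGroup.quotientMulEquivOfEq hkc.symm).trans
    (QuotientGroup.quotientKerEquivOfSurjective χ hsurj)).symm⟩

end CL.Rep
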