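import Cfsg.Agent.Base

/-!
Geometric representation of a Coxeter system attached to an integer Cartan matrix, and the
fundamental positivity theorem: `ℓ(w sᵢ) > ℓ(w)` forces `w αᵢ ≥ 0`.
-/

set_option autoImplicit false
set_option linter.unusedSectionVars false
set_option linter.unusedSimpArgs false

namespace CL.Cox

variable {B : Type*} [Fintype B] [DecidableEq B]

/-- The off-diagonal condition relating a Coxeter entry `m` to the Cartan integers `a, b`. -/
def CartanEntry (m : ℕ) (a b : ℤ) : Prop :=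
  (m = 2 ∧ a = 0 ∧ b = 0) ∨ (m = 3 ∧ a = -1 ∧ b = -1) ∨
    (m = 4 ∧ a = -1 ∧ b = -2) ∨ (m = 4 ∧ a = -2 ∧ b = -1) ∨
    (m = 6 ∧ a = -1 ∧ b = -3) ∨ (m = 6 ∧ a = -3 ∧ b = -1)

instance decCartanEntry (m : ℕ) (a b : ℤ) : Decidable (CartanEntry m a b) := by
  unfold CartanEntry; infer_instance

/-- `A` is a (finite type rank two minors) Cartan matrix for the Coxeter matrix `M`. -/
def IsCartanFor (M : CoxeterMatrix B) (A : B → B → ℤ) : Prop :=
  (∀ i, A i i = 2) ∧ ∀ i j, i ≠ j → CartanEntry (M i j) (A i j) (A j i)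

/-- The linear form `v ↦ ∑ j, A i j * v j`. -/
def form (A : B → B → ℤ) (i : B) : (B → ℤ) →ₗ[ℤ] ℤ where
  toFun v := ∑ j, A i j * v j
  map_add' u v := by simp [mul_add, Finset.sum_add_distrib]
  map_smul' c v := by simp [Finset.mul_sum, mul_left_comm]

theorem form_apply (A : B → B → ℤ) (i : B) (v : B → ℤ) : form A i v = ∑ j, A i j * v j := rfl

theorem form_single (A : B → B → ℤ) (i j : B) : form A i (Pi.single j 1) = A i j := by
  simp [form_apply, Pi.single_apply]

/-- The simple reflection `v ↦ v - (∑ j, A i j * v j) eᵢ`. -/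
def refl (A : B → B → ℤ) (i : B) : Module.End ℤ (B → ℤ) :=
  LinearMap.id - (form A i).smulRight (Pi.single i 1)

theorem refl_apply (A : B → B → ℤ) (i : B) (v : B → ℤ) :
    refl A i v = v - form A i v • (Pi.single i 1 : B → ℤ) := by
  simp [refl]

theorem refl_apply_of_ne (A : B → B → ℤ) {i j : B} (h : j ≠ i) (v : B → ℤ) :
    refl A i v j = v j := by
  simp [refl_apply, Pi.single_apply, h]

theorem refl_apply_self (A : B → B → ℤ) (i : B) (v : B → ℤ) :
    refl A i v i = v i - form A i v := by
  simp [refl_apply]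

theorem refl_single (A : B → B → ℤ) (i j : B) :
    refl A i (Pi.single j 1) = Pi.single j 1 - A i j • (Pi.single i 1 : B → ℤ) := by
  rw [refl_apply, form_single]

theorem refl_plane_left {A : B → B → ℤ} {i j : B} (hi : A i i = 2) (v : B → ℤ) (x y : ℤ) :
    refl A i (v + x • (Pi.single i 1 : B → ℤ) + y • (Pi.single j 1 : B → ℤ)) =
      v + (-x - form A i v - A i j * y) • (Pi.single i 1 : B → ℤ) + y • (Pi.single j 1 : B → ℤ) := by
  rw [refl_apply]
  simp only [map_add, map_smul, form_single, hi, smul_eq_mul]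
  module

theorem refl_plane_right {A : B → B → ℤ} {i j : B} (hj : A j j = 2) (v : B → ℤ) (x y : ℤ) :
    refl A j (v + x • (Pi.single i 1 : B → ℤ) + y • (Pi.single j 1 : B → ℤ)) =
      v + x • (Pi.single i 1 : B → ℤ) + (-y - form A j v - A j i * x) • (Pi.single j 1 : B → ℤ) := by
  rw [refl_apply]
  simp only [map_add, map_smul, form_single, hj, smul_eq_mul]
  module

variable {M : CoxeterMatrix B} {A : B → B → ℤ}

theorem refl_mul_self (hi : ∀ i, A i i = 2) (i : B) : refl A i * refl A i = 1 := by
  refine LinearMap.ext fun v => ?_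
  have h1 : v = v + (0:ℤ) • (Pi.single i 1 : B → ℤ) + (0:ℤ) • (Pi.single i 1 : B → ℤ) := by simp
  rw [Module.End.mul_apply, Module.End.one_apply]
  conv_lhs => rw [h1, refl_plane_left (hi i), refl_plane_left (hi i)]
  simp

theorem isLiftable_refl (h : IsCartanFor M A) : M.IsLiftable (refl A) := by
  intro i j
  by_cases hij : i = j
  · subst hij
    rw [M.diagonal, pow_one, refl_mul_self h.1]
  refine LinearMap.ext fun v => ?_
  have h1 : v = v + (0:ℤ) • (Pi.single i 1 : B → ℤ) + (0:ℤ) • (Pi.single j 1 : B → ℤ) := by simp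
  have hi := h.1 i
  have hj := h.1 j
  rw [Module.End.one_apply]
  conv_lhs => rw [h1]
  rcases h.2 i j hij with ⟨hm, ha, hb⟩ | ⟨hm, ha, hb⟩ | ⟨hm, ha, hb⟩ | ⟨hm, ha, hb⟩ |
      ⟨hm, ha, hb⟩ | ⟨hm, ha, hb⟩ <;>
  · simp only [hm, pow_succ, pow_zero, Module.End.mul_apply, Module.End.one_apply,
      refl_plane_left hi, refl_plane_right hj, ha, hb]
    ring_nf

variable {W : Type*} [Group W] (cs : CoxeterSystem M W)

/-- The geometric representation. -/
noncomputable def geom (h : IsCartanFor M A) : W →* Module.End ℤ (B → ℤ) :=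
  cs.lift ⟨refl A, isLiftable_refl h⟩

theorem geom_simple (h : IsCartanFor M A) (i : B) : geom cs h (cs.simple i) = refl A i :=
  cs.lift_apply_simple _ i

theorem geom_simple_mul (h : IsCartanFor M A) (i : B) (w : W) (v : B → ℤ) :
    geom cs h (cs.simple i * w) v = refl A i (geom cs h w v) := by
  rw [map_mul, Module.End.mul_apply, geom_simple]

theorem geom_mul_simple (h : IsCartanFor M A) (i : B) (w : W) (v : B → ℤ) :
    geom cs h (w * cs.simple i) v = geom cs h w (refl A i v) := by
  rw [map_mul, Module.End.mul_apply, geom_simple]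

theorem geom_wordProd_cons (h : IsCartanFor M A) (i : B) (ω : List B) (v : B → ℤ) :
    geom cs h (cs.wordProd (i :: ω)) v = refl A i (geom cs h (cs.wordProd ω) v) := by
  rw [cs.wordProd_cons, geom_simple_mul]

theorem geom_wordProd_nil (h : IsCartanFor M A) (v : B → ℤ) :
    geom cs h (cs.wordProd []) v = v := by
  simp

theorem geom_alternating (h : IsCartanFor M A) {i j : B} (hij : i ≠ j) {k : ℕ} (hk : k < M i j) :
    ∃ a b : ℤ, 0 ≤ a ∧ 0 ≤ b ∧ geom cs h (cs.wordProd (CoxeterSystem.alternatingWord i j k))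
      (Pi.single i 1) = a • (Pi.single i 1 : B → ℤ) + b • (Pi.single j 1 : B → ℤ) := by
  have h1 : (Pi.single i 1 : B → ℤ) =
      0 + (1:ℤ) • (Pi.single i 1 : B → ℤ) + (0:ℤ) • (Pi.single j 1 : B → ℤ) := by simp
  have hi := h.1 i
  have hj := h.1 j
  have key : ∀ a b : ℤ, 0 ≤ a → 0 ≤ b → ∃ a' b' : ℤ, 0 ≤ a' ∧ 0 ≤ b' ∧
      0 + a • (Pi.single i 1 : B → ℤ) + b • (Pi.single j 1 : B → ℤ) =
        a' • (Pi.single i 1 : B → ℤ) + b' • (Pi.single j 1 : B → ℤ) :=
    fun a b ha hb => ⟨a, b, ha, hb, by simp⟩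
  rcases h.2 i j hij with ⟨hm, ha, hb⟩ | ⟨hm, ha, hb⟩ | ⟨hm, ha, hb⟩ | ⟨hm, ha, hb⟩ |
      ⟨hm, ha, hb⟩ | ⟨hm, ha, hb⟩ <;>
  · rw [hm] at hk
    interval_cases k <;>
    · conv => enter [1, a, 1, b, 2, 2, 1, 2]; rw [h1]
      simp only [CoxeterSystem.alternatingWord, List.concat_eq_append, List.nil_append,
        List.cons_append, geom_wordProd_cons, geom_wordProd_nil,
        refl_plane_left hi, refl_plane_right hj, ha, hb, map_zero]
      exact key _ _ (by norm_num) (by norm_num)

theorem CartanEntry.ne_zero {m : ℕ} {a b : ℤ} (h : CartanEntry m a b) : m ≠ 0 := by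
  rcases h with ⟨hm, -⟩ | ⟨hm, -⟩ | ⟨hm, -⟩ | ⟨hm, -⟩ | ⟨hm, -⟩ | ⟨hm, -⟩ <;> omega

theorem CartanEntry.nonpos {m : ℕ} {a b : ℤ} (h : CartanEntry m a b) : a ≤ 0 ∧ b ≤ 0 := by
  rcases h with ⟨-, hm⟩ | ⟨-, hm⟩ | ⟨-, hm⟩ | ⟨-, hm⟩ | ⟨-, hm⟩ | ⟨-, hm⟩ <;> omega

/-- The fundamental theorem: if `i` is not a right descent of `w` then `w αᵢ ≥ 0`. -/
theorem geom_nonneg_of_not_isRightDescent (h : IsCartanFor M A) (w : W) (i : B)
    (hw : ¬ cs.IsRightDescent w i) : 0 ≤ geom cs h w (Pi.single i 1) := by
  classical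
  induction hn : cs.length w using Nat.strong_induction_on generalizing w i with
  | _ n ih =>
  by_cases hw1 : w = 1
  · subst hw1
    rw [map_one, Module.End.one_apply]
    intro k
    by_cases hk : k = i <;> simp [Pi.single_apply, hk]
  obtain ⟨j, hj⟩ := cs.exists_rightDescent_of_ne_one hw1
  have hij : i ≠ j := by rintro rfl; exact hw hj
  let P : ℕ → Prop := fun k => ∃ v : W,
    w = v * cs.wordProd (CoxeterSystem.alternatingWord i j k) ∧ cs.length w = cs.length v + k
  have hP1 : P 1 := by
    refine ⟨w * cs.simple j, ?_, ?_⟩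
    · simp [CoxeterSystem.alternatingWord]
    · rw [cs.isRightDescent_iff] at hj; omega
  have hle : 1 ≤ n := by
    obtain ⟨v, -, hv⟩ := hP1; omega
  set k := Nat.findGreatest P n with hk
  have hPk : P k := Nat.findGreatest_spec hle hP1
  have hk1 : 1 ≤ k := Nat.le_findGreatest hle hP1
  have hmax : ¬ P (k + 1) := by
    intro hP
    have : k + 1 ≤ n := by obtain ⟨v, -, hv⟩ := hP; omega
    exact Nat.findGreatest_is_greatest (Nat.lt_succ_self k) this hP
  obtain ⟨v, hv, hl⟩ := hPk
  clear_value k
  -- `v` has neither descent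
  have hc : ¬ cs.IsRightDescent v (if Even k then j else i) := by
    intro hd
    apply hmax
    refine ⟨v * cs.simple (if Even k then j else i), ?_, ?_⟩
    · rw [CoxeterSystem.alternatingWord_succ', cs.wordProd_cons, ← mul_assoc,
        cs.simple_mul_simple_cancel_right]
      exact hv
    · rw [cs.isRightDescent_iff] at hd; omega
  have hc' : ¬ cs.IsRightDescent v (if Even k then i else j) := by
    intro hd
    obtain ⟨k', rfl⟩ : ∃ k', k = k' + 1 := ⟨k - 1, by omega⟩
    have e : (if Even k' then j else i) = (if Even (k' + 1) then i else j) := by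
      by_cases h' : Even k' <;> simp [h', Nat.even_add_one]
    rw [CoxeterSystem.alternatingWord_succ', cs.wordProd_cons, ← mul_assoc, e] at hv
    rw [cs.isRightDescent_iff] at hd
    have h1 := cs.length_mul_le (v * cs.simple (if Even (k' + 1) then i else j))
      (cs.wordProd (CoxeterSystem.alternatingWord i j k'))
    have h2 := cs.length_wordProd_le (CoxeterSystem.alternatingWord i j k')
    rw [CoxeterSystem.length_alternatingWord] at h2
    rw [← hv] at h1
    omega
  have hvi : ¬ cs.IsRightDescent v i := by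
    by_cases he : Even k
    · simpa [he] using hc'
    · simpa [he] using hc
  have hvj : ¬ cs.IsRightDescent v j := by
    by_cases he : Even k
    · simpa [he] using hc
    · simpa [he] using hc'
  have hlt : cs.length v < n := by omega
  have pi := ih _ hlt v i hvi rfl
  have pj := ih _ hlt v j hvj rfl
  have hkm : k < M i j := by
    by_contra hcon
    have hM : M j i ≠ 0 := (h.2 j i hij.symm).ne_zero
    have hnr := cs.not_isReduced_alternatingWord j i hM (m := k + 1)
      (by rw [M.symmetric j i]; omega)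
    apply hnr
    rw [CoxeterSystem.IsReduced]
    apply le_antisymm (cs.length_wordProd_le _)
    rw [CoxeterSystem.length_alternatingWord]
    rw [cs.not_isRightDescent_iff] at hw
    have h1 := cs.length_mul_le v (cs.wordProd (CoxeterSystem.alternatingWord j i (k + 1)))
    rw [CoxeterSystem.alternatingWord_succ, cs.wordProd_concat, ← mul_assoc, ← hv] at h1
    rw [CoxeterSystem.alternatingWord_succ, cs.wordProd_concat]
    omega
  obtain ⟨a, b, ha, hb, hab⟩ := geom_alternating cs h hij hkm
  rw [hv, map_mul, Module.End.mul_apply, hab, map_add, map_smul, map_smul]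
  exact add_nonneg (smul_nonneg ha pi) (smul_nonneg hb pj)

theorem refl_single_self (hi : ∀ i, A i i = 2) (i : B) :
    refl A i (Pi.single i 1) = -Pi.single i 1 := by
  rw [refl_single, hi]; module

theorem geom_nonpos_of_isRightDescent (h : IsCartanFor M A) (w : W) (i : B)
    (hw : cs.IsRightDescent w i) : geom cs h w (Pi.single i 1) ≤ 0 := by
  have h1 := geom_nonneg_of_not_isRightDescent cs h (w * cs.simple i) i
    ((cs.isRightDescent_iff_not_isRightDescent_mul).1 hw)
  rw [geom_mul_simple, refl_single_self h.1, map_neg] at h1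
  exact neg_nonneg.1 h1

theorem geom_inv_apply (h : IsCartanFor M A) (w : W) (v : B → ℤ) :
    geom cs h w⁻¹ (geom cs h w v) = v := by
  rw [← Module.End.mul_apply, ← map_mul, inv_mul_cancel, map_one, Module.End.one_apply]

theorem geom_apply_inv (h : IsCartanFor M A) (w : W) (v : B → ℤ) :
    geom cs h w (geom cs h w⁻¹ v) = v := by
  rw [← Module.End.mul_apply, ← map_mul, mul_inv_cancel, map_one, Module.End.one_apply]

theorem geom_apply_injective (h : IsCartanFor M A) (w : W) :
    Function.Injective (geom cs h w) :=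
  Function.LeftInverse.injective (geom_inv_apply cs h w)

theorem geom_single_ne_zero (h : IsCartanFor M A) (w : W) (i : B) :
    geom cs h w (Pi.single i 1) ≠ 0 := by
  intro h0
  have := geom_inv_apply cs h w (Pi.single i 1)
  rw [h0, map_zero] at this
  have := congrFun this i
  simp at this

theorem isRightDescent_iff_geom_nonpos (h : IsCartanFor M A) (w : W) (i : B) :
    cs.IsRightDescent w i ↔ geom cs h w (Pi.single i 1) ≤ 0 := by
  refine ⟨geom_nonpos_of_isRightDescent cs h w i, fun h1 => ?_⟩
  by_contra hc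
  exact geom_single_ne_zero cs h w i
    (le_antisymm h1 (geom_nonneg_of_not_isRightDescent cs h w i hc))

theorem eq_one_of_geom_nonneg (h : IsCartanFor M A) (w : W)
    (hw : ∀ i, 0 ≤ geom cs h w (Pi.single i 1)) : w = 1 := by
  by_contra h1
  obtain ⟨j, hj⟩ := cs.exists_rightDescent_of_ne_one h1
  exact geom_single_ne_zero cs h w j
    (le_antisymm (geom_nonpos_of_isRightDescent cs h w j hj) (hw j))

/-- The geometric representation is faithful. -/
theorem geom_injective (h : IsCartanFor M A) : Function.Injective (geom cs h) := by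
  have : ∀ w : W, geom cs h w = 1 → w = 1 := by
    intro w hw
    apply eq_one_of_geom_nonneg cs h w
    intro i k
    rw [hw, Module.End.one_apply]
    by_cases hk : k = i <;> simp [Pi.single_apply, hk]
  intro a b hab
  have h1 : geom cs h (a⁻¹ * b) = 1 := by
    rw [map_mul, ← hab, ← map_mul, inv_mul_cancel, map_one]
  have := this _ h1
  rw [inv_mul_eq_one] at this
  exact this

end CL.Cox
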