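import Cfsg.Agent.Base
import Cfsg.Agent.Chev.CoxGeom

/-!
Root systems for a Coxeter system: a finite set `R` of roots with an action of `W` that is linear
on the coordinate vectors. Inversion sets, length = number of inversions, reflections in arbitrary
roots.
-/

set_option autoImplicit false
set_option linter.unusedSectionVars false
set_option linter.unusedSimpArgs false

namespace CL.Cox

open Matrix

variable {B : Type*} [Fintype B] [DecidableEq B] {M : CoxeterMatrix B}
variable {W : Type*} [Group W]

section dual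
variable {A : B → B → ℤ} (cs : CoxeterSystem M W)

/-- The contragredient action on weight coordinates. -/
noncomputable def dual (h : IsCartanFor M A) : W →* Module.End ℤ (B → ℤ) where
  toFun w :=
    { toFun := fun μ j => μ ⬝ᵥ geom cs h w⁻¹ (Pi.single j 1)
      map_add' := fun u v => by ext j; simp [add_dotProduct]
      map_smul' := fun c v => by
        ext j; simp only [smul_dotProduct, RingHom.id_apply, Pi.smul_apply] }
  map_one' := by
    ext i j
    simp [dotProduct_single, Pi.single_apply, eq_comm]
  map_mul' u v := by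
    refine LinearMap.ext fun μ => funext fun j => ?_
    simp only [LinearMap.coe_mk, AddHom.coe_mk, Module.End.mul_apply, _root_.mul_inv_rev, map_mul]
    set x := geom cs h u⁻¹ (Pi.single j 1)
    have hx : x = ∑ k, x k • (Pi.single k 1 : B → ℤ) := by
      ext l; simp [Finset.sum_apply, Pi.single_apply]
    conv_lhs => rw [hx, map_sum, dotProduct_sum]
    simp only [map_smul, dotProduct_smul, smul_eq_mul]
    simp only [dotProduct, mul_comm]

theorem dual_apply (h : IsCartanFor M A) (w : W) (μ : B → ℤ) (j : B) :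
    dual cs h w μ j = μ ⬝ᵥ geom cs h w⁻¹ (Pi.single j 1) := rfl

theorem dual_dotProduct (h : IsCartanFor M A) (w : W) (μ v : B → ℤ) :
    dual cs h w μ ⬝ᵥ v = μ ⬝ᵥ geom cs h w⁻¹ v := by
  have hx : v = ∑ k, v k • (Pi.single k 1 : B → ℤ) := by
    ext l; simp [Finset.sum_apply, Pi.single_apply]
  conv_rhs => rw [hx, map_sum, dotProduct_sum]
  simp only [map_smul, dotProduct_smul, smul_eq_mul]
  simp only [dotProduct, dual_apply, mul_comm]

theorem dual_dotProduct_geom (h : IsCartanFor M A) (w : W) (μ v : B → ℤ) :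
    dual cs h w μ ⬝ᵥ geom cs h w v = μ ⬝ᵥ v := by
  rw [dual_dotProduct, geom_inv_apply]

theorem form_eq_dotProduct (i : B) (v : B → ℤ) : form A i v = A i ⬝ᵥ v := rfl

theorem dual_simple (h : IsCartanFor M A) (i : B) (μ : B → ℤ) :
    dual cs h (cs.simple i) μ = μ - μ i • A i := by
  ext j
  rw [dual_apply, cs.inv_simple, geom_simple, refl_single]
  simp only [dotProduct_sub, dotProduct_smul, dotProduct_single, Pi.sub_apply, Pi.smul_apply,
    smul_eq_mul]
  ring

theorem dual_simple_mul (h : IsCartanFor M A) (i : B) (w : W) (μ : B → ℤ) :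
    dual cs h (cs.simple i * w) μ = dual cs h w μ - dual cs h w μ i • A i := by
  rw [map_mul, Module.End.mul_apply, dual_simple]

theorem dual_inv_apply (h : IsCartanFor M A) (w : W) (v : B → ℤ) :
    dual cs h w⁻¹ (dual cs h w v) = v := by
  rw [← Module.End.mul_apply, ← map_mul, inv_mul_cancel, map_one, Module.End.one_apply]

theorem dual_apply_inv (h : IsCartanFor M A) (w : W) (v : B → ℤ) :
    dual cs h w (dual cs h w⁻¹ v) = v := by
  rw [← Module.End.mul_apply, ← map_mul, mul_inv_cancel, map_one, Module.End.one_apply]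

theorem dual_apply_injective (h : IsCartanFor M A) (w : W) :
    Function.Injective (dual cs h w) :=
  Function.LeftInverse.injective (dual_inv_apply cs h w)

end dual

section mk
variable {A : B → B → ℤ} (cs : CoxeterSystem M W) {R : Type*}

/-- The permutation of the roots given by a simple reflection. -/
def reflPerm (h : IsCartanFor M A) {root : R → B → ℤ} (hinj : Function.Injective root)
    {rf : B → R → R} (hrf : ∀ i r, root (rf i r) = refl A i (root r)) (i : B) : Equiv.Perm R :=
  Function.Involutive.toPerm (rf i) fun r => hinj (by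
    rw [hrf, hrf, ← Module.End.mul_apply, refl_mul_self h.1, Module.End.one_apply])

theorem isLiftable_reflPerm (h : IsCartanFor M A) {root : R → B → ℤ}
    (hinj : Function.Injective root)
    {rf : B → R → R} (hrf : ∀ i r, root (rf i r) = refl A i (root r)) :
    M.IsLiftable (reflPerm h hinj hrf) := by
  intro i j
  have key : ∀ (n : ℕ) (r : R), root (((reflPerm h hinj hrf i * reflPerm h hinj hrf j) ^ n) r) =
      ((refl A i * refl A j) ^ n) (root r) := by
    intro n
    induction n with
    | zero => intro r; simp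
    | succ n ih =>
      intro r
      rw [pow_succ, pow_succ, Equiv.Perm.mul_apply, ih, Module.End.mul_apply,
        Module.End.mul_apply, ← hrf, ← hrf]
      rfl
  ext r
  apply hinj
  rw [key, isLiftable_refl h i j]
  rfl

/-- The action of `W` on a set of roots closed under the simple reflections. -/
@[reducible] noncomputable def mkAction (h : IsCartanFor M A) {root : R → B → ℤ}
    (hinj : Function.Injective root)
    {rf : B → R → R} (hrf : ∀ i r, root (rf i r) = refl A i (root r)) : MulAction W R :=
  MulAction.compHom R (cs.lift ⟨_, isLiftable_reflPerm h hinj hrf⟩)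

theorem mkAction_simple_smul (h : IsCartanFor M A) {root : R → B → ℤ}
    (hinj : Function.Injective root)
    {rf : B → R → R} (hrf : ∀ i r, root (rf i r) = refl A i (root r)) (i : B) (r : R) :
    (letI := mkAction cs h hinj hrf; cs.simple i • r) = rf i r := by
  change (cs.lift ⟨_, isLiftable_reflPerm h hinj hrf⟩ (cs.simple i)) r = _
  rw [cs.lift_apply_simple]
  rfl

end mk

/-- A root system for the Coxeter system `cs` on a set `R` acted on by `W`. `root r` is the
coordinate vector on the simple (co)roots, `wt r` the vector of pairings of the dual root with the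
simple (co)roots. -/
structure RootSys (cs : CoxeterSystem M W) (R : Type*) [MulAction W R] where
  A : B → B → ℤ
  cartan : IsCartanFor M A
  root : R → B → ℤ
  wt : R → B → ℤ
  simple : B → R
  neg : R → R
  root_inj : Function.Injective root
  root_simple : ∀ i, root (simple i) = Pi.single i 1
  root_neg : ∀ r, root (neg r) = -root r
  root_simple_smul : ∀ i r, root (cs.simple i • r) = refl A i (root r)
  wt_simple : ∀ i, wt (simple i) = A i
  wt_simple_smul : ∀ i r, wt (cs.simple i • r) = wt r - wt r i • A i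
  pos_or_neg : ∀ r, 0 ≤ root r ∨ root r ≤ 0
  ne_zero : ∀ r, root r ≠ 0
  reduced : ∀ i r, 0 ≤ root r → (∀ j, j ≠ i → root r j = 0) → r = simple i
  descent : ∀ r, 0 ≤ root r → ∃ i, 0 < form A i (root r)

namespace RootSys

variable {cs : CoxeterSystem M W} {R : Type*} [MulAction W R] (Φ : RootSys cs R)

/-- Positive roots. -/
def Pos (r : R) : Prop := 0 ≤ Φ.root r

theorem root_smul (w : W) (r : R) : Φ.root (w • r) = geom cs Φ.cartan w (Φ.root r) := by
  induction w using cs.simple_induction_left with
  | one => simp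
  | mul_simple_left w i ih => rw [mul_smul, Φ.root_simple_smul, ih, geom_simple_mul]

theorem wt_smul (w : W) (r : R) : Φ.wt (w • r) = dual cs Φ.cartan w (Φ.wt r) := by
  induction w using cs.simple_induction_left with
  | one => simp
  | mul_simple_left w i ih => rw [mul_smul, Φ.wt_simple_smul, ih, dual_simple_mul]

theorem neg_neg (r : R) : Φ.neg (Φ.neg r) = r := Φ.root_inj (by simp [Φ.root_neg])

theorem neg_injective : Function.Injective Φ.neg := Function.LeftInverse.injective Φ.neg_neg

theorem smul_neg (w : W) (r : R) : w • Φ.neg r = Φ.neg (w • r) :=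
  Φ.root_inj (by simp [Φ.root_neg, Φ.root_smul])

theorem not_pos_iff (r : R) : ¬ Φ.Pos r ↔ Φ.root r ≤ 0 := by
  refine ⟨fun h => (Φ.pos_or_neg r).resolve_left h, fun h h' => Φ.ne_zero r (le_antisymm h h')⟩

theorem pos_neg_iff (r : R) : Φ.Pos (Φ.neg r) ↔ ¬ Φ.Pos r := by
  rw [not_pos_iff, Pos, Φ.root_neg, neg_nonneg]

theorem not_pos_neg_iff (r : R) : ¬ Φ.Pos (Φ.neg r) ↔ Φ.Pos r := by
  rw [pos_neg_iff, not_not]

theorem neg_ne_self (r : R) : Φ.neg r ≠ r := by
  intro h
  have := Φ.pos_neg_iff r
  rw [h] at this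
  tauto

theorem pos_simple (i : B) : Φ.Pos (Φ.simple i) := by
  intro k
  rw [Φ.root_simple]
  by_cases hk : k = i <;> simp [Pi.single_apply, hk]

theorem simple_injective : Function.Injective Φ.simple := by
  intro i j h
  have := congrArg (fun r => Φ.root r i) h
  simp only [Φ.root_simple] at this
  by_contra hij
  simp [Pi.single_apply, hij] at this

theorem pos_of_coord_pos {r : R} {j : B} (h : 0 < Φ.root r j) : Φ.Pos r := by
  rcases Φ.pos_or_neg r with h1 | h1
  · exact h1
  · exact absurd (h1 j) (by simpa using h)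

theorem not_pos_of_coord_neg {r : R} {j : B} (h : Φ.root r j < 0) : ¬ Φ.Pos r :=
  fun h1 => absurd (h1 j) (by simpa using h)

theorem exists_coord_pos {r : R} (h : Φ.Pos r) : ∃ j, 0 < Φ.root r j := by
  by_contra hc
  push Not at hc
  exact Φ.ne_zero r (le_antisymm hc h)

theorem exists_coord_pos_of_ne {r : R} {i : B} (h : Φ.Pos r) (hr : r ≠ Φ.simple i) :
    ∃ j, j ≠ i ∧ 0 < Φ.root r j := by
  by_contra hc
  push Not at hc
  exact hr (Φ.reduced i r h fun j hj => le_antisymm (hc j hj) (h j))

theorem simple_smul_simple (i : B) : cs.simple i • Φ.simple i = Φ.neg (Φ.simple i) :=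
  Φ.root_inj (by rw [Φ.root_simple_smul, Φ.root_neg, Φ.root_simple, refl_single_self Φ.cartan.1])

theorem simple_smul_neg_simple (i : B) : cs.simple i • Φ.neg (Φ.simple i) = Φ.simple i := by
  rw [Φ.smul_neg, simple_smul_simple, neg_neg]

theorem simple_smul_simple_smul (i : B) (r : R) : cs.simple i • cs.simple i • r = r := by
  rw [← mul_smul, cs.simple_mul_simple_self, one_smul]

theorem pos_simple_smul {r : R} {i : B} (h : Φ.Pos r) (hr : r ≠ Φ.simple i) :
    Φ.Pos (cs.simple i • r) := by
  obtain ⟨j, hj, hp⟩ := Φ.exists_coord_pos_of_ne h hr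
  apply Φ.pos_of_coord_pos (j := j)
  rwa [Φ.root_simple_smul, refl_apply_of_ne _ hj]

theorem simple_smul_ne_simple {r : R} {i : B} (h : Φ.Pos r) : cs.simple i • r ≠ Φ.simple i := by
  intro h1
  have : r = Φ.neg (Φ.simple i) := by
    rw [← Φ.simple_smul_simple, ← h1, simple_smul_simple_smul]
  rw [this, pos_neg_iff] at h
  exact h (Φ.pos_simple i)

theorem not_pos_simple_smul_iff {r : R} {i : B} (h : Φ.Pos r) :
    ¬ Φ.Pos (cs.simple i • r) ↔ r = Φ.simple i := by
  refine ⟨fun h1 => by_contra fun h2 => h1 (Φ.pos_simple_smul h h2), ?_⟩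
  rintro rfl
  rw [simple_smul_simple, not_pos_neg_iff]
  exact h

theorem isRightDescent_iff (w : W) (i : B) :
    cs.IsRightDescent w i ↔ ¬ Φ.Pos (w • Φ.simple i) := by
  rw [not_pos_iff, root_smul, Φ.root_simple, isRightDescent_iff_geom_nonpos cs Φ.cartan]

theorem isLeftDescent_iff (w : W) (i : B) :
    cs.IsLeftDescent w i ↔ ¬ Φ.Pos (w⁻¹ • Φ.simple i) := by
  rw [← isRightDescent_iff, cs.isRightDescent_inv_iff]

theorem length_mul_simple_of_pos {w : W} {i : B} (h : Φ.Pos (w • Φ.simple i)) :
    cs.length (w * cs.simple i) = cs.length w + 1 := by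
  rw [← cs.not_isRightDescent_iff, isRightDescent_iff Φ, not_not]; exact h

theorem length_mul_simple_of_not_pos {w : W} {i : B} (h : ¬ Φ.Pos (w • Φ.simple i)) :
    cs.length (w * cs.simple i) + 1 = cs.length w := by
  rw [← cs.isRightDescent_iff, isRightDescent_iff Φ]; exact h

theorem length_simple_mul_of_pos {w : W} {i : B} (h : Φ.Pos (w⁻¹ • Φ.simple i)) :
    cs.length (cs.simple i * w) = cs.length w + 1 := by
  rw [← cs.not_isLeftDescent_iff, isLeftDescent_iff Φ, not_not]; exact h

theorem length_simple_mul_of_not_pos {w : W} {i : B} (h : ¬ Φ.Pos (w⁻¹ • Φ.simple i)) :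
    cs.length (cs.simple i * w) + 1 = cs.length w := by
  rw [← cs.isLeftDescent_iff, isLeftDescent_iff Φ]; exact h

theorem eq_one_of_pos_simple {w : W} (h : ∀ i, Φ.Pos (w • Φ.simple i)) : w = 1 := by
  by_contra h1
  obtain ⟨j, hj⟩ := cs.exists_rightDescent_of_ne_one h1
  exact (Φ.isRightDescent_iff w j).1 hj (h j)

theorem eq_one_of_pos {w : W} (h : ∀ r, Φ.Pos r → Φ.Pos (w • r)) : w = 1 :=
  Φ.eq_one_of_pos_simple fun i => h _ (Φ.pos_simple i)

theorem eq_of_smul_simple_eq {u v : W} (h : ∀ i, u • Φ.simple i = v • Φ.simple i) : u = v := by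
  have : v⁻¹ * u = 1 := Φ.eq_one_of_pos_simple fun i => by
    rw [mul_smul, h, inv_smul_smul]; exact Φ.pos_simple i
  rw [inv_mul_eq_one] at this
  exact this.symm

include Φ in
theorem faithfulSMul : FaithfulSMul W R :=
  ⟨fun h => Φ.eq_of_smul_simple_eq fun _ => h _⟩

include Φ in
theorem finite [Finite R] : Finite W :=
  haveI := Φ.faithfulSMul
  Finite.of_injective _ (MulAction.toPerm_injective (α := W) (β := R))

/-- If `w` sends the simple roots in the support of a positive root `r` to positive roots, it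
sends `r` to a positive root. -/
theorem pos_smul_of_support {w : W} {r : R} (hr : Φ.Pos r)
    (h : ∀ i, Φ.root r i ≠ 0 → Φ.Pos (w • Φ.simple i)) : Φ.Pos (w • r) := by
  have hx : Φ.root r = ∑ k, Φ.root r k • (Pi.single k 1 : B → ℤ) := by
    ext l; simp [Finset.sum_apply, Pi.single_apply]
  rw [Pos, root_smul, hx, map_sum]
  refine Finset.sum_nonneg fun k _ => ?_
  rw [map_smul]
  by_cases hk : Φ.root r k = 0
  · simp [hk]
  · refine smul_nonneg (hr k) ?_
    have := h k hk
    rwa [Pos, root_smul, Φ.root_simple] at this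

theorem not_pos_smul_of_support {w : W} {r : R} (hr : Φ.Pos r)
    (h : ∀ i, Φ.root r i ≠ 0 → ¬ Φ.Pos (w • Φ.simple i)) : ¬ Φ.Pos (w • r) := by
  have hx : Φ.root r = ∑ k, Φ.root r k • (Pi.single k 1 : B → ℤ) := by
    ext l; simp [Finset.sum_apply, Pi.single_apply]
  rw [not_pos_iff, root_smul, hx, map_sum]
  refine Finset.sum_nonpos fun k _ => ?_
  rw [map_smul]
  by_cases hk : Φ.root r k = 0
  · simp [hk]
  · refine smul_nonpos_of_nonneg_of_nonpos (hr k) ?_
    have := h k hk
    rwa [not_pos_iff, root_smul, Φ.root_simple] at this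

/-- The height of a root with respect to the coordinates `root`. -/
def height (r : R) : ℤ := ∑ j, Φ.root r j

theorem height_pos {r : R} (h : Φ.Pos r) : 0 < Φ.height r := by
  obtain ⟨j, hj⟩ := Φ.exists_coord_pos h
  exact Finset.sum_pos' (fun k _ => h k) ⟨j, Finset.mem_univ _, hj⟩

theorem height_simple_smul (i : B) (r : R) :
    Φ.height (cs.simple i • r) = Φ.height r - form Φ.A i (Φ.root r) := by
  simp [height, Φ.root_simple_smul, refl_apply, Finset.sum_sub_distrib, Pi.single_apply]

/-- Induction principle for positive roots: every positive root is obtained from a simple root by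
simple reflections `s i` with `i` in the support that raise the height. -/
theorem pos_induction {p : R → Prop} (h1 : ∀ i, p (Φ.simple i))
    (h2 : ∀ r i, Φ.Pos r → Φ.root r i ≠ 0 → Φ.Pos (cs.simple i • r) →
      Φ.height (cs.simple i • r) < Φ.height r → p (cs.simple i • r) → p r)
    {r : R} (hr : Φ.Pos r) : p r := by
  obtain ⟨n, hn⟩ : ∃ n : ℕ, Φ.height r = n := ⟨(Φ.height r).toNat, by
    rw [Int.toNat_of_nonneg (Φ.height_pos hr).le]⟩
  induction n using Nat.strong_induction_on generalizing r with
  | _ n ih =>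
  obtain ⟨i, hi⟩ := Φ.descent r hr
  by_cases hri : r = Φ.simple i
  · rw [hri]; exact h1 i
  have hp := Φ.pos_simple_smul hr hri
  have hh := Φ.height_simple_smul i r
  have hh' := Φ.height_pos hp
  refine h2 r i hr ?_ hp (by omega) (ih (Φ.height (cs.simple i • r)).toNat (by omega) hp (by omega))
  intro h0
  have : form Φ.A i (Φ.root r) ≤ 0 := by
    rw [form_apply]
    refine Finset.sum_nonpos fun j _ => ?_
    by_cases hj : j = i
    · simp [hj, h0]
    · exact mul_nonpos_of_nonpos_of_nonneg (Φ.cartan.2 i j (Ne.symm hj)).nonpos.1 (hr j)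
  omega

theorem exists_smul_simple (r : R) : ∃ (w : W) (i : B), r = w • Φ.simple i := by
  have key : ∀ r, Φ.Pos r → ∃ (w : W) (i : B), r = w • Φ.simple i := fun r hr => by
    refine Φ.pos_induction (p := fun r => ∃ (w : W) (i : B), r = w • Φ.simple i)
      (fun i => ⟨1, i, by simp⟩) ?_ hr
    rintro r i - - - - ⟨w, j, hw⟩
    exact ⟨cs.simple i * w, j, by rw [mul_smul, ← hw, simple_smul_simple_smul]⟩
  by_cases hr : Φ.Pos r
  · exact key r hr
  · obtain ⟨w, i, hw⟩ := key (Φ.neg r) ((Φ.pos_neg_iff r).2 hr)
    exact ⟨w * cs.simple i, i, by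
      rw [mul_smul, simple_smul_simple, smul_neg, ← hw, neg_neg]⟩

theorem wt_neg (r : R) : Φ.wt (Φ.neg r) = -Φ.wt r := by
  obtain ⟨w, i, rfl⟩ := Φ.exists_smul_simple r
  rw [← smul_neg, wt_smul, wt_smul, ← map_neg, ← simple_smul_simple, Φ.wt_simple_smul,
    Φ.wt_simple, Φ.cartan.1]
  congr 1
  module

/-- The Cartan integer `⟨r, t^∨⟩`. -/
def pair (r t : R) : ℤ := Φ.wt r ⬝ᵥ Φ.root t

theorem pair_smul (w : W) (r t : R) : Φ.pair (w • r) (w • t) = Φ.pair r t := by
  rw [pair, wt_smul, root_smul, dual_dotProduct_geom, pair]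

theorem pair_simple_left (i : B) (t : R) : Φ.pair (Φ.simple i) t = form Φ.A i (Φ.root t) := by
  rw [pair, Φ.wt_simple, form_eq_dotProduct]

theorem pair_simple_right (r : R) (i : B) : Φ.pair r (Φ.simple i) = Φ.wt r i := by
  rw [pair, Φ.root_simple, dotProduct_single, mul_one]

theorem pair_self (r : R) : Φ.pair r r = 2 := by
  obtain ⟨w, i, rfl⟩ := Φ.exists_smul_simple r
  rw [pair_smul, pair_simple_right, Φ.wt_simple, Φ.cartan.1]

theorem pair_neg_left (r t : R) : Φ.pair (Φ.neg r) t = -Φ.pair r t := by
  rw [pair, wt_neg, neg_dotProduct, pair]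

theorem pair_neg_right (r t : R) : Φ.pair r (Φ.neg t) = -Φ.pair r t := by
  rw [pair, Φ.root_neg, dotProduct_neg, pair]

theorem root_conj_smul (w : W) (i : B) (t : R) :
    Φ.root ((w * cs.simple i * w⁻¹) • t) =
      Φ.root t - Φ.pair (w • Φ.simple i) t • Φ.root (w • Φ.simple i) := by
  rw [mul_smul, mul_smul, root_smul, Φ.root_simple_smul, refl_apply, map_sub, map_smul,
    ← root_smul, smul_inv_smul, ← pair_simple_left, ← Φ.pair_smul w, smul_inv_smul, root_smul,
    Φ.root_simple]

theorem wt_conj_smul (w : W) (i : B) (t : R) :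
    Φ.wt ((w * cs.simple i * w⁻¹) • t) =
      Φ.wt t - Φ.pair t (w • Φ.simple i) • Φ.wt (w • Φ.simple i) := by
  rw [mul_smul, mul_smul, wt_smul, Φ.wt_simple_smul, map_sub, map_smul,
    ← wt_smul, smul_inv_smul, ← pair_simple_right, ← Φ.pair_smul w, smul_inv_smul, wt_smul,
    Φ.wt_simple]

/-- The reflection in the root `r`, as an element of `W`. -/
noncomputable def reflection (r : R) : W :=
  (Φ.exists_smul_simple r).choose * cs.simple (Φ.exists_smul_simple r).choose_spec.choose *
    (Φ.exists_smul_simple r).choose⁻¹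

theorem root_reflection_smul (r t : R) :
    Φ.root (Φ.reflection r • t) = Φ.root t - Φ.pair r t • Φ.root r := by
  rw [reflection, root_conj_smul, ← (Φ.exists_smul_simple r).choose_spec.choose_spec]

theorem wt_reflection_smul (r t : R) :
    Φ.wt (Φ.reflection r • t) = Φ.wt t - Φ.pair t r • Φ.wt r := by
  rw [reflection, wt_conj_smul, ← (Φ.exists_smul_simple r).choose_spec.choose_spec]

theorem reflection_smul (w : W) (r : R) :
    Φ.reflection (w • r) = w * Φ.reflection r * w⁻¹ := by
  refine Φ.eq_of_smul_simple_eq fun i => Φ.root_inj ?_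
  rw [root_reflection_smul, mul_smul, mul_smul, Φ.root_smul w (Φ.reflection r • _),
    root_reflection_smul, map_sub, map_smul, ← root_smul, ← root_smul, smul_inv_smul,
    ← Φ.pair_smul w r, smul_inv_smul]

theorem reflection_simple (i : B) : Φ.reflection (Φ.simple i) = cs.simple i := by
  refine Φ.eq_of_smul_simple_eq fun j => Φ.root_inj ?_
  rw [root_reflection_smul, Φ.root_simple_smul, refl_apply, pair_simple_left, Φ.root_simple i]

theorem reflection_neg (r : R) : Φ.reflection (Φ.neg r) = Φ.reflection r := by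
  refine Φ.eq_of_smul_simple_eq fun j => Φ.root_inj ?_
  rw [root_reflection_smul, root_reflection_smul, pair_neg_left, Φ.root_neg]
  simp

theorem reflection_smul_self (r : R) : Φ.reflection r • r = Φ.neg r := by
  refine Φ.root_inj ?_
  rw [root_reflection_smul, pair_self, Φ.root_neg]
  module

theorem reflection_mul_self (r : R) : Φ.reflection r * Φ.reflection r = 1 := by
  obtain ⟨w, i, rfl⟩ := Φ.exists_smul_simple r
  rw [reflection_smul, reflection_simple]
  simp [mul_assoc]

theorem conj_simple_of_smul_eq {w : W} {i j : B} (h : w • Φ.simple i = Φ.simple j) :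
    w * cs.simple i * w⁻¹ = cs.simple j := by
  rw [← Φ.reflection_simple i, ← reflection_smul, h, reflection_simple]

include Φ in
theorem cs_simple_injective : Function.Injective cs.simple := by
  intro i j h
  have h1 := Φ.simple_smul_simple i
  rw [h] at h1
  have := (Φ.not_pos_simple_smul_iff (i := j) (Φ.pos_simple i)).1
    (by rw [h1, not_pos_neg_iff]; exact Φ.pos_simple i)
  exact Φ.simple_injective this

end RootSys

end CL.Cox
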