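import Cfsg.Agent.Base
import Cfsg.Agent.Chev.CoxRoots

/-!
Inversion sets, length as the number of inversions, parabolic subgroups, longest elements and
minimal coset representatives for a root system of a Coxeter system.
-/

set_option autoImplicit false
set_option linter.unusedSectionVars false
set_option linter.unusedSimpArgs false

namespace CL.Cox

open Matrix

variable {B : Type*} [Fintype B] [DecidableEq B] {M : CoxeterMatrix B}
variable {W : Type*} [Group W]

/-- The standard parabolic subgroup `W_J`. -/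
def parab (cs : CoxeterSystem M W) (J : Set B) : Subgroup W := Subgroup.closure (cs.simple '' J)

theorem simple_mem_parab (cs : CoxeterSystem M W) {J : Set B} {j : B} (hj : j ∈ J) :
    cs.simple j ∈ parab cs J := Subgroup.subset_closure ⟨j, hj, rfl⟩

theorem parab_mono (cs : CoxeterSystem M W) {J K : Set B} (h : J ⊆ K) : parab cs J ≤ parab cs K :=
  Subgroup.closure_mono (Set.image_mono h)

theorem parab_univ (cs : CoxeterSystem M W) : parab cs Set.univ = ⊤ := by
  rw [parab, Set.image_univ, cs.subgroup_closure_range_simple]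

theorem parab_empty (cs : CoxeterSystem M W) : parab cs ∅ = ⊥ := by
  simp [parab]

theorem wordProd_mem_parab (cs : CoxeterSystem M W) {J : Set B} {ω : List B}
    (h : ∀ j ∈ ω, j ∈ J) : cs.wordProd ω ∈ parab cs J := by
  induction ω with
  | nil => simp
  | cons a ω ih =>
    rw [cs.wordProd_cons]
    exact mul_mem (simple_mem_parab cs (h a (by simp))) (ih fun j hj => h j (by simp [hj]))

theorem parab_induction_left (cs : CoxeterSystem M W) {J : Set B} {p : W → Prop} (h1 : p 1)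
    (h2 : ∀ j ∈ J, ∀ w ∈ parab cs J, p w → p (cs.simple j * w)) {w : W} (hw : w ∈ parab cs J) :
    p w := by
  induction hw using Subgroup.closure_induction_left with
  | one => exact h1
  | mul_left x hx y hy ih =>
    obtain ⟨j, hj, rfl⟩ := hx
    exact h2 j hj y hy ih
  | inv_mul_cancel x hx y hy ih =>
    obtain ⟨j, hj, rfl⟩ := hx
    rw [cs.inv_simple]
    exact h2 j hj y hy ih

theorem parab_induction_right (cs : CoxeterSystem M W) {J : Set B} {p : W → Prop} (h1 : p 1)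
    (h2 : ∀ j ∈ J, ∀ w ∈ parab cs J, p w → p (w * cs.simple j)) {w : W} (hw : w ∈ parab cs J) :
    p w := by
  have := parab_induction_left cs (J := J) (p := fun w => p w⁻¹) (by simpa using h1)
    (fun j hj w hw h => by
      rw [_root_.mul_inv_rev, cs.inv_simple]; exact h2 j hj _ (inv_mem hw) h) (inv_mem hw)
  simpa using this

namespace RootSys

variable {cs : CoxeterSystem M W} {R : Type*} [MulAction W R] (Φ : RootSys cs R)

/-- The root `r` lies in the subsystem `Φ_J`. -/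
def InSub (J : Set B) (r : R) : Prop := ∀ i, i ∉ J → Φ.root r i = 0

theorem inSub_simple_iff {J : Set B} {i : B} : Φ.InSub J (Φ.simple i) ↔ i ∈ J := by
  constructor
  · intro h
    by_contra hi
    simpa [Φ.root_simple] using h i hi
  · intro h j hj
    have : j ≠ i := by rintro rfl; exact hj h
    simp [Φ.root_simple, this]

theorem inSub_neg_iff {J : Set B} {r : R} : Φ.InSub J (Φ.neg r) ↔ Φ.InSub J r := by
  simp [InSub, Φ.root_neg]

theorem inSub_univ (r : R) : Φ.InSub Set.univ r := fun _ h => absurd trivial h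

theorem InSub.mono {Φ : RootSys cs R} {J K : Set B} (h : J ⊆ K) {r : R} (hr : Φ.InSub J r) :
    Φ.InSub K r := fun i hi => hr i fun hj => hi (h hj)

theorem root_smul_of_mem_parab {J : Set B} {w : W} (hw : w ∈ parab cs J) (r : R) {i : B}
    (hi : i ∉ J) : Φ.root (w • r) i = Φ.root r i := by
  refine parab_induction_left cs (p := fun w => Φ.root (w • r) i = Φ.root r i) (by simp) ?_ hw
  intro j hj w _ ih
  have : i ≠ j := by rintro rfl; exact hi hj
  rw [mul_smul, Φ.root_simple_smul, refl_apply_of_ne _ this, ih]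

theorem inSub_smul_iff {J : Set B} {w : W} (hw : w ∈ parab cs J) {r : R} :
    Φ.InSub J (w • r) ↔ Φ.InSub J r :=
  forall_congr' fun i => forall_congr' fun hi => by rw [Φ.root_smul_of_mem_parab hw r hi]

theorem pos_smul_of_not_inSub {J : Set B} {w : W} (hw : w ∈ parab cs J) {r : R} (hr : Φ.Pos r)
    (hJ : ¬ Φ.InSub J r) : Φ.Pos (w • r) := by
  simp only [InSub, not_forall] at hJ
  obtain ⟨i, hi, h0⟩ := hJ
  apply Φ.pos_of_coord_pos (j := i)
  rw [Φ.root_smul_of_mem_parab hw r hi]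
  exact lt_of_le_of_ne (hr i) (Ne.symm h0)

theorem pos_smul_iff_of_not_inSub {J : Set B} {w : W} (hw : w ∈ parab cs J) {r : R}
    (hJ : ¬ Φ.InSub J r) : Φ.Pos (w • r) ↔ Φ.Pos r := by
  refine ⟨fun h => ?_, fun h => Φ.pos_smul_of_not_inSub hw h hJ⟩
  have := Φ.pos_smul_of_not_inSub (inv_mem hw) h (by rwa [Φ.inSub_smul_iff hw])
  rwa [inv_smul_smul] at this

/-- Every root of `Φ_J` is `W_J`-conjugate to a simple root in `J`. -/
theorem exists_parab_smul_simple {J : Set B} {r : R} (hr : Φ.InSub J r) :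
    ∃ w ∈ parab cs J, ∃ j ∈ J, r = w • Φ.simple j := by
  have key : ∀ r, Φ.Pos r → Φ.InSub J r → ∃ w ∈ parab cs J, ∃ j ∈ J, r = w • Φ.simple j := by
    intro r hr
    refine Φ.pos_induction
      (p := fun r => Φ.InSub J r → ∃ w ∈ parab cs J, ∃ j ∈ J, r = w • Φ.simple j)
      (fun i hi => ⟨1, one_mem _, i, Φ.inSub_simple_iff.1 hi, by simp⟩) ?_ hr
    intro r i _ h0 _ _ ih hJ
    have hi : i ∈ J := by_contra fun hi => h0 (hJ i hi)
    obtain ⟨w, hw, j, hj, h⟩ := ih ((Φ.inSub_smul_iff (simple_mem_parab cs hi)).2 hJ)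
    exact ⟨cs.simple i * w, mul_mem (simple_mem_parab cs hi) hw, j, hj, by
      rw [mul_smul, ← h, simple_smul_simple_smul]⟩
  by_cases hp : Φ.Pos r
  · exact key r hp hr
  · obtain ⟨w, hw, j, hj, h⟩ := key (Φ.neg r) ((Φ.pos_neg_iff r).2 hp) (Φ.inSub_neg_iff.2 hr)
    exact ⟨w * cs.simple j, mul_mem hw (simple_mem_parab cs hj), j, hj, by
      rw [mul_smul, simple_smul_simple, smul_neg, ← h, neg_neg]⟩

theorem reflection_mem_parab_iff {J : Set B} {r : R} :
    Φ.reflection r ∈ parab cs J ↔ Φ.InSub J r := by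
  constructor
  · intro h i hi
    have := Φ.root_smul_of_mem_parab h r hi
    rw [reflection_smul_self, Φ.root_neg, Pi.neg_apply] at this
    omega
  · intro h
    obtain ⟨w, hw, j, hj, rfl⟩ := Φ.exists_parab_smul_simple h
    rw [reflection_smul, reflection_simple]
    exact mul_mem (mul_mem hw (simple_mem_parab cs hj)) (inv_mem hw)

/-- An element all of whose inversions lie in `Φ_J` has a reduced word in `J`. -/
theorem exists_reduced_of_inv_inSub {J : Set B} {w : W}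
    (h : ∀ r, Φ.Pos r → ¬ Φ.Pos (w • r) → Φ.InSub J r) :
    ∃ ω : List B, cs.IsReduced ω ∧ (∀ j ∈ ω, j ∈ J) ∧ w = cs.wordProd ω := by
  induction hn : cs.length w generalizing w with
  | zero =>
    rw [cs.length_eq_zero_iff] at hn
    exact ⟨[], by simp [CoxeterSystem.IsReduced], by simp, by simp [hn]⟩
  | succ n ih =>
    have hw : w ≠ 1 := by rintro rfl; simp at hn
    obtain ⟨i, hi⟩ := cs.exists_rightDescent_of_ne_one hw
    have hi' := (Φ.isRightDescent_iff w i).1 hi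
    have hiJ : i ∈ J := Φ.inSub_simple_iff.1 (h _ (Φ.pos_simple i) hi')
    have hl := Φ.length_mul_simple_of_not_pos hi'
    obtain ⟨ω, h1, h2, h3⟩ := ih (w := w * cs.simple i) (fun r hr hr' => by
      by_cases hri : r = Φ.simple i
      · rw [hri]; exact Φ.inSub_simple_iff.2 hiJ
      · rw [mul_smul] at hr'
        exact (Φ.inSub_smul_iff (simple_mem_parab cs hiJ)).1 (h _ (Φ.pos_simple_smul hr hri) hr'))
      (by omega)
    have h4 : w = cs.wordProd (ω.concat i) := by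
      rw [cs.wordProd_concat, ← h3, cs.simple_mul_simple_cancel_right]
    refine ⟨ω.concat i, ?_, ?_, h4⟩
    · rw [CoxeterSystem.IsReduced, ← h4, List.length_concat, ← h1.eq, ← h3]; omega
    · intro j hj
      simp only [List.concat_eq_append, List.mem_append, List.mem_singleton] at hj
      rcases hj with hj | rfl
      exacts [h2 j hj, hiJ]

theorem mem_parab_iff {J : Set B} {w : W} :
    w ∈ parab cs J ↔ ∀ r, Φ.Pos r → ¬ Φ.Pos (w • r) → Φ.InSub J r := by
  constructor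
  · intro hw r hr hr'
    by_contra hJ
    exact hr' (Φ.pos_smul_of_not_inSub hw hr hJ)
  · intro h
    obtain ⟨ω, -, h2, rfl⟩ := Φ.exists_reduced_of_inv_inSub h
    exact wordProd_mem_parab cs h2

include Φ in
theorem exists_reduced_of_mem_parab {J : Set B} {w : W} (hw : w ∈ parab cs J) :
    ∃ ω : List B, cs.IsReduced ω ∧ (∀ j ∈ ω, j ∈ J) ∧ w = cs.wordProd ω :=
  Φ.exists_reduced_of_inv_inSub (Φ.mem_parab_iff.1 hw)

include Φ in
theorem simple_mem_parab_iff {J : Set B} {i : B} : cs.simple i ∈ parab cs J ↔ i ∈ J := by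
  rw [← Φ.reflection_simple, reflection_mem_parab_iff, inSub_simple_iff]

include Φ in
theorem parab_inf (J K : Set B) : parab cs J ⊓ parab cs K = parab cs (J ∩ K) := by
  ext w
  rw [Subgroup.mem_inf, Φ.mem_parab_iff, Φ.mem_parab_iff, Φ.mem_parab_iff]
  constructor
  · rintro ⟨h1, h2⟩ r hr hr' i hi
    by_cases hJ : i ∈ J
    · exact h2 r hr hr' i fun hK => hi ⟨hJ, hK⟩
    · exact h1 r hr hr' i hJ
  · intro h
    exact ⟨fun r hr hr' => (h r hr hr').mono Set.inter_subset_left,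
      fun r hr hr' => (h r hr hr').mono Set.inter_subset_right⟩

/-- An element of `W_J` keeping the simple roots of `J` positive is trivial. -/
theorem eq_one_of_mem_parab {J : Set B} {w : W} (hw : w ∈ parab cs J)
    (h : ∀ j ∈ J, Φ.Pos (w • Φ.simple j)) : w = 1 := by
  refine Φ.eq_one_of_pos_simple fun i => ?_
  by_cases hi : i ∈ J
  · exact h i hi
  · exact Φ.pos_smul_of_not_inSub hw (Φ.pos_simple i) (by rwa [inSub_simple_iff])

theorem pos_smul_of_inSub {J : Set B} {w : W} (h : ∀ j ∈ J, Φ.Pos (w • Φ.simple j)) {r : R}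
    (hr : Φ.Pos r) (hJ : Φ.InSub J r) : Φ.Pos (w • r) :=
  Φ.pos_smul_of_support hr fun i hi => h i (by_contra fun hi' => hi (hJ i hi'))

theorem not_pos_smul_of_inSub {J : Set B} {w : W} (h : ∀ j ∈ J, ¬ Φ.Pos (w • Φ.simple j)) {r : R}
    (hr : Φ.Pos r) (hJ : Φ.InSub J r) : ¬ Φ.Pos (w • r) :=
  Φ.not_pos_smul_of_support hr fun i hi => h i (by_contra fun hi' => hi (hJ i hi'))

/-- Two elements with the same inversions are equal. -/
theorem eq_of_pos_iff {u v : W} (h : ∀ r, Φ.Pos r → (Φ.Pos (u • r) ↔ Φ.Pos (v • r))) : u = v := by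
  have : v * u⁻¹ = 1 := Φ.eq_one_of_pos fun r hr => by
    rw [mul_smul]
    by_cases ht : Φ.Pos (u⁻¹ • r)
    · exact (h _ ht).1 (by rwa [smul_inv_smul])
    · have h1 := h _ ((Φ.pos_neg_iff _).2 ht)
      rw [smul_neg, smul_neg, smul_inv_smul, pos_neg_iff, pos_neg_iff] at h1
      tauto
  rw [mul_inv_eq_one] at this
  exact this.symm

/-- Decomposition `w = d v` with `v ∈ W_J` and `d` a minimal coset representative. -/
theorem exists_minRep_mul (J : Set B) (w : W) :
    ∃ d v : W, v ∈ parab cs J ∧ (∀ j ∈ J, Φ.Pos (d • Φ.simple j)) ∧ w = d * v ∧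
      cs.length w = cs.length d + cs.length v := by
  induction hn : cs.length w using Nat.strong_induction_on generalizing w with
  | _ n ih =>
  by_cases h : ∀ j ∈ J, Φ.Pos (w • Φ.simple j)
  · exact ⟨w, 1, one_mem _, h, by simp, by simp [hn]⟩
  push Not at h
  obtain ⟨j, hj, h⟩ := h
  have hl := Φ.length_mul_simple_of_not_pos h
  obtain ⟨d, v, hv, hd, h1, h2⟩ := ih _ (by omega) (w * cs.simple j) rfl
  have h3 : w = d * (v * cs.simple j) := by
    rw [← mul_assoc, ← h1, cs.simple_mul_simple_cancel_right]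
  refine ⟨d, v * cs.simple j, mul_mem hv (simple_mem_parab cs hj), hd, h3, ?_⟩
  have h4 := cs.length_mul_le d (v * cs.simple j)
  rw [← h3] at h4
  rcases cs.length_mul_simple v j with h5 | h5 <;> omega

theorem minRep_unique {J : Set B} {d d' v v' : W} (hv : v ∈ parab cs J) (hv' : v' ∈ parab cs J)
    (hd : ∀ j ∈ J, Φ.Pos (d • Φ.simple j)) (hd' : ∀ j ∈ J, Φ.Pos (d' • Φ.simple j))
    (h : d * v = d' * v') : d = d' ∧ v = v' := by
  have h1 : d = d' * (v' * v⁻¹) := by rw [← mul_assoc, ← h, mul_inv_cancel_right]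
  have hu : v' * v⁻¹ ∈ parab cs J := mul_mem hv' (inv_mem hv)
  have h2 : v' * v⁻¹ = 1 := by
    refine Φ.eq_one_of_mem_parab hu fun j hj => ?_
    by_contra hc
    have h3 := Φ.pos_smul_of_inSub hd' ((Φ.pos_neg_iff _).2 hc)
      (Φ.inSub_neg_iff.2 ((Φ.inSub_smul_iff hu).2 (Φ.inSub_simple_iff.2 hj)))
    rw [smul_neg, ← mul_smul, ← h1, pos_neg_iff] at h3
    exact h3 (hd j hj)
  rw [h2, mul_one] at h1
  rw [mul_inv_eq_one] at h2
  exact ⟨h1, h2.symm⟩

section inv
variable [Fintype R]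
open Classical

/-- The inversion set `N(w)`: positive roots made negative by `w`. -/
noncomputable def inv (w : W) : Finset R := Finset.univ.filter fun r => Φ.Pos r ∧ ¬ Φ.Pos (w • r)

theorem mem_inv {w : W} {r : R} : r ∈ Φ.inv w ↔ Φ.Pos r ∧ ¬ Φ.Pos (w • r) := by simp [inv]

theorem inv_one : Φ.inv 1 = ∅ := by
  ext r; simp [mem_inv]

theorem inv_simple (i : B) : Φ.inv (cs.simple i) = {Φ.simple i} := by
  ext r
  rw [mem_inv, Finset.mem_singleton]
  constructor
  · rintro ⟨h1, h2⟩; exact (Φ.not_pos_simple_smul_iff h1).1 h2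
  · rintro rfl; exact ⟨Φ.pos_simple i, (Φ.not_pos_simple_smul_iff (Φ.pos_simple i)).2 rfl⟩

theorem inv_injective : Function.Injective Φ.inv := fun u v h =>
  Φ.eq_of_pos_iff fun r hr => by
    have := Finset.ext_iff.1 h r
    rw [mem_inv, mem_inv] at this
    tauto

theorem mem_inv_inv {w : W} {r : R} : r ∈ Φ.inv w⁻¹ ↔ Φ.neg (w⁻¹ • r) ∈ Φ.inv w := by
  rw [mem_inv, mem_inv, smul_neg, smul_inv_smul, pos_neg_iff, not_pos_neg_iff, and_comm]

/-- If every inversion of `v` is an inversion of `u v` then `N(uv) = N(v) ⊔ v⁻¹ N(u)`. -/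
theorem mem_inv_mul {u v : W} (h : ∀ r ∈ Φ.inv v, ¬ Φ.Pos (u • v • r)) {r : R} :
    r ∈ Φ.inv (u * v) ↔ r ∈ Φ.inv v ∨ v • r ∈ Φ.inv u := by
  simp only [mem_inv, mul_smul] at h ⊢
  constructor
  · rintro ⟨h1, h2⟩
    by_cases h3 : Φ.Pos (v • r)
    · exact Or.inr ⟨h3, h2⟩
    · exact Or.inl ⟨h1, h3⟩
  · rintro (h1 | ⟨h1, h2⟩)
    · exact ⟨h1.1, h r h1⟩
    · refine ⟨?_, h2⟩
      by_contra hr
      have := h (Φ.neg r) ⟨(Φ.pos_neg_iff r).2 hr, by rwa [smul_neg, not_pos_neg_iff]⟩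
      rw [smul_neg, smul_neg, not_pos_neg_iff] at this
      exact h2 this

theorem prod_inv_mul {S : Type*} [CommMonoid S] {u v : W}
    (h : ∀ r ∈ Φ.inv v, ¬ Φ.Pos (u • v • r)) (c : R → S) :
    ∏ r ∈ Φ.inv (u * v), c r = (∏ r ∈ Φ.inv u, c (v⁻¹ • r)) * ∏ r ∈ Φ.inv v, c r := by
  have h1 : Φ.inv (u * v) = (Φ.inv u).image (fun r => v⁻¹ • r) ∪ Φ.inv v := by
    ext r
    rw [Φ.mem_inv_mul h, Finset.mem_union, or_comm, Finset.mem_image]
    refine or_congr ⟨fun h => ⟨_, h, inv_smul_smul _ _⟩, ?_⟩ Iff.rfl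
    rintro ⟨t, ht, rfl⟩
    rwa [smul_inv_smul]
  rw [h1, Finset.prod_union, Finset.prod_image fun a _ b _ h => MulAction.injective _ h]
  rw [Finset.disjoint_left]
  intro r hr hr'
  rw [Finset.mem_image] at hr
  obtain ⟨t, ht, rfl⟩ := hr
  rw [mem_inv] at ht hr'
  rw [smul_inv_smul] at hr'
  exact hr'.2 ht.1

theorem prod_inv_inv {S : Type*} [CommMonoid S] (w : W) (c : R → S) :
    ∏ r ∈ Φ.inv w⁻¹, c r = ∏ r ∈ Φ.inv w, c (Φ.neg (w • r)) := by
  symm
  refine Finset.prod_bij (fun r _ => Φ.neg (w • r)) ?_ ?_ ?_ fun _ _ => rfl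
  · intro r hr
    rwa [mem_inv_inv, smul_neg, neg_neg, inv_smul_smul]
  · intro a _ b _ h
    exact MulAction.injective w (Φ.neg_injective h)
  · intro r hr
    exact ⟨_, Φ.mem_inv_inv.1 hr, by rw [smul_neg, neg_neg, smul_inv_smul]⟩

theorem card_inv_mul {u v : W} (h : ∀ r ∈ Φ.inv v, ¬ Φ.Pos (u • v • r)) :
    (Φ.inv (u * v)).card = (Φ.inv u).card + (Φ.inv v).card := by
  have := Φ.prod_inv_mul h (S := Multiplicative ℕ) (fun _ => Multiplicative.ofAdd 1)
  simp only [Finset.prod_const] at this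
  have := congrArg Multiplicative.toAdd this
  simpa using this

theorem inv_mul_simple_cond {w : W} {i : B} (h : Φ.Pos (w • Φ.simple i)) :
    ∀ r ∈ Φ.inv (cs.simple i), ¬ Φ.Pos (w • cs.simple i • r) := by
  intro r hr
  rw [inv_simple, Finset.mem_singleton] at hr
  rwa [hr, simple_smul_simple, smul_neg, not_pos_neg_iff]

/-- The length is the number of inversions. -/
theorem length_eq_card_inv (w : W) : cs.length w = (Φ.inv w).card := by
  induction hn : cs.length w generalizing w with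
  | zero =>
    rw [cs.length_eq_zero_iff] at hn
    simp [hn, inv_one]
  | succ n ih =>
    have hw : w ≠ 1 := by rintro rfl; simp at hn
    obtain ⟨i, hi⟩ := cs.exists_rightDescent_of_ne_one hw
    have hi' := (Φ.isRightDescent_iff w i).1 hi
    have hl := Φ.length_mul_simple_of_not_pos hi'
    have h1 := Φ.card_inv_mul (u := w * cs.simple i) (v := cs.simple i) (Φ.inv_mul_simple_cond (by
      rwa [mul_smul, simple_smul_simple, smul_neg, pos_neg_iff]))
    rw [cs.simple_mul_simple_cancel_right, inv_simple, Finset.card_singleton,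
      ← ih (w * cs.simple i) (by omega)] at h1
    omega

theorem length_mul_of_inv {u v : W} (h : ∀ r ∈ Φ.inv v, ¬ Φ.Pos (u • v • r)) :
    cs.length (u * v) = cs.length u + cs.length v := by
  rw [Φ.length_eq_card_inv, Φ.length_eq_card_inv, Φ.length_eq_card_inv, Φ.card_inv_mul h]

/-- Conversely, if lengths add then every inversion of `v` is an inversion of `u v`. -/
theorem inv_cond_of_length {u v : W} (h : cs.length (u * v) = cs.length u + cs.length v) :
    ∀ r ∈ Φ.inv v, ¬ Φ.Pos (u • v • r) := by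
  intro r hr hp
  have h1 : Φ.inv (u * v) ⊆ (Φ.inv u).image (fun r => v⁻¹ • r) ∪ (Φ.inv v).erase r := by
    intro t ht
    rw [mem_inv, mul_smul] at ht
    rw [Finset.mem_union, Finset.mem_image, Finset.mem_erase, mem_inv]
    by_cases h3 : Φ.Pos (v • t)
    · exact Or.inl ⟨v • t, Φ.mem_inv.2 ⟨h3, ht.2⟩, inv_smul_smul _ _⟩
    · exact Or.inr ⟨by rintro rfl; exact ht.2 hp, ht.1, h3⟩
  have h2 := (Finset.card_le_card h1).trans (Finset.card_union_le _ _)
  have h3 := Finset.card_image_le (s := Φ.inv u) (f := fun r => v⁻¹ • r)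
  rw [Finset.card_erase_of_mem hr] at h2
  have h4 := Finset.card_pos.2 ⟨r, hr⟩
  rw [Φ.length_eq_card_inv, Φ.length_eq_card_inv, Φ.length_eq_card_inv] at h
  omega

theorem inv_cond_of_minRep {J : Set B} {d v : W} (hv : v ∈ parab cs J)
    (hd : ∀ j ∈ J, Φ.Pos (d • Φ.simple j)) : ∀ r ∈ Φ.inv v, ¬ Φ.Pos (d • v • r) := by
  intro r hr
  rw [mem_inv] at hr
  have := Φ.pos_smul_of_inSub hd ((Φ.pos_neg_iff _).2 hr.2)
    (Φ.inSub_neg_iff.2 ((Φ.inSub_smul_iff hv).2 (Φ.mem_parab_iff.1 hv r hr.1 hr.2)))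
  rwa [smul_neg, pos_neg_iff] at this

theorem length_minRep_mul {J : Set B} {d v : W} (hv : v ∈ parab cs J)
    (hd : ∀ j ∈ J, Φ.Pos (d • Φ.simple j)) : cs.length (d * v) = cs.length d + cs.length v :=
  Φ.length_mul_of_inv (Φ.inv_cond_of_minRep hv hd)

theorem exists_w0 (J : Set B) : ∃ w ∈ parab cs J, ∀ j ∈ J, ¬ Φ.Pos (w • Φ.simple j) := by
  haveI := Φ.finite
  obtain ⟨w, hw, hmax⟩ := Set.exists_max_image (parab cs J : Set W) cs.length (Set.toFinite _)
    ⟨1, one_mem _⟩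
  refine ⟨w, hw, fun j hj hp => ?_⟩
  have := hmax _ (mul_mem hw (simple_mem_parab cs hj))
  rw [Φ.length_mul_simple_of_pos hp] at this
  omega

/-- The longest element of `W_J`. -/
noncomputable def w0 (J : Set B) : W := (Φ.exists_w0 J).choose

theorem w0_mem (J : Set B) : Φ.w0 J ∈ parab cs J := (Φ.exists_w0 J).choose_spec.1

theorem not_pos_w0_smul {J : Set B} {r : R} (hr : Φ.Pos r) (hJ : Φ.InSub J r) :
    ¬ Φ.Pos (Φ.w0 J • r) :=
  Φ.not_pos_smul_of_inSub (Φ.exists_w0 J).choose_spec.2 hr hJ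

theorem mem_inv_w0 {J : Set B} {r : R} : r ∈ Φ.inv (Φ.w0 J) ↔ Φ.Pos r ∧ Φ.InSub J r := by
  rw [mem_inv]
  exact ⟨fun h => ⟨h.1, Φ.mem_parab_iff.1 (Φ.w0_mem J) r h.1 h.2⟩,
    fun h => ⟨h.1, Φ.not_pos_w0_smul h.1 h.2⟩⟩

theorem eq_w0 {J : Set B} {w : W} (hw : w ∈ parab cs J) (h : ∀ j ∈ J, ¬ Φ.Pos (w • Φ.simple j)) :
    w = Φ.w0 J := by
  apply Φ.inv_injective
  ext r
  rw [mem_inv_w0, mem_inv]
  exact ⟨fun h' => ⟨h'.1, Φ.mem_parab_iff.1 hw r h'.1 h'.2⟩,
    fun h' => ⟨h'.1, Φ.not_pos_smul_of_inSub h h'.1 h'.2⟩⟩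

theorem pos_w0_smul_iff {J : Set B} {r : R} (hJ : Φ.InSub J r) :
    Φ.Pos (Φ.w0 J • r) ↔ ¬ Φ.Pos r := by
  refine ⟨fun h hr => Φ.not_pos_w0_smul hr hJ h, fun h => ?_⟩
  have := Φ.not_pos_w0_smul ((Φ.pos_neg_iff r).2 h) (Φ.inSub_neg_iff.2 hJ)
  rwa [smul_neg, not_pos_neg_iff] at this

theorem w0_inv (J : Set B) : (Φ.w0 J)⁻¹ = Φ.w0 J := by
  refine Φ.eq_w0 (inv_mem (Φ.w0_mem J)) fun j hj hp => ?_
  have := Φ.not_pos_w0_smul hp
    ((Φ.inSub_smul_iff (inv_mem (Φ.w0_mem J))).2 (Φ.inSub_simple_iff.2 hj))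
  rw [smul_inv_smul] at this
  exact this (Φ.pos_simple j)

theorem w0_mul_self (J : Set B) : Φ.w0 J * Φ.w0 J = 1 := by
  nth_rewrite 1 [← Φ.w0_inv J]; exact inv_mul_cancel _

theorem w0_smul_w0_smul (J : Set B) (r : R) : Φ.w0 J • Φ.w0 J • r = r := by
  rw [← mul_smul, w0_mul_self, one_smul]

theorem w0_singleton (i : B) : Φ.w0 {i} = cs.simple i := by
  symm
  refine Φ.eq_w0 (simple_mem_parab cs rfl) fun j hj => ?_
  rw [hj]
  exact (Φ.not_pos_simple_smul_iff (Φ.pos_simple i)).2 rfl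

theorem pos_w0_univ_smul_iff (r : R) : Φ.Pos (Φ.w0 Set.univ • r) ↔ ¬ Φ.Pos r :=
  Φ.pos_w0_smul_iff (Φ.inSub_univ r)

theorem w0_ne_one {J : Set B} (hJ : J.Nonempty) : Φ.w0 J ≠ 1 := by
  obtain ⟨j, hj⟩ := hJ
  intro h
  have := Φ.not_pos_w0_smul (Φ.pos_simple j) (Φ.inSub_simple_iff.2 hj)
  rw [h, one_smul] at this
  exact this (Φ.pos_simple j)

theorem w0_injective : Function.Injective Φ.w0 := by
  intro J K h
  ext j
  have h1 := Φ.mem_inv_w0 (J := J) (r := Φ.simple j)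
  rw [h, mem_inv_w0, inSub_simple_iff, inSub_simple_iff] at h1
  have := Φ.pos_simple j
  tauto

/-- If `w` makes all simple roots of `J` negative, then `w = (w w₀^J) w₀^J` with lengths adding. -/
theorem length_mul_w0_of_not_pos {J : Set B} {w : W} (h : ∀ j ∈ J, ¬ Φ.Pos (w • Φ.simple j)) :
    cs.length w = cs.length (w * Φ.w0 J) + cs.length (Φ.w0 J) := by
  have := Φ.length_mul_of_inv (u := w * Φ.w0 J) (v := Φ.w0 J) (fun r hr => by
    rw [mul_smul, w0_smul_w0_smul]
    rw [mem_inv_w0] at hr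
    exact Φ.not_pos_smul_of_inSub h hr.1 hr.2)
  rwa [mul_assoc, w0_mul_self, mul_one] at this

theorem length_mul_w0_of_pos {J : Set B} {w : W} (h : ∀ j ∈ J, Φ.Pos (w • Φ.simple j)) :
    cs.length (w * Φ.w0 J) = cs.length w + cs.length (Φ.w0 J) :=
  Φ.length_minRep_mul (Φ.w0_mem J) h

theorem length_w0_pos {J : Set B} (hJ : J.Nonempty) : 0 < cs.length (Φ.w0 J) :=
  Nat.pos_of_ne_zero fun h => Φ.w0_ne_one hJ (cs.length_eq_zero_iff.1 h)

end inv

end RootSys

end CL.Cox
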