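import Cfsg.Agent.Base
import Cfsg.Agent.Chev.CoxInv

/-!
Weighted Poincaré sums `∑_{w ∈ W_J} q^{e(N(w))}`: factorisation along a chain of parabolic
subgroups, each factor being computed from the orbit of a fundamental weight.
-/

set_option autoImplicit false
set_option linter.unusedSectionVars false
set_option linter.unusedSimpArgs false

namespace CL.Cox

open Matrix

section general

variable {B : Type*} [Fintype B] [DecidableEq B] {M : CoxeterMatrix B}
variable {W : Type*} [Group W] {cs : CoxeterSystem M W} {R : Type*} [MulAction W R] [Fintype R]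

namespace RootSys

variable (Φ : RootSys cs R)

theorem dual_eq_of_mem_parab {J : Set B} {μ : B → ℤ} (hμ : ∀ j ∈ J, μ j = 0) {w : W}
    (hw : w ∈ parab cs J) : dual cs Φ.cartan w μ = μ := by
  refine parab_induction_left cs (p := fun w => dual cs Φ.cartan w μ = μ) (by simp) ?_ hw
  intro j hj w _ ih
  rw [dual_simple_mul, ih, hμ j hj, zero_smul, sub_zero]

theorem dual_dotProduct_root (w : W) (μ : B → ℤ) (r : R) :
    dual cs Φ.cartan w μ ⬝ᵥ Φ.root r = μ ⬝ᵥ Φ.root (w⁻¹ • r) := by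
  rw [dual_dotProduct, root_smul]

/-- If `w ∈ W_J` carries the dominant weight `μ` to a `J`-dominant weight then `w` lies in the
parabolic subgroup fixing `μ`. -/
theorem mem_parab_of_dominant {J : Set B} {μ : B → ℤ} (hμ : 0 ≤ μ) {w : W} (hw : w ∈ parab cs J)
    (h : ∀ j ∈ J, 0 ≤ dual cs Φ.cartan w μ j) : w ∈ parab cs {j | j ∈ J ∧ μ j = 0} := by
  rw [Φ.mem_parab_iff]
  intro r hr hr' i hi
  have hJ := Φ.mem_parab_iff.1 hw r hr hr'
  by_cases hiJ : i ∈ J
  swap
  · exact hJ i hiJ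
  have h1 : μ ⬝ᵥ Φ.root r ≤ 0 := by
    rw [← inv_smul_smul w r, ← dual_dotProduct_root]
    refine Finset.sum_nonpos fun j _ => ?_
    by_cases hj : j ∈ J
    · exact mul_nonpos_of_nonneg_of_nonpos (h j hj) ((Φ.not_pos_iff _).1 hr' j)
    · rw [(Φ.inSub_smul_iff hw).2 hJ j hj, mul_zero]
  have h2 : ∀ j ∈ Finset.univ, 0 ≤ μ j * Φ.root r j := fun j _ => mul_nonneg (hμ j) (hr j)
  have h3 := (Finset.sum_eq_zero_iff_of_nonneg h2).1 (le_antisymm h1 (Finset.sum_nonneg h2)) i
    (Finset.mem_univ _)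
  rcases mul_eq_zero.1 h3 with h4 | h4
  · exact absurd ⟨hiJ, h4⟩ hi
  · exact h4

open Classical in
/-- Positive roots on which the weight `μ` is negative. -/
noncomputable def negSet (μ : B → ℤ) : Finset R :=
  Finset.univ.filter fun r => Φ.Pos r ∧ μ ⬝ᵥ Φ.root r < 0

theorem mem_negSet {μ : B → ℤ} {r : R} : r ∈ Φ.negSet μ ↔ Φ.Pos r ∧ μ ⬝ᵥ Φ.root r < 0 := by
  simp [negSet]

theorem negSet_of_nonneg {μ : B → ℤ} (hμ : 0 ≤ μ) : Φ.negSet μ = ∅ := by
  ext r
  simp only [mem_negSet, Finset.notMem_empty, iff_false, not_and, not_lt]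
  exact fun hr => Finset.sum_nonneg fun j _ => mul_nonneg (hμ j) (hr j)

theorem sum_negSet_simple {e : R → ℕ} (he : ∀ (w : W) r, e (w • r) = e r) {μ : B → ℤ} {j : B}
    (hj : 0 < μ j) :
    ∑ r ∈ Φ.negSet (μ - μ j • Φ.A j), e r = ∑ r ∈ Φ.negSet μ, e r + e (Φ.simple j) := by
  classical
  have h0 : ∀ r, (μ - μ j • Φ.A j) ⬝ᵥ Φ.root r = μ ⬝ᵥ Φ.root (cs.simple j • r) := fun r => by
    rw [← dual_simple cs Φ.cartan, dual_dotProduct_root, cs.inv_simple]
  have hs : μ ⬝ᵥ Φ.root (Φ.simple j) = μ j := by rw [Φ.root_simple, dotProduct_single, mul_one]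
  have h1 : Φ.negSet (μ - μ j • Φ.A j) =
      insert (Φ.simple j) ((Φ.negSet μ).image fun r => cs.simple j • r) := by
    ext r
    rw [Finset.mem_insert, Finset.mem_image, mem_negSet, h0]
    constructor
    · rintro ⟨h1, h2⟩
      by_cases hr : r = Φ.simple j
      · exact Or.inl hr
      · exact Or.inr ⟨_, Φ.mem_negSet.2 ⟨Φ.pos_simple_smul h1 hr, h2⟩,
          simple_smul_simple_smul j r⟩
    · rintro (rfl | ⟨t, ht, rfl⟩)
      · refine ⟨Φ.pos_simple j, ?_⟩
        rw [simple_smul_simple, Φ.root_neg, dotProduct_neg, hs]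
        omega
      · rw [mem_negSet] at ht
        refine ⟨Φ.pos_simple_smul ht.1 ?_, by rw [simple_smul_simple_smul]; exact ht.2⟩
        rintro rfl
        rw [hs] at ht
        omega
  rw [h1, Finset.sum_insert, Finset.sum_image fun a _ b _ h => MulAction.injective _ h, add_comm]
  · simp only [he]
  · rw [Finset.mem_image]
    rintro ⟨t, ht, h⟩
    exact Φ.simple_smul_ne_simple (Φ.mem_negSet.1 ht).1 h

theorem negSet_dual_minRep {μ : B → ℤ} (hμ : 0 ≤ μ) {J : Set B} {d : W} (hd : d ∈ parab cs J)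
    (h : ∀ j ∈ J, μ j = 0 → Φ.Pos (d • Φ.simple j)) :
    Φ.negSet (dual cs Φ.cartan d μ) = Φ.inv d⁻¹ := by
  ext r
  rw [mem_negSet, mem_inv, dual_dotProduct_root]
  refine and_congr_right fun hr => ⟨fun h1 h2 => ?_, fun h1 => ?_⟩
  · exact absurd (Finset.sum_nonneg fun j _ => mul_nonneg (hμ j) (h2 j)) (not_le.2 h1)
  · have h2 : ∀ j ∈ Finset.univ, μ j * Φ.root (d⁻¹ • r) j ≤ 0 := fun j _ =>
      mul_nonpos_of_nonneg_of_nonpos (hμ j) ((Φ.not_pos_iff _).1 h1 j)
    refine lt_of_le_of_ne (Finset.sum_nonpos h2) fun h3 => ?_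
    have h4 := (Finset.sum_eq_zero_iff_of_nonpos h2).1 h3
    have hJ := (Φ.inSub_smul_iff (inv_mem hd)).2 (Φ.mem_parab_iff.1 (inv_mem hd) r hr h1)
    have h5 := Φ.pos_smul_of_support (w := d) ((Φ.pos_neg_iff _).2 h1) fun i hi => by
      rw [Φ.root_neg, Pi.neg_apply, neg_ne_zero] at hi
      exact h i (by_contra fun hiJ => hi (hJ i hiJ))
        ((mul_eq_zero.1 (h4 i (Finset.mem_univ _))).resolve_right hi)
    rw [smul_neg, smul_inv_smul, pos_neg_iff] at h5
    exact h5 hr

theorem apply_neg_of_invariant {α : Type*} {e : R → α} (he : ∀ (w : W) r, e (w • r) = e r)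
    (r : R) : e (Φ.neg r) = e r := by
  rw [← reflection_smul_self, he]

/-- The weighted length. -/
noncomputable def wlen (e : R → ℕ) (w : W) : ℕ := ∑ r ∈ Φ.inv w, e r

theorem wlen_one (w : W) : Φ.wlen (fun _ => 1) w = cs.length w := by
  simp [wlen, Φ.length_eq_card_inv]

theorem wlen_inv {e : R → ℕ} (he : ∀ (w : W) r, e (w • r) = e r) (w : W) :
    Φ.wlen e w⁻¹ = Φ.wlen e w := by
  have := Φ.prod_inv_inv (S := Multiplicative ℕ) w (fun r => Multiplicative.ofAdd (e r))
  simp only [Φ.apply_neg_of_invariant he, he] at this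
  exact this

theorem wlen_mul {e : R → ℕ} (he : ∀ (w : W) r, e (w • r) = e r) {u v : W}
    (h : ∀ r ∈ Φ.inv v, ¬ Φ.Pos (u • v • r)) : Φ.wlen e (u * v) = Φ.wlen e u + Φ.wlen e v := by
  have := Φ.prod_inv_mul (S := Multiplicative ℕ) h (fun r => Multiplicative.ofAdd (e r))
  simp only [he] at this
  exact this

open Classical in
/-- One step of the factorisation of the Poincaré sum. -/
theorem poincare_step [Fintype W] {S : Type*} [CommSemiring S] (q : S) {e : R → ℕ}
    (he : ∀ (w : W) r, e (w • r) = e r) (J : Set B) {μ : B → ℤ} (hμ : 0 ≤ μ) :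
    ∑ w ∈ Finset.univ.filter (· ∈ parab cs J), q ^ Φ.wlen e w =
      (∑ ν ∈ (Finset.univ.filter (· ∈ parab cs J)).image (fun w => dual cs Φ.cartan w μ),
        q ^ ∑ r ∈ Φ.negSet ν, e r) *
      ∑ w ∈ Finset.univ.filter (· ∈ parab cs {j | j ∈ J ∧ μ j = 0}), q ^ Φ.wlen e w := by
  rw [← Finset.sum_fiberwise_of_maps_to (g := fun w => dual cs Φ.cartan w μ)
    (fun w hw => Finset.mem_image_of_mem _ hw), Finset.sum_mul]
  refine Finset.sum_congr rfl fun ν hν => ?_
  set J' := {j | j ∈ J ∧ μ j = 0}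
  have hJ' : parab cs J' ≤ parab cs J := parab_mono cs fun j hj => hj.1
  have hfix : ∀ v ∈ parab cs J', dual cs Φ.cartan v μ = μ := fun v hv =>
    Φ.dual_eq_of_mem_parab (fun j hj => hj.2) hv
  rw [Finset.mem_image] at hν
  obtain ⟨w₁, hw₁, rfl⟩ := hν
  rw [Finset.mem_filter] at hw₁
  obtain ⟨d, v, hv, hd, rfl, -⟩ := Φ.exists_minRep_mul J' w₁
  have hdJ : d ∈ parab cs J := by
    have := mul_mem hw₁.2 (inv_mem (hJ' hv))
    rwa [mul_inv_cancel_right] at this
  rw [map_mul, Module.End.mul_apply, hfix v hv,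
    Φ.negSet_dual_minRep hμ hdJ fun j hj h0 => hd j ⟨hj, h0⟩, Finset.mul_sum]
  symm
  refine Finset.sum_bij (fun u _ => d * u) ?_ ?_ ?_ ?_
  · intro u hu
    simp only [Finset.mem_filter, Finset.mem_univ, true_and] at hu ⊢
    exact ⟨mul_mem hdJ (hJ' hu), by rw [map_mul, Module.End.mul_apply, hfix u hu]⟩
  · intro a _ b _ h
    exact mul_left_cancel h
  · intro w hw
    simp only [Finset.mem_filter, Finset.mem_univ, true_and] at hw ⊢
    refine ⟨d⁻¹ * w, Φ.mem_parab_of_dominant hμ (mul_mem (inv_mem hdJ) hw.1) fun j _ => ?_,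
      mul_inv_cancel_left _ _⟩
    rw [map_mul, Module.End.mul_apply, hw.2, dual_inv_apply]
    exact hμ j
  · intro u hu
    simp only [Finset.mem_filter, Finset.mem_univ, true_and] at hu
    rw [Φ.wlen_mul he (Φ.inv_cond_of_minRep hu hd), pow_add, ← Φ.wlen_inv he d]
    rfl

end RootSys

end general

/-! ### Computing the orbit of a dominant weight layer by layer -/

/-- The next layer of an orbit. -/
def layerStep (AL : List (List ℤ)) (eL J : List ℕ) (L : List (List ℤ × ℕ)) : List (List ℤ × ℕ) :=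
  (L.flatMap fun p => J.filterMap fun j =>
    if 0 < p.1.getD j 0 then
      some (List.zipWith (fun a b => a - p.1.getD j 0 * b) p.1 (AL.getD j []), p.2 + eL.getD j 0)
    else none).dedup

/-- The exponents in the first `N` layers. -/
def layerExps (AL : List (List ℤ)) (eL J : List ℕ) : ℕ → List (List ℤ × ℕ) → List ℕ
  | 0, _ => []
  | N + 1, L => L.map Prod.snd ++ layerExps AL eL J N (layerStep AL eL J L)

/-- The lists of exponents along the chain of suffixes of `J`. -/
def chainExps (n N : ℕ) (AL : List (List ℤ)) (eL : List ℕ) : List ℕ → List (List ℕ)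
  | [] => []
  | k :: J => layerExps AL eL (k :: J) N [((List.range n).map fun j => if j = k then 1 else 0, 0)]
      :: chainExps n N AL eL J

section fin

variable {n : ℕ} {M : CoxeterMatrix (Fin n)}
variable {W : Type*} [Group W] {cs : CoxeterSystem M W} {R : Type*} [MulAction W R] [Fintype R]

theorem getD_ofFn_fin (μ : Fin n → ℤ) (j : Fin n) : (List.ofFn μ).getD j 0 = μ j := by
  simp [List.getD_eq_getElem?_getD]

theorem getD_ofFn_pos {μ : Fin n → ℤ} {j : ℕ} (h : 0 < (List.ofFn μ).getD j 0) : j < n := by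
  by_contra hj
  rw [List.getD_eq_default _ _ (by simpa using hj)] at h
  exact lt_irrefl _ h

theorem zipWith_ofFn (f : ℤ → ℤ → ℤ) (a b : Fin n → ℤ) :
    List.zipWith f (List.ofFn a) (List.ofFn b) = List.ofFn fun j => f (a j) (b j) := by
  apply List.ext_getElem <;> simp

namespace RootSys

variable (Φ : RootSys cs R)

/-- `L` lists the weights of the orbit at depth `m`, with their weighted depths. -/
def IsLayer (e : R → ℕ) (J : Set (Fin n)) (μ : Fin n → ℤ) (m : ℕ) (L : List (List ℤ × ℕ)) : Prop :=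
  L.Nodup ∧ ∀ p, p ∈ L ↔ ∃ w ∈ parab cs J, (Φ.negSet (dual cs Φ.cartan w μ)).card = m ∧
    p = (List.ofFn (dual cs Φ.cartan w μ), ∑ r ∈ Φ.negSet (dual cs Φ.cartan w μ), e r)

theorem exists_neg_of_card_negSet {J : Set (Fin n)} {μ : Fin n → ℤ} (hμ : 0 ≤ μ) {w : W}
    (hw : w ∈ parab cs J) (h : (Φ.negSet (dual cs Φ.cartan w μ)).card ≠ 0) :
    ∃ j ∈ J, dual cs Φ.cartan w μ j < 0 := by
  by_contra hc
  push Not at hc
  have := Φ.dual_eq_of_mem_parab (μ := μ) (fun j hj => hj.2) (Φ.mem_parab_of_dominant hμ hw hc)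
  rw [this, Φ.negSet_of_nonneg hμ] at h
  exact h rfl

theorem isLayer_zero (e : R → ℕ) (J : Set (Fin n)) {μ : Fin n → ℤ} (hμ : 0 ≤ μ) :
    Φ.IsLayer e J μ 0 [(List.ofFn μ, 0)] := by
  refine ⟨List.nodup_singleton _, fun p => ?_⟩
  rw [List.mem_singleton]
  constructor
  · rintro rfl
    exact ⟨1, one_mem _, by simp [Φ.negSet_of_nonneg hμ], by simp [Φ.negSet_of_nonneg hμ]⟩
  · rintro ⟨w, hw, h, rfl⟩
    have h1 : ∀ j ∈ J, 0 ≤ dual cs Φ.cartan w μ j := fun j _ => by
      by_contra hc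
      have : Φ.simple j ∈ Φ.negSet (dual cs Φ.cartan w μ) := Φ.mem_negSet.2 ⟨Φ.pos_simple j, by
        rw [Φ.root_simple, dotProduct_single, mul_one]; exact not_le.1 hc⟩
      rw [Finset.card_eq_zero.1 h] at this
      exact Finset.notMem_empty _ this
    rw [Φ.dual_eq_of_mem_parab (μ := μ) (fun j hj => hj.2) (Φ.mem_parab_of_dominant hμ hw h1),
      Φ.negSet_of_nonneg hμ]
    simp

theorem card_negSet_simple {μ : Fin n → ℤ} {j : Fin n} (hj : 0 < μ j) :
    (Φ.negSet (μ - μ j • Φ.A j)).card = (Φ.negSet μ).card + 1 := by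
  simpa using Φ.sum_negSet_simple (e := fun _ => 1) (fun _ _ => rfl) hj

theorem IsLayer.step {Φ : RootSys cs R} {e : R → ℕ} (he : ∀ (w : W) r, e (w • r) = e r)
    {AL : List (List ℤ)} {eL J : List ℕ} (hA : ∀ j : Fin n, AL.getD j [] = List.ofFn (Φ.A j))
    (hE : ∀ j : Fin n, eL.getD j 0 = e (Φ.simple j)) {μ : Fin n → ℤ} (hμ : 0 ≤ μ) {m : ℕ}
    {L : List (List ℤ × ℕ)} (h : Φ.IsLayer e {j | (j : ℕ) ∈ J} μ m L) :
    Φ.IsLayer e {j | (j : ℕ) ∈ J} μ (m + 1) (layerStep AL eL J L) := by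
  refine ⟨List.nodup_dedup _, fun p => ?_⟩
  have key : ∀ (ν : Fin n → ℤ) (j : Fin n),
      List.zipWith (fun a b => a - ν j * b) (List.ofFn ν) (AL.getD j []) =
        List.ofFn (ν - ν j • Φ.A j) := fun ν j => by
    rw [hA, zipWith_ofFn]; rfl
  simp only [layerStep, List.mem_dedup, List.mem_flatMap, List.mem_filterMap, h.2]
  constructor
  · rintro ⟨_, ⟨w, hw, hm, rfl⟩, j, hj, h1⟩
    split_ifs at h1 with h2
    have hjn := getD_ofFn_pos h2
    lift j to Fin n using hjn
    rw [getD_ofFn_fin] at h2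
    simp only [getD_ofFn_fin, key, hE, Option.some.injEq] at h1
    refine ⟨cs.simple j * w, mul_mem (simple_mem_parab cs hj) hw, ?_, ?_⟩
    · rw [dual_simple_mul, Φ.card_negSet_simple h2, hm]
    · rw [dual_simple_mul, Φ.sum_negSet_simple he h2, h1]
  · rintro ⟨w, hw, hm, rfl⟩
    obtain ⟨j, hj, h1⟩ := Φ.exists_neg_of_card_negSet hμ hw (by omega)
    set ν := dual cs Φ.cartan (cs.simple j * w) μ with hν
    have h2 : dual cs Φ.cartan w μ = ν - ν j • Φ.A j := by
      rw [hν, ← dual_simple_mul, cs.simple_mul_simple_cancel_left]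
    have h3 : 0 < ν j := by
      rw [hν, dual_simple_mul, Pi.sub_apply, Pi.smul_apply, Φ.cartan.1, smul_eq_mul]
      omega
    refine ⟨_, ⟨cs.simple j * w, mul_mem (simple_mem_parab cs hj) hw, ?_, rfl⟩, j, hj, ?_⟩
    · rw [h2, Φ.card_negSet_simple h3] at hm
      exact Nat.succ.inj hm
    · simp only [← hν, getD_ofFn_fin, h3, if_true, key, hE]
      rw [h2, Φ.sum_negSet_simple he h3]

open Classical in
theorem sum_layerExps [Fintype W] {S : Type*} [CommSemiring S] (q : S) {e : R → ℕ}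
    (he : ∀ (w : W) r, e (w • r) = e r)
    {AL : List (List ℤ)} {eL J : List ℕ} (hA : ∀ j : Fin n, AL.getD j [] = List.ofFn (Φ.A j))
    (hE : ∀ j : Fin n, eL.getD j 0 = e (Φ.simple j)) {μ : Fin n → ℤ} (hμ : 0 ≤ μ) (N : ℕ) {m : ℕ}
    {L : List (List ℤ × ℕ)} (h : Φ.IsLayer e {j | (j : ℕ) ∈ J} μ m L) :
    ((layerExps AL eL J N L).map (q ^ ·)).sum =
      ∑ ν ∈ ((Finset.univ.filter (· ∈ parab cs {j | (j : ℕ) ∈ J})).image
        (fun w => dual cs Φ.cartan w μ)).filter
          (fun ν => m ≤ (Φ.negSet ν).card ∧ (Φ.negSet ν).card < m + N),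
        q ^ ∑ r ∈ Φ.negSet ν, e r := by
  induction N generalizing m L with
  | zero =>
    rw [layerExps, Finset.filter_false_of_mem fun ν _ => by omega]
    simp
  | succ N ih =>
    rw [layerExps, List.map_append, List.sum_append, ih (h.step he hA hE hμ)]
    refine Eq.trans ?_ (Finset.sum_filter_add_sum_filter_not _
      (fun ν => (Φ.negSet ν).card = m) _)
    rw [Finset.filter_filter, Finset.filter_filter]
    congr 1
    · rw [List.map_map, ← List.sum_toFinset _ h.1]
      symm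
      refine Finset.sum_bij (fun ν _ => (List.ofFn ν, ∑ r ∈ Φ.negSet ν, e r)) ?_ ?_ ?_ ?_
      · intro ν hν
        simp only [Finset.mem_filter, Finset.mem_image, Finset.mem_univ, true_and] at hν
        obtain ⟨⟨w, hw, rfl⟩, -, h2⟩ := hν
        exact List.mem_toFinset.2 ((h.2 _).2 ⟨w, hw, h2, rfl⟩)
      · intro a _ b _ hab
        exact List.ofFn_injective (congrArg Prod.fst hab)
      · intro p hp
        obtain ⟨w, hw, h2, rfl⟩ := (h.2 _).1 (List.mem_toFinset.1 hp)
        refine ⟨_, ?_, rfl⟩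
        simp only [Finset.mem_filter, Finset.mem_image, Finset.mem_univ, true_and]
        exact ⟨⟨w, hw, rfl⟩, by omega, h2⟩
      · intro ν _
        rfl
    · refine Finset.sum_congr (Finset.filter_congr fun ν _ => by omega) fun _ _ => rfl

open Classical in
/-- The Poincaré sum of `W_J` as the product of the factors computed by `chainExps`. -/
theorem poincare_chain [Fintype W] {S : Type*} [CommSemiring S] (q : S) {e : R → ℕ}
    (he : ∀ (w : W) r, e (w • r) = e r)
    {AL : List (List ℤ)} {eL : List ℕ} (hA : ∀ j : Fin n, AL.getD j [] = List.ofFn (Φ.A j))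
    (hE : ∀ j : Fin n, eL.getD j 0 = e (Φ.simple j)) {N : ℕ} (hN : Fintype.card R < N)
    {J : List ℕ} (hJ : J.Nodup) :
    ∑ w ∈ Finset.univ.filter (· ∈ parab cs {j | (j : ℕ) ∈ J}), q ^ Φ.wlen e w =
      ((chainExps n N AL eL J).map fun l => (l.map (q ^ ·)).sum).prod := by
  induction J with
  | nil =>
    have : ({j | (j : ℕ) ∈ ([] : List ℕ)} : Set (Fin n)) = ∅ := by ext; simp
    simp only [this, parab_empty, Subgroup.mem_bot, chainExps, List.map_nil, List.prod_nil]
    rw [Finset.sum_eq_single_of_mem 1 (by simp) fun b hb h => absurd (by simpa using hb) h]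
    simp [wlen, Φ.inv_one]
  | cons k J ih =>
    rw [List.nodup_cons] at hJ
    set μ : Fin n → ℤ := fun j => if (j : ℕ) = k then 1 else 0
    have hμ : 0 ≤ μ := fun j => by simp only [μ]; split_ifs <;> simp
    have h1 : ((List.range n).map fun j => if j = k then (1 : ℤ) else 0) = List.ofFn μ := by
      apply List.ext_getElem <;> simp [μ]
    have h2 : {j | j ∈ {j : Fin n | (j : ℕ) ∈ k :: J} ∧ μ j = 0} = {j : Fin n | (j : ℕ) ∈ J} := by
      ext j
      by_cases hj : (j : ℕ) = k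
      · simp [μ, hj, hJ.1]
      · simp [μ, hj]
    rw [Φ.poincare_step q he _ hμ, h2, ih hJ.2, chainExps, List.map_cons, List.prod_cons, h1,
      Φ.sum_layerExps q he hA hE hμ N (Φ.isLayer_zero e _ hμ)]
    congr 2
    symm
    refine Finset.filter_true_of_mem fun ν _ => ?_
    have := Finset.card_le_univ (Φ.negSet ν)
    omega

theorem poincare_univ [Fintype W] {S : Type*} [CommSemiring S] (q : S) {e : R → ℕ}
    (he : ∀ (w : W) r, e (w • r) = e r)
    {AL : List (List ℤ)} {eL : List ℕ} (hA : ∀ j : Fin n, AL.getD j [] = List.ofFn (Φ.A j))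
    (hE : ∀ j : Fin n, eL.getD j 0 = e (Φ.simple j)) {N : ℕ} (hN : Fintype.card R < N)
    {J : List ℕ} (hJ : J.Nodup) (hJ' : ∀ j < n, j ∈ J) {P : List (List ℕ)}
    (hP : chainExps n N AL eL J = P) :
    ∑ w : W, q ^ Φ.wlen e w = (P.map fun l => (l.map (q ^ ·)).sum).prod := by
  classical
  rw [← hP, ← Φ.poincare_chain q he hA hE hN hJ]
  have : ({j | (j : ℕ) ∈ J} : Set (Fin n)) = Set.univ := Set.eq_univ_of_forall fun j => hJ' j j.2
  simp [this, parab_univ]

end RootSys

end fin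

end CL.Cox
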