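import Cfsg.Agent.Base
import Cfsg.Agent.Chev.CoxInv

/-!
Diagram automorphisms of a root system, the fixed subgroup `W^σ`, its generation by the longest
elements `w₀^J` (`J` an orbit of nodes), and foldings onto a smaller root system.
-/

set_option autoImplicit false
set_option linter.unusedSectionVars false
set_option linter.unusedSimpArgs false

namespace CL.Cox

variable {B : Type*} [Fintype B] [DecidableEq B] {M : CoxeterMatrix B}
variable {W : Type*} [Group W] {cs : CoxeterSystem M W} {R : Type*} [MulAction W R]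

/-- A permutation `ρ` of the roots inducing the permutation `π` of the nodes. -/
structure DiagAut (Φ : RootSys cs R) where
  ρ : Equiv.Perm R
  π : Equiv.Perm B
  ρ_simple : ∀ i, ρ (Φ.simple i) = Φ.simple (π i)
  ρ_simple_smul : ∀ i r, ρ (cs.simple i • r) = cs.simple (π i) • ρ r

namespace DiagAut

variable {Φ : RootSys cs R} (τ : DiagAut Φ)

/-- The inverse diagram automorphism. -/
def symm : DiagAut Φ where
  ρ := τ.ρ⁻¹
  π := τ.π⁻¹
  ρ_simple i := by
    apply τ.ρ.injective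
    rw [τ.ρ_simple]; simp
  ρ_simple_smul i r := by
    apply τ.ρ.injective
    rw [τ.ρ_simple_smul]; simp

theorem ρ_wordProd_smul (ω : List B) (r : R) :
    τ.ρ (cs.wordProd ω • r) = cs.wordProd (ω.map τ.π) • τ.ρ r := by
  induction ω with
  | nil => simp
  | cons a ω ih => rw [List.map_cons, cs.wordProd_cons, cs.wordProd_cons, mul_smul, mul_smul,
      τ.ρ_simple_smul, ih]

theorem exists_conj (w : W) : ∃ w' : W, ∀ r, τ.ρ (w • r) = w' • τ.ρ r := by
  obtain ⟨ω, rfl⟩ := cs.wordProd_surjective w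
  exact ⟨_, τ.ρ_wordProd_smul ω⟩

theorem eq_of_smul_ρ {u v : W} (h : ∀ r, u • τ.ρ r = v • τ.ρ r) : u = v :=
  Φ.eq_of_smul_simple_eq fun i => by
    obtain ⟨r, hr⟩ := τ.ρ.surjective (Φ.simple i)
    rw [← hr, h]

/-- The automorphism of `W` induced by `ρ`. -/
noncomputable def σ : W ≃* W where
  toFun w := (τ.exists_conj w).choose
  invFun w := (τ.symm.exists_conj w).choose
  left_inv w := Φ.eq_of_smul_simple_eq fun i => by
    have h1 := (τ.symm.exists_conj (τ.exists_conj w).choose).choose_spec (τ.ρ (Φ.simple i))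
    rw [← (τ.exists_conj w).choose_spec] at h1
    simpa [symm] using h1.symm
  right_inv w := τ.eq_of_smul_ρ fun r => by
    rw [← (τ.exists_conj _).choose_spec]
    have h1 := (τ.symm.exists_conj w).choose_spec (τ.ρ r)
    simp only [symm, Equiv.Perm.coe_inv, Equiv.symm_apply_apply] at h1
    erw [← h1]
    simp
  map_mul' u v := τ.eq_of_smul_ρ fun r => by
    rw [← (τ.exists_conj _).choose_spec, mul_smul, mul_smul, ← (τ.exists_conj _).choose_spec,
      ← (τ.exists_conj _).choose_spec]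

theorem ρ_smul (w : W) (r : R) : τ.ρ (w • r) = τ.σ w • τ.ρ r := (τ.exists_conj w).choose_spec r

theorem σ_wordProd (ω : List B) : τ.σ (cs.wordProd ω) = cs.wordProd (ω.map τ.π) :=
  τ.eq_of_smul_ρ fun r => by rw [← ρ_smul, ρ_wordProd_smul]

theorem σ_simple (i : B) : τ.σ (cs.simple i) = cs.simple (τ.π i) :=
  τ.eq_of_smul_ρ fun r => by rw [← ρ_smul, τ.ρ_simple_smul]

theorem symm_σ_σ (w : W) : τ.symm.σ (τ.σ w) = w := τ.σ.left_inv w

theorem length_σ_le (w : W) : cs.length (τ.σ w) ≤ cs.length w := by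
  obtain ⟨ω, h, rfl⟩ := cs.exists_isReduced w
  rw [σ_wordProd, h.eq]
  simpa using cs.length_wordProd_le (ω.map τ.π)

theorem length_σ (w : W) : cs.length (τ.σ w) = cs.length w := by
  refine le_antisymm (τ.length_σ_le w) ?_
  have := τ.symm.length_σ_le (τ.σ w)
  rwa [symm_σ_σ] at this

theorem ρ_neg (r : R) : τ.ρ (Φ.neg r) = Φ.neg (τ.ρ r) := by
  obtain ⟨w, i, rfl⟩ := Φ.exists_smul_simple r
  rw [← Φ.smul_neg, ← Φ.simple_smul_simple, ρ_smul, τ.ρ_simple_smul, τ.ρ_simple,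
    Φ.simple_smul_simple, Φ.smul_neg, ρ_smul, τ.ρ_simple]

theorem pos_ρ_iff (r : R) : Φ.Pos (τ.ρ r) ↔ Φ.Pos r := by
  obtain ⟨w, i, rfl⟩ := Φ.exists_smul_simple r
  rw [ρ_smul, τ.ρ_simple, ← not_iff_not, ← Φ.isRightDescent_iff, ← Φ.isRightDescent_iff,
    CoxeterSystem.IsRightDescent, CoxeterSystem.IsRightDescent, ← σ_simple, ← map_mul,
    length_σ, length_σ]

theorem σ_reflection (r : R) : τ.σ (Φ.reflection r) = Φ.reflection (τ.ρ r) := by
  obtain ⟨w, i, rfl⟩ := Φ.exists_smul_simple r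
  rw [ρ_smul, τ.ρ_simple, Φ.reflection_smul, Φ.reflection_smul, Φ.reflection_simple,
    Φ.reflection_simple, map_mul, map_mul, map_inv, σ_simple]

theorem σ_mem_parab {J K : Set B} (h : ∀ j ∈ J, τ.π j ∈ K) {w : W} (hw : w ∈ parab cs J) :
    τ.σ w ∈ parab cs K := by
  refine parab_induction_left cs (p := fun w => τ.σ w ∈ parab cs K) (by simp) ?_ hw
  intro j hj w _ ih
  rw [map_mul, σ_simple]
  exact mul_mem (simple_mem_parab cs (h j hj)) ih

theorem inSub_ρ {J K : Set B} (h : ∀ j ∈ J, τ.π j ∈ K) {r : R} (hr : Φ.InSub J r) :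
    Φ.InSub K (τ.ρ r) := by
  rw [← Φ.reflection_mem_parab_iff] at hr ⊢
  rw [← σ_reflection]
  exact τ.σ_mem_parab h hr

theorem inSub_ρ_iff {J : Set B} (h : ∀ j, τ.π j ∈ J ↔ j ∈ J) {r : R} :
    Φ.InSub J (τ.ρ r) ↔ Φ.InSub J r := by
  refine ⟨fun hr => ?_, τ.inSub_ρ fun j hj => (h j).2 hj⟩
  have := τ.symm.inSub_ρ (J := J) (K := J) (fun j hj => (h _).1 (by simpa [symm] using hj)) hr
  simpa [symm] using this

/-- The fixed subgroup `W^σ`. -/
def fixed : Subgroup W where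
  carrier := {w | ∀ r, w • τ.ρ r = τ.ρ (w • r)}
  one_mem' := by simp
  mul_mem' {a b} ha hb r := by rw [mul_smul, hb, ha, mul_smul]
  inv_mem' {a} ha r := by rw [inv_smul_eq_iff, ha, smul_inv_smul]

theorem mem_fixed {w : W} : w ∈ τ.fixed ↔ ∀ r, w • τ.ρ r = τ.ρ (w • r) := Iff.rfl

theorem mem_fixed_iff_σ {w : W} : w ∈ τ.fixed ↔ τ.σ w = w :=
  ⟨fun h => τ.eq_of_smul_ρ fun r => by rw [← ρ_smul, h], fun h r => by rw [ρ_smul, h]⟩

theorem pos_smul_ρ_iff {w : W} (hw : w ∈ τ.fixed) (r : R) :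
    Φ.Pos (w • τ.ρ r) ↔ Φ.Pos (w • r) := by
  rw [hw, pos_ρ_iff]

/-- The orbit of the node `i`. -/
def orb (i : B) : Set B := {j | τ.π.SameCycle i j}

theorem mem_orb {i j : B} : j ∈ τ.orb i ↔ τ.π.SameCycle i j := Iff.rfl

theorem self_mem_orb (i : B) : i ∈ τ.orb i := Equiv.Perm.SameCycle.refl _ _

theorem π_mem_orb_iff {i j : B} : τ.π j ∈ τ.orb i ↔ j ∈ τ.orb i :=
  Equiv.Perm.sameCycle_apply_right

theorem orb_eq_of_mem {i j : B} (h : j ∈ τ.orb i) : τ.orb j = τ.orb i := by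
  ext k
  exact ⟨fun hk => Equiv.Perm.SameCycle.trans h hk, fun hk => Equiv.Perm.SameCycle.trans
    (Equiv.Perm.SameCycle.symm h) hk⟩

theorem pos_smul_simple_iff_of_mem_orb {w : W} (hw : w ∈ τ.fixed) {i j : B} (h : j ∈ τ.orb i) :
    Φ.Pos (w • Φ.simple j) ↔ Φ.Pos (w • Φ.simple i) := by
  obtain ⟨n, rfl⟩ := Equiv.Perm.SameCycle.exists_nat_pow_eq h
  clear h
  induction n with
  | zero => simp
  | succ n ih => rw [pow_succ', Equiv.Perm.mul_apply, ← τ.ρ_simple, τ.pos_smul_ρ_iff hw, ih]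

variable [Fintype R]

theorem ρ_mem_inv_iff {w : W} (hw : w ∈ τ.fixed) {r : R} : τ.ρ r ∈ Φ.inv w ↔ r ∈ Φ.inv w := by
  rw [Φ.mem_inv, Φ.mem_inv, τ.pos_smul_ρ_iff hw, pos_ρ_iff]

theorem σ_w0 {J K : Set B} (h : ∀ j, τ.π j ∈ K ↔ j ∈ J) : τ.σ (Φ.w0 J) = Φ.w0 K := by
  refine Φ.eq_w0 (τ.σ_mem_parab (fun j hj => (h j).2 hj) (Φ.w0_mem J)) fun k hk => ?_
  obtain ⟨j, rfl⟩ := τ.π.surjective k
  rw [← τ.ρ_simple, ← ρ_smul, pos_ρ_iff]
  exact Φ.not_pos_w0_smul (Φ.pos_simple j) (Φ.inSub_simple_iff.2 ((h j).1 hk))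

theorem w0_mem_fixed {J : Set B} (h : ∀ j, τ.π j ∈ J ↔ j ∈ J) : Φ.w0 J ∈ τ.fixed :=
  τ.mem_fixed_iff_σ.2 (τ.σ_w0 h)

theorem w0_orb_mem_fixed (i : B) : Φ.w0 (τ.orb i) ∈ τ.fixed :=
  τ.w0_mem_fixed fun _ => τ.π_mem_orb_iff

theorem w0_univ_mem_fixed : Φ.w0 Set.univ ∈ τ.fixed := τ.w0_mem_fixed fun _ => Iff.rfl

/-- Induction on `W^σ`, multiplying on the right by `w₀^J` with the length going up. -/
theorem fixed_induction_right {p : W → Prop} (h1 : p 1)
    (h2 : ∀ w ∈ τ.fixed, ∀ i, (∀ j ∈ τ.orb i, Φ.Pos (w • Φ.simple j)) → p w →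
      p (w * Φ.w0 (τ.orb i))) {w : W} (hw : w ∈ τ.fixed) : p w := by
  induction hn : cs.length w using Nat.strong_induction_on generalizing w with
  | _ n ih =>
  by_cases h : w = 1
  · rw [h]; exact h1
  obtain ⟨i, hi⟩ := cs.exists_rightDescent_of_ne_one h
  rw [Φ.isRightDescent_iff] at hi
  have hall : ∀ j ∈ τ.orb i, ¬ Φ.Pos (w • Φ.simple j) := fun j hj => by
    rwa [τ.pos_smul_simple_iff_of_mem_orb hw hj]
  have hl := Φ.length_mul_w0_of_not_pos hall
  have hp := Φ.length_w0_pos ⟨i, τ.self_mem_orb i⟩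
  have hw' := mul_mem hw (τ.w0_orb_mem_fixed i)
  have := h2 _ hw' i (fun j hj => ?_) (ih _ (by omega) hw' rfl)
  · rwa [mul_assoc, Φ.w0_mul_self, mul_one] at this
  · have h3 : Φ.InSub (τ.orb i) (Φ.simple j) := Φ.inSub_simple_iff.2 hj
    have h4 := Φ.not_pos_smul_of_inSub hall
      ((Φ.pos_neg_iff _).2 (Φ.not_pos_w0_smul (Φ.pos_simple j) h3))
      (Φ.inSub_neg_iff.2 ((Φ.inSub_smul_iff (Φ.w0_mem _)).2 h3))
    rwa [Φ.smul_neg, Φ.not_pos_neg_iff, ← mul_smul] at h4

/-- Induction on `W^σ`, multiplying on the left by `w₀^J` with the length going up. -/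
theorem fixed_induction_left {p : W → Prop} (h1 : p 1)
    (h2 : ∀ w ∈ τ.fixed, ∀ i, (∀ j ∈ τ.orb i, Φ.Pos (w⁻¹ • Φ.simple j)) → p w →
      p (Φ.w0 (τ.orb i) * w)) {w : W} (hw : w ∈ τ.fixed) : p w := by
  have := τ.fixed_induction_right (p := fun w => p w⁻¹) (by simpa using h1)
    (fun w hw i hi h => by
      rw [mul_inv_rev, Φ.w0_inv]
      exact h2 _ (inv_mem hw) i (by simpa using hi) h) (inv_mem hw)
  simpa using this

theorem fixed_eq_closure : τ.fixed = Subgroup.closure (Set.range fun i => Φ.w0 (τ.orb i)) := by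
  apply le_antisymm
  · intro w hw
    exact τ.fixed_induction_right
      (p := fun w => w ∈ Subgroup.closure (Set.range fun i => Φ.w0 (τ.orb i))) (one_mem _)
      (fun w _ i _ h => mul_mem h (Subgroup.subset_closure ⟨i, rfl⟩)) hw
  · rw [Subgroup.closure_le]
    rintro _ ⟨i, rfl⟩
    exact τ.w0_orb_mem_fixed i

/-- For `w ∈ W^σ` either all or none of the simple roots of an orbit are made negative. -/
theorem pos_or_not_pos_orb {w : W} (hw : w ∈ τ.fixed) (i : B) :
    (∀ j ∈ τ.orb i, Φ.Pos (w • Φ.simple j)) ∨ ∀ j ∈ τ.orb i, ¬ Φ.Pos (w • Φ.simple j) := by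
  by_cases h : Φ.Pos (w • Φ.simple i)
  · exact Or.inl fun j hj => (τ.pos_smul_simple_iff_of_mem_orb hw hj).2 h
  · exact Or.inr fun j hj => by rwa [τ.pos_smul_simple_iff_of_mem_orb hw hj]

/-- The only elements of `W^σ` in `W_J` (`J` an orbit) are `1` and `w₀^J`. -/
theorem eq_one_or_w0_of_mem {w : W} (hw : w ∈ τ.fixed) {i : B} (h : w ∈ parab cs (τ.orb i)) :
    w = 1 ∨ w = Φ.w0 (τ.orb i) :=
  (τ.pos_or_not_pos_orb hw i).imp (Φ.eq_one_of_mem_parab h) (Φ.eq_w0 h)

end DiagAut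

section fold

variable {B' : Type*} [Fintype B'] [DecidableEq B'] {M' : CoxeterMatrix B'}
variable {W' : Type*} [Group W'] {cs' : CoxeterSystem M' W'} {R' : Type*} [MulAction W' R']

/-- A folding of the root system `Φ` onto `Φ'`: a projection of the roots intertwining the
elements `g k` with the simple reflections of `Φ'`. -/
structure Folding (Φ : RootSys cs R) (Φ' : RootSys cs' R') where
  g : B' → W
  pr : R → R'
  pr_g : ∀ k r, pr (g k • r) = cs'.simple k • pr r
  pos_pr : ∀ r, Φ'.Pos (pr r) ↔ Φ.Pos r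
  κ : B → B'
  pr_simple : ∀ i, pr (Φ.simple i) = Φ'.simple (κ i)
  κ_surj : Function.Surjective κ
  g_mem : ∀ k, g k ∈ parab cs {i | κ i = k}

namespace Folding

variable {Φ : RootSys cs R} {Φ' : RootSys cs' R'} (f : Folding Φ Φ')

theorem isLiftable : M'.IsLiftable f.g := by
  intro k l
  have key : ∀ (n : ℕ) (r : R), f.pr ((f.g k * f.g l) ^ n • r) =
      (cs'.simple k * cs'.simple l) ^ n • f.pr r := by
    intro n
    induction n with
    | zero => intro r; simp
    | succ n ih => intro r; rw [pow_succ, pow_succ, mul_smul, ih, mul_smul, f.pr_g, f.pr_g,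
        mul_smul, mul_smul]
  refine Φ.eq_one_of_pos fun r hr => ?_
  rwa [← f.pos_pr, key, cs'.simple_mul_simple_pow, one_smul, f.pos_pr]

/-- The homomorphism `W' → W` of a folding. -/
noncomputable def hom : W' →* W := cs'.lift ⟨f.g, f.isLiftable⟩

theorem hom_simple (k : B') : f.hom (cs'.simple k) = f.g k := cs'.lift_apply_simple _ k

theorem pr_hom_smul (w : W') (r : R) : f.pr (f.hom w • r) = w • f.pr r := by
  induction w using cs'.simple_induction_left with
  | one => simp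
  | mul_simple_left w i ih => rw [map_mul, mul_smul, hom_simple, f.pr_g, ih, mul_smul]

theorem hom_injective : Function.Injective f.hom := by
  rw [injective_iff_map_eq_one]
  intro w hw
  refine Φ'.eq_one_of_pos_simple fun k => ?_
  obtain ⟨i, rfl⟩ := f.κ_surj k
  rw [← f.pr_simple, ← pr_hom_smul, hw, one_smul, f.pos_pr]
  exact Φ.pos_simple i

variable [Fintype R] [Fintype R']

theorem g_eq_w0 (k : B') : f.g k = Φ.w0 {i | f.κ i = k} := by
  refine Φ.eq_w0 (f.g_mem k) fun j hj => ?_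
  rw [← f.pos_pr, f.pr_g, f.pr_simple, hj, Φ'.simple_smul_simple, Φ'.not_pos_neg_iff]
  exact Φ'.pos_simple k

theorem mem_inv_hom {w : W'} {r : R} : r ∈ Φ.inv (f.hom w) ↔ f.pr r ∈ Φ'.inv w := by
  rw [Φ.mem_inv, Φ'.mem_inv, ← pr_hom_smul, f.pos_pr, f.pos_pr]

open Classical in
/-- The number of roots above a root of the folded system. -/
noncomputable def mult (r' : R') : ℕ := (Finset.univ.filter fun r => f.pr r = r').card

theorem mult_smul (w : W') (r' : R') : f.mult (w • r') = f.mult r' := by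
  classical
  unfold mult
  symm
  refine Finset.card_bij (fun r _ => f.hom w • r) ?_ ?_ ?_
  · intro r hr
    simp only [Finset.mem_filter, Finset.mem_univ, true_and] at hr ⊢
    rw [pr_hom_smul, hr]
  · intro a _ b _ h
    exact MulAction.injective _ h
  · intro r hr
    simp only [Finset.mem_filter, Finset.mem_univ, true_and] at hr ⊢
    exact ⟨(f.hom w)⁻¹ • r, by rw [← map_inv, pr_hom_smul, hr, inv_smul_smul], smul_inv_smul _ _⟩

theorem length_hom (w : W') : cs.length (f.hom w) = ∑ r' ∈ Φ'.inv w, f.mult r' := by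
  classical
  rw [Φ.length_eq_card_inv, Finset.card_eq_sum_card_fiberwise (f := f.pr) (t := Φ'.inv w)
    fun r hr => f.mem_inv_hom.1 hr]
  refine Finset.sum_congr rfl fun r' hr' => ?_
  unfold mult
  congr 1
  ext r
  simp only [Finset.mem_filter, Finset.mem_univ, true_and, and_iff_right_iff_imp]
  rintro rfl
  exact f.mem_inv_hom.2 hr'

theorem mult_simple (k : B') : f.mult (Φ'.simple k) = cs.length (f.g k) := by
  rw [← hom_simple, length_hom, Φ'.inv_simple, Finset.sum_singleton]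

theorem range_hom (τ : DiagAut Φ) (h : ∀ i j, f.κ j = f.κ i ↔ τ.π.SameCycle i j) :
    f.hom.range = τ.fixed := by
  have horb : ∀ i, τ.orb i = {j | f.κ j = f.κ i} := fun i => Set.ext fun j => (h i j).symm
  apply le_antisymm
  · rintro _ ⟨w, rfl⟩
    induction w using cs'.simple_induction_left with
    | one => simp
    | mul_simple_left w k ih =>
      rw [map_mul, hom_simple, g_eq_w0]
      obtain ⟨i, rfl⟩ := f.κ_surj k
      rw [← horb]
      exact mul_mem (τ.w0_orb_mem_fixed i) ih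
  · rw [τ.fixed_eq_closure, Subgroup.closure_le]
    rintro _ ⟨i, rfl⟩
    exact ⟨cs'.simple (f.κ i), by rw [hom_simple, g_eq_w0, ← horb]⟩

/-- The isomorphism `W' ≃ W^σ`. -/
noncomputable def equivFixed (τ : DiagAut Φ) (h : ∀ i j, f.κ j = f.κ i ↔ τ.π.SameCycle i j) :
    W' ≃* τ.fixed :=
  (MonoidHom.ofInjective f.hom_injective).trans (MulEquiv.subgroupCongr (f.range_hom τ h))

theorem coe_equivFixed (τ : DiagAut Φ) (h : ∀ i j, f.κ j = f.κ i ↔ τ.π.SameCycle i j) (w : W') :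
    (f.equivFixed τ h w : W) = f.hom w := rfl

end Folding

end fold

end CL.Cox
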