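import Cfsg.Agent.Base
import Cfsg.Agent.Chev.E6Rep
import Cfsg.Agent.Chev.Cubic2
import Cfsg.Agent.Auto.ACL_Rep_entTE6_81183b
import Cfsg.Agent.Auto.ACL_Cubic_Fix_1e2b94
import Cfsg.Agent.Auto.ACL_Rep_encE6_697471
import Cfsg.Agent.Auto.ACL_Rep_decE6_881bcd

/-!
# The isometry group of the cubic form is generated by the root elements of type E6
-/

set_option linter.unusedSectionVars false

namespace CL.Rep

open Matrix Cfsg.Lie CL.Cubic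

def monsN : List (ℕ × ℕ × ℕ × ℤ) :=
  [(0,4,8,1), (0,5,7,-1), (0,9,18,-1), (0,10,21,-1), (0,11,24,-1), (1,3,8,-1), (1,5,6,1), (1,12,18,-1),
   (1,13,21,-1), (1,14,24,-1), (2,3,7,1), (2,4,6,-1), (2,15,18,-1), (2,16,21,-1), (2,17,24,-1), (3,9,19,-1),
   (3,10,22,-1), (3,11,25,-1), (4,12,19,-1), (4,13,22,-1), (4,14,25,-1), (5,15,19,-1), (5,16,22,-1), (5,17,25,-1),
   (6,9,20,-1), (6,10,23,-1), (6,11,26,-1), (7,12,20,-1), (7,13,23,-1), (7,14,26,-1), (8,15,20,-1), (8,16,23,-1),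
   (8,17,26,-1), (9,13,17,1), (9,14,16,-1), (10,12,17,-1), (10,14,15,1), (11,12,16,1), (11,13,15,-1), (18,22,26,1),
   (18,23,25,-1), (19,21,26,-1), (19,23,24,1), (20,21,25,1), (20,22,24,-1)]

def monsE6 : Mons I27 := monsN.map fun m => (decE6 m.1, decE6 m.2.1, decE6 m.2.2.1, m.2.2.2)

def rtsE6 : Rts I27 := fun r => (tabE6.getD r []).map fun e => (decE6 e.1, decE6 e.2.1, e.2.2)

def mkStepE6 (ν : ℕ) (zs : List (ℕ × ℕ × ℕ)) (one nz : Option (ℕ × ℕ)) (base : ℕ × ℕ) (path : List (ℕ × ℕ × ℕ))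
    (kill fin : List (ℕ × ℕ)) : Step I27 :=
  ⟨decE6 ν, zs.map fun z => (decE6 z.1, decE6 z.2.1, decE6 z.2.2), one.map fun z => (decE6 z.1, decE6 z.2),
    nz.map fun z => (decE6 z.1, decE6 z.2), (decE6 base.1, base.2), path.map fun z => (decE6 z.1, z.2.1, decE6 z.2.2),
    kill.map fun z => (decE6 z.1, z.2), fin.map fun z => (decE6 z.1, decE6 z.2)⟩

def stE6_0 : Step I27 := mkStepE6 0
  []
  none none (1,35)
  [(0,36,1),(2,34,1),(4,56,1),(7,57,1),(9,16,1),(10,61,1),(11,58,1),(15,18,1),(16,63,1),(17,60,1),(19,68,1),(20,65,1),(22,23,1),(23,20,1),(25,31,1),(26,27,1),(3,56,0),(6,57,0),(12,16,0),(13,61,0),(14,58,0),(5,56,2),(8,57,2),(18,68,4),(21,23,4),(24,31,4)]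
  [(1,36),(2,38),(3,15),(6,14),(12,55),(13,10),(14,13),(15,54),(16,9),(17,12),(19,4),(20,7),(22,49),(23,52),(25,41),(26,45)]
  [(4,8),(5,7),(7,5),(8,4),(9,18),(10,21),(11,24),(18,9),(21,10),(24,11)]

def stE6_1 : Step I27 := mkStepE6 4
  []
  none (some (0,8)) (5,34)
  [(4,37,5),(8,42,5),(9,6,5),(10,51,5),(11,44,5),(18,69,5),(21,24,5),(24,32,5),(7,42,4)]
  [(1,56),(3,35),(5,37),(7,29),(9,66),(10,21),(11,28),(15,64),(16,19),(17,26),(18,3),(20,17),(21,48),(23,62),(24,40),(26,59)]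
  [(0,8),(2,6),(6,2),(8,0),(12,19),(13,22),(14,25),(19,12),(22,13),(25,14)]

def stE6_2 : Step I27 := mkStepE6 8
  []
  (some (0,4)) none (0,0)
  []
  [(2,57),(5,42),(6,33),(7,34),(9,68),(10,23),(11,31),(12,67),(13,22),(14,30),(18,5),(19,16),(21,50),(22,61),(24,43),(25,58)]
  [(0,4),(1,3),(3,1),(4,0),(15,20),(16,23),(17,26),(20,15),(23,16),(26,17)]

def stE6_3 : Step I27 := mkStepE6 1
  [(0,8,4),(2,4,6),(4,8,0),(5,0,7),(6,4,2),(7,0,5),(8,4,0),(9,0,18),(10,0,21),(11,0,24),(12,4,19),(13,4,22),(14,4,25),(18,0,9),(19,4,12),(21,0,10),(22,4,13),(24,0,11),(25,4,14)]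
  none none (15,18)
  [(1,53,15),(3,65,15),(16,71,15),(17,70,15),(23,39,15),(26,47,15),(20,65,1)]
  [(15,53),(16,8),(17,11),(20,6),(23,51),(26,44)]
  [(3,8)]

def stE6_4 : Step I27 := mkStepE6 3
  [(0,8,4),(2,4,6),(4,8,0),(5,0,7),(6,4,2),(7,0,5),(8,4,0),(9,0,18),(10,0,21),(11,0,24),(12,4,19),(13,4,22),(14,4,25),(18,0,9),(19,4,12),(21,0,10),(22,4,13),(24,0,11),(25,4,14)]
  (some (8,1)) none (0,0)
  []
  [(15,65),(16,20),(17,27),(20,18),(23,63),(26,60)]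
  [(1,8)]

def stE6_5 : Step I27 := mkStepE6 2
  [(0,8,4),(1,3,8),(3,1,8),(4,8,0),(5,1,6),(6,1,5),(7,0,5),(8,3,1),(9,0,18),(10,0,21),(11,0,24),(12,1,18),(13,1,21),(14,1,24),(15,8,20),(16,8,23),(17,8,26),(18,1,12),(20,8,15),(21,1,13),(23,8,16),(24,1,14),(26,8,17)]
  none none (19,69)
  [(2,2,19),(22,0,19),(25,1,19)]
  [(19,2),(22,47),(25,39)]
  []

def stE6_6 : Step I27 := mkStepE6 6
  [(0,8,4),(1,3,8),(2,3,7),(3,1,8),(4,8,0),(5,0,7),(7,2,3),(8,3,1),(9,3,19),(10,3,22),(11,3,25),(15,8,20),(16,8,23),(17,8,26),(18,0,9),(19,3,9),(20,8,15),(21,0,10),(22,3,10),(23,8,16),(24,0,11),(25,3,11),(26,8,17)]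
  (some (4,2)) none (0,0)
  []
  [(12,69),(13,24),(14,32)]
  []

def stE6_7 : Step I27 := mkStepE6 5
  [(0,8,4),(1,3,8),(2,6,4),(3,2,7),(4,6,2),(6,2,4),(7,2,3),(8,3,1),(9,3,19),(10,3,22),(11,3,25),(12,4,19),(13,4,22),(14,4,25),(15,2,18),(16,2,21),(17,2,24),(18,2,15),(19,3,9),(20,8,15),(21,2,16),(22,3,10),(23,8,16),(24,2,17),(25,3,11),(26,8,17)]
  (some (1,6)) none (0,0)
  []
  []
  []

def stE6_8 : Step I27 := mkStepE6 7
  [(0,8,4),(1,5,6),(2,6,4),(3,1,8),(4,6,2),(5,6,1),(6,5,1),(8,3,1),(9,6,20),(10,6,23),(11,6,26),(12,1,18),(13,1,21),(14,1,24),(15,8,20),(16,8,23),(17,8,26),(18,1,12),(19,4,12),(20,6,9),(21,1,13),(22,4,13),(23,6,10),(24,1,14),(25,4,14),(26,6,11)]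
  (some (0,5)) none (0,0)
  []
  []
  []

def stE6_9 : Step I27 := mkStepE6 9
  [(0,7,5),(1,5,6),(2,7,3),(3,7,2),(4,6,2),(5,7,0),(6,5,1),(7,5,0),(8,3,1),(12,7,20),(13,7,23),(14,7,26),(15,5,19),(16,5,22),(17,5,25),(18,2,15),(19,5,15),(20,7,12),(21,2,16),(22,5,16),(23,7,13),(24,2,17),(25,5,17),(26,7,14)]
  none none (10,71)
  [(9,0,10),(11,25,10)]
  [(10,0),(11,1)]
  []

def stE6_10 : Step I27 := mkStepE6 18
  [(0,7,5),(1,5,6),(2,7,3),(3,7,2),(4,6,2),(5,7,0),(6,5,1),(7,5,0),(8,3,1),(9,6,20),(10,6,23),(11,6,26),(12,7,20),(13,7,23),(14,7,26),(15,5,19),(16,5,22),(17,5,25),(19,9,3),(20,9,6),(22,5,16),(23,7,13),(25,5,17),(26,7,14)]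
  (some (0,9)) none (0,0)
  []
  [(21,71),(24,70)]
  []

def stE6_11 : Step I27 := mkStepE6 12
  [(0,18,9),(1,5,6),(2,7,3),(3,9,19),(4,6,2),(5,7,0),(6,9,20),(7,5,0),(8,3,1),(9,18,0),(10,6,23),(11,6,26),(13,9,17),(14,9,16),(15,18,2),(16,9,14),(17,9,13),(18,9,0),(19,9,3),(20,9,6),(21,2,16),(22,5,16),(23,6,10),(24,2,17),(25,5,17),(26,6,11)]
  (some (1,18)) none (0,0)
  []
  []
  []

def stE6_12 : Step I27 := mkStepE6 15
  [(0,18,9),(1,12,18),(2,7,3),(3,9,19),(4,12,19),(5,7,0),(6,9,20),(7,12,20),(8,3,1),(9,18,0),(10,12,17),(11,12,16),(12,18,1),(13,9,17),(14,9,16),(16,12,11),(17,12,10),(18,12,1),(19,12,4),(20,12,7),(21,1,13),(22,3,10),(23,7,13),(24,1,14),(25,3,11),(26,7,14)]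
  (some (2,18)) none (0,0)
  []
  []
  []

def stE6_13 : Step I27 := mkStepE6 19
  [(0,18,9),(1,12,18),(2,15,18),(3,7,2),(4,6,2),(5,7,0),(6,5,1),(7,5,0),(8,3,1),(9,18,0),(10,6,23),(11,6,26),(12,18,1),(13,7,23),(14,7,26),(15,18,2),(16,2,21),(17,2,24),(18,15,2),(20,15,8),(21,2,16),(22,18,26),(23,18,25),(24,2,17),(25,18,23),(26,18,22)]
  (some (4,12)) none (0,0)
  []
  []
  []

def stE6_14 : Step I27 := mkStepE6 20
  [(0,18,9),(1,12,18),(2,15,18),(3,19,9),(4,19,12),(5,19,15),(6,5,1),(7,5,0),(8,3,1),(9,19,3),(10,3,22),(11,3,25),(12,19,4),(13,1,21),(14,1,24),(15,19,5),(16,5,22),(17,5,25),(18,15,2),(19,15,5),(21,19,26),(22,18,26),(23,19,24),(24,19,23),(25,18,23),(26,19,21)]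
  (some (8,15)) none (0,0)
  []
  []
  []

def stE6_15 : Step I27 := mkStepE6 10
  [(0,18,9),(1,12,18),(2,15,18),(3,19,9),(4,19,12),(5,19,15),(6,20,9),(7,20,12),(8,20,15),(9,20,6),(12,20,7),(13,9,17),(14,9,16),(15,20,8),(16,9,14),(17,9,13),(18,15,2),(19,15,5),(20,15,8),(21,20,25),(22,20,24),(23,19,24),(24,20,22),(25,20,21),(26,19,21)]
  none none (11,25)
  [(10,46,11)]
  [(11,46)]
  []

def stE6_16 : Step I27 := mkStepE6 14
  [(0,18,9),(1,12,18),(2,15,18),(3,19,9),(4,19,12),(5,19,15),(6,20,9),(7,20,12),(8,20,15),(9,20,6),(10,12,17),(11,12,16),(12,20,7),(15,20,8),(16,12,11),(17,10,12),(18,15,2),(19,15,5),(20,15,8),(21,10,0),(22,10,3),(23,10,6),(24,20,22),(25,20,21),(26,19,21)]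
  (some (15,10)) none (0,0)
  []
  [(13,25)]
  []

def stE6_17 : Step I27 := mkStepE6 16
  [(0,10,21),(1,12,18),(2,15,18),(3,10,22),(4,19,12),(5,19,15),(6,10,23),(7,20,12),(8,20,15),(9,20,6),(10,14,15),(11,15,13),(12,10,17),(13,15,11),(14,10,15),(15,14,10),(17,10,12),(18,15,2),(19,15,5),(20,15,8),(21,10,0),(22,10,3),(23,10,6),(24,14,1),(25,14,4),(26,14,7)]
  (some (9,14)) none (0,0)
  []
  []
  []

def stE6_18 : Step I27 := mkStepE6 11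
  [(0,10,21),(1,14,24),(2,15,18),(3,10,22),(4,14,25),(5,19,15),(6,10,23),(7,14,26),(8,20,15),(9,16,14),(10,14,15),(12,10,17),(13,9,17),(14,16,9),(15,14,10),(16,14,9),(17,10,12),(18,15,2),(19,15,5),(20,15,8),(21,16,2),(22,16,5),(23,16,8),(24,14,1),(25,14,4),(26,14,7)]
  (some (12,16)) none (0,0)
  []
  []
  []

def stE6_19 : Step I27 := mkStepE6 13
  [(0,10,21),(1,14,24),(2,16,21),(3,10,22),(4,14,25),(5,16,22),(6,10,23),(7,14,26),(8,16,23),(9,16,14),(10,14,15),(11,16,12),(12,11,16),(14,16,9),(15,14,10),(16,11,12),(17,10,12),(18,15,2),(19,15,5),(20,15,8),(21,16,2),(22,16,5),(23,16,8),(24,11,0),(25,11,3),(26,11,6)]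
  (some (15,11)) none (0,0)
  []
  []
  []

def stE6_20 : Step I27 := mkStepE6 17
  [(0,11,24),(1,14,24),(2,16,21),(3,11,25),(4,14,25),(5,16,22),(6,11,26),(7,14,26),(8,16,23),(9,16,14),(10,14,15),(11,13,15),(12,11,16),(13,11,15),(14,16,9),(15,13,11),(16,11,12),(18,15,2),(19,15,5),(20,15,8),(21,13,1),(22,13,4),(23,13,7),(24,11,0),(25,11,3),(26,11,6)]
  (some (9,13)) none (0,0)
  []
  []
  []

def stE6_21 : Step I27 := mkStepE6 21
  [(0,11,24),(1,14,24),(2,17,24),(3,11,25),(4,14,25),(5,17,25),(6,11,26),(7,14,26),(8,17,26),(9,17,13),(10,17,12),(11,13,15),(12,17,10),(13,17,9),(14,16,9),(15,13,11),(16,11,12),(17,13,9),(18,15,2),(19,15,5),(20,15,8),(22,13,4),(23,13,7),(24,17,2),(25,17,5),(26,17,8)]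
  (some (0,10)) none (0,0)
  []
  []
  []

def stE6_22 : Step I27 := mkStepE6 22
  [(0,21,10),(1,21,13),(2,21,16),(3,11,25),(4,14,25),(5,17,25),(6,11,26),(7,14,26),(8,17,26),(9,17,13),(10,21,0),(11,13,15),(12,17,10),(13,21,1),(14,16,9),(15,13,11),(16,21,2),(17,13,9),(18,15,2),(19,21,26),(20,21,25),(21,13,1),(23,13,7),(24,17,2),(25,21,20),(26,21,19)]
  (some (4,13)) none (0,0)
  []
  []
  []

def stE6_23 : Step I27 := mkStepE6 23
  [(0,21,10),(1,21,13),(2,21,16),(3,22,10),(4,22,13),(5,22,16),(6,11,26),(7,14,26),(8,17,26),(9,17,13),(10,22,3),(11,13,15),(12,17,10),(13,22,4),(14,16,9),(15,13,11),(16,22,5),(17,13,9),(18,22,26),(19,21,26),(20,22,24),(21,13,1),(22,13,4),(24,22,20),(25,21,20),(26,22,18)]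
  (some (8,16)) none (0,0)
  []
  []
  []

def stE6_24 : Step I27 := mkStepE6 24
  [(0,21,10),(1,21,13),(2,21,16),(3,22,10),(4,22,13),(5,22,16),(6,23,10),(7,23,13),(8,23,16),(9,17,13),(10,23,6),(11,13,15),(12,17,10),(13,23,7),(14,16,9),(15,13,11),(16,23,8),(17,13,9),(18,15,2),(19,21,26),(20,21,25),(21,13,1),(22,13,4),(23,13,7),(25,23,18),(26,22,18)]
  (some (0,11)) none (0,0)
  []
  []
  []

def stE6_25 : Step I27 := mkStepE6 25
  [(0,24,11),(1,24,14),(2,24,17),(3,22,10),(4,22,13),(5,22,16),(6,23,10),(7,23,13),(8,23,16),(9,17,13),(10,23,6),(11,24,0),(12,17,10),(13,23,7),(14,24,1),(15,13,11),(16,23,8),(17,24,2),(18,22,26),(19,24,23),(20,24,22),(21,13,1),(22,24,20),(23,24,19),(24,23,19),(26,22,18)]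
  (some (4,14)) none (0,0)
  []
  []
  []

def stE6_26 : Step I27 := mkStepE6 26
  [(0,24,11),(1,24,14),(2,24,17),(3,25,11),(4,25,14),(5,25,17),(6,23,10),(7,23,13),(8,23,16),(9,17,13),(10,23,6),(11,25,3),(12,17,10),(13,23,7),(14,25,4),(15,13,11),(16,23,8),(17,25,5),(18,25,23),(19,24,23),(20,25,21),(21,25,20),(22,24,20),(23,25,18),(24,23,19),(25,23,18)]
  (some (8,17)) none (0,0)
  []
  []
  []

def stepsE6 : List (Step I27) :=
  [stE6_0, stE6_1, stE6_2, stE6_3, stE6_4, stE6_5, stE6_6, stE6_7, stE6_8, stE6_9, stE6_10, stE6_11, stE6_12, stE6_13, stE6_14, stE6_15, stE6_16, stE6_17, stE6_18, stE6_19, stE6_20, stE6_21, stE6_22, stE6_23, stE6_24, stE6_25, stE6_26]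

def allE6 : List I27 := (List.range 27).map decE6

theorem mem_allE6 : ∀ x, x ∈ allE6 := by decide +kernel

theorem sqfree_E6 : sqfree monsE6 = true := by decide +kernel


theorem stepOK_E6_0 : stepOK monsE6 rtsE6 allE6
    [] stE6_0 = true := by
  decide +kernel

theorem stepOK_E6_1 : stepOK monsE6 rtsE6 allE6
    [stE6_0.ν] stE6_1 = true := by
  decide +kernel

theorem stepOK_E6_2 : stepOK monsE6 rtsE6 allE6
    [stE6_1.ν, stE6_0.ν] stE6_2 = true := by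
  decide +kernel

theorem stepOK_E6_3 : stepOK monsE6 rtsE6 allE6
    [stE6_2.ν, stE6_1.ν, stE6_0.ν] stE6_3 = true := by
  decide +kernel

theorem stepOK_E6_4 : stepOK monsE6 rtsE6 allE6
    [stE6_3.ν, stE6_2.ν, stE6_1.ν, stE6_0.ν] stE6_4 = true := by
  decide +kernel

theorem stepOK_E6_5 : stepOK monsE6 rtsE6 allE6
    [stE6_4.ν, stE6_3.ν, stE6_2.ν, stE6_1.ν, stE6_0.ν] stE6_5 = true := by
  decide +kernel

theorem stepOK_E6_6 : stepOK monsE6 rtsE6 allE6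
    [stE6_5.ν, stE6_4.ν, stE6_3.ν, stE6_2.ν, stE6_1.ν, stE6_0.ν] stE6_6 = true := by
  decide +kernel

theorem stepOK_E6_7 : stepOK monsE6 rtsE6 allE6
    [stE6_6.ν, stE6_5.ν, stE6_4.ν, stE6_3.ν, stE6_2.ν, stE6_1.ν, stE6_0.ν] stE6_7 = true := by
  decide +kernel

theorem stepOK_E6_8 : stepOK monsE6 rtsE6 allE6
    [stE6_7.ν, stE6_6.ν, stE6_5.ν, stE6_4.ν, stE6_3.ν, stE6_2.ν, stE6_1.ν, stE6_0.ν] stE6_8 = true := by
  decide +kernel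

theorem stepOK_E6_9 : stepOK monsE6 rtsE6 allE6
    [stE6_8.ν, stE6_7.ν, stE6_6.ν, stE6_5.ν, stE6_4.ν, stE6_3.ν, stE6_2.ν, stE6_1.ν, stE6_0.ν] stE6_9 = true := by
  decide +kernel

theorem stepOK_E6_10 : stepOK monsE6 rtsE6 allE6
    [stE6_9.ν, stE6_8.ν, stE6_7.ν, stE6_6.ν, stE6_5.ν, stE6_4.ν, stE6_3.ν, stE6_2.ν, stE6_1.ν, stE6_0.ν] stE6_10 = true := by
  decide +kernel

theorem stepOK_E6_11 : stepOK monsE6 rtsE6 allE6
    [stE6_10.ν, stE6_9.ν, stE6_8.ν, stE6_7.ν, stE6_6.ν, stE6_5.ν, stE6_4.ν, stE6_3.ν, stE6_2.ν, stE6_1.ν, stE6_0.ν] stE6_11 = true := by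
  decide +kernel

theorem stepOK_E6_12 : stepOK monsE6 rtsE6 allE6
    [stE6_11.ν, stE6_10.ν, stE6_9.ν, stE6_8.ν, stE6_7.ν, stE6_6.ν, stE6_5.ν, stE6_4.ν, stE6_3.ν, stE6_2.ν, stE6_1.ν, stE6_0.ν] stE6_12 = true := by
  decide +kernel

theorem stepOK_E6_13 : stepOK monsE6 rtsE6 allE6
    [stE6_12.ν, stE6_11.ν, stE6_10.ν, stE6_9.ν, stE6_8.ν, stE6_7.ν, stE6_6.ν, stE6_5.ν, stE6_4.ν, stE6_3.ν, stE6_2.ν, stE6_1.ν, stE6_0.ν] stE6_13 = true := by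
  decide +kernel

theorem stepOK_E6_14 : stepOK monsE6 rtsE6 allE6
    [stE6_13.ν, stE6_12.ν, stE6_11.ν, stE6_10.ν, stE6_9.ν, stE6_8.ν, stE6_7.ν, stE6_6.ν, stE6_5.ν, stE6_4.ν, stE6_3.ν, stE6_2.ν, stE6_1.ν, stE6_0.ν] stE6_14 = true := by
  decide +kernel

theorem stepOK_E6_15 : stepOK monsE6 rtsE6 allE6
    [stE6_14.ν, stE6_13.ν, stE6_12.ν, stE6_11.ν, stE6_10.ν, stE6_9.ν, stE6_8.ν, stE6_7.ν, stE6_6.ν, stE6_5.ν, stE6_4.ν, stE6_3.ν, stE6_2.ν, stE6_1.ν, stE6_0.ν] stE6_15 = true := by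
  decide +kernel

theorem stepOK_E6_16 : stepOK monsE6 rtsE6 allE6
    [stE6_15.ν, stE6_14.ν, stE6_13.ν, stE6_12.ν, stE6_11.ν, stE6_10.ν, stE6_9.ν, stE6_8.ν, stE6_7.ν, stE6_6.ν, stE6_5.ν, stE6_4.ν, stE6_3.ν, stE6_2.ν, stE6_1.ν, stE6_0.ν] stE6_16 = true := by
  decide +kernel

theorem stepOK_E6_17 : stepOK monsE6 rtsE6 allE6
    [stE6_16.ν, stE6_15.ν, stE6_14.ν, stE6_13.ν, stE6_12.ν, stE6_11.ν, stE6_10.ν, stE6_9.ν, stE6_8.ν, stE6_7.ν, stE6_6.ν, stE6_5.ν, stE6_4.ν, stE6_3.ν, stE6_2.ν, stE6_1.ν, stE6_0.ν] stE6_17 = true := by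
  decide +kernel

theorem stepOK_E6_18 : stepOK monsE6 rtsE6 allE6
    [stE6_17.ν, stE6_16.ν, stE6_15.ν, stE6_14.ν, stE6_13.ν, stE6_12.ν, stE6_11.ν, stE6_10.ν, stE6_9.ν, stE6_8.ν, stE6_7.ν, stE6_6.ν, stE6_5.ν, stE6_4.ν, stE6_3.ν, stE6_2.ν, stE6_1.ν, stE6_0.ν] stE6_18 = true := by
  decide +kernel

theorem stepOK_E6_19 : stepOK monsE6 rtsE6 allE6
    [stE6_18.ν, stE6_17.ν, stE6_16.ν, stE6_15.ν, stE6_14.ν, stE6_13.ν, stE6_12.ν, stE6_11.ν, stE6_10.ν, stE6_9.ν, stE6_8.ν, stE6_7.ν, stE6_6.ν, stE6_5.ν, stE6_4.ν, stE6_3.ν, stE6_2.ν, stE6_1.ν, stE6_0.ν] stE6_19 = true := by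
  decide +kernel

theorem stepOK_E6_20 : stepOK monsE6 rtsE6 allE6
    [stE6_19.ν, stE6_18.ν, stE6_17.ν, stE6_16.ν, stE6_15.ν, stE6_14.ν, stE6_13.ν, stE6_12.ν, stE6_11.ν, stE6_10.ν, stE6_9.ν, stE6_8.ν, stE6_7.ν, stE6_6.ν, stE6_5.ν, stE6_4.ν, stE6_3.ν, stE6_2.ν, stE6_1.ν, stE6_0.ν] stE6_20 = true := by
  decide +kernel

theorem stepOK_E6_21 : stepOK monsE6 rtsE6 allE6
    [stE6_20.ν, stE6_19.ν, stE6_18.ν, stE6_17.ν, stE6_16.ν, stE6_15.ν, stE6_14.ν, stE6_13.ν, stE6_12.ν, stE6_11.ν, stE6_10.ν, stE6_9.ν, stE6_8.ν, stE6_7.ν, stE6_6.ν, stE6_5.ν, stE6_4.ν, stE6_3.ν, stE6_2.ν, stE6_1.ν, stE6_0.ν] stE6_21 = true := by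
  decide +kernel

theorem stepOK_E6_22 : stepOK monsE6 rtsE6 allE6
    [stE6_21.ν, stE6_20.ν, stE6_19.ν, stE6_18.ν, stE6_17.ν, stE6_16.ν, stE6_15.ν, stE6_14.ν, stE6_13.ν, stE6_12.ν, stE6_11.ν, stE6_10.ν, stE6_9.ν, stE6_8.ν, stE6_7.ν, stE6_6.ν, stE6_5.ν, stE6_4.ν, stE6_3.ν, stE6_2.ν, stE6_1.ν, stE6_0.ν] stE6_22 = true := by
  decide +kernel

theorem stepOK_E6_23 : stepOK monsE6 rtsE6 allE6
    [stE6_22.ν, stE6_21.ν, stE6_20.ν, stE6_19.ν, stE6_18.ν, stE6_17.ν, stE6_16.ν, stE6_15.ν, stE6_14.ν, stE6_13.ν, stE6_12.ν, stE6_11.ν, stE6_10.ν, stE6_9.ν, stE6_8.ν, stE6_7.ν, stE6_6.ν, stE6_5.ν, stE6_4.ν, stE6_3.ν, stE6_2.ν, stE6_1.ν, stE6_0.ν] stE6_23 = true := by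
  decide +kernel

theorem stepOK_E6_24 : stepOK monsE6 rtsE6 allE6
    [stE6_23.ν, stE6_22.ν, stE6_21.ν, stE6_20.ν, stE6_19.ν, stE6_18.ν, stE6_17.ν, stE6_16.ν, stE6_15.ν, stE6_14.ν, stE6_13.ν, stE6_12.ν, stE6_11.ν, stE6_10.ν, stE6_9.ν, stE6_8.ν, stE6_7.ν, stE6_6.ν, stE6_5.ν, stE6_4.ν, stE6_3.ν, stE6_2.ν, stE6_1.ν, stE6_0.ν] stE6_24 = true := by
  decide +kernel

theorem stepOK_E6_25 : stepOK monsE6 rtsE6 allE6
    [stE6_24.ν, stE6_23.ν, stE6_22.ν, stE6_21.ν, stE6_20.ν, stE6_19.ν, stE6_18.ν, stE6_17.ν, stE6_16.ν, stE6_15.ν, stE6_14.ν, stE6_13.ν, stE6_12.ν, stE6_11.ν, stE6_10.ν, stE6_9.ν, stE6_8.ν, stE6_7.ν, stE6_6.ν, stE6_5.ν, stE6_4.ν, stE6_3.ν, stE6_2.ν, stE6_1.ν, stE6_0.ν] stE6_25 = true := by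
  decide +kernel

theorem stepOK_E6_26 : stepOK monsE6 rtsE6 allE6
    [stE6_25.ν, stE6_24.ν, stE6_23.ν, stE6_22.ν, stE6_21.ν, stE6_20.ν, stE6_19.ν, stE6_18.ν, stE6_17.ν, stE6_16.ν, stE6_15.ν, stE6_14.ν, stE6_13.ν, stE6_12.ν, stE6_11.ν, stE6_10.ν, stE6_9.ν, stE6_8.ν, stE6_7.ν, stE6_6.ν, stE6_5.ν, stE6_4.ν, stE6_3.ν, stE6_2.ν, stE6_1.ν, stE6_0.ν] stE6_26 = true := by
  decide +kernel

theorem stepsOK_E6 : stepsOK monsE6 rtsE6 allE6 [] stepsE6 = true := by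
  simp only [stepsE6, stepsOK, Bool.true_and,
    stepOK_E6_0, stepOK_E6_1, stepOK_E6_2, stepOK_E6_3, stepOK_E6_4, stepOK_E6_5, stepOK_E6_6, stepOK_E6_7, stepOK_E6_8, stepOK_E6_9, stepOK_E6_10, stepOK_E6_11, stepOK_E6_12, stepOK_E6_13, stepOK_E6_14, stepOK_E6_15, stepOK_E6_16, stepOK_E6_17, stepOK_E6_18, stepOK_E6_19, stepOK_E6_20, stepOK_E6_21, stepOK_E6_22, stepOK_E6_23, stepOK_E6_24, stepOK_E6_25, stepOK_E6_26]
  decide +kernel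


theorem invOK_E6_0 : ∀ r < 12, invOK encE6 monsE6 rtsE6 (12 * 0 + r) = true := by decide +kernel

theorem invOK_E6_1 : ∀ r < 12, invOK encE6 monsE6 rtsE6 (12 * 1 + r) = true := by decide +kernel

theorem invOK_E6_2 : ∀ r < 12, invOK encE6 monsE6 rtsE6 (12 * 2 + r) = true := by decide +kernel

theorem invOK_E6_3 : ∀ r < 12, invOK encE6 monsE6 rtsE6 (12 * 3 + r) = true := by decide +kernel

theorem invOK_E6_4 : ∀ r < 12, invOK encE6 monsE6 rtsE6 (12 * 4 + r) = true := by decide +kernel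

theorem invOK_E6_5 : ∀ r < 12, invOK encE6 monsE6 rtsE6 (12 * 5 + r) = true := by decide +kernel

theorem invOK_E6 : ∀ r < 72, invOK encE6 monsE6 rtsE6 r = true :=
  forall_lt_of_chunks 12 6 (by norm_num) fun k hk => by
    interval_cases k
    exacts [invOK_E6_0, invOK_E6_1, invOK_E6_2, invOK_E6_3, invOK_E6_4, invOK_E6_5]

variable {F : Type*} [Field F]

theorem cubicT_eq : (cubicT : (I27 → F) → F) = cub monsE6 := by
  funext v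
  simp only [cubicT, mat3, Matrix.det_fin_three, Matrix.trace_fin_three, Matrix.mul_apply, Fin.sum_univ_three,
    Matrix.of_apply, cub, monsE6, monsN, List.map_cons, List.map_nil, List.sum_cons, List.sum_nil, decE6]
  simp only [Fin.ofNat, Nat.reduceDiv, Nat.reduceMod, Fin.zero_eta, Fin.mk_one, Fin.reduceFinMk]
  push_cast
  ring

variable (F) in
/-- Root elements of type E6 in the 27-dimensional representation. -/
noncomputable abbrev xE6 (r : ℕ) (t : F) : GL I27 F := repOK_E6.xg Int.cast_zero r t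

theorem xE6_mulVec (r : ℕ) (t : F) (v : I27 → F) : (xE6 F r t : Matrix I27 I27 F) *ᵥ v = xact rtsE6 r t v := by
  have h : ∀ l ∈ tabE6, ∀ e ∈ l, e.1 < 27 ∧ e.2.1 < 27 := by decide +kernel
  have e : entOf entTE6 r = (tabE6.getD r []).map fun e => (e.1, e.2.1, 1, e.2.2) := by
    rw [entOf, entTE6]
    exact List.getD_map tabE6 [] (n := r) fun l => l.map fun e => (e.1, e.2.1, 1, e.2.2)
  rw [RepOK.coe_xg, xm_mulVec encE6 decE6 encE6_inj, e, xact, rtsE6, List.map_map, List.map_map]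
  · simp [Function.comp_def]
  · intro a ha
    rw [e] at ha
    obtain ⟨b, hb, rfl⟩ := List.mem_map.mp ha
    by_cases hr : r < tabE6.length
    · rw [List.getD_eq_getElem _ _ hr] at hb
      have := h _ (List.getElem_mem hr) b hb
      exact ⟨encE6_surj _ this.1, encE6_surj _ this.2⟩
    · rw [List.getD_eq_default _ _ (not_lt.mp hr)] at hb
      simp at hb

theorem xE6_mem (r : ℕ) (t : F) : xE6 F r t ∈ Γ F monsE6 := by
  by_cases hr : r < 72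
  · intro v
    exact (congrArg _ (xE6_mulVec r t v)).trans (cub_xact (invOK_E6 r hr) t v)
  · rw [xE6, (repOK_E6.stRel (F := F) Int.cast_zero).out r (not_lt.mp hr)]
    exact Subgroup.one_mem _

theorem range_E6 (hF : ∃ a : F, a ≠ 0 ∧ a ≠ 1) :
    (repOK_E6.stRel (F := F) Int.cast_zero).hom.range = E6univ F := by
  rw [E6univ, cubicT_eq]
  apply le_antisymm
  · rw [StRel.range_hom, Subgroup.closure_le]
    rintro g ⟨r, -, t, rfl⟩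
    exact xE6_mem r t
  · intro g hg
    refine stepsOK_spec (H := (repOK_E6.stRel (F := F) Int.cast_zero).hom.range.subgroupOf _) (R := rtsE6) ?_ hF
      sqfree_E6 mem_allE6 stepsE6 [] stepsOK_E6 ⟨g, hg⟩ (by simp [Cubic.Fix])
    intro r t
    exact ⟨⟨_, xE6_mem r t⟩, ⟨_, StRel.hom_stGen _ r t⟩, xE6_mulVec r t⟩

theorem xE6_noncomm : xE6 F 35 1 * xE6 F 34 1 ≠ xE6 F 34 1 * xE6 F 35 1 := by
  intro h
  have h1 := (repOK_E6.stRel (F := F) Int.cast_zero).comm 35 (by decide) 34 (by decide) (by decide) (by decide) 1 1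
  rw [← h, left_eq_mul] at h1
  have e : chevE6.commTerms 35 34 = [(33, -1, 1, 1)] := by decide +kernel
  rw [ChevalleyDatum.commWord, e] at h1
  simp only [List.map_cons, List.map_nil, wP_cons, wP_nil, mul_one] at h1
  have h2 := congrArg (fun g : GL I27 F => g.val (0, 0, 0) (0, 0, 2)) h1
  simp only [RepOK.coe_xg] at h2
  have e2 : entOf entTE6 33 = [(0, 2, 1, -1), (3, 5, 1, -1), (6, 8, 1, -1), (15, 9, 1, 1), (16, 10, 1, 1),
    (17, 11, 1, 1)] := by decide +kernel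
  simp [xm, xm0, e2, encE6] at h2

end CL.Rep
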