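import Cfsg.Agent.Base
import Cfsg.Agent.Chev.MatFast
import Cfsg.Agent.Auto.ACL_ChevM_sgn_031f26
import Cfsg.Agent.Auto.ACL_ChevM_Fast_eta_31cb47

/-!
# Boolean checks on coded tables implying `TabOK`, `SignedAut` and `Core`
-/

set_option autoImplicit false

namespace CL.ChevM

open Cfsg.Lie Cfsg.Lie.ChevalleyDatum CL.WC

theorem beq_iff' {a b : ℕ} : Nat.beq a b = true ↔ a = b := by rw [Nat.beq_eq]
theorem blt_iff' {a b : ℕ} : Nat.blt a b = true ↔ a < b := by rw [Nat.blt_eq]

/-- Comparison of two coded chain entries under a signed map of the roots. -/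
noncomputable def cmpE (w e : ℕ → ℕ) (er fuel : ℕ) : ℕ → ℕ → ℕ → Bool :=
  Nat.rec (fun _ _ _ => true) (fun _ ih v v' par =>
    Bool.rec
      (Bool.rec
        (band (Nat.beq (cIdx v') (w (cIdx v)))
          (band (Bool.rec (Nat.beq (Nat.add (cM v') (cM v)) 8) (Nat.beq (cM v') (cM v))
              (Nat.beq (Nat.mod (Nat.add (e (cIdx v)) par) 2) 0))
            (ih (cTl v) (cTl v') (Nat.add par er))))
        false (Nat.beq v' 0))
      (Nat.beq v' 0) (Nat.beq v 0)) fuel

theorem cmpE_sound {w e : ℕ → ℕ} {er es fuel v v' j : ℕ} (h : cmpE w e er fuel v v' (es + (j + 1) * er) = true) :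
    dec fuel v' = ((dec fuel v).zipIdx j).map fun q =>
      (w q.1.1, q.1.2 * sgn (e q.1.1) * sgn es * sgn er ^ (q.2 + 1)) := by
  induction fuel generalizing v v' j with
  | zero => rfl
  | succ f ih =>
    have h' : (Bool.rec
      (Bool.rec
        (band (Nat.beq (cIdx v') (w (cIdx v)))
          (band (Bool.rec (Nat.beq (Nat.add (cM v') (cM v)) 8) (Nat.beq (cM v') (cM v))
              (Nat.beq (Nat.mod (Nat.add (e (cIdx v)) (es + (j + 1) * er)) 2) 0))
            (cmpE w e er f (cTl v) (cTl v') (es + (j + 1) * er + er))))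
        false (Nat.beq v' 0))
      (Nat.beq v' 0) (Nat.beq v 0) : Bool) = true := h
    rw [dec_succ, dec_succ]
    cases h0 : Nat.beq v 0 with
    | true =>
      simp only [h0] at h'
      simp [h']
    | false =>
      cases h1 : Nat.beq v' 0 with
      | true => simp [h0, h1] at h'
      | false =>
        simp only [h0, h1, band_iff] at h'
        obtain ⟨a1, a2, a3⟩ := h'
        rw [show es + (j + 1) * er + er = es + (j + 1 + 1) * er by ring] at a3
        simp only [List.zipIdx_cons, List.map_cons, ih a3, beq_iff'.1 a1]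
        congr 2
        have hs : sgn (e (cIdx v)) * sgn es * sgn er ^ (j + 1) =
            sgn (Nat.add (e (cIdx v)) (es + (j + 1) * er)) := by
          simp only [sgn_eq, Nat.add_eq, pow_add, ← pow_mul]; ring
        rw [mul_assoc, mul_assoc, ← mul_assoc (sgn (e _)), hs, sgn, Int.subNatNat_eq_coe, Int.subNatNat_eq_coe]
        cases h2 : Nat.beq (Nat.mod (Nat.add (e (cIdx v)) (es + (j + 1) * er)) 2) 0 with
        | true =>
          simp only [h2] at a2
          rw [beq_iff'.1 a2]; simp
        | false =>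
          simp only [h2] at a2
          have : cM v' + cM v = 8 := beq_iff'.1 a2
          simp only [mul_neg, mul_one]; omega

/-- Check of the weights along a coded chain entry. -/
noncomputable def wtE (T : Fast) (r s fuel : ℕ) : ℕ → ℕ → Bool :=
  Nat.rec (fun _ _ => true) (fun _ ih v k =>
    Bool.rec
      (band (Nat.blt (cIdx v) T.n)
        (band (allLt T.l fun i => Nat.beq (Nat.add (T.caN i (cIdx v)) (Nat.mul 8 k))
            (Nat.add (Nat.mul k (T.caN i r)) (T.caN i s)))
          (ih (cTl v) (Nat.succ k))))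
      true (Nat.beq v 0)) fuel

theorem wtE_sound {T : Fast} {r s fuel v j : ℕ} (h : wtE T r s fuel v (j + 1) = true) :
    ∀ q ∈ (dec fuel v).zipIdx j, q.1.1 < T.n ∧
      ∀ i < T.l, T.caN i q.1.1 + 8 * (q.2 + 1) = (q.2 + 1) * T.caN i r + T.caN i s := by
  induction fuel generalizing v j with
  | zero => simp [dec]
  | succ f ih =>
    have h' : (Bool.rec
      (band (Nat.blt (cIdx v) T.n)
        (band (allLt T.l fun i => Nat.beq (Nat.add (T.caN i (cIdx v)) (Nat.mul 8 (j + 1)))
            (Nat.add (Nat.mul (j + 1) (T.caN i r)) (T.caN i s)))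
          (wtE T r s f (cTl v) (j + 1 + 1))))
      true (Nat.beq v 0) : Bool) = true := h
    rw [dec_succ]
    cases h0 : Nat.beq v 0 with
    | true => simp
    | false =>
      simp only [h0, band_iff, allLt_iff] at h'
      intro q hq
      rw [List.zipIdx_cons, List.mem_cons] at hq
      rcases hq with rfl | hq
      · exact ⟨blt_iff'.1 h'.1, fun i hi => beq_iff'.1 (h'.2.1 i hi)⟩
      · exact ih h'.2.2 q hq

/-- Bounded sum of integers. -/
noncomputable def sumLt (n : ℕ) (f : ℕ → ℤ) : ℤ := Nat.rec 0 (fun k acc => Int.add (f k) acc) n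

theorem sumLt_eq (n : ℕ) (f : ℕ → ℤ) : sumLt n f = ∑ i ∈ Finset.range n, f i := by
  induction n with
  | zero => rfl
  | succ n ih =>
    have : sumLt (n + 1) f = f n + sumLt n f := rfl
    rw [this, ih, Finset.sum_range_succ, add_comm]

/-- Equality test of integers. -/
def eqZ (a b : ℤ) : Bool := isZ (Int.sub a b)

theorem eqZ_iff {a b : ℤ} : eqZ a b = true ↔ a = b := by
  rw [eqZ, isZ_iff]; exact sub_eq_zero

namespace Fast
variable (T : Fast)

/-- Checks for `TabOK`. -/
noncomputable def chkTab : Bool :=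
  band (Nat.beq (Nat.mod T.n 2) 0)
    (band (allLt T.l fun i => band (Nat.blt (T.sim i) T.n)
        (allLt T.n fun s => Nat.beq (Nat.add (T.caN i (T.ng s)) (T.caN i s)) 16))
      (allLt T.n fun r => allLt T.n fun s => wtE T r s T.fuel (T.raw r s) 1))

/-- `w` maps roots to roots with left inverse `w'`, compatibly with negation; the signs are even. -/
noncomputable def chkPerm (w w' e : ℕ → ℕ) : Bool :=
  allLt T.n fun s => band (Nat.blt (w s) T.n) (band (Nat.beq (w' (w s)) s)
    (band (Nat.beq (w (T.ng s)) (T.ng (w s))) (Nat.beq (e (T.ng s)) (e s))))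

/-- Compatibility of the signed map with the chain table. -/
noncomputable def chkEnt (w e : ℕ → ℕ) : Bool :=
  allLt T.n fun r => allLt T.n fun s =>
    cmpE w e (e r) T.fuel (T.raw r s) (T.raw (w r) (w s)) (Nat.add (e s) (e r))

/-- Compatibility of the matrix `A` with the Cartan integers and the coroots. -/
noncomputable def chkA (w : ℕ → ℕ) (A : ℕ → ℕ → ℤ) : Bool :=
  allLt T.n fun s => allLt T.l fun i =>
    band (eqZ (T.cart i s) (sumLt T.l fun j => Int.mul (A j i) (T.cart j (w s))))
      (eqZ (T.cor (w s) i) (sumLt T.l fun j => Int.mul (A i j) (T.cor s j)))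

/-- The same for the reflection in the `i`-th fundamental root, and the facts on the signs. -/
noncomputable def chkR (i : ℕ) : Bool :=
  band (Nat.beq (T.caN i (T.sim i)) 10)
    (band (allLt T.l fun j => Nat.beq (T.coN (T.sim i) j) (Bool.rec 8 9 (Nat.beq j i)))
      (band (Nat.beq (T.eN i (T.sim i)) 1)
        (allLt T.n fun s =>
          band (Nat.beq (T.wN i s) (reflOf T.simple T.neg T.cart T.ent i s))
            (band (eqZ (Int.mul (T.eta i s) (T.eta i (T.wN i s))) (sgn (Int.natAbs (T.cart i s))))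
              (allLt T.l fun j =>
                band (eqZ (T.cart j s) (Int.sub (T.cart j (T.wN i s))
                    (Int.mul (T.cart j (T.sim i)) (T.cart i (T.wN i s)))))
                  (Bool.rec (Nat.beq (T.coN (T.wN i s) j) (T.coN s j))
                    (eqZ (T.cor (T.wN i s) j) (Int.sub (T.cor s j)
                      (sumLt T.l fun k => Int.mul (T.cart k (T.sim i)) (T.cor s k))))
                    (Nat.beq j i)))))))

/-- The checks on `n_p(c)` and on the additivity of `x_p`. -/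
noncomputable def chkN (i : ℕ) : Bool :=
  band (nChk T.l (Nat.add T.l T.n) T.col T.cart (T.wN i) (T.eta i) i (T.simple i) (T.neg (T.simple i)))
    (addChk (Nat.add T.l T.n) T.col (T.simple i))

/-- A measure decreasing towards the fundamental roots. -/
noncomputable def mu (r : ℕ) : ℕ :=
  Bool.rec (Nat.mul 2 (Nat.sub r (Nat.div T.n 2))) (Nat.succ (Nat.mul 2 (Nat.sub (T.ng r) (Nat.div T.n 2))))
    (Nat.blt r (Nat.div T.n 2))

/-- Every root is conjugate to a fundamental root. -/
noncomputable def chkRed : Bool :=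
  allLt T.n fun r => bor (anyLt T.l fun i => Nat.beq r (T.sim i))
    (anyLt T.l fun i => Nat.blt (T.mu (T.wN i r)) (T.mu r))

/-- The commutator formula on representatives of the orbits of pairs. -/
noncomputable def chkComm : Bool :=
  band (Nat.ble T.fuel 2) (allLt T.n fun r => bor (anyLt T.l fun i => Nat.blt r (T.wN i r))
    (allLt T.n fun s => bor (Nat.beq s r) (bor (Nat.beq s (T.ng r))
      (bor (anyLt T.l fun i => band (Nat.beq (T.wN i r) r) (Nat.blt s (T.wN i s)))
        (commChk (Nat.add T.l T.n) T.col r s (commTermsOf T.ent r s))))))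

/-- The commutator formula on all pairs. -/
noncomputable def chkComm' : Bool :=
  allLt T.n fun r => allLt T.n fun s => band (allL (commTermsOf T.ent r s) fun c => Nat.blt c.1 T.n)
    (bor (Nat.beq s r) (bor (Nat.beq s (T.ng r))
      (commChk (Nat.add T.l T.n) T.col r s (commTermsOf T.ent r s))))

end Fast

variable {D : ChevalleyDatum} {T : Fast}

theorem Agree.tabOK (h : Agree D T) (hc : T.chkTab = true) : TabOK D := by
  simp only [Fast.chkTab, band_iff, allLt_iff, beq_iff', blt_iff'] at hc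
  obtain ⟨h1, h2, h3⟩ := hc
  have h1' : T.n % 2 = 0 := h1
  have hneg : ∀ r < T.n, T.neg r = T.n - 1 - r := fun r hr => T.neg_eq hr
  have hw := fun r hr s hs => wtE_sound (j := 0) (h3 r hr s hs)
  refine ⟨h.uniq, ?_, ?_, ?_, ?_, ?_, ?_, ?_⟩ <;> simp only [h.l, h.n, h.neg, h.simple, h.ent, h.cart]
  · intro r hr; rw [hneg r hr]; omega
  · intro r hr; rw [hneg r hr]; omega
  · intro r hr; rw [hneg r hr, hneg _ (by omega)]; omega
  · intro i hi; rw [T.simple_eq hi]; exact (h2 i hi).1
  · intro r hr s hs q hq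
    rw [T.ent_eq hr hs] at hq
    obtain ⟨k, hk, rfl⟩ := List.getElem_of_mem hq
    exact (hw r hr s hs (_, k) (List.mk_mem_zipIdx_iff_getElem?.2 (List.getElem?_eq_getElem hk))).1
  · intro i hi s hs
    have := (h2 i hi).2 s hs
    rw [T.neg_eq hs, T.cart_eq hi (by rw [T.ng_eq]; omega), T.cart_eq hi hs]
    simp only [Nat.add_eq] at this
    omega
  · intro i hi r hr s hs q hq
    rw [T.ent_eq hr hs] at hq
    obtain ⟨a, b⟩ := hw r hr s hs q hq
    have := congrArg (Nat.cast : ℕ → ℤ) (b i hi)
    rw [T.cart_eq hi a, T.cart_eq hi hr, T.cart_eq hi hs]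
    push_cast at this ⊢
    linear_combination this

theorem Agree.signedAut_of (h : Agree D T) {w w' e : ℕ → ℕ} {A : ℕ → ℕ → ℤ} (h1 : T.chkPerm w w' e = true)
    (h2 : T.chkEnt w e = true)
    (hcart : ∀ i < T.l, ∀ s < T.n, T.cart i s = ∑ j ∈ Finset.range T.l, A j i * T.cart j (w s))
    (hcor : ∀ j < T.l, ∀ s < T.n, T.cor (w s) j = ∑ i ∈ Finset.range T.l, A j i * T.cor s i) :
    SignedAut D w (fun s => sgn (e s)) A := by
  simp only [Fast.chkPerm, band_iff, allLt_iff, beq_iff', blt_iff'] at h1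
  simp only [Fast.chkEnt, allLt_iff] at h2
  refine ⟨⟨?_, ?_, ?_, ?_, ?_⟩, ?_, ?_, ?_⟩ <;> simp only [h.l, h.n, h.neg, h.ent, h.cart, h.cor]
  · exact fun s hs => (h1 s hs).1
  · intro s hs s' hs' e
    rw [← (h1 s hs).2.1, ← (h1 s' hs').2.1, e]
  · intro s hs
    rw [T.neg_eq hs, T.neg_eq (h1 s hs).1, (h1 s hs).2.2.1]
  · exact hcart
  · exact hcor
  · intro s _
    rw [sgn_eq]; exact neg_one_pow_eq_or ℤ _
  · intro s hs
    rw [T.neg_eq hs, (h1 s hs).2.2.2]
  · intro r hr s hs
    rw [T.ent_eq hr hs, T.ent_eq (h1 r hr).1 (h1 s hs).1]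
    exact cmpE_sound (j := 0) (by simpa using h2 r hr s hs)

/-- A signed automorphism of the tables from Boolean checks. -/
theorem Agree.signedAut (h : Agree D T) {w w' e : ℕ → ℕ} {A : ℕ → ℕ → ℤ} (h1 : T.chkPerm w w' e = true)
    (h2 : T.chkEnt w e = true) (h3 : T.chkA w A = true) : SignedAut D w (fun s => sgn (e s)) A := by
  simp only [Fast.chkA, band_iff, allLt_iff, eqZ_iff, sumLt_eq, Int.mul_def] at h3
  exact h.signedAut_of h1 h2 (fun i hi s hs => (h3 s hs i hi).1) fun i hi s hs => (h3 s hs i hi).2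

theorem SignedAut.congr {w w' : ℕ → ℕ} {η : ℕ → ℤ} {A : ℕ → ℕ → ℤ} (hT : TabOK D) (h : SignedAut D w η A)
    (hw : ∀ s < D.nroots, w s = w' s) : SignedAut D w' η A := by
  refine ⟨⟨fun s hs => hw s hs ▸ h.lt s hs, fun s hs s' hs' e => h.inj s hs s' hs' ?_, fun s hs => ?_,
    fun i hi s hs => hw s hs ▸ h.cart i hi s hs, fun i hi s hs => hw s hs ▸ h.cor i hi s hs⟩, h.sgn, h.sgn_neg,
    fun r hr s hs => ?_⟩
  · rw [hw s hs, hw s' hs', e]
  · rw [← hw s hs, ← hw _ (hT.neg_lt s hs), h.neg s hs]
  · rw [← hw r hr, ← hw s hs, h.ent r hr s hs]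
    exact List.map_congr_left fun q hq => by
      rw [hw _ (hT.ent_lt r hr s hs _ (List.fst_mem_of_mem_zipIdx hq))]

theorem Agree.core (h : Agree D T) (hTab : T.chkTab = true)
    (hPerm : allLt T.l (fun i => T.chkPerm (T.wN i) (T.wN i) (T.eN i)) = true)
    (hEnt : ∀ i < T.l, T.chkEnt (T.wN i) (T.eN i) = true) (hR : allLt T.l T.chkR = true)
    (hN : allLt T.l T.chkN = true) (hRed : T.chkRed = true) (hComm : T.chkComm = true ∨ T.chkComm' = true) :
    Core D T.eta := by
  have hT := h.tabOK hTab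
  rw [allLt_iff] at hPerm hR hN
  simp only [Fast.chkR, band_iff, allLt_iff, beq_iff', eqZ_iff, ← h.refl] at hR
  have hw : ∀ i < T.l, ∀ s < T.n, T.wN i s = D.reflectRoot i s := fun i hi s hs => ((hR i hi).2.2.2 s hs).1
  have hP := hPerm
  simp only [Fast.chkPerm, band_iff, allLt_iff, beq_iff', blt_iff'] at hP
  have hsim : ∀ i < T.l, T.sim i < T.n := fun i hi => by
    have := hT.simple_lt i (h.l ▸ hi)
    rwa [h.simple, T.simple_eq hi, h.n] at this
  have hneg : ∀ r < T.n, D.neg r = T.ng r := fun r hr => by rw [h.neg, T.neg_eq hr]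
  have hsimple : ∀ i < T.l, D.simple i = T.sim i := fun r hr => by rw [h.simple, T.simple_eq hr]
  refine ⟨hT, ?_, ?_, ?_, ?_, ?_, ?_, ?_, ?_, ?_, ?_⟩ <;> simp only [h.l, h.n]
  · intro i hi
    refine SignedAut.congr hT (h.signedAut_of (hPerm i hi) (hEnt i hi) (fun j hj s hs => ?_) fun j hj s hs => ?_)
      (by rw [h.n]; exact hw i hi)
    · rw [(((hR i hi).2.2.2 s hs).2.2 j hj).1]
      simp only [reflA, h.cart, hsimple i hi, sub_mul, ite_mul, one_mul, zero_mul, Finset.sum_sub_distrib,
        Finset.sum_ite_eq', Finset.mem_range, hi, hj, if_true]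
      rfl
    · have := (((hR i hi).2.2.2 s hs).2.2 j hj).2
      simp only [reflA, h.cart, hsimple i hi, sub_mul, ite_mul, one_mul, zero_mul, Finset.sum_sub_distrib,
        Finset.sum_ite_eq, Finset.mem_range, hj, if_true]
      by_cases hji : j = i
      · subst hji
        simp only [Nat.beq_refl, eqZ_iff, sumLt_eq] at this
        simp only [if_true]
        exact this
      · have e : Nat.beq j i = false := by rw [← Bool.not_eq_true, beq_iff']; exact hji
        simp only [e, beq_iff'] at this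
        simp [hji, T.cor_eq (hP i hi s hs).1 hj, T.cor_eq hs hj, this]
  · intro i hi s hs
    rw [← hw i hi s hs, ← hw i hi _ (hP i hi s hs).1, (hP i hi s hs).2.1]
  · intro i hi
    rw [h.cart, hsimple i hi, T.cart_eq hi (hsim i hi), (hR i hi).1]; rfl
  · intro i hi j hj
    rw [h.cor, hsimple i hi, T.cor_eq (hsim i hi) hj, (hR i hi).2.1 j hj]
    by_cases hji : j = i
    · subst hji; simp
    · have e : Nat.beq j i = false := by rw [← Bool.not_eq_true, beq_iff']; exact hji
      simp [e, hji]
  · intro i hi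
    rw [hsimple i hi, Fast.eta, (hR i hi).2.2.1]; rfl
  · intro i hi s hs
    rw [← hw i hi s hs, ← sgn_eq, h.cart]
    exact ((hR i hi).2.2.2 s hs).2.1
  · intro i hi
    refine ⟨T.wN i, hw i hi, ?_⟩
    rw [h.col, h.cart, h.neg, h.simple]
    exact (band_iff.1 (hN i hi)).1
  · intro i hi
    rw [h.col, h.simple]
    exact (band_iff.1 (hN i hi)).2
  · refine ⟨T.mu, fun r hr => ?_⟩
    simp only [Fast.chkRed, allLt_iff, bor_iff, anyLt_iff, beq_iff', blt_iff'] at hRed
    rcases hRed r hr with ⟨i, hi, e⟩ | ⟨i, hi, e⟩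
    · exact Or.inl ⟨i, hi, by rw [hsimple i hi, e]⟩
    · exact Or.inr ⟨i, hi, by rwa [← hw i hi r hr]⟩
  · rw [h.col, h.commTerms]
    rcases hComm with hC | hC
    · simp only [Fast.chkComm, allLt_iff, bor_iff, band_iff, anyLt_iff, beq_iff', blt_iff', Nat.ble_eq] at hC
      refine Or.inl ⟨fun r hr s hs => ?_, fun r hr => ?_⟩
      · rw [h.ent, T.ent_eq hr hs]
        exact (length_dec _ _).trans hC.1
      · rcases hC.2 r hr with ⟨i, hi, e⟩ | h'
        · exact Or.inl ⟨i, hi, by rwa [← hw i hi r hr]⟩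
        · refine Or.inr fun s hs => ?_
          rcases h' s hs with e | e | ⟨i, hi, e1, e2⟩ | e
          · exact Or.inl e
          · exact Or.inr (Or.inl (by rwa [hneg r hr]))
          · exact Or.inr (Or.inr (Or.inl ⟨i, hi, by rwa [← hw i hi r hr], by rwa [← hw i hi s hs]⟩))
          · exact Or.inr (Or.inr (Or.inr e))
    · simp only [Fast.chkComm', allLt_iff, bor_iff, band_iff, allL_iff, beq_iff', blt_iff'] at hC
      refine Or.inr ⟨fun r hr s hs => ?_, fun r hr s hs => (hC r hr s hs).1⟩
      rcases (hC r hr s hs).2 with e | e | e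
      · exact Or.inl e
      · exact Or.inr (Or.inl (by rwa [hneg r hr]))
      · exact Or.inr (Or.inr e)

end CL.ChevM
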