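import Cfsg.Agent.Base
import Cfsg.Agent.Chev.MatChk

/-! # Coded tables of type B2 and the kernel checks on them -/

set_option autoImplicit false
set_option maxRecDepth 100000

namespace CL.ChevM

open Cfsg.Lie Cfsg.Lie.ChevalleyDatum CL.WC

/-- Rows of the coded chain table of type B2. -/
def rowsB2 : List ℕ := [
  0x302001404000000000000000000000000000,
  0xa06c140000000080e805020000000060000000000000,
  0x60941800204000000000006014040000000080000000,
  0x505000000000000000000030100000000000,
  0x14180000000000000000000c0800000,
  0x60700000183b060000000000000180d81b01,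
  0x81c00000a0ec140060400000282502,
  0x30600141400000]

/-- Coded Cartan integers of type B2. -/
def caB2 : List ℕ := [
  0xa8a6a686,
  0x897a6978]

/-- Coded coroot coefficients of type B2. -/
def coB2 : List ℕ := [
  0x99988777,
  0x9a897867]

/-- Coded fundamental reflections of type B2. -/
def wB2 : List ℕ := [
  0x406020700050103,
  0x705060304010200]

/-- Coded signs of the elements `n_p` of type B2. -/
def eB2 : List ℕ := [
  0xff,
  0x5a]

/-- Fast tables of type B2. -/
noncomputable def fastB2 : Fast := mkFast 2 8 2 22 4194303 rowsB2 caB2 coB2 wB2 eB2 [5, 4]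

theorem agreeB2 : Agree chevB2 fastB2 :=
  agree_of_lists rfl rfl (chain_eq_of_rowsChk (by decide +kernel)) (by decide +kernel) (by decide +kernel)
    (by decide +kernel) (by decide +kernel)

theorem chkTabB2 : fastB2.chkTab = true := by decide +kernel

theorem chkPermB2 : allLt fastB2.l (fun i => fastB2.chkPerm (fastB2.wN i) (fastB2.wN i) (fastB2.eN i)) = true := by
  decide +kernel

theorem chkEntB2_0 : fastB2.chkEnt (fastB2.wN 0) (fastB2.eN 0) = true := by decide +kernel

theorem chkEntB2_1 : fastB2.chkEnt (fastB2.wN 1) (fastB2.eN 1) = true := by decide +kernel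

theorem chkRB2 : allLt fastB2.l fastB2.chkR = true := by decide +kernel

theorem chkNB2 : allLt fastB2.l fastB2.chkN = true := by decide +kernel

theorem chkRedB2 : fastB2.chkRed = true := by decide +kernel

theorem chkCommB2 : fastB2.chkComm = true := by decide +kernel

theorem coreB2 : Core chevB2 fastB2.eta := by
  refine agreeB2.core chkTabB2 chkPermB2 (fun i hi => ?_) chkRB2 chkNB2 chkRedB2 (Or.inl chkCommB2)
  have hi' : i < 2 := hi
  interval_cases i
  exacts [chkEntB2_0, chkEntB2_1]

end CL.ChevM
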