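import Cfsg.Agent.Base
import Cfsg.Agent.Chev.MatChk

/-! # Coded tables of type D4 and the kernel checks on them -/

set_option autoImplicit false
set_option maxRecDepth 100000

namespace CL.ChevM

open Cfsg.Lie Cfsg.Lie.ChevalleyDatum CL.WC

/-- Rows of the coded chain table of type D4. -/
def rowsD4 : List ℕ := [
  0xc268450760c0028230360540400000000000000000000000000000000000000,
  0x61c00185b0a000c1a8280000000281d02000002800000000000000000000000000,
  0xa1ec3000000614c1c0050500000282000a02000003000000000000000000000000,
  0xa20c3400000616c2000000a0a00000504001404000006000000000000000000000,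
  0x62200186b0c000c240000000141400000a07408000000014000000000000000000,
  0xc458830f61c000000000000000000000000282503a054040000000000000000,
  0xa27448000000000000030b614002845070000000000000000180b0000000000000,
  0x6280028900000000186000000c2a84800a0c0000000000000181000a0000000000,
  0x62a0000051200000186800000c2c00509001418000000000018180000140000000,
  0xa2c00000000a240000030d61800000000a1141c000000000018200000000180000,
  0x14528980000000287d0e0000000000000000183b060000000030260200000000,
  0x14540051300000288000a1c000000000000018400060c00000303000c0400000,
  0x28b000a280000051100143c0000000000000309000c1c0000060800181000,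
  0x516a2a00000000a234400000000000000000612c2000000000c1181800,
  0x145c0000000144c000000000018830f0000000050ba140000030500000000301,
  0x18b800001450000000000018880061c002860000014280000060a00000502,
  0x3170014540000000000000311000c3a8680000142c00000000c1400503,
  0xa2f4580000000000000000620c3c0050da180000000000000182b04,
  0x18b315628c4c000000000000000000000000509a1141e83000,
  0x18b8000000018ab140000018900000000287000a1742800506,
  0x5170000018b0006260000031200000287d0c00000285307,
  0xa2e00000316000c4c000006240028850d00000285b08,
  0xc5c0000062ac5000000000c4a88800a1b43000509,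
  0x18b515a28c4c00511620c3e87000]

/-- Coded Cartan integers of type D4. -/
def caD4 : List ℕ := [
  0x89999a777788889999677778,
  0x978897899a77996778978897,
  0x8997789977a8869977899778,
  0x89797897978a689797897978]

/-- Coded coroot coefficients of type D4. -/
def coD4 : List ℕ := [
  0x999999888888888888777777,
  0xa99998999988887777877776,
  0x999888998898878877888777,
  0x998988989889788787887877]

/-- Coded fundamental reflections of type D4. -/
def wD4 : List ℕ := [
  0x1711100f0e05161514130d0c0b0a04030201120908070600,
  0x161715141213110d0c09100f08070e0b0a06040503020001,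
  0x1714131615120f0e11100a0c0b0d07060908050201040300,
  0x17151613141210110e0f0d0b0c0a08090607050304010200]

/-- Coded signs of the elements `n_p` of type D4. -/
def eD4 : List ℕ := [
  0x7c3e0,
  0x887e11,
  0x6324c6,
  0x52994a]

/-- Fast tables of type D4. -/
noncomputable def fastD4 : Fast := mkFast 4 24 1 11 2047 rowsD4 caD4 coD4 wD4 eD4 [18, 14, 13, 12]

theorem agreeD4 : Agree chevD4 fastD4 :=
  agree_of_lists rfl rfl (chain_eq_of_rowsChk (by decide +kernel)) (by decide +kernel) (by decide +kernel)
    (by decide +kernel) (by decide +kernel)

theorem chkTabD4 : fastD4.chkTab = true := by decide +kernel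

theorem chkPermD4 : allLt fastD4.l (fun i => fastD4.chkPerm (fastD4.wN i) (fastD4.wN i) (fastD4.eN i)) = true := by
  decide +kernel

theorem chkEntD4_0 : fastD4.chkEnt (fastD4.wN 0) (fastD4.eN 0) = true := by decide +kernel

theorem chkEntD4_1 : fastD4.chkEnt (fastD4.wN 1) (fastD4.eN 1) = true := by decide +kernel

theorem chkEntD4_2 : fastD4.chkEnt (fastD4.wN 2) (fastD4.eN 2) = true := by decide +kernel

theorem chkEntD4_3 : fastD4.chkEnt (fastD4.wN 3) (fastD4.eN 3) = true := by decide +kernel

theorem chkRD4 : allLt fastD4.l fastD4.chkR = true := by decide +kernel

theorem chkND4 : allLt fastD4.l fastD4.chkN = true := by decide +kernel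

theorem chkRedD4 : fastD4.chkRed = true := by decide +kernel

theorem chkCommD4 : fastD4.chkComm = true := by decide +kernel

theorem coreD4 : Core chevD4 fastD4.eta := by
  refine agreeD4.core chkTabD4 chkPermD4 (fun i hi => ?_) chkRD4 chkND4 chkRedD4 (Or.inl chkCommD4)
  have hi' : i < 4 := hi
  interval_cases i
  exacts [chkEntD4_0, chkEntD4_1, chkEntD4_2, chkEntD4_3]

end CL.ChevM
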