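import Cfsg.Agent.Base
import Cfsg.Agent.Chev.MatChk

/-! # Coded tables of type G2 and the kernel checks on them -/

set_option autoImplicit false
set_option maxRecDepth 100000

namespace CL.ChevM

open Cfsg.Lie Cfsg.Lie.ChevalleyDatum CL.WC

/-- Rows of the coded chain table of type G2. -/
def rowsG2 : List ℕ := [
  0xc140000060600000502000000000000014040000000000000000000000000000000000000000000000000,
  0x18300000000000000608000000000000028100000000000000a0000000000000000000000000000000000000000000,
  0x602c1184500a06c1c0000000000380e04000401018000000000000000000000701000003800000000000000000000000000,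
  0x60b41e8480000000000105c0e0000000000000082d006054100000000000380202000000000000004000000000000000000,
  0x50661142400706410000001060000000000000000180d02a0600000000000407010000004040000000000000000,
  0x2850000000000000000000000507000000000000000000000000000000303000000000000000000000060000000000,
  0x142c0000000000000000000002840000000000000000000000000000001820000000000000000000000301,
  0xe14000852090000000050aa12c20000000000000000000000382800e0b80d82b0360400000000,
  0xe1600000000001c2f0480000000185b0960e000007060000000000020c8100000000141a82302,
  0x10b000000850000000000000000000085e08001c290380000000185d08a0942983d03,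
  0xc2c00000000000003090000000000000141c0000000000000505,
  0x614000000000000018480000142000000a0c00000000]

/-- Coded Cartan integers of type G2. -/
def caG2 : List ℕ := [
  0x8b97a5b69758,
  0x97897a697897]

/-- Coded coroot coefficients of type G2. -/
def coG2 : List ℕ := [
  0x99a998877677,
  0xa9bb89785576]

/-- Coded fundamental reflections of type G2. -/
def wG2 : List ℕ := [
  0xb060809040a010702030500,
  0xa0b09070805060304020001]

/-- Coded signs of the elements `n_p` of type G2. -/
def eG2 : List ℕ := [
  0x696,
  0x969]

/-- Fast tables of type G2. -/
noncomputable def fastG2 : Fast := mkFast 2 12 3 33 8589934591 rowsG2 caG2 coG2 wG2 eG2 [7, 6]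

theorem agreeG2 : Agree chevG2 fastG2 :=
  agree_of_lists rfl rfl (chain_eq_of_rowsChk (by decide +kernel)) (by decide +kernel) (by decide +kernel)
    (by decide +kernel) (by decide +kernel)

theorem chkTabG2 : fastG2.chkTab = true := by decide +kernel

theorem chkPermG2 : allLt fastG2.l (fun i => fastG2.chkPerm (fastG2.wN i) (fastG2.wN i) (fastG2.eN i)) = true := by
  decide +kernel

theorem chkEntG2_0 : fastG2.chkEnt (fastG2.wN 0) (fastG2.eN 0) = true := by decide +kernel

theorem chkEntG2_1 : fastG2.chkEnt (fastG2.wN 1) (fastG2.eN 1) = true := by decide +kernel

theorem chkRG2 : allLt fastG2.l fastG2.chkR = true := by decide +kernel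

theorem chkNG2 : allLt fastG2.l fastG2.chkN = true := by decide +kernel

theorem chkRedG2 : fastG2.chkRed = true := by decide +kernel

theorem chkCommG2 : fastG2.chkComm' = true := by decide +kernel

theorem coreG2 : Core chevG2 fastG2.eta := by
  refine agreeG2.core chkTabG2 chkPermG2 (fun i hi => ?_) chkRG2 chkNG2 chkRedG2 (Or.inr chkCommG2)
  have hi' : i < 2 := hi
  interval_cases i
  exacts [chkEntG2_0, chkEntG2_1]

end CL.ChevM
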