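import Cfsg.Agent.Base
import Cfsg.Agent.Chev.MatG2
import Cfsg.Agent.Chev.MatB2
import Cfsg.Agent.Chev.MatD4
import Cfsg.Agent.Chev.MatF4
import Cfsg.Agent.Chev.MatE6
import Cfsg.Agent.Chev.MatE7
import Cfsg.Agent.Chev.MatE8

/-! # The seven tabulated data satisfy `Core` -/

set_option autoImplicit false

namespace CL.ChevM

open Cfsg.Lie

theorem core_of_mem {D : ChevalleyDatum}
    (hD : D ∈ [chevG2, chevB2, chevD4, chevF4, chevE6, chevE7, chevE8]) : ∃ η, Core D η := by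
  simp only [List.mem_cons, List.not_mem_nil, or_false] at hD
  rcases hD with rfl | rfl | rfl | rfl | rfl | rfl | rfl
  exacts [⟨_, coreG2⟩, ⟨_, coreB2⟩, ⟨_, coreD4⟩, ⟨_, coreF4⟩, ⟨_, coreE6⟩, ⟨_, coreE7⟩, ⟨_, coreE8⟩]

end CL.ChevM
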