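import Cfsg.Agent.Base

/-!
Abstract theory of twisted groups (fixed points of a graph-field endomorphism), part 1.

`TwSys G W Φ ι` records what is used about a Chevalley group `G` with Weyl group `W` acting on the roots `Φ`, an
endomorphism `σ` of `G` permuting the root subgroups according to a permutation `ρ` of the roots, and the longest
elements `wJ j` of the parabolic subgroups of `W` belonging to the `ρ`-orbits `j : ι` on the fundamental roots.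
-/

set_option autoImplicit false

namespace CL.Tw

open scoped Pointwise

/-- The positive roots made negative by `w`. -/
def invS {W Φ : Type*} [Group W] [MulAction W Φ] (P : Set Φ) (w : W) : Set Φ := {r | r ∈ P ∧ w • r ∉ P}

/-- The negative roots made positive by `w`. -/
def ninvS {W Φ : Type*} [Group W] [MulAction W Φ] (P : Set Φ) (w : W) : Set Φ := {r | r ∉ P ∧ w • r ∈ P}

/-- The positive roots kept positive by `w`. -/
def keepS {W Φ : Type*} [Group W] [MulAction W Φ] (P : Set Φ) (w : W) : Set Φ := {r | r ∈ P ∧ w • r ∈ P}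

/-- See the module docstring. -/
structure TwSys (G W Φ ι : Type*) [Group G] [Group W] [MulAction W Φ] where
  /-- the subgroup generated by the root subgroups of a set of roots -/
  XS : Set Φ → Subgroup G
  /-- the positive roots -/
  P : Set Φ
  /-- the negative of a root -/
  neg : Φ → Φ
  /-- the monomial subgroup -/
  N : Subgroup G
  /-- the diagonal subgroup -/
  H : Subgroup G
  /-- `n` represents `w` -/
  Rep : G → W → Prop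
  /-- the twisting endomorphism -/
  σ : G →* G
  /-- the permutation of the roots -/
  ρ : Equiv.Perm Φ
  /-- the generators of the twisted Weyl group -/
  wJ : ι → W
  neg_mem : ∀ r, neg r ∈ P ↔ r ∉ P
  smul_neg : ∀ (w : W) r, w • neg r = neg (w • r)
  keep_one : ∀ w : W, (∀ r ∈ P, w • r ∈ P) → w = 1
  exists_w0 : ∃ w : W, ∀ r ∈ P, w • r ∉ P
  XS_mono : ∀ {S T}, S ⊆ T → XS S ≤ XS T
  XS_empty : XS ∅ = ⊥
  XS_ne_bot : ∀ r, XS {r} ≠ ⊥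
  mem_N : ∀ n, n ∈ N ↔ ∃ w, Rep n w
  mem_H : ∀ h, h ∈ H ↔ Rep h 1
  rep_mul : ∀ {n n' w w'}, Rep n w → Rep n' w' → Rep (n * n') (w * w')
  rep_inv : ∀ {n w}, Rep n w → Rep n⁻¹ w⁻¹
  rep_unique : ∀ {n w w'}, Rep n w → Rep n w' → w = w'
  rep_surj : ∀ w, ∃ n, Rep n w
  rep_conj : ∀ {n w S T g}, Rep n w → (∀ r ∈ S, w • r ∈ T) → g ∈ XS S → n * g * n⁻¹ ∈ XS T
  bruhat_ex : ∀ g, ∃ u ∈ XS P, ∃ n w, Rep n w ∧ ∃ v ∈ XS (invS P w), g = u * n * v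
  bruhat_uniq : ∀ {u u' n n' w w' v v'}, u ∈ XS P → u' ∈ XS P → Rep n w → Rep n' w' → v ∈ XS (invS P w) →
    v' ∈ XS (invS P w') → u * n * v = u' * n' * v' → u = u' ∧ n = n' ∧ v = v'
  fact : ∀ (w : W), ∀ u ∈ XS P, ∃ a ∈ XS (keepS P w), ∃ b ∈ XS (invS P w), u = a * b
  ρ_mem : ∀ r, ρ r ∈ P ↔ r ∈ P
  σ_XS : ∀ {S T g}, (∀ r ∈ S, ρ r ∈ T) → g ∈ XS S → σ g ∈ XS T
  rep_σ : ∀ {n w}, Rep n w → ∃ w', Rep (σ n) w' ∧ ∀ r, w' • ρ r = ρ (w • r)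
  wJ_ρ : ∀ j r, wJ j • ρ r = ρ (wJ j • r)
  wJ_sq : ∀ j, wJ j * wJ j = 1
  wJ_inj : Function.Injective wJ
  desc : ∀ w : W, (∀ r, w • ρ r = ρ (w • r)) → w ≠ 1 → ∃ j, ∀ r ∈ invS P (wJ j), w • r ∉ P
  dich : ∀ w : W, (∀ r, w • ρ r = ρ (w • r)) → ∀ j,
    (∀ r ∈ invS P (wJ j), w • r ∉ P) ∨ (∀ r ∈ invS P (wJ j), w • r ∈ P)
  normR : ∀ j, ∀ u ∈ XS P, ∀ a ∈ XS (keepS P (wJ j)), u * a * u⁻¹ ∈ XS (keepS P (wJ j))
  lev : ∀ j, ∀ a ∈ XS (keepS P (wJ j)), a ∈ XS (invS P (wJ j)) ⊔ Subgroup.closure {n | Rep n (wJ j)} → a = 1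
  nontriv : ∀ j, ∃ y ∈ XS (ninvS P (wJ j)), y ≠ 1 ∧ σ y = y

namespace TwSys

variable {G W Φ ι : Type*} [Group G] [Group W] [MulAction W Φ] (T : TwSys G W Φ ι)

/-- The subgroup `U`. -/
abbrev U : Subgroup G := T.XS T.P
/-- The subgroup `V`. -/
abbrev V : Subgroup G := T.XS T.Pᶜ
/-- The subgroup `B = UH`. -/
def B : Subgroup G := T.U ⊔ T.H
/-- The subgroup `U_w`. -/
abbrev Uw (w : W) : Subgroup G := T.XS (invS T.P w)
/-- The fixed points of `σ`. -/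
def Fix : Subgroup G := T.σ.eqLocus (MonoidHom.id G)
/-- The twisted Weyl group. -/
def W1 : Subgroup W where
  carrier := {w | ∀ r, w • T.ρ r = T.ρ (w • r)}
  mul_mem' {a b} ha hb r := by rw [mul_smul, mul_smul, hb, ha]
  one_mem' r := by simp
  inv_mem' {a} ha r := by
    rw [inv_smul_eq_iff, ha, smul_inv_smul]
/-- The twisted group. -/
def G1 : Subgroup G := ⨆ j, (T.XS (invS T.P (T.wJ j)) ⊓ T.Fix ⊔ T.XS (ninvS T.P (T.wJ j)) ⊓ T.Fix)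

variable {T}

theorem mem_Fix {g : G} : g ∈ T.Fix ↔ T.σ g = g := Iff.rfl

theorem mem_W1 {w : W} : w ∈ T.W1 ↔ ∀ r, w • T.ρ r = T.ρ (w • r) := Iff.rfl

theorem wJ_mem (j : ι) : T.wJ j ∈ T.W1 := T.wJ_ρ j

theorem wJ_inv (j : ι) : (T.wJ j)⁻¹ = T.wJ j := inv_eq_of_mul_eq_one_right (T.wJ_sq j)

theorem wJ_smul_smul (j : ι) (r : Φ) : T.wJ j • T.wJ j • r = r := by rw [← mul_smul, T.wJ_sq, one_smul]

theorem G1_le_Fix : T.G1 ≤ T.Fix := iSup_le fun _ => sup_le inf_le_right inf_le_right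

theorem mem_G1_of_pos {j : ι} {g : G} (hg : g ∈ T.Uw (T.wJ j)) (hσ : T.σ g = g) : g ∈ T.G1 :=
  (le_iSup (fun j => T.XS (invS T.P (T.wJ j)) ⊓ T.Fix ⊔ T.XS (ninvS T.P (T.wJ j)) ⊓ T.Fix) j)
    (Subgroup.mem_sup_left ⟨hg, hσ⟩)

theorem mem_G1_of_neg {j : ι} {g : G} (hg : g ∈ T.XS (ninvS T.P (T.wJ j))) (hσ : T.σ g = g) : g ∈ T.G1 :=
  (le_iSup (fun j => T.XS (invS T.P (T.wJ j)) ⊓ T.Fix ⊔ T.XS (ninvS T.P (T.wJ j)) ⊓ T.Fix) j)
    (Subgroup.mem_sup_right ⟨hg, hσ⟩)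

theorem rep_one : T.Rep 1 1 := (T.mem_H 1).1 T.H.one_mem

theorem Rep_mem_N {n : G} {w : W} (h : T.Rep n w) : n ∈ T.N := (T.mem_N n).2 ⟨w, h⟩

theorem H_le_N : T.H ≤ T.N := fun h hh => Rep_mem_N ((T.mem_H h).1 hh)

theorem mem_H_of_rep {n n' : G} {w : W} (h : T.Rep n w) (h' : T.Rep n' w) : n * n'⁻¹ ∈ T.H := by
  rw [T.mem_H, ← mul_inv_cancel w]
  exact T.rep_mul h (T.rep_inv h')

theorem mem_H_of_rep' {n n' : G} {w : W} (h : T.Rep n w) (h' : T.Rep n' w) : n⁻¹ * n' ∈ T.H := by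
  rw [T.mem_H, ← inv_mul_cancel w]
  exact T.rep_mul (T.rep_inv h) h'

theorem conj_mem_H {n h : G} (hn : n ∈ T.N) (hh : h ∈ T.H) : n * h * n⁻¹ ∈ T.H := by
  obtain ⟨w, hw⟩ := (T.mem_N n).1 hn
  have := T.rep_mul (T.rep_mul hw ((T.mem_H h).1 hh)) (T.rep_inv hw)
  rw [T.mem_H]
  simpa using this

theorem H_conj_XS {h g : G} {S : Set Φ} (hh : h ∈ T.H) (hg : g ∈ T.XS S) : h * g * h⁻¹ ∈ T.XS S :=
  T.rep_conj ((T.mem_H h).1 hh) (fun r hr => by simpa using hr) hg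

theorem Uw_le_U (w : W) : T.Uw w ≤ T.U := T.XS_mono fun _ hr => hr.1

theorem keep_le_U (w : W) : T.XS (keepS T.P w) ≤ T.U := T.XS_mono fun _ hr => hr.1

theorem ninv_le_V (w : W) : T.XS (ninvS T.P w) ≤ T.V := T.XS_mono fun _ hr => hr.1

theorem mem_B_iff {b : G} : b ∈ T.B ↔ ∃ u ∈ T.U, ∃ h ∈ T.H, b = u * h := by
  constructor
  · intro hb
    have hn : T.H ≤ Subgroup.normalizer (T.U : Set G) := by
      intro h hh
      rw [Subgroup.mem_normalizer_iff]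
      intro g
      constructor
      · exact H_conj_XS hh
      · intro hg
        have := H_conj_XS (T.H.inv_mem hh) hg
        simpa [mul_assoc] using this
    have : (b : G) ∈ ((T.U : Set G) * (T.H : Set G) : Set G) := by
      rw [← Subgroup.coe_mul_of_right_le_normalizer_left _ _ hn]; exact hb
    obtain ⟨u, hu, h, hh, rfl⟩ := this
    exact ⟨u, hu, h, hh, rfl⟩
  · rintro ⟨u, hu, h, hh, rfl⟩
    exact T.B.mul_mem (Subgroup.mem_sup_left hu) (Subgroup.mem_sup_right hh)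

theorem U_le_B : T.U ≤ T.B := le_sup_left

theorem H_le_B : T.H ≤ T.B := le_sup_right

theorem eq_of_invS_eq {w w' : W} (h : invS T.P w = invS T.P w') : w = w' := by
  have : w * w'⁻¹ = 1 := by
    apply T.keep_one
    intro r hr
    rw [mul_smul]
    by_cases hs : w'⁻¹ • r ∈ T.P
    · by_contra hc
      have : w'⁻¹ • r ∈ invS T.P w' := h ▸ ⟨hs, hc⟩
      exact this.2 (by simpa using hr)
    · have h1 : T.neg (w'⁻¹ • r) ∈ invS T.P w' :=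
        ⟨(T.neg_mem _).2 hs, by rw [T.smul_neg, smul_inv_smul, T.neg_mem]; exact not_not.2 hr⟩
      rw [← h] at h1
      have := h1.2
      rwa [T.smul_neg, T.neg_mem, not_not] at this
  exact mul_inv_eq_one.1 this

/-- `B ∩ V = 1`. -/
theorem eq_one_of_mem_B_V {g : G} (hB : g ∈ T.B) (hV : g ∈ T.V) : g = 1 := by
  obtain ⟨w0, hw0⟩ := T.exists_w0
  obtain ⟨n, hn⟩ := T.rep_surj w0
  obtain ⟨u, hu, h, hh, rfl⟩ := mem_B_iff.1 hB
  have hw0' : ∀ r ∈ T.Pᶜ, w0⁻¹ • r ∈ invS T.P w0 := by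
    intro r hr
    refine ⟨?_, by simpa using hr⟩
    by_contra hc
    have := hw0 _ ((T.neg_mem _).2 hc)
    rw [T.smul_neg, smul_inv_smul, T.neg_mem] at this
    exact this hr
  have h1 : n⁻¹ * (u * h) * n⁻¹⁻¹ ∈ T.Uw w0 := T.rep_conj (T.rep_inv hn) hw0' hV
  have h2 : T.Rep (h * n) w0 := by simpa using T.rep_mul ((T.mem_H h).1 hh) hn
  have := (T.bruhat_uniq T.U.one_mem hu hn h2 h1 (T.Uw w0).one_mem (by group)).2.2
  rw [inv_inv, mul_assoc, inv_mul_eq_one] at this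
  exact mul_eq_right.1 this.symm

theorem eq_one_of_mem_U_V {g : G} (hU : g ∈ T.U) (hV : g ∈ T.V) : g = 1 := eq_one_of_mem_B_V (U_le_B hU) hV

theorem eq_one_of_mem_U_H {g : G} (hU : g ∈ T.U) (hH : g ∈ T.H) : g = 1 :=
  (T.bruhat_uniq hU T.U.one_mem rep_one ((T.mem_H g).1 hH) (T.Uw 1).one_mem (T.Uw 1).one_mem (by group)).1

/-- `B ∩ N = H`. -/
theorem mem_H_of_mem_B_N {g : G} (hB : g ∈ T.B) (hN : g ∈ T.N) : g ∈ T.H := by
  obtain ⟨u, hu, h, hh, rfl⟩ := mem_B_iff.1 hB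
  obtain ⟨w, hw⟩ := (T.mem_N _).1 hN
  have := (T.bruhat_uniq hu T.U.one_mem ((T.mem_H h).1 hh) hw (T.Uw 1).one_mem (T.Uw w).one_mem (by group)).2.1
  rw [← this]; exact hh

theorem eq_one_of_keep_inv {w : W} {g : G} (h1 : g ∈ T.XS (keepS T.P w)) (h2 : g ∈ T.Uw w) : g = 1 := by
  obtain ⟨n, hn⟩ := T.rep_surj w
  have := eq_one_of_mem_U_V (T.rep_conj hn (fun r hr => hr.2) h1) (T.rep_conj hn (fun r hr => hr.2) h2)
  simpa using this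

/-- `U_w = U ∩ n⁻¹ V n`. -/
theorem mem_Uw_of_conj {n g : G} {w : W} (hn : T.Rep n w) (hU : g ∈ T.U) (hV : n * g * n⁻¹ ∈ T.V) : g ∈ T.Uw w := by
  obtain ⟨a, ha, b, hb, rfl⟩ := T.fact w g hU
  have h1 : n * b * n⁻¹ ∈ T.V := T.rep_conj hn (fun r hr => hr.2) hb
  have h2 : n * a * n⁻¹ ∈ T.V := by
    have := T.V.mul_mem hV (T.V.inv_mem h1)
    convert this using 1
    group
  have := eq_one_of_mem_U_V (T.rep_conj hn (fun r hr => hr.2) ha) h2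
  have ha1 : a = 1 := by simpa using this
  rw [ha1, one_mul]; exact hb

/-- Uniqueness of the monomial part in `U N U`. -/
theorem eq_of_UNU {u u' v v' n n' : G} (hu : u ∈ T.U) (hu' : u' ∈ T.U) (hv : v ∈ T.U) (hv' : v' ∈ T.U)
    (hn : n ∈ T.N) (hn' : n' ∈ T.N) (h : u * n * v = u' * n' * v') : n = n' := by
  obtain ⟨w, hw⟩ := (T.mem_N _).1 hn
  obtain ⟨w', hw'⟩ := (T.mem_N _).1 hn'
  obtain ⟨a, ha, b, hb, rfl⟩ := T.fact w v hv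
  obtain ⟨a', ha', b', hb', rfl⟩ := T.fact w' v' hv'
  have h1 : u * (n * a * n⁻¹) ∈ T.U := T.U.mul_mem hu (T.rep_conj hw (fun r hr => hr.2) ha)
  have h2 : u' * (n' * a' * n'⁻¹) ∈ T.U := T.U.mul_mem hu' (T.rep_conj hw' (fun r hr => hr.2) ha')
  refine (T.bruhat_uniq h1 h2 hw hw' hb hb' ?_).2.1
  calc u * (n * a * n⁻¹) * n * b = u * n * (a * b) := by group
    _ = u' * n' * (a' * b') := h
    _ = _ := by group

theorem σ_mem_U {g : G} (hg : g ∈ T.U) : T.σ g ∈ T.U := T.σ_XS (fun r hr => (T.ρ_mem r).2 hr) hg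

theorem σ_mem_V {g : G} (hg : g ∈ T.V) : T.σ g ∈ T.V := T.σ_XS (S := T.Pᶜ) (fun r hr h => hr ((T.ρ_mem r).1 h)) hg

theorem σ_mem_Uw {w : W} (hw : w ∈ T.W1) {g : G} (hg : g ∈ T.Uw w) : T.σ g ∈ T.Uw w :=
  T.σ_XS (fun r hr => ⟨(T.ρ_mem r).2 hr.1, by rw [hw, T.ρ_mem]; exact hr.2⟩) hg

theorem σ_mem_keep {w : W} (hw : w ∈ T.W1) {g : G} (hg : g ∈ T.XS (keepS T.P w)) : T.σ g ∈ T.XS (keepS T.P w) :=
  T.σ_XS (fun r hr => ⟨(T.ρ_mem r).2 hr.1, by rw [hw, T.ρ_mem]; exact hr.2⟩) hg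

theorem mem_W1_of_fix {n : G} {w : W} (hn : T.Rep n w) (hσ : T.σ n = n) : w ∈ T.W1 := by
  obtain ⟨w', h1, h2⟩ := T.rep_σ hn
  rw [hσ] at h1
  rw [T.rep_unique hn h1] at h2 ⊢
  exact h2

theorem σ_mem_H {h : G} (hh : h ∈ T.H) : T.σ h ∈ T.H := by
  obtain ⟨w', h1, h2⟩ := T.rep_σ ((T.mem_H h).1 hh)
  have : w' = 1 := T.keep_one _ fun r hr => by
    obtain ⟨s, rfl⟩ := T.ρ.surjective r
    rw [h2, one_smul]; exact hr
  rw [T.mem_H, ← this]; exact h1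

theorem exists_w0_mem : ∃ w ∈ T.W1, ∀ r ∈ T.P, w • r ∉ T.P := by
  obtain ⟨w0, hw0⟩ := T.exists_w0
  obtain ⟨n, hn⟩ := T.rep_surj w0
  obtain ⟨w', -, h2⟩ := T.rep_σ hn
  have : w' = w0 := by
    apply eq_of_invS_eq (T := T)
    ext r
    refine ⟨fun h => ⟨h.1, hw0 r h.1⟩, fun h => ⟨h.1, ?_⟩⟩
    obtain ⟨s, rfl⟩ := T.ρ.surjective r
    rw [h2, T.ρ_mem]
    exact hw0 s ((T.ρ_mem s).1 h.1)
  rw [this] at h2
  exact ⟨w0, h2, hw0⟩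

/-- The Bruhat decomposition of a fixed point has fixed factors. -/
theorem bruhat_fix {g : G} (hg : T.σ g = g) : ∃ u ∈ T.U, T.σ u = u ∧ ∃ n w, T.Rep n w ∧ T.σ n = n ∧ w ∈ T.W1 ∧
    ∃ v ∈ T.Uw w, T.σ v = v ∧ g = u * n * v := by
  obtain ⟨u, hu, n, w, hn, v, hv, rfl⟩ := T.bruhat_ex g
  obtain ⟨w', h1, h2⟩ := T.rep_σ hn
  have hv' : T.σ v ∈ T.Uw w' :=
    T.σ_XS (fun r hr => ⟨(T.ρ_mem r).2 hr.1, by rw [h2, T.ρ_mem]; exact hr.2⟩) hv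
  rw [map_mul, map_mul] at hg
  obtain ⟨e1, e2, e3⟩ := T.bruhat_uniq (σ_mem_U hu) hu h1 hn hv' hv hg
  exact ⟨u, hu, e1, n, w, hn, e2, mem_W1_of_fix hn e2, v, hv, e3, rfl⟩

theorem fact_fix {w : W} (hw : w ∈ T.W1) {u : G} (hu : u ∈ T.U) (hσ : T.σ u = u) :
    ∃ a ∈ T.XS (keepS T.P w), T.σ a = a ∧ ∃ b ∈ T.Uw w, T.σ b = b ∧ u = a * b := by
  obtain ⟨a, ha, b, hb, rfl⟩ := T.fact w u hu
  rw [map_mul] at hσ
  have h1 : a⁻¹ * T.σ a = b * (T.σ b)⁻¹ := by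
    rw [inv_mul_eq_iff_eq_mul, ← mul_assoc, eq_mul_inv_iff_mul_eq, hσ]
  have h2 : a⁻¹ * T.σ a = 1 := eq_one_of_keep_inv
    ((T.XS _).mul_mem ((T.XS _).inv_mem ha) (σ_mem_keep hw ha))
    (h1 ▸ (T.Uw w).mul_mem hb ((T.Uw w).inv_mem (σ_mem_Uw hw hb)))
  refine ⟨a, ha, (inv_mul_eq_one.1 h2).symm, b, hb, ?_, rfl⟩
  rw [h2] at h1
  exact (mul_inv_eq_one.1 h1.symm).symm

theorem B_fix {b : G} (hb : b ∈ T.B) (hσ : T.σ b = b) :
    ∃ u ∈ T.U, T.σ u = u ∧ ∃ h ∈ T.H, T.σ h = h ∧ b = u * h := by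
  obtain ⟨u, hu, h, hh, rfl⟩ := mem_B_iff.1 hb
  rw [map_mul] at hσ
  obtain ⟨e1, e2, -⟩ := T.bruhat_uniq (σ_mem_U hu) hu ((T.mem_H _).1 (σ_mem_H hh)) ((T.mem_H _).1 hh)
    (T.Uw 1).one_mem (T.Uw 1).one_mem (by rw [mul_one, mul_one, hσ])
  exact ⟨u, hu, e1, h, hh, e2, rfl⟩

theorem keep_wJ (j : ι) : ∀ r ∈ keepS T.P (T.wJ j), T.wJ j • r ∈ keepS T.P (T.wJ j) :=
  fun r hr => ⟨hr.2, by rw [wJ_smul_smul]; exact hr.1⟩

theorem inv_wJ (j : ι) : ∀ r ∈ invS T.P (T.wJ j), T.wJ j • r ∈ ninvS T.P (T.wJ j) :=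
  fun r hr => ⟨hr.2, by rw [wJ_smul_smul]; exact hr.1⟩

theorem ninv_wJ (j : ι) : ∀ r ∈ ninvS T.P (T.wJ j), T.wJ j • r ∈ invS T.P (T.wJ j) :=
  fun r hr => ⟨hr.2, by rw [wJ_smul_smul]; exact hr.1⟩

theorem rep_wJ_inv {n : G} {j : ι} (hn : T.Rep n (T.wJ j)) : T.Rep n⁻¹ (T.wJ j) := by
  have := T.rep_inv hn
  rwa [wJ_inv] at this

theorem wJ_ne_one (j : ι) : T.wJ j ≠ 1 := by
  intro h
  obtain ⟨y, hy, hy1, -⟩ := T.nontriv j
  have : ninvS T.P (T.wJ j) = ∅ := by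
    ext r
    simp [ninvS, h]
  rw [this, T.XS_empty] at hy
  exact hy1 hy

theorem invS_wJ_nonempty (j : ι) : (invS T.P (T.wJ j)).Nonempty := by
  by_contra hc
  apply wJ_ne_one (T := T) j
  apply T.keep_one
  intro r hr
  by_contra h
  exact hc ⟨r, hr, h⟩

/-- The rank-one Bruhat decomposition of a non-trivial fixed element of `U_{-J}`. -/
theorem rank_one {j : ι} {y : G} (hy : y ∈ T.XS (ninvS T.P (T.wJ j))) (hy1 : y ≠ 1) (hσ : T.σ y = y) :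
    ∃ b ∈ T.Uw (T.wJ j), T.σ b = b ∧ ∃ m, T.Rep m (T.wJ j) ∧ m ∈ T.G1 ∧
      ∃ v ∈ T.Uw (T.wJ j), T.σ v = v ∧ y = b * m * v := by
  obtain ⟨u, hu, hσu, n, w, hn, hσn, hw, v, hv, hσv, hy'⟩ := bruhat_fix hσ
  obtain ⟨nJ, hnJ⟩ := T.rep_surj (T.wJ j)
  have hy0 : nJ * y * nJ⁻¹ ∈ T.Uw (T.wJ j) := T.rep_conj hnJ (ninv_wJ j) hy
  have hyR : ∀ a ∈ T.XS (keepS T.P (T.wJ j)), y * a * y⁻¹ ∈ T.XS (keepS T.P (T.wJ j)) := by
    intro a ha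
    have h1 := T.rep_conj hnJ (keep_wJ j) ha
    have h2 := T.normR j _ (Uw_le_U _ hy0) _ h1
    have h3 := T.rep_conj (rep_wJ_inv hnJ) (keep_wJ j) h2
    convert h3 using 1
    group
  have hnR : ∀ a ∈ T.XS (keepS T.P (T.wJ j)), n * a * n⁻¹ ∈ T.U := by
    intro a ha
    have h1 := T.normR j _ (T.U.inv_mem (Uw_le_U _ hv)) _ ha
    have h2 := T.normR j _ (T.U.inv_mem hu) _ (hyR _ h1)
    apply keep_le_U (T.wJ j)
    convert h2 using 1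
    rw [hy']; group
  have hsub : invS T.P w ⊆ invS T.P (T.wJ j) := by
    intro r hr
    refine ⟨hr.1, fun hc => ?_⟩
    apply T.XS_ne_bot r
    rw [eq_bot_iff]
    intro a ha
    have h1 := hnR a (T.XS_mono (by rintro _ rfl; exact ⟨hr.1, hc⟩) ha)
    have h2 : n * a * n⁻¹ ∈ T.V := T.rep_conj hn (by rintro _ rfl; exact hr.2) ha
    have := eq_one_of_mem_U_V h1 h2
    simpa using this
  have hw1 : w ≠ 1 := by
    rintro rfl
    apply hy1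
    apply eq_one_of_mem_B_V _ (ninv_le_V _ hy)
    rw [hy']
    exact T.B.mul_mem (T.B.mul_mem (U_le_B hu) (H_le_B ((T.mem_H n).2 hn))) (U_le_B (Uw_le_U _ hv))
  have hweq : w = T.wJ j := by
    apply eq_of_invS_eq (T := T)
    apply hsub.antisymm
    rcases T.dich w hw j with h | h
    · exact fun r hr => ⟨hr.1, h r hr⟩
    · exfalso
      apply hw1
      apply T.keep_one
      intro r hr
      by_contra hc
      exact hc (h r (hsub ⟨hr, hc⟩))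
  subst hweq
  obtain ⟨a, ha, hσa, b, hb, hσb, rfl⟩ := fact_fix (wJ_mem j) hu hσu
  have ha1 : a = 1 := by
    apply T.lev j a ha
    set L := T.XS (invS T.P (T.wJ j)) ⊔ Subgroup.closure {n | T.Rep n (T.wJ j)}
    have m1 : ∀ g ∈ T.Uw (T.wJ j), g ∈ L := fun g hg => Subgroup.mem_sup_left hg
    have m2 : ∀ g, T.Rep g (T.wJ j) → g ∈ L := fun g hg => Subgroup.mem_sup_right (Subgroup.subset_closure hg)
    have : a = nJ⁻¹ * (nJ * y * nJ⁻¹) * nJ * v⁻¹ * n⁻¹ * b⁻¹ := by rw [hy']; group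
    rw [this]
    exact L.mul_mem (L.mul_mem (L.mul_mem (L.mul_mem (L.mul_mem (L.inv_mem (m2 _ hnJ)) (m1 _ hy0)) (m2 _ hnJ))
      (L.inv_mem (m1 _ hv))) (L.inv_mem (m2 _ hn))) (L.inv_mem (m1 _ hb))
  rw [ha1, one_mul] at hy'
  refine ⟨b, hb, hσb, n, hn, ?_, v, hv, hσv, hy'⟩
  have : n = b⁻¹ * y * v⁻¹ := by rw [hy']; group
  rw [this]
  exact T.G1.mul_mem (T.G1.mul_mem (T.G1.inv_mem (mem_G1_of_pos hb hσb)) (mem_G1_of_neg hy hσ))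
    (T.G1.inv_mem (mem_G1_of_pos hv hσv))

theorem exists_rep_wJ (j : ι) : ∃ m, T.Rep m (T.wJ j) ∧ m ∈ T.G1 := by
  obtain ⟨y, hy, hy1, hσ⟩ := T.nontriv j
  obtain ⟨-, -, -, m, hm, hm1, -⟩ := rank_one hy hy1 hσ
  exact ⟨m, hm, hm1⟩

end TwSys

end CL.Tw
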