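import Cfsg.Agent.Base

/-!
Finite-field lemmas and small group-theoretic lemmas for the twisted groups.
-/

set_option autoImplicit false

namespace CL.Tw

section Field

variable {K : Type*} [Field K] [Fintype K]

theorem exists_frob {q k : ℕ} (hq : IsPrimePow q) (hK : Fintype.card K = q ^ k) :
    ∃ f : K ≃+* K, ∀ t, f t = t ^ q := by
  obtain ⟨p, n, hp, hn, rfl⟩ := (isPrimePow_nat_iff q).1 hq
  have : Fact p.Prime := ⟨hp⟩
  have : CharP K p := charP_of_card_eq_prime_pow (f := n * k) (by rw [hK, pow_mul])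
  exact ⟨iterateFrobeniusEquiv K p n, fun t => rfl⟩

theorem pow_pow_card {q k : ℕ} (hK : Fintype.card K = q ^ k) (t : K) : t ^ q ^ k = t := by
  rw [← hK, FiniteField.pow_card]

theorem card_units_pow_eq_one (d : ℕ) : Nat.card {u : Kˣ // u ^ d = 1} = Nat.gcd (Fintype.card K - 1) d := by
  classical
  rw [← Fintype.card_units, ← Nat.card_eq_fintype_card, ← IsCyclic.card_powMonoidHom_ker]
  rfl

theorem card_units_fixed {q k : ℕ} (hq : 1 < q) (hK : Fintype.card K = q ^ k) :
    Nat.card {u : Kˣ // u ^ q = u} = q - 1 := by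
  have h1 : ∀ u : Kˣ, u ^ q = u ↔ u ^ (q - 1) = 1 := fun u => by
    obtain ⟨m, rfl⟩ : ∃ m, q = m + 1 := ⟨q - 1, by omega⟩
    rw [pow_succ, mul_eq_right, Nat.add_sub_cancel]
  simp only [h1]
  rw [card_units_pow_eq_one, hK, Nat.gcd_eq_right]
  simpa using Nat.sub_one_dvd_pow_sub_one q k

theorem card_fixed {q k : ℕ} (hq : 1 < q) (hK : Fintype.card K = q ^ k) : Nat.card {t : K // t ^ q = t} = q := by
  have h0 : (0 : K) ^ q = 0 := zero_pow (by omega)
  have e : {t : K // t ^ q = t} ≃ Option {u : Kˣ // u ^ q = u} := by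
    classical
    refine (Equiv.ofBijective (fun o : Option {u : Kˣ // u ^ q = u} => o.elim (⟨0, h0⟩ : {t : K // t ^ q = t})
      fun u => ⟨u.1, by rw [← Units.val_pow_eq_pow_val, u.2]⟩) ⟨?_, ?_⟩).symm
    · rintro (_ | a) (_ | b) h
      · rfl
      · exact absurd (congrArg Subtype.val h).symm b.1.ne_zero
      · exact absurd (congrArg Subtype.val h) a.1.ne_zero
      · rw [Subtype.ext (Units.ext (congrArg Subtype.val h))]
    · rintro ⟨t, ht⟩
      by_cases h : t = 0
      · exact ⟨none, Subtype.ext h.symm⟩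
      · exact ⟨some ⟨Units.mk0 t h, Units.ext ht⟩, rfl⟩
  rw [Nat.card_congr e, Finite.card_option, card_units_fixed hq hK]
  omega

theorem exists_sq_ne_one (hK : 4 ≤ Fintype.card K) : ∃ c : Kˣ, c ^ 2 ≠ 1 := by
  classical
  by_contra hc
  push Not at hc
  have h1 : Nat.card {u : Kˣ // u ^ 2 = 1} = Nat.card Kˣ := Nat.card_congr (Equiv.subtypeUnivEquiv hc)
  rw [card_units_pow_eq_one, Nat.card_eq_fintype_card, Fintype.card_units] at h1
  have := Nat.gcd_le_right (Fintype.card K - 1) (show 0 < 2 by norm_num)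
  omega

theorem exists_unit_ne_one (hK : 3 ≤ Fintype.card K) : ∃ c : Kˣ, c ≠ 1 := by
  classical
  by_contra hc
  push Not at hc
  have : Fintype.card Kˣ ≤ 1 := Fintype.card_le_one_iff.2 fun a b => by rw [hc a, hc b]
  rw [Fintype.card_units] at this
  omega

/-- For `|K| = p^(2m+1)` and `θ = p^m`: `t^(p θ θ) = t`. -/
theorem pow_theta {p m : ℕ} (hK : Fintype.card K = p ^ (2 * m + 1)) (t : K) : ((t ^ p ^ m) ^ p ^ m) ^ p = t := by
  rw [← pow_mul, ← pow_mul, show p ^ m * (p ^ m * p) = p ^ (2 * m + 1) by ring, pow_pow_card hK]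

end Field

section Groups

variable {G : Type*} [Group G]

theorem card_eq_of_bij {α : Type*} (S : Subgroup G) (f : α → G) (hf : Function.Injective f)
    (h : ∀ g, g ∈ S ↔ ∃ a, g = f a) : Nat.card S = Nat.card α := by
  symm
  refine Nat.card_congr (Equiv.ofBijective (fun a => ⟨f a, (h _).2 ⟨a, rfl⟩⟩) ⟨?_, ?_⟩)
  · intro a b hab
    exact hf (congrArg Subtype.val hab)
  · rintro ⟨g, hg⟩
    obtain ⟨a, rfl⟩ := (h g).1 hg
    exact ⟨a, rfl⟩

theorem card_map_mul_card_ker {A : Type*} [Group A] [Finite A] (φ : A →* G) (C : Subgroup A) :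
    Nat.card ↥(C ⊓ φ.ker) * Nat.card ↥(C.map φ) = Nat.card C := by
  have h1 := Subgroup.card_eq_card_quotient_mul_card_subgroup (φ.comp C.subtype).ker
  rw [Nat.card_congr (QuotientGroup.quotientKerEquivRange (φ.comp C.subtype)).toEquiv] at h1
  have h2 : (φ.comp C.subtype).range = C.map φ := by
    rw [MonoidHom.range_comp, Subgroup.range_subtype]
  have h3 : Nat.card (φ.comp C.subtype).ker = Nat.card ↥(C ⊓ φ.ker) := by
    rw [← MonoidHom.comap_ker, ← Subgroup.subgroupOf, ← Subgroup.inf_subgroupOf_left,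
      Nat.card_congr (Subgroup.subgroupOfEquivOfLe inf_le_left).toEquiv]
  rw [h1, h2, h3, mul_comm]

end Groups

end CL.Tw
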