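import Cfsg.Agent.Base
import Cfsg.Agent.Chev.MatCore
import Cfsg.Agent.Chev.TwField

/-!
Root elements and the torus as elements of the Chevalley group `↥(D.group K)`.
-/

set_option autoImplicit false

namespace CL.Tw

open Cfsg Cfsg.Lie Cfsg.Lie.ChevalleyDatum CL.ChevM

variable {D : ChevalleyDatum} {η : ℕ → ℕ → ℤ} (C : Core D η) {K : Type*} [Field K]

/-- `x_r(t)` as an invertible matrix. -/
def xU (r : ℕ) (t : K) : GL D.Idx K := ⟨D.x K r t, D.x K r (-t), C.x_mul_x_neg r t, C.x_neg_mul_x r t⟩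

theorem xU_mem (r : ℕ) (t : K) : xU C r t ∈ D.group K := by
  by_cases hr : r < D.nroots
  · exact Subgroup.subset_closure ⟨⟨r, hr⟩, t, x_of_lt hr t⟩
  · have : xU C r t = 1 := Units.ext (x_of_ge (not_lt.1 hr) t)
    rw [this]; exact one_mem _

/-- `x_r(t)` as an element of the Chevalley group. -/
def xG (r : ℕ) (t : K) : ↥(D.group K) := ⟨xU C r t, xU_mem C r t⟩

/-- The matrix of an element of the Chevalley group. -/
def mat : ↥(D.group K) →* Matrix D.Idx D.Idx K := (Units.coeHom _).comp (D.group K).subtype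

theorem mat_apply (g : ↥(D.group K)) : mat g = ((g : GL D.Idx K) : Matrix D.Idx D.Idx K) := rfl

theorem mat_injective : Function.Injective (mat : ↥(D.group K) → Matrix D.Idx D.Idx K) :=
  fun _ _ h => Subtype.ext (Units.ext h)

theorem mat_xG (r : ℕ) (t : K) : mat (xG C r t) = D.x K r t := rfl

/-- The product of a word in the root elements. -/
def wG (w : List (ℕ × K)) : ↥(D.group K) := (w.map fun c => xG C c.1 c.2).prod

theorem mat_wG (w : List (ℕ × K)) : mat (wG C w) = D.wordMat K w := by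
  unfold wG ChevalleyDatum.wordMat
  rw [map_list_prod, List.map_map]
  rfl

theorem xG_add (r : ℕ) (t u : K) : xG C r t * xG C r u = xG C r (t + u) :=
  mat_injective (by rw [map_mul]; exact C.x_add' r t u)

theorem xG_zero (r : ℕ) : xG C r (0 : K) = 1 := mat_injective (by rw [map_one]; exact C.x_zero r)

theorem xG_inv (r : ℕ) (t : K) : (xG C r t)⁻¹ = xG C r (-t) :=
  inv_eq_of_mul_eq_one_right (by rw [xG_add, add_neg_cancel, xG_zero])

theorem xG_eq_one_iff {r : ℕ} (hr : r < D.nroots) (t : K) : xG C r t = 1 ↔ t = 0 := by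
  rw [← C.x_eq_one_iff hr t, ← mat_injective.eq_iff, map_one, mat_xG]

theorem xG_injective {r : ℕ} (hr : r < D.nroots) : Function.Injective (xG C r : K → _) := by
  intro t u h
  have : xG C r (t - u) = 1 := by rw [sub_eq_add_neg, ← xG_add, h, xG_add, add_neg_cancel, xG_zero]
  exact sub_eq_zero.1 ((xG_eq_one_iff C hr _).1 this)

theorem xG_comm {r s : ℕ} (hr : r < D.nroots) (hs : s < D.nroots) (h1 : s ≠ r) (h2 : s ≠ D.neg r) (t u : K) :
    xG C s u * xG C r t = xG C r t * xG C s u * wG C (D.commWord K r s t u) :=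
  mat_injective (by rw [map_mul, map_mul, map_mul, mat_wG]; exact C.x_comm hr hs h1 h2 t u)

/-- The commutator formula with an explicitly given list of terms. -/
theorem xG_comm_of {r s : ℕ} {L : List (ℕ × ℤ × ℕ × ℕ)}
    (h : r < D.nroots ∧ s < D.nroots ∧ s ≠ r ∧ s ≠ D.neg r ∧ D.commTerms r s = L) (t u : K) :
    xG C s u * xG C r t = xG C r t * xG C s u *
      (L.map fun c => xG C c.1 ((c.2.1 : K) * (-t) ^ c.2.2.1 * u ^ c.2.2.2)).prod := by
  rw [xG_comm C h.1 h.2.1 h.2.2.1 h.2.2.2.1, wG, ChevalleyDatum.commWord, h.2.2.2.2, List.map_map]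
  rfl

theorem xG_commute {r s : ℕ} (h : r < D.nroots ∧ s < D.nroots ∧ s ≠ r ∧ s ≠ D.neg r ∧ D.commTerms r s = [])
    (t u : K) : xG C s u * xG C r t = xG C r t * xG C s u := by
  rw [xG_comm_of C h]; simp

theorem closure_xG : Subgroup.closure {g : ↥(D.group K) | ∃ r < D.nroots, ∃ t, g = xG C r t} = ⊤ := by
  apply Subgroup.map_injective (D.group K).subtype_injective
  rw [MonoidHom.map_closure, ← MonoidHom.range_eq_map, Subgroup.range_subtype]
  conv_rhs => unfold ChevalleyDatum.group
  congr 1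
  ext g
  constructor
  · rintro ⟨_, ⟨r, hr, t, rfl⟩, rfl⟩
    exact ⟨⟨r, hr⟩, t, x_of_lt hr t⟩
  · rintro ⟨r, t, h⟩
    exact ⟨xG C r t, ⟨r, r.2, t, rfl⟩, Units.ext (by rw [h]; exact x_of_lt r.2 t)⟩

/-- `n_r(t)` in the Chevalley group. -/
def nG (r : ℕ) (t : K) : ↥(D.group K) := xG C r t * xG C (D.neg r) (-t⁻¹) * xG C r t

/-- `h_r(t)` in the Chevalley group. -/
def hG (r : ℕ) (t : K) : ↥(D.group K) := nG C r t * nG C r (-1)

theorem mat_nG (r : ℕ) (t : K) : mat (nG C r t) = D.nMat K r t := by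
  rw [nG, map_mul, map_mul, nMat_eq]; rfl

theorem mat_hG (r : ℕ) (t : K) : mat (hG C r t) = D.hMat K r t := by
  rw [hG, map_mul, mat_nG, mat_nG, hMat_eq]

theorem nG_eq_hG_mul (r : ℕ) (t : K) : nG C r t = hG C r t * nG C r 1 :=
  mat_injective (by rw [map_mul, mat_nG, mat_hG, mat_nG]; exact C.nMat_eq_hMat_mul r t)

theorem nG_simple_mul_xG {i s : ℕ} (hi : i < D.rank) (hs : s < D.nroots) (t : K) :
    nG C (D.simple i) 1 * xG C s t = xG C (D.reflectRoot i s) ((η i s : K) * t) * nG C (D.simple i) 1 :=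
  mat_injective (by rw [map_mul, map_mul, mat_nG]; exact C.nMat_mul_x hi hs t)

/-- The rank-one relation `x_{-r}(t) = x_r(t⁻¹) n_r(-t⁻¹) x_r(t⁻¹)`. -/
theorem xG_neg_eq (r : ℕ) (t : K) :
    xG C (D.neg r) t = xG C r t⁻¹ * nG C r (-t⁻¹) * xG C r t⁻¹ := by
  rw [nG, inv_neg, inv_inv, neg_neg, ← xG_inv]
  group

variable (D) in
/-- The value on the root `s` of the character attached to `c`. -/
def chi (c : Fin D.rank → Kˣ) (s : ℕ) : Kˣ := ∏ i : Fin D.rank, c i ^ D.cartan i s

theorem chi_mul (c d : Fin D.rank → Kˣ) (s : ℕ) : chi D (c * d) s = chi D c s * chi D d s := by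
  simp only [chi, Pi.mul_apply, mul_zpow, Finset.prod_mul_distrib]

theorem chi_one (s : ℕ) : chi D (1 : Fin D.rank → Kˣ) s = 1 := by simp [chi]

theorem chi_mulSingle (i : Fin D.rank) (a : Kˣ) (s : ℕ) : chi D (Pi.mulSingle i a) s = a ^ D.cartan i s := by
  unfold chi
  rw [Finset.prod_eq_single i]
  · simp
  · intro j _ hj
    simp [Pi.mulSingle_eq_of_ne hj]
  · simp

theorem chi_linear (c : Fin D.rank → Kˣ) {r s u : ℕ} {a b : ℤ}
    (h : ∀ i < D.rank, D.cartan i u = a * D.cartan i r + b * D.cartan i s) :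
    chi D c u = chi D c r ^ a * chi D c s ^ b := by
  simp only [chi, ← Finset.prod_zpow, ← Finset.prod_mul_distrib]
  apply Finset.prod_congr rfl
  intro i _
  rw [h i i.2, zpow_add, ← zpow_mul, ← zpow_mul, mul_comm a, mul_comm b]

variable (D K) in
/-- The diagonal matrix of the character attached to `c`. -/
def torM : (Fin D.rank → Kˣ) →* Matrix D.Idx D.Idx K where
  toFun c := diagM D fun s => (chi D c s : K)
  map_one' := by simp only [chi_one, Units.val_one]; exact diagM_one
  map_mul' c d := by simp only [chi_mul, Units.val_mul]; rw [diagM_mul]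

theorem torM_mulSingle (i : Fin D.rank) (a : Kˣ) : torM D K (Pi.mulSingle i a) = mat (hG C (D.simple i) (a : K)) := by
  rw [mat_hG, C.hMat_simple i.2 a.ne_zero]
  change diagM D (fun s => (chi D (Pi.mulSingle i a) s : K)) = _
  exact diagM_congr fun s _ => by rw [chi_mulSingle]; simp

include C in
theorem torU_mem (c : Fin D.rank → Kˣ) : (torM D K).toHomUnits c ∈ D.diagonalSubgroup K := by
  rw [← Finset.univ_prod_mulSingle c]
  induction (Finset.univ : Finset (Fin D.rank)) using Finset.induction_on with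
  | empty => rw [Finset.prod_empty, map_one]; exact one_mem _
  | insert i s hi ih =>
    rw [Finset.prod_insert hi, map_mul]
    refine Subgroup.mul_mem _ (Subgroup.subset_closure ⟨D.simple i, c i, C.tab.simple_lt i i.2, (c i).ne_zero, ?_⟩) ih
    rw [MonoidHom.coe_toHomUnits, torM_mulSingle C, mat_hG]

include C in
theorem diagonalSubgroup_le : D.diagonalSubgroup K ≤ D.group K := by
  rw [ChevalleyDatum.diagonalSubgroup, Subgroup.closure_le]
  rintro g ⟨r, t, -, -, h⟩
  have : g = (hG C r t : GL D.Idx K) := Units.ext (h.trans (mat_hG C r t).symm)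
  rw [this]; exact (hG C r t).2

/-- The torus `c ↦ ∏ h_{p_i}(c_i)` of the Chevalley group. -/
def tor : (Fin D.rank → Kˣ) →* ↥(D.group K) :=
  (torM D K).toHomUnits.codRestrict _ fun c => diagonalSubgroup_le C (torU_mem C c)

theorem mat_tor (c : Fin D.rank → Kˣ) : mat (tor C c) = diagM D fun s => (chi D c s : K) := rfl

theorem tor_mulSingle (i : Fin D.rank) (a : Kˣ) : tor C (Pi.mulSingle i a) = hG C (D.simple i) (a : K) :=
  mat_injective (torM_mulSingle C i a)

theorem hG_eq_tor {r : ℕ} (hr : r < D.nroots) (a : Kˣ) : hG C r (a : K) = tor C fun i => a ^ cor D r i := by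
  apply mat_injective
  rw [mat_hG, mat_tor, C.hMat_eq_diagM hr a.ne_zero]
  refine diagM_congr fun s _ => ?_
  rw [chi, cartR, Finset.sum_range, ← Units.val_zpow_eq_zpow_val]
  congr 1
  simp only [← zpow_mul]
  induction (Finset.univ : Finset (Fin D.rank)) using Finset.induction_on with
  | empty => simp
  | insert i s hi ih => rw [Finset.sum_insert hi, Finset.prod_insert hi, zpow_add, ih]

theorem mem_H_iff (g : ↥(D.group K)) : (g : GL D.Idx K) ∈ D.diagonalSubgroup K ↔ ∃ c, g = tor C c := by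
  constructor
  · intro hg
    have : D.diagonalSubgroup K ≤ (tor C).range.map (D.group K).subtype := by
      rw [ChevalleyDatum.diagonalSubgroup, Subgroup.closure_le]
      rintro g ⟨r, t, hr, ht, h⟩
      refine ⟨hG C r t, ⟨_, (hG_eq_tor C hr (Units.mk0 t ht)).symm⟩, Units.ext ?_⟩
      rw [h]; exact mat_hG C r t
    obtain ⟨_, ⟨c, rfl⟩, h⟩ := this hg
    exact ⟨c, Subtype.ext h.symm⟩
  · rintro ⟨c, rfl⟩
    exact torU_mem C c

include C in
theorem chi_neg (c : Fin D.rank → Kˣ) {s : ℕ} (hs : s < D.nroots) : chi D c (D.neg s) = (chi D c s)⁻¹ := by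
  rw [chi_linear c (r := s) (s := s) (a := -1) (b := 0) fun i hi => by rw [C.tab.cart_neg i hi s hs]; ring]
  simp

theorem tor_mul_xG (c : Fin D.rank → Kˣ) {s : ℕ} (hs : s < D.nroots) (t : K) :
    tor C c * xG C s t = xG C s (chi D c s * t) * tor C c := by
  apply mat_injective
  rw [map_mul, map_mul, mat_tor, mat_xG, mat_xG]
  refine diagM_mul_x C.tab hs (by rw [chi_neg C c hs]; simp) (fun d hd q hq => ?_) t
  rw [chi_linear c (r := s) (s := d) (a := (q.2 + 1 : ℕ)) (b := 1) fun i hi => by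
    rw [C.tab.cart_ent i hi s hs d hd q hq, one_mul]]
  rw [zpow_natCast, zpow_one, mul_comm]
  simp

theorem tor_conj_xG (c : Fin D.rank → Kˣ) {s : ℕ} (hs : s < D.nroots) (t : K) :
    tor C c * xG C s t * (tor C c)⁻¹ = xG C s (chi D c s * t) := by
  rw [tor_mul_xG C c hs, mul_inv_cancel_right]

include C in
theorem cartan_reflect {i j s : ℕ} (hi : i < D.rank) (hj : j < D.rank) (hs : s < D.nroots) :
    D.cartan j (D.reflectRoot i s) = D.cartan j s - D.cartan i s * D.cartan j (D.simple i) := by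
  have h := (C.sa i hi).cart j hj s hs
  simp only [reflA, sub_mul, ite_mul, one_mul, zero_mul, Finset.sum_sub_distrib, Finset.sum_ite_eq',
    Finset.mem_range, hi, hj, if_true] at h
  rw [C.cart_refl hi hs] at h
  linear_combination -h

include C in
theorem chi_eq_one_of_simple {c : Fin D.rank → Kˣ} (h : ∀ j < D.rank, chi D c (D.simple j) = 1) :
    ∀ s < D.nroots, chi D c s = 1 := by
  refine C.root_induction h fun i hi r hr ih => ?_
  rw [chi_linear c (r := r) (s := D.simple i) (a := 1) (b := -D.cartan i r) fun j hj => by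
    rw [cartan_reflect C hi hj hr]; ring, ih, h i hi]
  simp

theorem tor_eq_one_iff (c : Fin D.rank → Kˣ) : tor C c = 1 ↔ ∀ j < D.rank, chi D c (D.simple j) = 1 := by
  constructor
  · intro h j hj
    have := tor_conj_xG C c (C.tab.simple_lt j hj) (1 : K)
    rw [h, one_mul, inv_one, mul_one, mul_one] at this
    exact Units.ext (xG_injective C (C.tab.simple_lt j hj) this).symm
  · intro h
    apply mat_injective
    rw [mat_tor, map_one, ← diagM_one]
    exact diagM_congr fun s hs => by rw [chi_eq_one_of_simple C h s hs]; rfl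

/-- An endomorphism permuting the root subgroups of the fundamental roots and their negatives by power maps acts on the
torus accordingly. -/
theorem map_tor (σ : ↥(D.group K) →* ↥(D.group K)) (π : Equiv.Perm (Fin D.rank)) (e : Fin D.rank → ℕ)
    (he : ∀ i (t : K), (-t) ^ e i = -t ^ e i)
    (h1 : ∀ (i : Fin D.rank) (t : K), σ (xG C (D.simple i) t) = xG C (D.simple (π i)) (t ^ e i))
    (h2 : ∀ (i : Fin D.rank) (t : K), σ (xG C (D.neg (D.simple i)) t) = xG C (D.neg (D.simple (π i))) (t ^ e i))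
    (c : Fin D.rank → Kˣ) : σ (tor C c) = tor C fun j => c (π.symm j) ^ e (π.symm j) := by
  let τ : (Fin D.rank → Kˣ) →* (Fin D.rank → Kˣ) :=
    { toFun := fun c j => c (π.symm j) ^ e (π.symm j)
      map_one' := by ext j; simp
      map_mul' := fun c d => by ext j; simp [mul_pow] }
  have hn : ∀ (i : Fin D.rank) (t : K), σ (nG C (D.simple i) t) = nG C (D.simple (π i)) (t ^ e i) := by
    intro i t
    rw [nG, map_mul, map_mul, h1, h2, nG, he, inv_pow]
  have : σ.comp (tor C) = (tor C).comp τ := by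
    apply MonoidHom.pi_ext
    intro i a
    have h3 : τ (Pi.mulSingle i a) = Pi.mulSingle (π i) (a ^ e i) := by
      ext j
      obtain ⟨j, rfl⟩ := π.surjective j
      by_cases hj : j = i
      · subst hj; simp [τ]
      · simp [τ, Pi.mulSingle_eq_of_ne hj, Pi.mulSingle_eq_of_ne (π.injective.ne hj)]
    rw [MonoidHom.comp_apply, MonoidHom.comp_apply, h3, tor_mulSingle, tor_mulSingle, hG, map_mul, hn, hn, he, one_pow,
      hG, Units.val_pow_eq_pow_val]
  exact DFunLike.congr_fun this c

end CL.Tw
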