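import Cfsg.Agent.Base
import Cfsg.Agent.Chev.CoxRoots

/-!
The Weyl group of a `ChevalleyDatum`: the Coxeter group of the Coxeter matrix read off the Cartan
integers, acting on the root indices `Fin D.nroots` with `s i • r = D.reflectRoot i r`.
-/

set_option autoImplicit false
set_option linter.unusedSectionVars false
set_option linter.unusedSimpArgs false

namespace CL.Weyl

open Cfsg.Lie CL.Cox

/-- The Coxeter entry attached to the product of the two Cartan integers. -/
def coxEntry (c : ℤ) : ℕ :=
  if c = 0 then 2 else if c = 1 then 3 else if c = 2 then 4 else if c = 3 then 6 else 0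

/-- The Coxeter matrix of a Chevalley datum. -/
def coxMat (D : ChevalleyDatum) : CoxeterMatrix (Fin D.rank) where
  M := Matrix.of fun i j =>
    if i = j then 1 else coxEntry (D.cartan i (D.simple j) * D.cartan j (D.simple i))
  isSymm := by
    ext i j
    by_cases h : i = j
    · simp [h]
    · simp [h, Ne.symm h, mul_comm]
  diagonal := by simp
  off_diagonal := by
    intro i j h
    simp only [Matrix.of_apply, h, if_false, coxEntry]
    split_ifs <;> simp

/-- The Weyl group. -/
abbrev W (D : ChevalleyDatum) : Type := (coxMat D).Group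

/-- The Coxeter system of the Weyl group. -/
abbrev cs (D : ChevalleyDatum) : CoxeterSystem (coxMat D) (W D) := (coxMat D).toCoxeterSystem

/-- The simple reflections. -/
abbrev s (D : ChevalleyDatum) (i : Fin D.rank) : W D := (cs D).simple i

/-- Cartan matrix for the action on the coroot lattice: `s i (h_j) = h_j - cA D i j • h_i`. -/
def cA (D : ChevalleyDatum) : Fin D.rank → Fin D.rank → ℤ := fun i j => D.cartan j (D.simple i)

/-- Coroot coordinates. -/
def crt (D : ChevalleyDatum) (r : ℕ) : Fin D.rank → ℤ := fun i => (D.coroot.getD r #[]).getD i 0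

/-- Weight coordinates of a root: the Cartan integers with the simple coroots. -/
def wt (D : ChevalleyDatum) (r : ℕ) : Fin D.rank → ℤ := fun i => D.cartan i r

/-- The table facts making the datum a root system for its Weyl group. -/
class WeylOK (D : ChevalleyDatum) : Prop where
  cartan : IsCartanFor (coxMat D) (cA D)
  simple_lt : ∀ i < D.rank, D.simple i < D.nroots
  neg_lt : ∀ r < D.nroots, D.neg r < D.nroots
  reflect_lt : ∀ i < D.rank, ∀ r < D.nroots, D.reflectRoot i r < D.nroots
  coroot_size : ∀ r < D.nroots, (D.coroot.getD r #[]).size = D.rank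
  crt_inj : ∀ r < D.nroots, ∀ t < D.nroots, crt D r = crt D t → r = t
  crt_simple : ∀ i : Fin D.rank, crt D (D.simple i) = Pi.single i 1
  crt_neg : ∀ r < D.nroots, crt D (D.neg r) = -crt D r
  crt_reflect : ∀ i : Fin D.rank, ∀ r < D.nroots,
    crt D (D.reflectRoot i r) = refl (cA D) i (crt D r)
  wt_reflect : ∀ i : Fin D.rank, ∀ r < D.nroots,
    wt D (D.reflectRoot i r) = wt D r - wt D r i • cA D i
  pos_or_neg : ∀ r < D.nroots, 0 ≤ crt D r ∨ crt D r ≤ 0
  ne_zero : ∀ r < D.nroots, crt D r ≠ 0
  reduced : ∀ i : Fin D.rank, ∀ r < D.nroots, 0 ≤ crt D r → (∀ j, j ≠ i → crt D r j = 0) →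
    r = D.simple i
  descent : ∀ r < D.nroots, 0 ≤ crt D r → ∃ i, 0 < form (cA D) i (crt D r)

variable (D : ChevalleyDatum) [hD : WeylOK D]

/-- The `i`-th simple root as an element of `Fin D.nroots`. -/
def simpleF (i : Fin D.rank) : Fin D.nroots := ⟨D.simple i, hD.simple_lt i i.2⟩

/-- The negative of a root. -/
def negF (r : Fin D.nroots) : Fin D.nroots := ⟨D.neg r, hD.neg_lt r r.2⟩

/-- The simple reflection on root indices. -/
def reflF (i : Fin D.rank) (r : Fin D.nroots) : Fin D.nroots :=
  ⟨D.reflectRoot i r, hD.reflect_lt i i.2 r r.2⟩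

theorem val_simpleF (i : Fin D.rank) : (simpleF D i : ℕ) = D.simple i := rfl
theorem val_negF (r : Fin D.nroots) : (negF D r : ℕ) = D.neg r := rfl
theorem val_reflF (i : Fin D.rank) (r : Fin D.nroots) : (reflF D i r : ℕ) = D.reflectRoot i r := rfl

theorem crtF_injective : Function.Injective fun r : Fin D.nroots => crt D r :=
  fun r t h => Fin.ext (hD.crt_inj r r.2 t t.2 h)

noncomputable instance instMulActionW : MulAction (W D) (Fin D.nroots) :=
  mkAction (cs D) hD.cartan (crtF_injective D) (rf := reflF D)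
    fun i r => hD.crt_reflect i r r.2

theorem s_smul (i : Fin D.rank) (r : Fin D.nroots) : s D i • r = reflF D i r :=
  mkAction_simple_smul (cs D) hD.cartan (crtF_injective D) (rf := reflF D) _ i r

theorem val_s_smul (i : Fin D.rank) (r : Fin D.nroots) :
    ((s D i • r : Fin D.nroots) : ℕ) = D.reflectRoot i r := by
  rw [s_smul]; rfl

/-- The root system (of coroot coordinates) of the datum. All lemmas of `CL.Cox.RootSys` apply. -/
noncomputable def Φ : RootSys (cs D) (Fin D.nroots) where
  A := cA D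
  cartan := hD.cartan
  root r := crt D r
  wt r := wt D r
  simple := simpleF D
  neg := negF D
  root_inj := crtF_injective D
  root_simple := hD.crt_simple
  root_neg r := hD.crt_neg r r.2
  root_simple_smul i r := by rw [s_smul]; exact hD.crt_reflect i r r.2
  wt_simple i := rfl
  wt_simple_smul i r := by rw [s_smul]; exact hD.wt_reflect i r r.2
  pos_or_neg r := hD.pos_or_neg r r.2
  ne_zero r := hD.ne_zero r r.2
  reduced i r h1 h2 := Fin.ext (hD.reduced i r r.2 h1 h2)
  descent r := hD.descent r r.2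

theorem Φ_A : (Φ D).A = cA D := rfl
theorem Φ_root (r : Fin D.nroots) : (Φ D).root r = crt D r := rfl
theorem Φ_wt (r : Fin D.nroots) : (Φ D).wt r = wt D r := rfl
theorem Φ_simple (i : Fin D.rank) : (Φ D).simple i = simpleF D i := rfl
theorem Φ_neg (r : Fin D.nroots) : (Φ D).neg r = negF D r := rfl

theorem forall_mem_coroot_iff (r : ℕ) (hr : r < D.nroots) (p : ℤ → Prop) :
    (∀ c ∈ (D.coroot.getD r #[]).toList, p c) ↔ ∀ i : Fin D.rank, p (crt D r i) := by
  have hs := hD.coroot_size r hr
  unfold crt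
  generalize D.coroot.getD r #[] = a at hs
  constructor
  · intro h i
    apply h
    have hi : (i : ℕ) < a.size := by rw [hs]; exact i.2
    rw [Array.getD_eq_getD_getElem?, Array.getElem?_eq_getElem hi, Option.getD_some]
    simp
  · intro h c hc
    rw [Array.mem_toList_iff, Array.mem_iff_getElem] at hc
    obtain ⟨i, hi, rfl⟩ := hc
    have := h ⟨i, by rw [← hs]; exact hi⟩
    rwa [Array.getD_eq_getD_getElem?, Array.getElem?_eq_getElem hi, Option.getD_some] at this

theorem isPosRoot_iff (r : Fin D.nroots) : D.IsPosRoot r ↔ (Φ D).Pos r := by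
  rw [ChevalleyDatum.IsPosRoot, forall_mem_coroot_iff D r r.2]
  exact ⟨fun h => h.2, fun h => ⟨r.2, h⟩⟩

theorem isNegRoot_iff (r : Fin D.nroots) : D.IsNegRoot r ↔ ¬ (Φ D).Pos r := by
  rw [ChevalleyDatum.IsNegRoot, forall_mem_coroot_iff D r r.2 (fun c => c ≤ 0),
    RootSys.not_pos_iff]
  exact ⟨fun h => h.2, fun h => ⟨r.2, h⟩⟩

theorem isNegRoot_iff_not_isPosRoot (r : Fin D.nroots) : D.IsNegRoot r ↔ ¬ D.IsPosRoot r := by
  rw [isNegRoot_iff, isPosRoot_iff]

instance instFaithfulSMulW : FaithfulSMul (W D) (Fin D.nroots) := (Φ D).faithfulSMul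

instance instFiniteW : Finite (W D) := (Φ D).finite

theorem smul_negF (w : W D) (r : Fin D.nroots) : w • negF D r = negF D (w • r) :=
  (Φ D).smul_neg w r

theorem negF_negF (r : Fin D.nroots) : negF D (negF D r) = r := (Φ D).neg_neg r

theorem s_smul_simpleF (i : Fin D.rank) : s D i • simpleF D i = negF D (simpleF D i) :=
  (Φ D).simple_smul_simple i

theorem isPosRoot_simpleF (i : Fin D.rank) : D.IsPosRoot (simpleF D i) :=
  (isPosRoot_iff D _).2 ((Φ D).pos_simple i)

theorem isPosRoot_negF_iff (r : Fin D.nroots) : D.IsPosRoot (negF D r) ↔ D.IsNegRoot r := by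
  rw [isPosRoot_iff, isNegRoot_iff]; exact (Φ D).pos_neg_iff r

theorem isNegRoot_negF_iff (r : Fin D.nroots) : D.IsNegRoot (negF D r) ↔ D.IsPosRoot r := by
  rw [isPosRoot_iff, isNegRoot_iff]; exact (Φ D).not_pos_neg_iff r

theorem isPosRoot_s_smul {r : Fin D.nroots} {i : Fin D.rank} (h : D.IsPosRoot r)
    (hr : r ≠ simpleF D i) : D.IsPosRoot (s D i • r : Fin D.nroots) :=
  (isPosRoot_iff D _).2 ((Φ D).pos_simple_smul ((isPosRoot_iff D _).1 h) hr)

theorem isRightDescent_iff (w : W D) (i : Fin D.rank) :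
    (cs D).IsRightDescent w i ↔ D.IsNegRoot (w • simpleF D i : Fin D.nroots) := by
  rw [isNegRoot_iff]; exact (Φ D).isRightDescent_iff w i

theorem isLeftDescent_iff (w : W D) (i : Fin D.rank) :
    (cs D).IsLeftDescent w i ↔ D.IsNegRoot (w⁻¹ • simpleF D i : Fin D.nroots) := by
  rw [isNegRoot_iff]; exact (Φ D).isLeftDescent_iff w i

theorem eq_one_of_isPosRoot {w : W D}
    (h : ∀ i, D.IsPosRoot (w • simpleF D i : Fin D.nroots)) : w = 1 :=
  (Φ D).eq_one_of_pos_simple fun i => (isPosRoot_iff D _).1 (h i)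

theorem exists_smul_simpleF (r : Fin D.nroots) : ∃ (w : W D) (i : Fin D.rank),
    r = w • simpleF D i := (Φ D).exists_smul_simple r

/-- The pairing `⟨r, t^∨⟩ = ∑ i, cartan i r * coroot[t][i]`. -/
theorem Φ_pair (r t : Fin D.nroots) :
    (Φ D).pair r t = ∑ i : Fin D.rank, D.cartan i r * crt D t i := rfl

end CL.Weyl
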