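import Cfsg.Agent.Base
import Cfsg.Agent.Chev.TwMat
import Cfsg.Agent.Chev.WeylDefs

/-!
Subgroups generated by root subgroups in the Chevalley group `↥(D.group K)`: gradings of the module by additive
functions of the roots, normalisation lemmas from the commutator formula.
-/

set_option autoImplicit false

namespace CL.Tw

open Cfsg Cfsg.Lie Cfsg.Lie.ChevalleyDatum CL.ChevM CL.Weyl Matrix

variable {D : ChevalleyDatum} {η : ℕ → ℕ → ℤ} (C : Core D η) {K : Type*} [Field K]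

variable (K) in
/-- The subgroup generated by the root subgroups of a set of roots. -/
def XSg (S : Set (Fin D.nroots)) : Subgroup ↥(D.group K) :=
  Subgroup.closure {g | ∃ r ∈ S, ∃ t : K, g = xG C r t}

theorem xG_mem_XSg {S : Set (Fin D.nroots)} {r : Fin D.nroots} (hr : r ∈ S) (t : K) : xG C r t ∈ XSg C K S :=
  Subgroup.subset_closure ⟨r, hr, t, rfl⟩

theorem xG_mem_XSg' {S : Set (Fin D.nroots)} {r : ℕ} (h : r < D.nroots) (hr : (⟨r, h⟩ : Fin D.nroots) ∈ S) (t : K) :
    xG C r t ∈ XSg C K S := xG_mem_XSg C hr t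

theorem XSg_mono {S T : Set (Fin D.nroots)} (h : S ⊆ T) : XSg C K S ≤ XSg C K T :=
  Subgroup.closure_mono fun _ ⟨r, hr, t, e⟩ => ⟨r, h hr, t, e⟩

theorem XSg_empty : XSg C K ∅ = ⊥ := by
  rw [XSg, Subgroup.closure_eq_bot_iff]
  rintro _ ⟨r, hr, -⟩
  exact hr.elim

theorem XSg_le_iff {S : Set (Fin D.nroots)} {Q : Subgroup ↥(D.group K)} :
    XSg C K S ≤ Q ↔ ∀ r ∈ S, ∀ t : K, xG C r t ∈ Q := by
  rw [XSg, Subgroup.closure_le]
  exact ⟨fun h r hr t => h ⟨r, hr, t, rfl⟩, fun h _ ⟨r, hr, t, e⟩ => e ▸ h r hr t⟩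

theorem XSg_induction {S : Set (Fin D.nroots)} {p : ↥(D.group K) → Prop} (h1 : p 1)
    (hx : ∀ r ∈ S, ∀ (t : K) (g : ↥(D.group K)), g ∈ XSg C K S → p g → p (xG C r t * g)) {g : ↥(D.group K)}
    (hg : g ∈ XSg C K S) : p g := by
  induction hg using Subgroup.closure_induction_left with
  | one => exact h1
  | mul_left x hx' y hy ih =>
    obtain ⟨r, hr, t, rfl⟩ := hx'
    exact hx r hr t y hy ih
  | inv_mul_cancel x hx' y hy ih =>
    obtain ⟨r, hr, t, rfl⟩ := hx'
    rw [xG_inv]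
    exact hx r hr _ y hy ih

theorem map_mem_XSg {σ : ↥(D.group K) →* ↥(D.group K)} {S T : Set (Fin D.nroots)}
    (h : ∀ r ∈ S, ∀ t : K, σ (xG C r t) ∈ XSg C K T) {g : ↥(D.group K)} (hg : g ∈ XSg C K S) : σ g ∈ XSg C K T :=
  (XSg_le_iff C (Q := (XSg C K T).comap σ)).2 h hg

theorem conj_mem_XSg {n : ↥(D.group K)} {S T : Set (Fin D.nroots)}
    (h : ∀ r ∈ S, ∀ t : K, n * xG C r t * n⁻¹ ∈ XSg C K T) {g : ↥(D.group K)} (hg : g ∈ XSg C K S) :
    n * g * n⁻¹ ∈ XSg C K T :=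
  map_mem_XSg C (σ := (MulAut.conj n).toMonoidHom) h hg

theorem mem_XSg_singleton {r : Fin D.nroots} {g : ↥(D.group K)} : g ∈ XSg C K {r} ↔ ∃ t, g = xG C r t := by
  constructor
  · intro hg
    refine XSg_induction C (p := fun g => ∃ t, g = xG C r t) ⟨0, (xG_zero C _).symm⟩ ?_ hg
    rintro s rfl t _ - ⟨u, rfl⟩
    exact ⟨t + u, xG_add C _ t u⟩
  · rintro ⟨t, rfl⟩
    exact xG_mem_XSg C (Set.mem_singleton r) t

theorem XSg_univ : XSg C K Set.univ = ⊤ := by
  rw [← closure_xG C, XSg]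
  congr 1
  ext g
  exact ⟨fun ⟨r, _, t, e⟩ => ⟨r, r.2, t, e⟩, fun ⟨r, hr, t, e⟩ => ⟨⟨r, hr⟩, trivial, t, e⟩⟩

/-! ### Weights of the terms of the commutator formula -/

include C in
theorem wt_neg {r : ℕ} (hr : r < D.nroots) : wt D (D.neg r) = -wt D r :=
  funext fun i => C.tab.cart_neg i i.2 r hr

include C in
theorem wt_chainRoot {r s i k : ℕ} (hr : r < D.nroots) (hs : s < D.nroots) (h : D.chainRoot r s (i + 1) = some k) :
    k < D.nroots ∧ wt D k = (i + 1) • wt D r + wt D s := by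
  rw [chainRoot, Nat.add_sub_cancel, Option.map_eq_some_iff] at h
  obtain ⟨q, hq, rfl⟩ := h
  refine ⟨C.tab.ent_lt r hr s hs q (List.mem_of_getElem? hq), funext fun j => ?_⟩
  have := C.tab.cart_ent j j.2 r hr s hs (q, i) (List.mem_zipIdx_iff_getElem?.2 hq)
  simpa [wt] using this

include C in
theorem wt_commTerms {r s : ℕ} (hr : r < D.nroots) (hs : s < D.nroots) :
    ∀ c ∈ D.commTerms r s, c.1 < D.nroots ∧ 0 < c.2.2.1 ∧ 0 < c.2.2.2 ∧
      wt D c.1 = c.2.2.1 • wt D r + c.2.2.2 • wt D s := by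
  intro c hc
  simp only [commTerms, List.mem_filterMap, List.mem_cons, List.not_mem_nil, or_false, Option.map_eq_some_iff] at hc
  obtain ⟨a, ha, k, hk, rfl⟩ := hc
  rcases ha with rfl | rfl | rfl | rfl | rfl | rfl | rfl
  · obtain ⟨h1, h2⟩ := wt_chainRoot C hr hs hk
    exact ⟨h1, by simp, by simp, by simp [h2]⟩
  · obtain ⟨h1, h2⟩ := wt_chainRoot C hr hs hk
    exact ⟨h1, by simp, by simp, by simp [h2]⟩
  · obtain ⟨h1, h2⟩ := wt_chainRoot C hs hr hk
    exact ⟨h1, by simp, by simp, by simp [h2, add_comm]⟩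
  · obtain ⟨h1, h2⟩ := wt_chainRoot C hr hs hk
    exact ⟨h1, by simp, by simp, by simp [h2]⟩
  · obtain ⟨h1, h2⟩ := wt_chainRoot C hs hr hk
    exact ⟨h1, by simp, by simp, by simp [h2, add_comm]⟩
  · obtain ⟨m, hm, hk⟩ := Option.bind_eq_some_iff.1 hk
    obtain ⟨h1, h2⟩ := wt_chainRoot C hr hs hm
    obtain ⟨h3, h4⟩ := wt_chainRoot C h1 hs hk
    refine ⟨h3, by simp, by simp, ?_⟩
    simp only [h4, h2]; module
  · obtain ⟨m, hm, hk⟩ := Option.bind_eq_some_iff.1 hk
    obtain ⟨h1, h2⟩ := wt_chainRoot C hs hr hm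
    obtain ⟨h3, h4⟩ := wt_chainRoot C h1 hr hk
    refine ⟨h3, by simp, by simp, ?_⟩
    simp only [h4, h2]; module

/-- `X_r` normalises `X_S` if `S` contains the roots `i r + j s`, `s ∈ S`. -/
theorem xG_conj_mem {S : Set (Fin D.nroots)} {r : Fin D.nroots} (hn : ∀ s ∈ S, (s : ℕ) ≠ D.neg r)
    (hS : ∀ s ∈ S, ∀ (k : Fin D.nroots) (i j : ℕ), 0 < i → 0 < j → wt D k = i • wt D r + j • wt D s → k ∈ S)
    (t : K) {g : ↥(D.group K)} (hg : g ∈ XSg C K S) : xG C r t * g * (xG C r t)⁻¹ ∈ XSg C K S := by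
  refine conj_mem_XSg C (fun s hs u => ?_) hg
  by_cases h : s = r
  · subst h
    rw [xG_inv, xG_add, xG_add]
    exact xG_mem_XSg C hs _
  · have := xG_comm C r.2 s.2 (fun e => h (Fin.ext e)) (hn s hs) (-t) u
    rw [xG_inv, mul_assoc, this, ← mul_assoc, ← mul_assoc, xG_add, add_neg_cancel, xG_zero, one_mul]
    refine mul_mem (xG_mem_XSg C hs _) (list_prod_mem fun y hy => ?_)
    simp only [commWord, List.map_map, List.mem_map, Function.comp] at hy
    obtain ⟨c, hc, rfl⟩ := hy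
    obtain ⟨h1, h2, h3, h4⟩ := wt_commTerms C r.2 s.2 c hc
    exact xG_mem_XSg' C h1 (hS s hs ⟨c.1, h1⟩ _ _ h2 h3 h4) _

theorem conj_mem_of_norm {S T : Set (Fin D.nroots)}
    (h : ∀ r ∈ T, ∀ (t : K), ∀ g ∈ XSg C K S, xG C r t * g * (xG C r t)⁻¹ ∈ XSg C K S)
    {u : ↥(D.group K)} (hu : u ∈ XSg C K T) : ∀ g ∈ XSg C K S, u * g * u⁻¹ ∈ XSg C K S := by
  refine XSg_induction C (p := fun u => ∀ g ∈ XSg C K S, u * g * u⁻¹ ∈ XSg C K S) (by simp) ?_ hu
  intro r hr t y _ ih g hg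
  have := h r hr t _ (ih g hg)
  rwa [show xG C r t * (y * g * y⁻¹) * (xG C r t)⁻¹ = xG C r t * y * g * (xG C r t * y)⁻¹ by group] at this

/-- Splitting off a root subgroup normalising the rest. -/
theorem exists_split {S T : Set (Fin D.nroots)} {p : Fin D.nroots} (hT : ∀ r ∈ T, r = p ∨ r ∈ S)
    (h : ∀ (t : K), ∀ g ∈ XSg C K S, xG C p t * g * (xG C p t)⁻¹ ∈ XSg C K S)
    {g : ↥(D.group K)} (hg : g ∈ XSg C K T) : ∃ a ∈ XSg C K S, ∃ t, g = a * xG C p t := by
  refine XSg_induction C (p := fun g => ∃ a ∈ XSg C K S, ∃ t, g = a * xG C p t)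
    ⟨1, one_mem _, 0, by rw [xG_zero, one_mul]⟩ ?_ hg
  rintro r hr t _ - ⟨a, ha, u, rfl⟩
  rcases hT r hr with rfl | hr
  · exact ⟨_, h t a ha, t + u, by rw [← xG_add]; group⟩
  · exact ⟨_, mul_mem (xG_mem_XSg C hr t) ha, u, by group⟩

theorem exists_split' {S T : Set (Fin D.nroots)} {p : Fin D.nroots} (hT : ∀ r ∈ T, r = p ∨ r ∈ S)
    (h : ∀ (t : K), ∀ g ∈ XSg C K S, xG C p t * g * (xG C p t)⁻¹ ∈ XSg C K S)
    {g : ↥(D.group K)} (hg : g ∈ XSg C K T) : ∃ t, ∃ a ∈ XSg C K S, g = xG C p t * a := by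
  obtain ⟨a, ha, t, rfl⟩ := exists_split C hT h hg
  exact ⟨t, _, h (-t) a ha, by rw [← xG_inv]; group⟩

/-! ### Gradings -/

variable (D) in
/-- The degree of a basis vector with respect to an additive function of the weights. -/
def deg (L : (Fin D.rank → ℤ) →+ ℤ) : D.Idx → ℤ := Sum.elim (fun _ => 0) fun s => L (wt D s)

include C in
theorem x_entry (L : (Fin D.rank → ℤ) →+ ℤ) (r : Fin D.nroots) (t : K) (i j : D.Idx)
    (h : D.x K r t i j ≠ (1 : Matrix D.Idx D.Idx K) i j) :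
    ∃ k : ℕ, 0 < k ∧ deg D L i = deg D L j + k * L (wt D r) := by
  rw [x_of_lt r.2] at h
  rcases j with j | s
  · rcases i with i | u
    · exact absurd (by simp [xMat, one_apply]) h
    · by_cases hu : u = r
      · exact ⟨1, one_pos, by simp [deg, hu]⟩
      · exact absurd (by simp [xMat, hu]) h
  · by_cases h1 : s = r
    · subst h1
      rcases i with i | u
      · exact absurd (by simp [xMat]) h
      · exact absurd (by simp [xMat, one_apply]) h
    by_cases h2 : (s : ℕ) = D.neg r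
    · have h3 : L (wt D s) = -L (wt D r) := by rw [h2, wt_neg C r.2, map_neg]
      have h2' : (s : ℕ) = D.negIdx.getD r 0 := h2
      rcases i with i | u
      · exact ⟨1, one_pos, by simp [deg, h3]⟩
      · by_cases hu : u = r
        · exact ⟨2, two_pos, by simp [deg, h3, hu]; ring⟩
        · refine absurd ?_ h
          simp only [xMat, of_apply, Fin.eta, if_neg h1, if_pos h2', if_neg hu, one_apply, Sum.inr.injEq]
    · have h2' : ¬ (s : ℕ) = D.negIdx.getD r 0 := h2
      rcases i with i | u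
      · refine absurd ?_ h
        simp only [xMat, of_apply, Fin.eta, if_neg h1, if_neg h2', one_apply]
        simp
      · simp only [xMat, of_apply, Fin.eta, if_neg h1, if_neg h2', one_apply, Sum.inr.injEq, C.tab.uniq r s u,
          ne_eq, add_eq_left] at h
        obtain ⟨q, hq⟩ : ∃ q, q ∈ ((D.chainEntry r s).zipIdx).filter (fun q => decide (q.1.1 = (u : ℕ))) := by
          by_contra hc
          rw [List.eq_nil_iff_forall_not_mem.2 (not_exists.1 hc)] at h
          exact h rfl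
        rw [List.mem_filter, decide_eq_true_iff] at hq
        refine ⟨q.2 + 1, by omega, ?_⟩
        have : wt D u = (q.2 + 1) • wt D r + wt D s := funext fun j => by
          have := C.tab.cart_ent j j.2 r r.2 s s.2 q hq.1
          rw [hq.2] at this
          simpa [wt] using this
        simp only [deg, Sum.elim_inr]
        rw [this, map_add, map_nsmul, nsmul_eq_mul, add_comm]

/-- `X_{f > 0} ∩ H X_{f ≤ 0} = 1`. -/
theorem eq_one_of_grading (L : (Fin D.rank → ℤ) →+ ℤ) {S T : Set (Fin D.nroots)} (hS : ∀ r ∈ S, 0 < L (wt D r))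
    (hT : ∀ r ∈ T, L (wt D r) ≤ 0) {g : ↥(D.group K)} (hg : g ∈ XSg C K S)
    (hg' : g ∈ (tor C).range ⊔ XSg C K T) : g = 1 := by
  have h1 : ∀ i j, deg D L i ≤ deg D L j → mat g i j = (1 : Matrix D.Idx D.Idx K) i j := by
    refine XSg_induction C
      (p := fun g => ∀ i j, deg D L i ≤ deg D L j → mat g i j = (1 : Matrix D.Idx D.Idx K) i j)
      (fun i j _ => by rw [map_one]) ?_ hg
    intro r hr t y _ ih i j hij
    rw [map_mul, mat_xG, mul_apply, ← ih i j hij, ← one_mul (mat y), mul_apply, one_mul]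
    refine Finset.sum_congr rfl fun k _ => ?_
    by_cases h : D.x K r t i k = (1 : Matrix D.Idx D.Idx K) i k
    · rw [h]
    · obtain ⟨m, hm, e⟩ := x_entry C L r t i k h
      have : 0 < (m : ℤ) * L (wt D r) := mul_pos (by exact_mod_cast hm) (hS r hr)
      rw [ih k j (by omega), one_apply_ne (i := k) (j := j) (by rintro rfl; omega), mul_zero, mul_zero]
  have h2 : (mat g).BlockTriangular (deg D L) := by
    let Q : Submonoid ↥(D.group K) :=
      { carrier := {g | (mat g).BlockTriangular (deg D L)}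
        mul_mem' := fun {a b} ha hb => by
          change (mat (a * b)).BlockTriangular _
          rw [map_mul]; exact BlockTriangular.mul ha hb
        one_mem' := by
          change (mat (1 : ↥(D.group K))).BlockTriangular _
          rw [map_one]; exact blockTriangular_one }
    have hx : ∀ r ∈ T, ∀ t : K, xG C r t ∈ Q := by
      intro r hr t i j hij
      by_contra h
      have h' : D.x K r t i j ≠ (1 : Matrix D.Idx D.Idx K) i j := by
        rwa [one_apply_ne (by rintro rfl; exact lt_irrefl _ hij)]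
      obtain ⟨m, hm, e⟩ := x_entry C L r t i j h'
      have : (m : ℤ) * L (wt D r) ≤ 0 := mul_nonpos_of_nonneg_of_nonpos (by positivity) (hT r hr)
      omega
    have ht : ∀ c, tor C c ∈ Q := fun c => by
      change (mat (tor C c)).BlockTriangular _
      rw [mat_tor]
      exact blockTriangular_diagonal _
    have : (tor C).range ⊔ XSg C K T ≤
        { carrier := {g | g ∈ Q ∧ g⁻¹ ∈ Q}
          mul_mem' := fun ha hb => ⟨mul_mem ha.1 hb.1, by rw [_root_.mul_inv_rev]; exact mul_mem hb.2 ha.2⟩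
          one_mem' := ⟨one_mem _, by rw [inv_one]; exact one_mem _⟩
          inv_mem' := fun ha => ⟨ha.2, by rw [inv_inv]; exact ha.1⟩ } := by
      refine sup_le ?_ ((XSg_le_iff C).2 fun r hr t => ⟨hx r hr t, by rw [xG_inv]; exact hx r hr _⟩)
      rintro _ ⟨c, rfl⟩
      exact ⟨ht c, by rw [← map_inv]; exact ht _⟩
    exact (this hg').1
  apply mat_injective
  rw [map_one]
  ext i j
  by_cases h : deg D L i ≤ deg D L j
  · exact h1 i j h
  · rw [h2 (not_le.1 h), one_apply_ne (by rintro rfl; exact h le_rfl)]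

theorem eq_one_of_grading' (L : (Fin D.rank → ℤ) →+ ℤ) {S T : Set (Fin D.nroots)} (hS : ∀ r ∈ S, 0 < L (wt D r))
    (hT : ∀ r ∈ T, L (wt D r) ≤ 0) {g : ↥(D.group K)} (hg : g ∈ XSg C K S) (hg' : g ∈ XSg C K T) : g = 1 :=
  eq_one_of_grading C L hS hT hg (Subgroup.mem_sup_right hg')

/-- Cancelling a first factor: uniqueness of normal forms. -/
theorem split_unique (L : (Fin D.rank → ℤ) →+ ℤ) {S : Set (Fin D.nroots)} {p : Fin D.nroots}
    (hS : ∀ r ∈ S, 0 < L (wt D r)) (hp : L (wt D p) ≤ 0) {t t' : K} {a a' : ↥(D.group K)} (ha : a ∈ XSg C K S)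
    (ha' : a' ∈ XSg C K S) (h : xG C p t * a = xG C p t' * a') : t = t' ∧ a = a' := by
  have h1 : a' * a⁻¹ = xG C p (-t' + t) := by
    rw [← xG_add, ← xG_inv]
    calc a' * a⁻¹ = (xG C p t')⁻¹ * (xG C p t' * a') * a⁻¹ := by group
      _ = _ := by rw [← h]; group
  have h2 : a' * a⁻¹ = 1 :=
    eq_one_of_grading' C L (T := {p}) hS (by simpa using hp) (mul_mem ha' (inv_mem ha))
      (by rw [h1]; exact xG_mem_XSg C (Set.mem_singleton p) _)
  rw [h2, eq_comm, xG_eq_one_iff C p.2] at h1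
  exact ⟨by linear_combination h1, (mul_inv_eq_one.1 h2).symm⟩

end CL.Tw
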