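import Cfsg.Agent.Base
import Cfsg.Agent.Chev.TwGrade
import Cfsg.Agent.Chev.CoxInv

/-!
The monomial subgroup of the Chevalley group `↥(D.group K)` and the Weyl group: `Rep C n w`.
-/

set_option autoImplicit false

namespace CL.Tw

open Cfsg Cfsg.Lie Cfsg.Lie.ChevalleyDatum CL.ChevM CL.Weyl CL.Cox

variable {D : ChevalleyDatum} {η : ℕ → ℕ → ℤ} (C : Core D η) {K : Type*} [Field K]

variable (K) in
/-- The element `n_{p_i}(1)`. -/
def nS (i : Fin D.rank) : ↥(D.group K) := nG C (D.simple i) 1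

variable (K) in
/-- The product of the `n_{p_i}(1)` along a word. -/
def nW (l : List (Fin D.rank)) : ↥(D.group K) := (l.map (nS C K)).prod

theorem nW_nil : nW C K [] = 1 := rfl

theorem nW_cons (i : Fin D.rank) (l : List (Fin D.rank)) : nW C K (i :: l) = nS C K i * nW C K l := by
  simp [nW]

theorem nW_append (l l' : List (Fin D.rank)) : nW C K (l ++ l') = nW C K l * nW C K l' := by simp [nW]

theorem nG_mul_nG_neg (r : ℕ) (t : K) : nG C r t * nG C r (-t) = 1 :=
  mat_injective (by rw [map_mul, mat_nG, mat_nG, map_one]; exact C.nMat_mul_nMat_neg r t)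

theorem nG_inv (r : ℕ) (t : K) : (nG C r t)⁻¹ = nG C r (-t) := inv_eq_of_mul_eq_one_right (nG_mul_nG_neg C r t)

theorem hG_mem {r : ℕ} (hr : r < D.nroots) {t : K} (ht : t ≠ 0) : hG C r t ∈ (tor C).range :=
  ⟨_, (hG_eq_tor C hr (Units.mk0 t ht)).symm⟩

theorem nS_inv (i : Fin D.rank) : (nS C K i)⁻¹ = hG C (D.simple i) (-1) * nS C K i := by
  rw [nS, nG_inv, nG_eq_hG_mul]

theorem nS_sq (i : Fin D.rank) : nS C K i * nS C K i = (hG C (D.simple i) (-1))⁻¹ := by
  rw [hG, mul_inv_rev, nG_inv, neg_neg, nS]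

theorem nS_conj_tor (i : Fin D.rank) {h : ↥(D.group K)} (hh : h ∈ (tor C).range) :
    nS C K i * h * (nS C K i)⁻¹ ∈ (tor C).range := by
  obtain ⟨c, rfl⟩ := hh
  induction c using Pi.mulSingle_induction with
  | one => simp
  | mul f g hf hg =>
    have := mul_mem hf hg
    rwa [map_mul, show ∀ n a b : ↥(D.group K), n * (a * b) * n⁻¹ = n * a * n⁻¹ * (n * b * n⁻¹) from
      fun n a b => by group]
  | mulSingle j a =>
    have hj := C.tab.simple_lt j j.2
    have : nS C K i * hG C (D.simple j) (a : K) = hG C (D.reflectRoot i (D.simple j)) (a : K) * nS C K i :=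
      mat_injective (by
        rw [map_mul, map_mul, nS, mat_nG, mat_hG, mat_hG]; exact C.nMat_mul_hMat i.2 hj a.ne_zero)
    rw [tor_mulSingle, this, mul_inv_cancel_right]
    exact hG_mem C (C.refl_lt i.2 hj) a.ne_zero

theorem nW_conj_tor (l : List (Fin D.rank)) {h : ↥(D.group K)} (hh : h ∈ (tor C).range) :
    nW C K l * h * (nW C K l)⁻¹ ∈ (tor C).range := by
  induction l with
  | nil => simpa [nW_nil] using hh
  | cons i l ih =>
    have := nS_conj_tor C i ih
    rwa [nW_cons, show ∀ a b : ↥(D.group K), a * b * h * (a * b)⁻¹ = a * (b * h * b⁻¹) * a⁻¹ from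
      fun a b => by group]

/-- `n` represents `w`. -/
def Rep (n : ↥(D.group K)) (w : W D) : Prop :=
  ∃ h ∈ (tor C).range, ∃ l : List (Fin D.rank), n = h * nW C K l ∧ w = (cs D).wordProd l

theorem rep_of_mem_H {h : ↥(D.group K)} (hh : h ∈ (tor C).range) : Rep C h 1 :=
  ⟨h, hh, [], by rw [nW_nil, mul_one], rfl⟩

theorem rep_one : Rep C (1 : ↥(D.group K)) 1 := rep_of_mem_H C (one_mem _)

theorem rep_nW (l : List (Fin D.rank)) : Rep C (nW C K l) ((cs D).wordProd l) :=
  ⟨1, one_mem _, l, (one_mul _).symm, rfl⟩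

theorem rep_nS (i : Fin D.rank) : Rep C (nS C K i) (s D i) :=
  ⟨1, one_mem _, [i], by simp [nW], ((cs D).wordProd_singleton i).symm⟩

theorem Rep.mul {C : Core D η} {n n' : ↥(D.group K)} {w w' : W D} (h : Rep C n w) (h' : Rep C n' w') :
    Rep C (n * n') (w * w') := by
  obtain ⟨a, ha, l, rfl, rfl⟩ := h
  obtain ⟨b, hb, l', rfl, rfl⟩ := h'
  exact ⟨a * (nW C K l * b * (nW C K l)⁻¹), mul_mem ha (nW_conj_tor C l hb), l ++ l',
    by rw [nW_append]; group, by rw [CoxeterSystem.wordProd_append]⟩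

theorem rep_nS_inv (i : Fin D.rank) : Rep C (nS C K i)⁻¹ (s D i) := by
  rw [nS_inv, ← one_mul (s D i)]
  exact (rep_of_mem_H C (hG_mem C (C.tab.simple_lt i i.2) (by simp))).mul (rep_nS C i)

theorem Rep.inv {C : Core D η} {n : ↥(D.group K)} {w : W D} (h : Rep C n w) : Rep C n⁻¹ w⁻¹ := by
  obtain ⟨a, ha, l, rfl, rfl⟩ := h
  rw [mul_inv_rev, ← mul_one ((cs D).wordProd l)⁻¹]
  refine Rep.mul ?_ (rep_of_mem_H C (inv_mem ha))
  induction l with
  | nil => simpa [nW_nil] using rep_one C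
  | cons i l ih =>
    rw [nW_cons, CoxeterSystem.wordProd_cons, mul_inv_rev, mul_inv_rev, CoxeterSystem.inv_simple]
    exact ih.mul (rep_nS_inv C i)

theorem rep_surj (w : W D) : ∃ n : ↥(D.group K), Rep C n w := by
  obtain ⟨l, rfl⟩ := (cs D).wordProd_surjective w
  exact ⟨_, rep_nW C l⟩

theorem Rep.conj_tor {C : Core D η} {n h : ↥(D.group K)} {w : W D} (hn : Rep C n w) (hh : h ∈ (tor C).range) :
    n * h * n⁻¹ ∈ (tor C).range := by
  obtain ⟨a, ha, l, rfl, rfl⟩ := hn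
  have := mul_mem (mul_mem ha (nW_conj_tor C l hh)) (inv_mem ha)
  rwa [show ∀ b : ↥(D.group K), a * b * h * (a * b)⁻¹ = a * (b * h * b⁻¹) * a⁻¹ from fun b => by group]

variable [WeylOK D]

/-- Conjugation of root elements by elements of `N`. -/
theorem Rep.exists_conj {C : Core D η} {n : ↥(D.group K)} {w : W D} (hn : Rep C n w) (r : Fin D.nroots) :
    ∃ a : Kˣ, (∀ t : K, n * xG C r t * n⁻¹ = xG C (w • r : Fin D.nroots) (a * t)) ∧
      ∀ t : K, n * xG C (D.neg r) t * n⁻¹ = xG C (D.neg (w • r : Fin D.nroots)) ((a⁻¹ : Kˣ) * t) := by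
  obtain ⟨_, ⟨c, rfl⟩, l, rfl, rfl⟩ := hn
  suffices H : ∃ a : Kˣ, (∀ t : K, nW C K l * xG C r t * (nW C K l)⁻¹ =
      xG C ((cs D).wordProd l • r : Fin D.nroots) (a * t)) ∧ ∀ t : K, nW C K l * xG C (D.neg r) t * (nW C K l)⁻¹ =
        xG C (D.neg ((cs D).wordProd l • r : Fin D.nroots)) ((a⁻¹ : Kˣ) * t) by
    obtain ⟨a, h1, h2⟩ := H
    have e : ∀ a b y : ↥(D.group K), a * b * y * (a * b)⁻¹ = a * (b * y * b⁻¹) * a⁻¹ := fun a b y => by group
    have hr := ((cs D).wordProd l • r : Fin D.nroots).2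
    refine ⟨chi D c ((cs D).wordProd l • r : Fin D.nroots) * a, fun t => ?_, fun t => ?_⟩
    · rw [e, h1, tor_conj_xG C c hr, Units.val_mul, mul_assoc]
    · rw [e, h2, tor_conj_xG C c (C.tab.neg_lt _ hr), chi_neg C c hr, mul_inv, Units.val_mul, mul_assoc]
  induction l with
  | nil => exact ⟨1, by simp [nW_nil], by simp [nW_nil]⟩
  | cons i l ih =>
    obtain ⟨a, h1, h2⟩ := ih
    have e : ∀ a b y : ↥(D.group K), a * b * y * (a * b)⁻¹ = a * (b * y * b⁻¹) * a⁻¹ := fun a b y => by group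
    set r' : Fin D.nroots := (cs D).wordProd l • r with hr'
    have sa := C.sa i i.2
    have hb : (η i r' : K) * η i r' = 1 := sa.sq' r'.2
    refine ⟨⟨η i r', η i r', hb, hb⟩ * a, fun t => ?_, fun t => ?_⟩
    · rw [nW_cons, e, h1, nS, nG_simple_mul_xG C i.2 r'.2, mul_inv_cancel_right, CoxeterSystem.wordProd_cons,
        mul_smul, val_s_smul, Units.val_mul, mul_assoc]
    · rw [nW_cons, e, h2, nS, nG_simple_mul_xG C i.2 (C.tab.neg_lt _ r'.2), mul_inv_cancel_right,
        CoxeterSystem.wordProd_cons, mul_smul, val_s_smul, sa.neg _ r'.2, sa.sgn_neg _ r'.2, mul_inv, Units.val_mul,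
        mul_assoc]
      rfl

theorem Rep.conj_xG_mem {C : Core D η} {n : ↥(D.group K)} {w : W D} (hn : Rep C n w) {T : Set (Fin D.nroots)}
    {r : Fin D.nroots} (hr : w • r ∈ T) (t : K) : n * xG C r t * n⁻¹ ∈ XSg C K T := by
  obtain ⟨a, h, -⟩ := hn.exists_conj r
  rw [h]; exact xG_mem_XSg C hr _

theorem Rep.conj {C : Core D η} {n : ↥(D.group K)} {w : W D} (hn : Rep C n w) {S T : Set (Fin D.nroots)}
    (h : ∀ r ∈ S, w • r ∈ T) {g : ↥(D.group K)} (hg : g ∈ XSg C K S) : n * g * n⁻¹ ∈ XSg C K T :=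
  conj_mem_XSg C (fun r hr t => hn.conj_xG_mem (h r hr) t) hg

theorem Rep.conj_nG {C : Core D η} {n : ↥(D.group K)} {w : W D} (hn : Rep C n w) (r : Fin D.nroots) :
    ∃ a : Kˣ, ∀ t : K, n * nG C r t * n⁻¹ = nG C (w • r : Fin D.nroots) (a * t) := by
  obtain ⟨a, h1, h2⟩ := hn.exists_conj r
  refine ⟨a, fun t => ?_⟩
  rw [nG, nG, ← h1, mul_inv, ← mul_neg, ← Units.val_inv_eq_inv_val, ← h2]
  group

omit [WeylOK D] in
theorem rep_nG_simple (i : Fin D.rank) {t : K} (ht : t ≠ 0) : Rep C (nG C (D.simple i) t) (s D i) := by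
  rw [nG_eq_hG_mul, ← one_mul (s D i)]
  exact (rep_of_mem_H C (hG_mem C (C.tab.simple_lt i i.2) ht)).mul (rep_nS C i)

theorem rep_nG (r : Fin D.nroots) {t : K} (ht : t ≠ 0) : Rep C (nG C r t) ((Φ D).reflection r) := by
  obtain ⟨w, i, rfl⟩ := (Φ D).exists_smul_simple r
  obtain ⟨n, hn⟩ := rep_surj C (K := K) w
  obtain ⟨a, ha⟩ := hn.conj_nG ((Φ D).simple i)
  rw [(Φ D).reflection_smul, (Φ D).reflection_simple, show t = a * ((a⁻¹ : Kˣ) * t) by simp, ← ha]
  exact (hn.mul (rep_nG_simple C i (by simpa using ht))).mul hn.inv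

theorem mem_N_iff (n : ↥(D.group K)) : (n : GL D.Idx K) ∈ D.monomialSubgroup K ↔ ∃ w, Rep C n w := by
  constructor
  · intro hn
    let Q : Subgroup ↥(D.group K) :=
      { carrier := {n | ∃ w, Rep C n w}
        mul_mem' := fun ⟨_, h⟩ ⟨_, h'⟩ => ⟨_, h.mul h'⟩
        one_mem' := ⟨1, rep_one C⟩
        inv_mem' := fun ⟨_, h⟩ => ⟨_, h.inv⟩ }
    have : D.monomialSubgroup K ≤ Q.map (D.group K).subtype := by
      refine sup_le (fun g hg => ?_) ((Subgroup.closure_le _).2 ?_)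
      · obtain ⟨c, hc⟩ := (mem_H_iff C ⟨g, diagonalSubgroup_le C hg⟩).1 hg
        exact ⟨tor C c, ⟨1, rep_of_mem_H C ⟨c, rfl⟩⟩, by rw [← hc]; rfl⟩
      · rintro g ⟨r, hr, h⟩
        exact ⟨nG C r 1, ⟨_, rep_nG C ⟨r, hr⟩ one_ne_zero⟩, Units.ext (by rw [h]; exact mat_nG C r 1)⟩
    obtain ⟨m, hm, e⟩ := this hn
    rwa [← Subtype.ext e]
  · rintro ⟨_, _, ⟨c, rfl⟩, l, rfl, rfl⟩
    refine mul_mem (Subgroup.mem_sup_left ((mem_H_iff C _).2 ⟨c, rfl⟩)) (Subgroup.mem_sup_right ?_)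
    induction l with
    | nil => exact one_mem _
    | cons i l ih =>
      rw [nW_cons]
      exact mul_mem (Subgroup.subset_closure ⟨_, C.tab.simple_lt i i.2, mat_nG C _ _⟩) ih

/-- The exchange condition in `N`. -/
theorem exchange (i : Fin D.rank) (l : List (Fin D.rank))
    (h : ¬ (Φ D).Pos ((cs D).wordProd l • (Φ D).simple i)) :
    ∃ l' : List (Fin D.rank), l'.length < l.length ∧ (cs D).wordProd l * s D i = (cs D).wordProd l' ∧
      nW C K l * nS C K i * (nW C K l')⁻¹ ∈ (tor C).range := by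
  induction l with
  | nil => exact absurd (by simpa using (Φ D).pos_simple i) h
  | cons j l ih =>
    by_cases h1 : (Φ D).Pos ((cs D).wordProd l • (Φ D).simple i)
    · rw [CoxeterSystem.wordProd_cons, mul_smul, (Φ D).not_pos_simple_smul_iff h1] at h
      refine ⟨l, by simp, ?_, ?_⟩
      · rw [CoxeterSystem.wordProd_cons, ← (Φ D).conj_simple_of_smul_eq h]
        rw [mul_assoc, mul_assoc, inv_mul_cancel_left, mul_assoc, (cs D).simple_mul_simple_self, mul_one]
      · obtain ⟨a, ha⟩ := (rep_nW C (K := K) l).conj_nG ((Φ D).simple i)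
        have h2 := ha 1
        rw [h, mul_one] at h2
        have h3 : nW C K l * nS C K i * (nW C K l)⁻¹ = nG C (D.simple j) (a : K) := h2
        have hj := C.tab.simple_lt j j.2
        rw [nW_cons, mul_assoc, mul_assoc, ← mul_assoc (nW C K l), h3, nG_eq_hG_mul]
        have h4 : nS C K j * (hG C (D.simple j) (a : K) * nG C (D.simple j) 1) =
            nS C K j * hG C (D.simple j) (a : K) * (nS C K j)⁻¹ * (hG C (D.simple j) (-1))⁻¹ := by
          rw [← nS_sq, nS]; group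
        rw [h4]
        exact mul_mem (nS_conj_tor C j (hG_mem C hj a.ne_zero)) (inv_mem (hG_mem C hj (by simp)))
    · obtain ⟨l', h2, h3, h4⟩ := ih h1
      refine ⟨j :: l', by simpa using h2, by
        rw [CoxeterSystem.wordProd_cons, CoxeterSystem.wordProd_cons, mul_assoc, h3], ?_⟩
      have := nS_conj_tor C j h4
      rwa [nW_cons, nW_cons, show ∀ a b c d : ↥(D.group K), a * b * c * (a * d)⁻¹ = a * (b * c * d⁻¹) * a⁻¹ from
        fun a b c d => by group]

theorem nW_mem_H (l : List (Fin D.rank)) (h : (cs D).wordProd l = 1) : nW C K l ∈ (tor C).range := by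
  induction hn : l.length using Nat.strong_induction_on generalizing l with
  | _ n ih =>
    rcases List.eq_nil_or_concat l with rfl | ⟨l₀, i, rfl⟩
    · exact one_mem _
    · rw [List.concat_eq_append] at h hn ⊢
      rw [CoxeterSystem.wordProd_append, CoxeterSystem.wordProd_singleton] at h
      have h1 : (cs D).wordProd l₀ = s D i := by
        rw [mul_eq_one_iff_eq_inv, CoxeterSystem.inv_simple] at h; exact h
      obtain ⟨l', h2, h3, h4⟩ := exchange C (K := K) i l₀ (by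
        rw [h1, (Φ D).not_pos_simple_smul_iff ((Φ D).pos_simple i)])
      have h5 := ih l'.length (by simp at hn; omega) l' (h3.symm.trans h) rfl
      have := mul_mem h4 h5
      rwa [inv_mul_cancel_right, show nS C K i = nW C K [i] by simp [nW], ← nW_append] at this

theorem rep_one_iff (h : ↥(D.group K)) : h ∈ (tor C).range ↔ Rep C h 1 :=
  ⟨rep_of_mem_H C, fun ⟨_, ha, l, e, hl⟩ => e ▸ mul_mem ha (nW_mem_H C l hl.symm)⟩

end CL.Tw
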