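import Cfsg.Agent.Base
import Cfsg.Agent.Chev.TwRep
import Cfsg.Agent.Chev.TwAbs

/-!
The factorisation `U = U_w⁺ U_w` and the Bruhat decomposition with uniqueness in `↥(D.group K)`.
-/

set_option autoImplicit false

namespace CL.Tw

open Cfsg Cfsg.Lie Cfsg.Lie.ChevalleyDatum CL.ChevM CL.Weyl CL.Cox

/-- There are additive functions of the weights having the signs of the coefficients of the coroots. -/
class CoefOK (D : ChevalleyDatum) : Prop where
  ex : ∃ L : Fin D.rank → (Fin D.rank → ℤ) →+ ℤ, ∀ k, ∀ r < D.nroots, (L k (wt D r)).sign = (crt D r k).sign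

theorem coefOK_of_matrix {D : ChevalleyDatum} (M : ℕ → ℕ → ℤ)
    (h : ∀ k < D.rank, ∀ r < D.nroots,
      (∑ i ∈ Finset.range D.rank, M k i * D.cartan i r).sign = (cor D r k).sign) : CoefOK D := by
  refine ⟨⟨fun k => { toFun := fun v => ∑ i : Fin D.rank, M k i * v i
                      map_zero' := by simp
                      map_add' := fun v w => by simp [mul_add, Finset.sum_add_distrib] }, fun k r hr => ?_⟩⟩
  have := h k k.2 r hr
  rw [Finset.sum_range] at this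
  exact this

variable {D : ChevalleyDatum} {η : ℕ → ℕ → ℤ} (C : Core D η) {K : Type*} [Field K] [WeylOK D] [CoefOK D]

variable (D) in
/-- The positive roots. -/
def PP : Set (Fin D.nroots) := {r | (Φ D).Pos r}

variable (D) in
/-- The positive roots outside `Φ_J`. -/
def Rad (J : Set (Fin D.rank)) : Set (Fin D.nroots) := {r | (Φ D).Pos r ∧ ¬ (Φ D).InSub J r}

omit [CoefOK D] in
@[simp] theorem mem_PP {r : Fin D.nroots} : r ∈ PP D ↔ (Φ D).Pos r := Iff.rfl

omit [WeylOK D] in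
theorem exists_coef : ∃ L : Fin D.rank → (Fin D.rank → ℤ) →+ ℤ, ∀ k (r : Fin D.nroots),
    (0 < L k (wt D r) ↔ 0 < crt D r k) ∧ (L k (wt D r) = 0 ↔ crt D r k = 0) ∧ (L k (wt D r) < 0 ↔ crt D r k < 0) := by
  obtain ⟨L, hL⟩ := CoefOK.ex (D := D)
  refine ⟨L, fun k r => ?_⟩
  have := hL k r r.2
  rw [← Int.sign_eq_one_iff_pos, ← Int.sign_eq_one_iff_pos, ← Int.sign_eq_zero_iff_zero (a := L k _),
    ← Int.sign_eq_zero_iff_zero (a := crt D r k), ← Int.sign_eq_neg_one_iff_neg, ← Int.sign_eq_neg_one_iff_neg, this]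
  simp

theorem exists_fun (J : Set (Fin D.rank)) (w : W D) : ∃ L : (Fin D.rank → ℤ) →+ ℤ, ∀ r : Fin D.nroots,
    ((Φ D).InSub J (w • r) → L (wt D r) = 0) ∧ ((Φ D).Pos (w • r) → ¬ (Φ D).InSub J (w • r) → 0 < L (wt D r)) ∧
      (¬ (Φ D).Pos (w • r) → ¬ (Φ D).InSub J (w • r) → L (wt D r) < 0) := by
  classical
  obtain ⟨L, hL⟩ := exists_coef (D := D)
  refine ⟨(∑ k ∈ Finset.univ.filter (· ∉ J), L k).comp (dual (cs D) (Φ D).cartan w).toAddMonoidHom, fun r => ?_⟩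
  have e : ((∑ k ∈ Finset.univ.filter (· ∉ J), L k).comp (dual (cs D) (Φ D).cartan w).toAddMonoidHom) (wt D r) =
      ∑ k ∈ Finset.univ.filter (· ∉ J), L k (wt D (w • r : Fin D.nroots)) := by
    rw [AddMonoidHom.comp_apply, AddMonoidHom.finsetSum_apply, ← Φ_wt, ← Φ_wt, (Φ D).wt_smul]
    rfl
  rw [e]
  generalize w • r = r
  refine ⟨fun h => Finset.sum_eq_zero fun k hk => (hL k r).2.1.2 (h k (by simpa using hk)), fun h h' => ?_,
    fun h h' => ?_⟩
  · simp only [RootSys.InSub, not_forall] at h'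
    obtain ⟨k, hk, h0⟩ := h'
    refine Finset.sum_pos' (fun j _ => not_lt.1 fun hc => absurd ((hL j r).2.2.1 hc) (not_lt.2 (h j)))
      ⟨k, by simpa using hk, (hL k r).1.2 (lt_of_le_of_ne (h k) (Ne.symm h0))⟩
  · simp only [RootSys.InSub, not_forall] at h'
    obtain ⟨k, hk, h0⟩ := h'
    rw [RootSys.not_pos_iff] at h
    refine Finset.sum_neg' (fun j _ => not_lt.1 fun hc => absurd ((hL j r).1.1 hc) (not_lt.2 (h j)))
      ⟨k, by simpa using hk, (hL k r).2.2.2 (lt_of_le_of_ne (h k) h0)⟩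

theorem exists_ht (w : W D) : ∃ L : (Fin D.rank → ℤ) →+ ℤ, ∀ r : Fin D.nroots,
    ((Φ D).Pos (w • r) → 0 < L (wt D r)) ∧ (¬ (Φ D).Pos (w • r) → L (wt D r) < 0) := by
  obtain ⟨L, hL⟩ := exists_fun (D := D) ∅ w
  have : ∀ r, ¬ (Φ D).InSub ∅ r := fun r h => (Φ D).ne_zero r (funext fun i => h i (by simp))
  exact ⟨L, fun r => ⟨fun h => (hL r).2.1 h (this _), fun h => (hL r).2.2 h (this _)⟩⟩

theorem pos_smul_comb {w : W D} {r s k : Fin D.nroots} {i j : ℕ} (hi : 0 < i) (hr : (Φ D).Pos (w • r))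
    (hs : (Φ D).Pos (w • s)) (h : wt D k = i • wt D r + j • wt D s) : (Φ D).Pos (w • k) := by
  obtain ⟨L, hL⟩ := exists_ht (D := D) w
  by_contra hc
  have h1 := (hL k).2 hc
  have h2 := (hL r).1 hr
  have h3 := (hL s).1 hs
  rw [h, map_add, map_nsmul, map_nsmul, nsmul_eq_mul, nsmul_eq_mul] at h1
  have : 0 < (i : ℤ) * L (wt D r) := by positivity
  have : 0 ≤ (j : ℤ) * L (wt D s) := by positivity
  omega

theorem mem_rad_comb {J : Set (Fin D.rank)} {r s k : Fin D.nroots} {i j : ℕ} (hj : 0 < j)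
    (hr : (Φ D).Pos r ∨ (Φ D).InSub J r) (hs : s ∈ Rad D J) (h : wt D k = i • wt D r + j • wt D s) :
    k ∈ Rad D J := by
  obtain ⟨L, hL⟩ := exists_fun (D := D) J 1
  simp only [one_smul] at hL
  have h2 : 0 ≤ L (wt D r) := by
    by_cases h' : (Φ D).InSub J r
    · exact ((hL r).1 h').ge
    · exact ((hL r).2.1 (hr.resolve_right h') h').le
  have h3 := (hL s).2.1 hs.1 hs.2
  have h1 : 0 < L (wt D k) := by
    rw [h, map_add, map_nsmul, map_nsmul, nsmul_eq_mul, nsmul_eq_mul]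
    positivity
  have h4 : ¬ (Φ D).InSub J k := fun hc => h1.ne' ((hL k).1 hc)
  exact ⟨by_contra fun hc => absurd ((hL k).2.2 hc h4) (not_lt.2 h1.le), h4⟩

omit [CoefOK D] in
theorem ne_neg_of_pos {r s : Fin D.nroots} (hr : (Φ D).Pos r) (hs : (Φ D).Pos s) : (s : ℕ) ≠ D.neg r := by
  intro h
  have : s = (Φ D).neg r := Fin.ext h
  rw [this, (Φ D).pos_neg_iff] at hs
  exact hs hr

theorem xG_conj_rad_keep (J : Set (Fin D.rank)) (w : W D) {r : Fin D.nroots} (hr : r ∈ keepS (PP D) w) (t : K)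
    {g : ↥(D.group K)} (hg : g ∈ XSg C K (Rad D J ∩ keepS (PP D) w)) :
    xG C r t * g * (xG C r t)⁻¹ ∈ XSg C K (Rad D J ∩ keepS (PP D) w) :=
  xG_conj_mem C (S := Rad D J ∩ keepS (PP D) w) (fun _ hs => ne_neg_of_pos hr.1 hs.1.1) (fun _ hs _ _ _ hi hj h =>
    have := mem_rad_comb hj (Or.inl hr.1) hs.1 h
    ⟨this, this.1, pos_smul_comb hi hr.2 hs.2.2 h⟩) t hg

theorem xG_conj_rad (J : Set (Fin D.rank)) {r : Fin D.nroots} (hr : r ∈ PP D) (t : K)
    {g : ↥(D.group K)} (hg : g ∈ XSg C K (Rad D J)) : xG C r t * g * (xG C r t)⁻¹ ∈ XSg C K (Rad D J) :=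
  xG_conj_mem C (fun _ hs => ne_neg_of_pos hr hs.1) (fun _ hs _ _ _ _ hj h => mem_rad_comb hj (Or.inl hr) hs h) t hg

omit [CoefOK D] in
theorem eq_simple_or_rad (i : Fin D.rank) {r : Fin D.nroots} (hr : r ∈ PP D) : r = (Φ D).simple i ∨ r ∈ Rad D {i} := by
  by_cases h : (Φ D).InSub {i} r
  · exact Or.inl ((Φ D).reduced i r hr h)
  · exact Or.inr ⟨hr, h⟩

omit [CoefOK D] in
theorem smul_mem_rad {J : Set (Fin D.rank)} {w : W D} (hw : w ∈ parab (cs D) J) {r : Fin D.nroots}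
    (hr : r ∈ Rad D J) : w • r ∈ Rad D J :=
  ⟨(Φ D).pos_smul_of_not_inSub hw hr.1 hr.2, by rw [(Φ D).inSub_smul_iff hw]; exact hr.2⟩

omit [CoefOK D] in
theorem s_smul_mem_rad (i : Fin D.rank) {r : Fin D.nroots} (hr : r ∈ Rad D {i}) : s D i • r ∈ Rad D {i} :=
  smul_mem_rad (simple_mem_parab (cs D) (Set.mem_singleton i)) hr

theorem split_U (i : Fin D.rank) {u : ↥(D.group K)} (hu : u ∈ XSg C K (PP D)) :
    ∃ a ∈ XSg C K (Rad D {i}), ∃ t, u = a * xG C ((Φ D).simple i) t :=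
  exists_split C (fun _ hr => eq_simple_or_rad i hr) (fun t _ hg => xG_conj_rad C _ ((Φ D).pos_simple i) t hg) hu

/-- `U ∩ H V = 1` for an arbitrary positive system. -/
theorem eq_one_of_pos_neg (w : W D) {S T : Set (Fin D.nroots)} (hS : ∀ r ∈ S, (Φ D).Pos (w • r))
    (hT : ∀ r ∈ T, ¬ (Φ D).Pos (w • r)) {g : ↥(D.group K)} (hg : g ∈ XSg C K S)
    (hg' : g ∈ (tor C).range ⊔ XSg C K T) : g = 1 := by
  obtain ⟨L, hL⟩ := exists_ht (D := D) w
  exact eq_one_of_grading C L (fun r hr => (hL r).1 (hS r hr)) (fun r hr => ((hL r).2 (hT r hr)).le) hg hg'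

/-- `U = U_w⁺ U_w`. -/
theorem fact_U (w : W D) : ∀ u ∈ XSg C K (PP D),
    ∃ a ∈ XSg C K (keepS (PP D) w), ∃ b ∈ XSg C K (invS (PP D) w), u = a * b := by
  induction hn : (cs D).length w using Nat.strong_induction_on generalizing w with
  | _ n ih =>
    intro u hu
    by_cases hw : w = 1
    · subst hw
      exact ⟨u, XSg_mono C (T := keepS (PP D) 1) (fun r hr => ⟨hr, by simpa using hr⟩) hu, 1, one_mem _, (mul_one u).symm⟩
    obtain ⟨i, hi⟩ := (cs D).exists_rightDescent_of_ne_one hw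
    have hp := ((Φ D).isRightDescent_iff w i).1 hi
    have hp' : (Φ D).Pos ((w * s D i) • (Φ D).simple i) := by
      rwa [mul_smul, (Φ D).simple_smul_simple, (Φ D).smul_neg, (Φ D).pos_neg_iff]
    obtain ⟨u₁, hu₁, t, rfl⟩ := split_U C i hu
    have h1 : nS C K i * u₁ * (nS C K i)⁻¹ ∈ XSg C K (Rad D {i}) :=
      (rep_nS C i).conj (fun r hr => s_smul_mem_rad i hr) hu₁
    obtain ⟨a, ha, b, hb, e⟩ := ih _ (hn ▸ hi) (w * s D i) rfl _ (XSg_mono C (fun r hr => hr.1) h1)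
    have hsub : invS (PP D) (w * s D i) ⊆ Rad D {i} := fun r hr =>
      (eq_simple_or_rad i hr.1).resolve_left (by rintro rfl; exact hr.2 hp')
    obtain ⟨t', a₁, ha₁, rfl⟩ := exists_split' C (S := Rad D {i} ∩ keepS (PP D) (w * s D i))
      (p := (Φ D).simple i) (fun r hr => (eq_simple_or_rad i hr.1).imp_right fun h => ⟨h, hr⟩)
      (fun t g hg => xG_conj_rad_keep C _ _ ⟨(Φ D).pos_simple i, hp'⟩ t hg) ha
    have h2 : xG C ((Φ D).simple i) t' ∈ XSg C K (Rad D {i}) := by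
      have : xG C ((Φ D).simple i) t' = nS C K i * u₁ * (nS C K i)⁻¹ * b⁻¹ * a₁⁻¹ := by rw [e]; group
      rw [this]
      exact mul_mem (mul_mem h1 (inv_mem (XSg_mono C hsub hb))) (inv_mem (XSg_mono C Set.inter_subset_left ha₁))
    have h3 : xG C ((Φ D).simple i) t' = 1 :=
      eq_one_of_pos_neg C (s D i) (T := {(Φ D).simple i}) (fun r hr => (s_smul_mem_rad i hr).1)
        (by rintro r rfl; exact ((Φ D).not_pos_simple_smul_iff ((Φ D).pos_simple i)).2 rfl) h2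
        (Subgroup.mem_sup_right (xG_mem_XSg C (Set.mem_singleton _) _))
    rw [h3, one_mul] at e
    have hss : ∀ r : Fin D.nroots, w • s D i • r = (w * s D i) • r := fun r => (mul_smul _ _ _).symm
    refine ⟨(nS C K i)⁻¹ * a₁ * (nS C K i)⁻¹⁻¹, (rep_nS_inv C i).conj (fun r hr => ?_) ha₁,
      (nS C K i)⁻¹ * b * (nS C K i)⁻¹⁻¹ * xG C ((Φ D).simple i) t,
      mul_mem ((rep_nS_inv C i).conj (fun r hr => ?_) hb) 
        (xG_mem_XSg C (S := invS (PP D) w) ⟨(Φ D).pos_simple i, hp⟩ t), ?_⟩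
    · exact ⟨(s_smul_mem_rad i hr.1).1, by rw [hss]; exact hr.2.2⟩
    · exact ⟨(s_smul_mem_rad i (hsub hr)).1, by rw [hss]; exact hr.2⟩
    · calc u₁ * xG C ((Φ D).simple i) t
          = (nS C K i)⁻¹ * (nS C K i * u₁ * (nS C K i)⁻¹) * nS C K i * xG C ((Φ D).simple i) t := by group
        _ = _ := by rw [e]; group

/-- The multiplication rule `s U w ⊆ U s w U ∪ U w U`. -/
theorem mul_rule (i : Fin D.rank) {m u n : ↥(D.group K)} {w : W D} (hm : Rep C m (s D i)) (hu : u ∈ XSg C K (PP D))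
    (hn : Rep C n w) : ∃ u₁ ∈ XSg C K (PP D), ∃ u₂ ∈ XSg C K (PP D), ∃ n',
      m * u * n = u₁ * n' * u₂ ∧ (Rep C n' (s D i * w) ∨ Rep C n' w) := by
  obtain ⟨a, ha, t, rfl⟩ := split_U C i hu
  have h1 : m * a * m⁻¹ ∈ XSg C K (PP D) := hm.conj (fun r hr => (s_smul_mem_rad i hr).1) ha
  by_cases hp : (Φ D).Pos (w⁻¹ • (Φ D).simple i)
  · exact ⟨_, h1, _, hn.inv.conj_xG_mem (T := PP D) hp t, m * n, by group, Or.inl (hm.mul hn)⟩
  by_cases ht : t = 0
  · exact ⟨_, h1, 1, one_mem _, m * n, by rw [ht, xG_zero]; group, Or.inl (hm.mul hn)⟩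
  obtain ⟨c, hc, -⟩ := hm.exists_conj ((Φ D).simple i)
  have h2 := hc t
  rw [(Φ D).simple_smul_simple] at h2
  have h3 : xG C ((Φ D).neg ((Φ D).simple i)) (c * t) = xG C ((Φ D).simple i) (c * t)⁻¹ *
      nG C (D.simple i) (-(c * t)⁻¹) * xG C ((Φ D).simple i) (c * t)⁻¹ := xG_neg_eq C _ _
  have h4 := rep_nG_simple C i (t := -(c * t)⁻¹) (by simp [ht])
  refine ⟨_, mul_mem h1 (xG_mem_XSg C ((Φ D).pos_simple i) (c * t)⁻¹), _,
    (hm.mul hn).inv.conj_xG_mem (T := PP D) (r := (Φ D).simple i) ?_ (c * t)⁻¹,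
    nG C (D.simple i) (-(c * t)⁻¹) * (m * n), ?_, Or.inr ?_⟩
  · change (Φ D).Pos _
    rwa [mul_inv_rev, mul_smul, CoxeterSystem.inv_simple, (Φ D).simple_smul_simple, (Φ D).smul_neg,
      (Φ D).pos_neg_iff]
  · calc m * (a * xG C ((Φ D).simple i) t) * n
        = m * a * m⁻¹ * (m * xG C ((Φ D).simple i) t * m⁻¹) * (m * n) := by group
      _ = _ := by rw [h2, h3]; group
  · have := h4.mul (hm.mul hn)
    rwa [← mul_assoc (s D i), (cs D).simple_mul_simple_self, one_mul] at this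

theorem exists_UNU (g : ↥(D.group K)) :
    ∃ u ∈ XSg C K (PP D), ∃ n w, Rep C n w ∧ ∃ v ∈ XSg C K (PP D), g = u * n * v := by
  let A : ↥(D.group K) → Prop := fun g =>
    ∃ u ∈ XSg C K (PP D), ∃ n w, Rep C n w ∧ ∃ v ∈ XSg C K (PP D), g = u * n * v
  have hN : ∀ m w, Rep C m w → ∀ g, A g → A (m * g) := by
    rintro _ _ ⟨h, hh, l, rfl, rfl⟩ g hg
    have h1 : A (nW C K l * g) := by
      induction l with
      | nil => rwa [nW_nil, one_mul]
      | cons i l ih =>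
        obtain ⟨u, hu, n, w, hn, v, hv, e⟩ := ih
        obtain ⟨u₁, h₁, u₂, h₂, n', e', hn'⟩ := mul_rule C i (rep_nS C i) hu hn
        have : nW C K (i :: l) * g = u₁ * n' * (u₂ * v) := by
          rw [nW_cons, mul_assoc, e, ← mul_assoc (u₁ * n'), ← e']; group
        rcases hn' with hn' | hn' <;> exact ⟨u₁, h₁, n', _, hn', _, mul_mem h₂ hv, this⟩
    obtain ⟨u, hu, n, w, hn, v, hv, e⟩ := h1
    have hh' := rep_of_mem_H C hh
    exact ⟨_, hh'.conj (T := PP D) (fun r hr => by simpa using hr) hu, h * n, _, hh'.mul hn, v, hv,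
      by rw [mul_assoc h, e]; group⟩
  refine XSg_induction C (S := Set.univ) (p := A)
    ⟨1, one_mem _, 1, 1, rep_one C, 1, one_mem _, by simp⟩ ?_ (by rw [XSg_univ]; trivial)
  intro r _ t g _ hg
  obtain ⟨w, i, rfl⟩ := (Φ D).exists_smul_simple r
  obtain ⟨n, hn⟩ := rep_surj C (K := K) w
  obtain ⟨a, ha, -⟩ := hn.exists_conj ((Φ D).simple i)
  rw [show t = a * ((a⁻¹ : Kˣ) * t) by simp, ← ha, mul_assoc, mul_assoc]
  refine hN _ _ hn _ ?_
  obtain ⟨u, hu, n', w', hn', v, hv, e⟩ := hN _ _ hn.inv g hg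
  exact ⟨_, mul_mem (xG_mem_XSg C ((Φ D).pos_simple i) ((a⁻¹ : Kˣ) * t)) hu, n', w', hn', v, hv, by rw [e]; group⟩

theorem bruhat_ex (g : ↥(D.group K)) :
    ∃ u ∈ XSg C K (PP D), ∃ n w, Rep C n w ∧ ∃ v ∈ XSg C K (invS (PP D) w), g = u * n * v := by
  obtain ⟨u, hu, n, w, hn, v, hv, rfl⟩ := exists_UNU C g
  obtain ⟨a, ha, b, hb, rfl⟩ := fact_U C w v hv
  exact ⟨_, mul_mem hu (hn.conj (fun r hr => hr.2) ha), n, w, hn, b, hb, by group⟩

theorem eq_one_of_rep_B {n u h : ↥(D.group K)} {w : W D} (hn : Rep C n w) (hu : u ∈ XSg C K (PP D))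
    (hh : h ∈ (tor C).range) (e : n = u * h) : w = 1 := by
  refine (Φ D).eq_one_of_pos fun r hr => by_contra fun hc => ?_
  obtain ⟨a, ha, -⟩ := hn.exists_conj r
  have h1 : xG C (w • r : Fin D.nroots) ((a : K) * 1) ∈ XSg C K (PP D) := by
    have := (rep_of_mem_H C hh).conj_xG_mem (T := PP D) (r := r) (by simpa using hr) (1 : K)
    rw [← ha, e, show u * h * xG C r 1 * (u * h)⁻¹ = u * (h * xG C r 1 * h⁻¹) * u⁻¹ by group]
    exact mul_mem (mul_mem hu this) (inv_mem hu)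
  have h2 := eq_one_of_pos_neg C 1 (T := {w • r}) (fun r hr => by simpa using hr)
    (by rintro _ rfl; simpa using hc) h1 (Subgroup.mem_sup_right (xG_mem_XSg C (Set.mem_singleton _) _))
  rw [xG_eq_one_iff C (w • r).2, mul_one] at h2
  exact a.ne_zero h2

theorem eq_of_double_coset (w : W D) : ∀ {w' : W D} {n n' u v : ↥(D.group K)}, Rep C n w → Rep C n' w' →
    (cs D).length w ≤ (cs D).length w' → u ∈ XSg C K (PP D) → v ∈ XSg C K (PP D) → n = u * n' * v → w = w' := by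
  induction hn : (cs D).length w using Nat.strong_induction_on generalizing w with
  | _ k ih =>
    intro w' n n' u v h h' hl hu hv e
    by_cases hw : w = 1
    · subst hw
      have hH := (rep_one_iff C n).2 h
      refine (eq_one_of_rep_B C h' (u := u⁻¹ * (n * v⁻¹ * n⁻¹)) (mul_mem (inv_mem hu)
        (h.conj (T := PP D) (fun r hr => by simpa using hr) (inv_mem hv))) hH ?_).symm
      rw [mul_assoc u⁻¹, inv_mul_cancel_right, e]; group
    obtain ⟨i, hi⟩ := (cs D).exists_leftDescent_of_ne_one hw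
    have hi' : (cs D).length (s D i * w) + 1 = (cs D).length w := (cs D).isLeftDescent_iff.1 hi
    obtain ⟨u₁, h₁, u₂, h₂, m, e', hm⟩ := mul_rule C i (rep_nS C i) hu h'
    have e'' : nS C K i * n = u₁ * m * (u₂ * v) := by rw [e, ← mul_assoc (u₁ * m), ← e']; group
    rcases hm with hm | hm
    · have := ih _ (hn ▸ hi) (s D i * w) rfl ((rep_nS C i).mul h) hm (by
        have : (cs D).length (s D i * w') = _ ∨ (cs D).length (s D i * w') + 1 = _ := (cs D).length_simple_mul w' i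
        omega) h₁ (mul_mem h₂ hv) e''
      exact mul_left_cancel this
    · have := ih _ (hn ▸ hi) (s D i * w) rfl ((rep_nS C i).mul h) hm (by omega) h₁ (mul_mem h₂ hv) e''
      rw [← this] at hl
      omega

theorem Rep.unique {C : Core D η} {n : ↥(D.group K)} {w w' : W D} (h : Rep C n w) (h' : Rep C n w') : w = w' := by
  rcases le_total ((cs D).length w) ((cs D).length w') with hl | hl
  · exact eq_of_double_coset C w h h' hl (one_mem _) (one_mem _) (by simp)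
  · exact (eq_of_double_coset C w' h' h hl (one_mem _) (one_mem _) (by simp)).symm

theorem bruhat_uniq {u u' n n' v v' : ↥(D.group K)} {w w' : W D} (hu : u ∈ XSg C K (PP D))
    (hu' : u' ∈ XSg C K (PP D)) (hn : Rep C n w) (hn' : Rep C n' w') (hv : v ∈ XSg C K (invS (PP D) w))
    (hv' : v' ∈ XSg C K (invS (PP D) w')) (e : u * n * v = u' * n' * v') : u = u' ∧ n = n' ∧ v = v' := by
  have hvU := XSg_mono C (T := PP D) (fun r hr => hr.1) hv
  have hvU' := XSg_mono C (T := PP D) (fun r hr => hr.1) hv'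
  obtain rfl : w = w' := by
    rcases le_total ((cs D).length w) ((cs D).length w') with hl | hl
    · exact eq_of_double_coset C w hn hn' hl (mul_mem (inv_mem hu) hu') (mul_mem hvU' (inv_mem hvU))
        (by rw [mul_assoc u⁻¹, mul_assoc u⁻¹, ← mul_assoc (u' * n'), ← e]; group)
    · exact (eq_of_double_coset C w' hn' hn hl (mul_mem (inv_mem hu') hu) (mul_mem hvU (inv_mem hvU'))
        (by rw [mul_assoc u'⁻¹, mul_assoc u'⁻¹, ← mul_assoc (u * n), e]; group)).symm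
  have hH : n' * n⁻¹ ∈ (tor C).range := by
    rw [rep_one_iff, ← mul_inv_cancel w]; exact hn'.mul hn.inv
  have hV : n' * (v' * v⁻¹) * n'⁻¹ ∈ XSg C K (PP D)ᶜ := hn'.conj (fun r hr => hr.2) (mul_mem hv' (inv_mem hv))
  have e1 : u'⁻¹ * u = n' * (v' * v⁻¹) * n'⁻¹ * (n' * n⁻¹) := by
    calc u'⁻¹ * u = u'⁻¹ * (u * n * v) * v⁻¹ * n⁻¹ := by group
      _ = _ := by rw [e]; group
  have h1 : u'⁻¹ * u = 1 := eq_one_of_pos_neg C 1 (S := PP D) (T := (PP D)ᶜ) (fun r hr => by simpa using hr)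
    (fun r hr => by simpa using hr) (mul_mem (inv_mem hu') hu)
    (e1 ▸ mul_mem (Subgroup.mem_sup_right hV) (Subgroup.mem_sup_left hH))
  have h2 : n' * (v' * v⁻¹) * n'⁻¹ = 1 :=
    eq_one_of_pos_neg C ((Φ D).w0 Set.univ) (S := (PP D)ᶜ) (T := ∅)
      (fun r hr => ((Φ D).pos_w0_univ_smul_iff r).2 hr) (by simp) hV (Subgroup.mem_sup_left (by
        rw [h1, eq_comm, mul_eq_one_iff_eq_inv] at e1
        rw [e1]; exact inv_mem hH))
  rw [h1, h2, one_mul, eq_comm, mul_inv_eq_one] at e1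
  rw [conj_eq_one_iff, mul_inv_eq_one] at h2
  exact ⟨(inv_mul_eq_one.1 h1).symm, e1.symm, h2.symm⟩

end CL.Tw
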