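import Cfsg.Agent.Base
import Cfsg.Agent.Chev.WeylDefs
import Cfsg.Agent.Chev.MatAll

/-!
The seven tabulated data satisfy `WeylOK`; their Coxeter matrices.
-/

set_option autoImplicit false
set_option linter.unusedSectionVars false
set_option linter.unusedSimpArgs false
set_option maxRecDepth 100000

namespace CL.Weyl

open Cfsg.Lie CL.Cox CL.ChevM CL.WC

/-- Boolean test `0 ≤ a`. -/
noncomputable def nonnegZ (a : ℤ) : Bool := Int.rec (fun _ => true) (fun _ => false) a

theorem nonnegZ_iff {a : ℤ} : nonnegZ a = true ↔ 0 ≤ a := by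
  cases a with
  | ofNat n => simp [nonnegZ]
  | negSucc n => simp [nonnegZ]

/-- Boolean negation. -/
noncomputable def bnot (a : Bool) : Bool := Bool.rec true false a

theorem bnot_iff {a : Bool} : bnot a = true ↔ ¬ a = true := by cases a <;> simp [bnot]

/-- The Boolean check implying `WeylOK`. -/
noncomputable def chkWeyl (T : Fast) : Bool :=
  band (allLt T.l fun i => band (eqZ (T.cart i (T.simple i)) 2) (allLt T.l fun j => bor (Nat.beq i j)
    (decide (CartanEntry (coxEntry (T.cart i (T.simple j) * T.cart j (T.simple i)))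
      (T.cart j (T.simple i)) (T.cart i (T.simple j))))))
  (band (allLt T.l fun i => band (Nat.blt (T.simple i) T.n)
      (allLt T.l fun j => eqZ (T.cor (T.simple i) j) (Bool.rec 0 1 (Nat.beq j i))))
  (band (allLt T.n fun r => band (Nat.blt (T.neg r) T.n)
      (allLt T.l fun j => eqZ (T.cor (T.neg r) j) (Int.neg (T.cor r j))))
  (band (allLt T.n fun r => allLt r fun t => anyLt T.l fun j => bnot (eqZ (T.cor r j) (T.cor t j)))
  (band (allLt T.l fun i => allLt T.n fun r =>
      band (Nat.beq (T.wN i r) (reflOf T.simple T.neg T.cart T.ent i r))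
      (band (Nat.blt (T.wN i r) T.n)
      (allLt T.l fun j =>
        band (eqZ (T.cart j (T.wN i r)) (Int.sub (T.cart j r)
          (Int.mul (T.cart i r) (T.cart j (T.simple i)))))
        (Bool.rec (eqZ (T.cor (T.wN i r) j) (T.cor r j))
          (eqZ (T.cor (T.wN i r) j) (Int.sub (T.cor r j)
            (sumLt T.l fun k => Int.mul (T.cart k (T.simple i)) (T.cor r k)))) (Nat.beq j i)))))
  (allLt T.n fun r =>
    band (bor (allLt T.l fun j => nonnegZ (T.cor r j)) (allLt T.l fun j => nonnegZ (Int.neg (T.cor r j))))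
    (band (anyLt T.l fun j => bnot (eqZ (T.cor r j) 0))
    (bor (anyLt T.l fun j => bnot (nonnegZ (T.cor r j)))
      (band (anyLt T.l fun i => bnot (nonnegZ (Int.neg
          (sumLt T.l fun k => Int.mul (T.cart k (T.simple i)) (T.cor r k)))))
        (allLt T.l fun i => bor (Nat.beq r (T.simple i))
          (anyLt T.l fun j => band (bnot (Nat.beq j i)) (bnot (eqZ (T.cor r j) 0))))))))))))

theorem form_cA_eq {D : ChevalleyDatum} (i : Fin D.rank) (r : ℕ) :
    form (cA D) i (crt D r) = ∑ k ∈ Finset.range D.rank, D.cartan k (D.simple i) * cor D r k := by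
  rw [form_apply, ← Fin.sum_univ_eq_sum_range (fun k => D.cartan k (D.simple i) * cor D r k)]
  rfl

theorem weylOK_of_chk {D : ChevalleyDatum} {T : Fast} (h : Agree D T)
    (hs : D.coroot.size = D.nroots)
    (hs' : (D.coroot.toList.all fun a => Nat.beq a.size D.rank) = true)
    (hc : chkWeyl T = true) : WeylOK D := by
  simp only [chkWeyl, band_iff, bor_iff, allLt_iff, anyLt_iff, beq_iff', blt_iff', eqZ_iff,
    nonnegZ_iff, bnot_iff, decide_eq_true_eq, sumLt_eq, ← h.l, ← h.n, ← h.cart, ← h.cor, ← h.neg,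
    ← h.simple, ← h.ent, ← reflectRoot_eq_reflOf, Int.mul_def, Int.neg_eq_neg,
    Int.sub_eq_add_neg] at hc
  obtain ⟨h1, h2, h3, h4, h5, h6⟩ := hc
  have hcrt : ∀ r (j : Fin D.rank), crt D r j = cor D r j := fun r j => rfl
  refine ⟨⟨fun i => (h1 i i.2).1, fun i j hij => ?_⟩, fun i hi => (h2 i hi).1,
    fun r hr => (h3 r hr).1, fun i hi r hr => ?_, fun r hr => ?_, ?_, fun i => ?_, fun r hr => ?_,
    fun i r hr => ?_, fun i r hr => ?_, fun r hr => ?_, fun r hr => ?_, fun i r hr hp hz => ?_,
    fun r hr hp => ?_⟩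
  · rcases (h1 i i.2).2 j j.2 with h' | h'
    · exact absurd (Fin.ext h') hij
    · simpa [coxMat, hij, cA] using h'
  · rw [← (h5 i hi r hr).1]; exact (h5 i hi r hr).2.1
  · rw [List.all_eq_true] at hs'
    have hr' : r < D.coroot.size := by rw [hs]; exact hr
    rw [Array.getD_eq_getD_getElem?, Array.getElem?_eq_getElem hr', Option.getD_some]
    exact beq_iff'.1 (hs' _ (by simp))
  · have key : ∀ r < D.nroots, ∀ t < r, crt D r ≠ crt D t := by
      intro r hr t ht he
      obtain ⟨j, hj, hne⟩ := h4 r hr t ht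
      exact hne (congrFun he ⟨j, hj⟩)
    intro r hr t ht he
    rcases lt_trichotomy r t with h' | h' | h'
    · exact absurd he.symm (key t ht r h')
    · exact h'
    · exact absurd he (key r hr t h')
  · funext j
    rw [hcrt, (h2 i i.2).2 j j.2]
    by_cases hj : j = i
    · subst hj; simp [beq_iff'.2]
    · have : Nat.beq j i = false := by
        rw [← Bool.not_eq_true, beq_iff']; exact fun h => hj (Fin.ext h)
      simp [this, hj]
  · funext j
    exact (h3 r hr).2 j j.2
  · funext j
    have h7 := ((h5 i i.2 r hr).2.2 j j.2).2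
    rw [(h5 i i.2 r hr).1] at h7
    by_cases hj : j = i
    · subst hj
      rw [beq_iff'.2 rfl] at h7
      rw [refl_apply_self, form_cA_eq, hcrt, hcrt]
      exact eqZ_iff.1 h7
    · have : Nat.beq j i = false := by
        rw [← Bool.not_eq_true, beq_iff']; exact fun h => hj (Fin.ext h)
      rw [this] at h7
      rw [refl_apply_of_ne _ hj]
      exact eqZ_iff.1 h7
  · funext j
    have h7 := ((h5 i i.2 r hr).2.2 j j.2).1
    rw [(h5 i i.2 r hr).1] at h7
    exact h7
  · rcases (h6 r hr).1 with h' | h'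
    · exact Or.inl fun j => h' j j.2
    · exact Or.inr fun j => neg_nonneg.1 (h' j j.2)
  · intro h0
    obtain ⟨j, hj, hne⟩ := (h6 r hr).2.1
    exact hne (congrFun h0 ⟨j, hj⟩)
  · rcases (h6 r hr).2.2 with ⟨j, hj, hne⟩ | ⟨-, h'⟩
    · exact absurd (hp ⟨j, hj⟩) hne
    · rcases h' i i.2 with h'' | ⟨j, hj, hne, hne'⟩
      · exact h''
      · exact absurd (hz ⟨j, hj⟩ fun h => hne (congrArg Fin.val h)) hne'
  · rcases (h6 r hr).2.2 with ⟨j, hj, hne⟩ | ⟨⟨i, hi, h'⟩, -⟩
    · exact absurd (hp ⟨j, hj⟩) hne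
    · refine ⟨⟨i, hi⟩, ?_⟩
      rw [form_cA_eq]
      exact neg_neg_iff_pos.1 (not_le.1 h')

instance weylOK_G2 : WeylOK chevG2 :=
  weylOK_of_chk agreeG2 (by decide +kernel) (by decide +kernel) (by decide +kernel)
instance weylOK_B2 : WeylOK chevB2 :=
  weylOK_of_chk agreeB2 (by decide +kernel) (by decide +kernel) (by decide +kernel)
instance weylOK_D4 : WeylOK chevD4 :=
  weylOK_of_chk agreeD4 (by decide +kernel) (by decide +kernel) (by decide +kernel)
instance weylOK_F4 : WeylOK chevF4 :=
  weylOK_of_chk agreeF4 (by decide +kernel) (by decide +kernel) (by decide +kernel)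
instance weylOK_E6 : WeylOK chevE6 :=
  weylOK_of_chk agreeE6 (by decide +kernel) (by decide +kernel) (by decide +kernel)
instance weylOK_E7 : WeylOK chevE7 :=
  weylOK_of_chk agreeE7 (by decide +kernel) (by decide +kernel) (by decide +kernel)
instance weylOK_E8 : WeylOK chevE8 :=
  weylOK_of_chk agreeE8 (by decide +kernel) (by decide +kernel) (by decide +kernel)

theorem weylOK_of_mem {D : ChevalleyDatum}
    (hD : D ∈ [chevG2, chevB2, chevD4, chevF4, chevE6, chevE7, chevE8]) : WeylOK D := by
  simp only [List.mem_cons, List.not_mem_nil, or_false] at hD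
  rcases hD with rfl | rfl | rfl | rfl | rfl | rfl | rfl <;> infer_instance

theorem coxMat_eq_of_agree {D : ChevalleyDatum} {T : Fast} (h : Agree D T)
    (M : CoxeterMatrix (Fin D.rank))
    (hM : ∀ i j : Fin D.rank, i ≠ j →
      coxEntry (T.cart i (T.simple j) * T.cart j (T.simple i)) = M i j) : coxMat D = M := by
  ext i j
  by_cases hij : i = j
  · subst hij; simp
  · rw [← hM i j hij, ← h.cart, ← h.simple]; simp [coxMat, hij]

set_option backward.isDefEq.respectTransparency false in
theorem coxMat_G2 : coxMat chevG2 = CoxeterMatrix.G₂ :=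
  coxMat_eq_of_agree agreeG2 _ (show ∀ i j : Fin 2, i ≠ j → coxEntry (fastG2.cart i (fastG2.simple j) *
    fastG2.cart j (fastG2.simple i)) = CoxeterMatrix.G₂ i j by decide +kernel)
set_option backward.isDefEq.respectTransparency false in
theorem coxMat_B2 : coxMat chevB2 = CoxeterMatrix.B 2 :=
  coxMat_eq_of_agree agreeB2 _ (show ∀ i j : Fin 2, i ≠ j → coxEntry (fastB2.cart i (fastB2.simple j) *
    fastB2.cart j (fastB2.simple i)) = (CoxeterMatrix.B 2) i j by decide +kernel)
set_option backward.isDefEq.respectTransparency false in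
theorem coxMat_D4 : coxMat chevD4 = coxeterD4 :=
  coxMat_eq_of_agree agreeD4 _ (show ∀ i j : Fin 4, i ≠ j → coxEntry (fastD4.cart i (fastD4.simple j) *
    fastD4.cart j (fastD4.simple i)) = coxeterD4 i j by decide +kernel)
set_option backward.isDefEq.respectTransparency false in
theorem coxMat_F4 : coxMat chevF4 = CoxeterMatrix.F₄ :=
  coxMat_eq_of_agree agreeF4 _ (show ∀ i j : Fin 4, i ≠ j → coxEntry (fastF4.cart i (fastF4.simple j) *
    fastF4.cart j (fastF4.simple i)) = CoxeterMatrix.F₄ i j by decide +kernel)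
set_option backward.isDefEq.respectTransparency false in
theorem coxMat_E6 : coxMat chevE6 = CoxeterMatrix.E₆ :=
  coxMat_eq_of_agree agreeE6 _ (show ∀ i j : Fin 6, i ≠ j → coxEntry (fastE6.cart i (fastE6.simple j) *
    fastE6.cart j (fastE6.simple i)) = CoxeterMatrix.E₆ i j by decide +kernel)
set_option backward.isDefEq.respectTransparency false in
theorem coxMat_E7 : coxMat chevE7 = CoxeterMatrix.E₇ :=
  coxMat_eq_of_agree agreeE7 _ (show ∀ i j : Fin 7, i ≠ j → coxEntry (fastE7.cart i (fastE7.simple j) *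
    fastE7.cart j (fastE7.simple i)) = CoxeterMatrix.E₇ i j by decide +kernel)
set_option backward.isDefEq.respectTransparency false in
theorem coxMat_E8 : coxMat chevE8 = CoxeterMatrix.E₈ :=
  coxMat_eq_of_agree agreeE8 _ (show ∀ i j : Fin 8, i ≠ j → coxEntry (fastE8.cart i (fastE8.simple j) *
    fastE8.cart j (fastE8.simple i)) = CoxeterMatrix.E₈ i j by decide +kernel)

end CL.Weyl
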