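import Cfsg.Agent.Base
import Cfsg.Agent.Chev.TwBruhat
import Cfsg.Agent.Chev.WeylCheck

/-!
The instances of `CoefOK` for the seven data (multiples of the inverse Cartan matrices).
-/

set_option autoImplicit false

namespace CL.Tw

open Cfsg Cfsg.Lie CL.ChevM

theorem coefOK_of_agree {D : ChevalleyDatum} {T : Fast} (h : Agree D T) (M : List (List ℤ))
    (hM : ∀ k < T.l, ∀ r < T.n,
      (∑ i ∈ Finset.range T.l, (M.getD k []).getD i 0 * T.cart i r).sign = (T.cor r k).sign) : CoefOK D :=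
  coefOK_of_matrix (fun k i => (M.getD k []).getD i 0) (by rw [h.l, h.n, h.cart, h.cor]; exact hM)

instance coefOK_G2 : CoefOK chevG2 :=
  coefOK_of_agree agreeG2 [[2, 3], [1, 2]] (by decide +kernel)

instance coefOK_B2 : CoefOK chevB2 :=
  coefOK_of_agree agreeB2 [[2, 2], [1, 2]] (by decide +kernel)

instance coefOK_D4 : CoefOK chevD4 :=
  coefOK_of_agree agreeD4 [[2, 2, 1, 1], [2, 4, 2, 2], [1, 2, 2, 1], [1, 2, 1, 2]] (by decide +kernel)

instance coefOK_F4 : CoefOK chevF4 :=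
  coefOK_of_agree agreeF4 [[2, 3, 4, 2], [3, 6, 8, 4], [2, 4, 6, 3], [1, 2, 3, 2]] (by decide +kernel)

instance coefOK_E6 : CoefOK chevE6 :=
  coefOK_of_agree agreeE6 [[4, 3, 5, 6, 4, 2], [3, 6, 6, 9, 6, 3], [5, 6, 10, 12, 8, 4], [6, 9, 12, 18, 12, 6], [4, 6, 8, 12, 10, 5], [2, 3, 4, 6, 5, 4]] (by decide +kernel)

instance coefOK_E7 : CoefOK chevE7 :=
  coefOK_of_agree agreeE7 [[4, 4, 6, 8, 6, 4, 2], [4, 7, 8, 12, 9, 6, 3], [6, 8, 12, 16, 12, 8, 4], [8, 12, 16, 24, 18, 12, 6], [6, 9, 12, 18, 15, 10, 5], [4, 6, 8, 12, 10, 8, 4], [2, 3, 4, 6, 5, 4, 3]] (by decide +kernel)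

instance coefOK_E8 : CoefOK chevE8 :=
  coefOK_of_agree agreeE8 [[4, 5, 7, 10, 8, 6, 4, 2], [5, 8, 10, 15, 12, 9, 6, 3], [7, 10, 14, 20, 16, 12, 8, 4], [10, 15, 20, 30, 24, 18, 12, 6], [8, 12, 16, 24, 20, 15, 10, 5], [6, 9, 12, 18, 15, 12, 8, 4], [4, 6, 8, 12, 10, 8, 6, 3], [2, 3, 4, 6, 5, 4, 3, 2]] (by decide +kernel)

theorem coefOK_of_mem {D : ChevalleyDatum}
    (hD : D ∈ [chevG2, chevB2, chevD4, chevF4, chevE6, chevE7, chevE8]) : CoefOK D := by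
  simp only [List.mem_cons, List.not_mem_nil, or_false] at hD
  rcases hD with rfl | rfl | rfl | rfl | rfl | rfl | rfl <;> infer_instance

end CL.Tw
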