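import Cfsg.Agent.Base

/-!
Normal form in groups generated by one-parameter families `x r t` whose commutators lie in
families of higher degree: every element is an ordered product, in any prescribed order.
-/

set_option autoImplicit false

namespace CL.Chev

open scoped commutatorElement

variable {ι : Type*} {K : Type*} {G : Type*} [Group G]

/-- The subgroup generated by the `x r t`, `r ∈ S`. -/
def XS (x : ι → K → G) (S : Set ι) : Subgroup G := Subgroup.closure {g | ∃ r ∈ S, ∃ t, g = x r t}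

/-- The ordered product `∏_{r ∈ L} x r (t r)`. -/
def lprod (x : ι → K → G) (L : List ι) (t : ι → K) : G := (L.map fun r => x r (t r)).prod

section basic

variable {x : ι → K → G} {S T : Set ι}

@[simp] theorem lprod_nil (t : ι → K) : lprod x [] t = 1 := rfl

@[simp] theorem lprod_cons (r : ι) (L : List ι) (t : ι → K) :
    lprod x (r :: L) t = x r (t r) * lprod x L t := by simp [lprod]

@[simp] theorem lprod_append (L L' : List ι) (t : ι → K) :
    lprod x (L ++ L') t = lprod x L t * lprod x L' t := by simp [lprod]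

theorem lprod_congr {L : List ι} {t t' : ι → K} (h : ∀ r ∈ L, t r = t' r) :
    lprod x L t = lprod x L t' := by
  unfold lprod
  congr 1
  exact List.map_congr_left fun r hr => by rw [h r hr]

theorem map_lprod {H : Type*} [Group H] (φ : G →* H) (L : List ι) (t : ι → K) :
    φ (lprod x L t) = lprod (fun r t => φ (x r t)) L t := by
  simp [lprod, map_list_prod, List.map_map, Function.comp_def]

theorem x_mem_XS {r : ι} (hr : r ∈ S) (t : K) : x r t ∈ XS x S :=
  Subgroup.subset_closure ⟨r, hr, t, rfl⟩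

theorem XS_le {H : Subgroup G} : XS x S ≤ H ↔ ∀ r ∈ S, ∀ t, x r t ∈ H := by
  rw [XS, Subgroup.closure_le]
  exact ⟨fun h r hr t => h ⟨r, hr, t, rfl⟩, by rintro h _ ⟨r, hr, t, rfl⟩; exact h r hr t⟩

theorem XS_mono (h : S ⊆ T) : XS x S ≤ XS x T := XS_le.2 fun _ hr t => x_mem_XS (h hr) t

theorem XS_empty : XS x ∅ = ⊥ := le_bot_iff.1 (XS_le.2 fun _ h => absurd h (Set.notMem_empty _))

theorem XS_union : XS x (S ∪ T) = XS x S ⊔ XS x T :=
  le_antisymm (XS_le.2 fun _ hr t => hr.elim (fun h => Subgroup.mem_sup_left (x_mem_XS h t))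
    fun h => Subgroup.mem_sup_right (x_mem_XS h t))
    (sup_le (XS_mono Set.subset_union_left) (XS_mono Set.subset_union_right))

theorem map_XS {H : Type*} [Group H] (φ : G →* H) :
    (XS x S).map φ = XS (fun r t => φ (x r t)) S := by
  rw [XS, MonoidHom.map_closure, XS]
  congr 1
  ext g
  constructor
  · rintro ⟨_, ⟨r, hr, t, rfl⟩, rfl⟩; exact ⟨r, hr, t, rfl⟩
  · rintro ⟨r, hr, t, rfl⟩; exact ⟨_, ⟨r, hr, t, rfl⟩, rfl⟩

theorem lprod_mem_XS {L : List ι} (h : ∀ r ∈ L, r ∈ S) (t : ι → K) : lprod x L t ∈ XS x S := by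
  induction L with
  | nil => exact one_mem _
  | cons r L ih =>
    rw [lprod_cons]
    exact mul_mem (x_mem_XS (h r (by simp)) _) (ih fun s hs => h s (by simp [hs]))

/-- conjugation by `g` maps `XS x S` into `H` if it does so on generators -/
theorem conj_mem_of_mem_XS {H : Subgroup G} {g : G} (h : ∀ r ∈ S, ∀ t, g * x r t * g⁻¹ ∈ H)
    {y : G} (hy : y ∈ XS x S) : g * y * g⁻¹ ∈ H := by
  have : XS x S ≤ H.comap (MulAut.conj g).toMonoidHom := XS_le.2 fun r hr t => h r hr t
  exact this hy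

theorem mem_normalizer_XS {g : G} (h : ∀ r ∈ S, ∀ t, g * x r t * g⁻¹ ∈ XS x S)
    (h' : ∀ r ∈ S, ∀ t, g⁻¹ * x r t * g ∈ XS x S) : g ∈ Subgroup.normalizer (XS x S : Set G) := by
  rw [Subgroup.mem_normalizer_iff]
  intro y
  refine ⟨conj_mem_of_mem_XS h, fun hy => ?_⟩
  have := conj_mem_of_mem_XS (g := g⁻¹) (H := XS x S) (by simpa using h') hy
  simpa [mul_assoc] using this

theorem conj_mem_of_mem_normalizer {H : Subgroup G} {g y : G}
    (hg : g ∈ Subgroup.normalizer (H : Set G)) (hy : y ∈ H) : g * y * g⁻¹ ∈ H :=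
  (Subgroup.mem_normalizer_iff.1 hg y).1 hy

theorem conj_mem_of_mem_normalizer' {H : Subgroup G} {g y : G}
    (hg : g ∈ Subgroup.normalizer (H : Set G)) (hy : y ∈ H) : g⁻¹ * y * g ∈ H := by
  simpa using conj_mem_of_mem_normalizer (inv_mem hg) hy

/-- generators commute modulo a subgroup `N` normalised by everything: so do the generated groups -/
theorem commutator_closure_le {A B : Set G} {N : Subgroup G}
    (hA : Subgroup.closure A ≤ Subgroup.normalizer (N : Set G))
    (hB : Subgroup.closure B ≤ Subgroup.normalizer (N : Set G))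
    (h : ∀ a ∈ A, ∀ b ∈ B, ⁅a, b⁆ ∈ N) : ⁅Subgroup.closure A, Subgroup.closure B⁆ ≤ N := by
  rw [Subgroup.commutator_le]
  intro a ha b hb
  have h1 : ∀ a ∈ A, ∀ b ∈ Subgroup.closure B, ⁅a, b⁆ ∈ N := by
    intro a ha b hb
    induction hb using Subgroup.closure_induction with
    | mem b hb => exact h a ha b hb
    | one => simp
    | mul b c hb hc ihb ihc =>
      have : ⁅a, b * c⁆ = ⁅a, b⁆ * (b * ⁅a, c⁆ * b⁻¹) := by simp only [commutatorElement_def]; group
      rw [this]
      exact mul_mem ihb (conj_mem_of_mem_normalizer (hB hb) ihc)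
    | inv b hb ih =>
      have : ⁅a, b⁻¹⁆ = b⁻¹ * ⁅a, b⁆⁻¹ * b := by simp only [commutatorElement_def]; group
      rw [this]
      exact conj_mem_of_mem_normalizer' (hB hb) (inv_mem ih)
  induction ha using Subgroup.closure_induction with
  | mem a ha => exact h1 a ha b hb
  | one => simp
  | mul a c ha hc iha ihc =>
    have : ⁅a * c, b⁆ = (a * ⁅c, b⁆ * a⁻¹) * ⁅a, b⁆ := by simp only [commutatorElement_def]; group
    rw [this]
    exact mul_mem (conj_mem_of_mem_normalizer (hA ha) ihc) iha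
  | inv a ha ih =>
    have : ⁅a⁻¹, b⁆ = a⁻¹ * ⁅a, b⁆⁻¹ * a := by simp only [commutatorElement_def]; group
    rw [this]
    exact conj_mem_of_mem_normalizer' (hA ha) (inv_mem ih)

end basic

/-- A graded family on the index set `S`: additive in the parameter, and commutators of different
families lie in the group generated by families of strictly larger degree. -/
structure Graded [AddCommGroup K] (x : ι → K → G) (S : Set ι) (f : ι → ℤ) : Prop where
  fin : S.Finite
  add : ∀ r ∈ S, ∀ t u, x r t * x r u = x r (t + u)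
  comm : ∀ r ∈ S, ∀ s ∈ S, s ≠ r → ∀ t u,
    (x s u)⁻¹ * (x r t)⁻¹ * x s u * x r t ∈ XS x {k | k ∈ S ∧ f r < f k ∧ f s < f k}

namespace Graded

variable [AddCommGroup K] {x : ι → K → G} {S : Set ι} {f : ι → ℤ} (h : Graded x S f)
include h

theorem x_zero {r : ι} (hr : r ∈ S) : x r 0 = 1 := by simpa using h.add r hr 0 0

theorem x_neg {r : ι} (hr : r ∈ S) (t : K) : x r (-t) = (x r t)⁻¹ :=
  eq_inv_of_mul_eq_one_left (by rw [h.add r hr, neg_add_cancel, h.x_zero hr])

theorem commutator_mem {r s : ι} (hr : r ∈ S) (hs : s ∈ S) (t u : K) :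
    ⁅x s u, x r t⁆ ∈ XS x {k | k ∈ S ∧ f r < f k ∧ f s < f k} := by
  by_cases hsr : s = r
  · subst hsr
    rw [commutatorElement_def, h.add s hs, add_comm, ← h.add s hs]
    simp
  · have := h.comm r hr s hs hsr (-t) (-u)
    simpa [h.x_neg hr, h.x_neg hs, commutatorElement_def] using this

/-- the terms of the degree filtration -/
theorem le_normalizer_filt (m : ℤ) :
    XS x S ≤ Subgroup.normalizer (XS x {k | k ∈ S ∧ m ≤ f k} : Set G) := by
  have key : ∀ r ∈ S, ∀ t, ∀ s ∈ {k | k ∈ S ∧ m ≤ f k}, ∀ u,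
      x r t * x s u * (x r t)⁻¹ ∈ XS x {k | k ∈ S ∧ m ≤ f k} := by
    intro r hr t s hs u
    have e : x r t * x s u * (x r t)⁻¹ = ⁅x r t, x s u⁆ * x s u := by
      simp [commutatorElement_def]
    rw [e]
    refine mul_mem (XS_mono ?_ (h.commutator_mem hs.1 hr u t)) (x_mem_XS hs u)
    rintro k ⟨hk, h1, -⟩
    exact ⟨hk, hs.2.trans h1.le⟩
  refine XS_le.2 fun r hr t => mem_normalizer_XS (key r hr t) ?_
  simpa [h.x_neg hr] using key r hr (-t)

theorem commutator_filt_le (m : ℤ) :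
    ⁅XS x S, XS x {k | k ∈ S ∧ m ≤ f k}⁆ ≤ XS x {k | k ∈ S ∧ m + 1 ≤ f k} := by
  refine commutator_closure_le (h.le_normalizer_filt _)
    ((XS_mono fun _ hk => hk.1).trans (h.le_normalizer_filt _)) ?_
  rintro _ ⟨r, hr, t, rfl⟩ _ ⟨s, hs, u, rfl⟩
  refine XS_mono ?_ (h.commutator_mem hs.1 hr u t)
  rintro k ⟨hk, h1, -⟩
  exact ⟨hk, by have := hs.2; omega⟩

theorem exists_bounds : ∃ (a : ℤ) (n : ℕ), ∀ k ∈ S, a ≤ f k ∧ f k < a + n := by
  obtain ⟨a, ha⟩ := (h.fin.image f).bddBelow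
  obtain ⟨b, hb⟩ := (h.fin.image f).bddAbove
  refine ⟨a, (b + 1 - a).toNat, fun k hk => ?_⟩
  have h1 := ha ⟨k, hk, rfl⟩
  have h2 := hb ⟨k, hk, rfl⟩
  omega

theorem isNilpotent : Group.IsNilpotent (XS x S) := by
  obtain ⟨a, n, hn⟩ := h.exists_bounds
  rw [Subgroup.nilpotent_iff_finite_descending_central_series]
  refine ⟨n, fun i => (XS x {k | k ∈ S ∧ a + i ≤ f k}).subgroupOf (XS x S), ⟨?_, ?_⟩, ?_⟩
  · rw [Subgroup.subgroupOf_eq_top]
    exact XS_mono fun k hk => ⟨hk, by simpa using (hn k hk).1⟩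
  · intro y i hy g
    rw [Subgroup.mem_subgroupOf] at hy ⊢
    have := h.commutator_filt_le (a + i) (Subgroup.commutator_mem_commutator g.2 hy)
    have e : ((⁅y, g⁆ : XS x S) : G) = ⁅(g : G), (y : G)⁆⁻¹ := by
      simp [commutatorElement_def, mul_assoc]
    rw [e]
    refine inv_mem (XS_mono ?_ this)
    rintro k ⟨hk, h1⟩
    exact ⟨hk, by push_cast; omega⟩
  · have : {k | k ∈ S ∧ a + n ≤ f k} = ∅ := by
      ext k
      simp only [Set.mem_ofPred_eq, Set.mem_empty_iff_false, iff_false, not_and, not_le]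
      exact fun hk => (hn k hk).2
    simp [this, XS_empty]

theorem lprod_zero {L : List ι} (hL : ∀ r ∈ L, r ∈ S) : lprod x L 0 = 1 := by
  induction L with
  | nil => rfl
  | cons r L ih =>
    rw [lprod_cons, ih fun s hs => hL s (by simp [hs]), Pi.zero_apply, h.x_zero (hL r (by simp)),
      one_mul]

theorem step [DecidableEq ι] {L : List ι} (hL : ∀ r ∈ L, r ∈ S) (hnd : L.Nodup) {r : ι} (hr : r ∈ L)
    (t : ι → K) (c : K) :
    (lprod x L (Function.update t r (t r + c)))⁻¹ * (lprod x L t * x r c) ∈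
      XS x {k | k ∈ S ∧ f r + 1 ≤ f k} := by
  obtain ⟨L1, L2, rfl⟩ := List.append_of_mem hr
  have hrS := hL r hr
  have h1 : r ∉ L1 := fun h' => (List.nodup_append.1 hnd).2.2 r h' r (by simp) rfl
  have h2 : r ∉ L2 := (List.nodup_cons.1 (List.nodup_append.1 hnd).2.1).1
  have e1 : lprod x L1 (Function.update t r (t r + c)) = lprod x L1 t :=
    lprod_congr fun s hs => Function.update_of_ne (by rintro rfl; exact h1 hs) _ _
  have e2 : lprod x L2 (Function.update t r (t r + c)) = lprod x L2 t :=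
    lprod_congr fun s hs => Function.update_of_ne (by rintro rfl; exact h2 hs) _ _
  simp only [lprod_append, lprod_cons, e1, e2, Function.update_self, ← h.add r hrS]
  have hP : lprod x L2 t ∈ XS x S := lprod_mem_XS (fun s hs => hL s (by simp [hs])) t
  have e : (lprod x L1 t * (x r (t r) * x r c * lprod x L2 t))⁻¹ *
      (lprod x L1 t * (x r (t r) * lprod x L2 t) * x r c) = ⁅(lprod x L2 t)⁻¹, (x r c)⁻¹⁆ := by
    simp only [commutatorElement_def]; group
  rw [e]
  exact h.commutator_filt_le (f r)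
    (Subgroup.commutator_mem_commutator (inv_mem hP) (inv_mem (x_mem_XS (S := {k | k ∈ S ∧ f r ≤ f k}) ⟨hrS, le_rfl⟩ c)))

/-- **Normal form**: every element of `XS x S` is an ordered product, for any order. -/
theorem exists_lprod {L : List ι} (hL : ∀ r, r ∈ L ↔ r ∈ S) (hnd : L.Nodup) {g : G}
    (hg : g ∈ XS x S) : ∃ t : ι → K, g = lprod x L t := by
  classical
  obtain ⟨a, n, hn⟩ := h.exists_bounds
  have hL' : ∀ r ∈ L, r ∈ S := fun r hr => (hL r).1 hr
  have key : ∀ i : ℕ, ∃ t : ι → K, (lprod x L t)⁻¹ * g ∈ XS x {k | k ∈ S ∧ a + i ≤ f k} := by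
    intro i
    induction i with
    | zero =>
      refine ⟨0, ?_⟩
      rw [h.lprod_zero hL', inv_one, one_mul]
      exact XS_mono (S := S) (fun k hk => And.intro hk (by simpa using (hn k hk).1)) hg
    | succ i ih =>
      obtain ⟨t, ht⟩ := ih
      suffices H : ∀ y ∈ XS x {k | k ∈ S ∧ a + i ≤ f k}, ∀ t : ι → K, ∃ t' : ι → K,
          (lprod x L t')⁻¹ * (lprod x L t * y) ∈ XS x {k | k ∈ S ∧ a + i + 1 ≤ f k} by
        obtain ⟨t', ht'⟩ := H _ ht t
        refine ⟨t', ?_⟩
        simpa [add_assoc] using ht'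
      have gen : ∀ r ∈ {k | k ∈ S ∧ a + i ≤ f k}, ∀ c, ∀ t : ι → K, ∃ t' : ι → K,
          (lprod x L t')⁻¹ * (lprod x L t * x r c) ∈ XS x {k | k ∈ S ∧ a + i + 1 ≤ f k} := by
        intro r hr c t
        refine ⟨_, XS_mono ?_ (h.step hL' hnd ((hL r).2 hr.1) t c)⟩
        rintro k ⟨hk, h1⟩
        exact ⟨hk, by have := hr.2; omega⟩
      have mul : ∀ y ∈ XS x {k | k ∈ S ∧ a + i ≤ f k}, ∀ r ∈ {k | k ∈ S ∧ a + i ≤ f k}, ∀ c,
          (∀ t : ι → K, ∃ t' : ι → K,
            (lprod x L t')⁻¹ * (lprod x L t * y) ∈ XS x {k | k ∈ S ∧ a + i + 1 ≤ f k}) →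
          ∀ t : ι → K, ∃ t' : ι → K,
            (lprod x L t')⁻¹ * (lprod x L t * (y * x r c)) ∈ XS x {k | k ∈ S ∧ a + i + 1 ≤ f k} := by
        intro y _ r hr c ih t
        obtain ⟨t1, h1⟩ := ih t
        obtain ⟨t2, h2⟩ := gen r hr c t1
        refine ⟨t2, ?_⟩
        have e : (lprod x L t2)⁻¹ * (lprod x L t * (y * x r c)) =
            (lprod x L t2)⁻¹ * (lprod x L t1 * x r c) *
              ((x r c)⁻¹ * ((lprod x L t1)⁻¹ * (lprod x L t * y)) * x r c) := by group
        rw [e]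
        exact mul_mem h2 (conj_mem_of_mem_normalizer' (h.le_normalizer_filt _ (x_mem_XS hr.1 c)) h1)
      intro y hy
      induction hy using Subgroup.closure_induction_right with
      | one => exact fun t => ⟨t, by simp⟩
      | mul_right y hy z hz ih =>
        obtain ⟨r, hr, c, rfl⟩ := hz
        exact mul y hy r hr c ih
      | mul_inv_cancel y hy z hz ih =>
        obtain ⟨r, hr, c, rfl⟩ := hz
        rw [← h.x_neg hr.1]
        exact mul y hy r hr (-c) ih
  obtain ⟨t, ht⟩ := key n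
  have : {k | k ∈ S ∧ a + n ≤ f k} = ∅ := by
    ext k
    simp only [Set.mem_ofPred_eq, Set.mem_empty_iff_false, iff_false, not_and, not_le]
    exact fun hk => (hn k hk).2
  rw [this, XS_empty, Subgroup.mem_bot, inv_mul_eq_one] at ht
  exact ⟨t, ht.symm⟩

/-- Factorisation `XS S = XS S₁ · XS S₂` for any cover `S = S₁ ∪ S₂`. -/
theorem exists_mul {S₁ S₂ : Set ι} (hS : ∀ r ∈ S, r ∈ S₁ ∨ r ∈ S₂) {g : G} (hg : g ∈ XS x S) :
    ∃ a ∈ XS x (S ∩ S₁), ∃ b ∈ XS x (S ∩ S₂), g = a * b := by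
  classical
  let L1 := (h.fin.toFinset.filter (· ∈ S₁)).toList
  let L2 := (h.fin.toFinset.filter (· ∉ S₁)).toList
  obtain ⟨t, rfl⟩ := h.exists_lprod (L := L1 ++ L2) (by
    intro r
    simp only [L1, L2, List.mem_append, Finset.mem_toList, Finset.mem_filter, Set.Finite.mem_toFinset]
    tauto) (by
    refine List.nodup_append.2 ⟨Finset.nodup_toList _, Finset.nodup_toList _, ?_⟩
    intro a ha b hb hab
    simp only [L1, L2, Finset.mem_toList, Finset.mem_filter] at ha hb
    exact hb.2 (hab ▸ ha.2)) hg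
  refine ⟨_, lprod_mem_XS (L := L1) ?_ t, _, lprod_mem_XS (L := L2) ?_ t, lprod_append _ _ _⟩
  · intro r hr
    simpa [L1] using hr
  · intro r hr
    simp only [L2, Finset.mem_toList, Finset.mem_filter, Set.Finite.mem_toFinset] at hr
    exact ⟨hr.1, (hS r hr.1).resolve_left hr.2⟩

end Graded

end CL.Chev
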