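import Cfsg.Agent.Base
import Cfsg.Agent.Chev.TwAbs

/-!
Abstract theory of twisted groups, part 2: the fixed points of `U` lie in the twisted group, orders, the monomial
subgroup of the twisted group, and the (B,N)-pair.
-/

set_option autoImplicit false

namespace CL.Tw

open scoped Pointwise

namespace TwSys

variable {G W Φ ι : Type*} [Group G] [Group W] [MulAction W Φ] {T : TwSys G W Φ ι}

theorem neg_wJ_mem {j : ι} {r : Φ} (hr : r ∈ invS T.P (T.wJ j)) : T.neg (T.wJ j • r) ∈ invS T.P (T.wJ j) :=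
  ⟨(T.neg_mem _).2 hr.2, by rw [T.smul_neg, wJ_smul_smul, T.neg_mem]; exact not_not.2 hr.1⟩

theorem mul_wJ_pos {w : W} {j : ι} (h : ∀ r ∈ invS T.P (T.wJ j), w • r ∉ T.P) {r : Φ}
    (hr : r ∈ invS T.P (T.wJ j)) : (w * T.wJ j) • r ∈ T.P := by
  have := h _ (neg_wJ_mem hr)
  rwa [T.smul_neg, T.neg_mem, not_not, ← mul_smul] at this

theorem wJ_smul_mem_of_inv_mul {w : W} {j : ι} (h : ∀ r ∈ invS T.P (T.wJ j), w • r ∉ T.P) {r : Φ}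
    (hr : r ∈ invS T.P (w * T.wJ j)) : T.wJ j • r ∈ invS T.P w ∧ T.wJ j • r ∈ keepS T.P (T.wJ j) := by
  have h1 : T.wJ j • r ∈ T.P := by
    by_contra hc
    exact hr.2 (mul_wJ_pos h ⟨hr.1, hc⟩)
  exact ⟨⟨h1, by rw [← mul_smul]; exact hr.2⟩, h1, by rw [wJ_smul_smul]; exact hr.1⟩

theorem ncard_invS [Finite Φ] {w : W} {j : ι} (h : ∀ r ∈ invS T.P (T.wJ j), w • r ∉ T.P) :
    (invS T.P w).ncard = (invS T.P (w * T.wJ j)).ncard + (invS T.P (T.wJ j)).ncard := by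
  have h1 : invS T.P w = (fun r => T.wJ j • r) '' invS T.P (w * T.wJ j) ∪ invS T.P (T.wJ j) := by
    ext r
    constructor
    · intro hr
      by_cases hc : T.wJ j • r ∈ T.P
      · exact Or.inl ⟨T.wJ j • r, ⟨hc, by rw [mul_smul, wJ_smul_smul]; exact hr.2⟩, wJ_smul_smul j r⟩
      · exact Or.inr ⟨hr.1, hc⟩
    · rintro (⟨s, hs, rfl⟩ | hr)
      · exact (wJ_smul_mem_of_inv_mul h hs).1
      · exact ⟨hr.1, h r hr⟩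
  rw [h1, Set.ncard_union_eq, Set.ncard_image_of_injective _ (MulAction.injective _)]
  rw [Set.disjoint_left]
  rintro _ ⟨s, hs, rfl⟩ hr
  exact hr.2 (wJ_smul_mem_of_inv_mul h hs).2.2

theorem W1_induction [Finite Φ] {C : W → Prop} (h1 : C 1)
    (hstep : ∀ w ∈ T.W1, ∀ j, (∀ r ∈ invS T.P (T.wJ j), w • r ∉ T.P) → C (w * T.wJ j) → C w) :
    ∀ w ∈ T.W1, C w := by
  intro w hw
  induction hn : (invS T.P w).ncard using Nat.strong_induction_on generalizing w with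
  | _ n ih =>
    by_cases hw1 : w = 1
    · rw [hw1]; exact h1
    · obtain ⟨j, hj⟩ := T.desc w hw hw1
      refine hstep w hw j hj (ih _ ?_ _ (T.W1.mul_mem hw (wJ_mem j)) rfl)
      have := ncard_invS hj
      have h2 : 0 < (invS T.P (T.wJ j)).ncard := (Set.ncard_pos (Set.toFinite _)).2 (invS_wJ_nonempty j)
      omega

theorem exists_rep_of_subgroup [Finite Φ] (N₀ : Subgroup G) (h : ∀ j, ∃ m ∈ N₀, T.Rep m (T.wJ j)) :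
    ∀ w ∈ T.W1, ∃ n ∈ N₀, T.Rep n w := by
  apply W1_induction
  · exact ⟨1, N₀.one_mem, rep_one⟩
  · rintro w - j - ⟨n, hn, hnw⟩
    obtain ⟨m, hm, hmw⟩ := h j
    refine ⟨n * m, N₀.mul_mem hn hm, ?_⟩
    have := T.rep_mul hnw hmw
    rwa [mul_assoc, T.wJ_sq, mul_one] at this

theorem exists_rep_G1 [Finite Φ] : ∀ w ∈ T.W1, ∃ n ∈ T.G1, T.Rep n w :=
  exists_rep_of_subgroup T.G1 fun j => by
    obtain ⟨m, h1, h2⟩ := exists_rep_wJ (T := T) j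
    exact ⟨m, h2, h1⟩

theorem W1_eq_closure [Finite Φ] : T.W1 = Subgroup.closure (Set.range T.wJ) := by
  apply le_antisymm
  · intro w hw
    revert w
    apply W1_induction
    · exact one_mem _
    · intro w _ j _ h
      have := Subgroup.mul_mem _ h (Subgroup.subset_closure (Set.mem_range_self j))
      rwa [mul_assoc, T.wJ_sq, mul_one] at this
  · rw [Subgroup.closure_le]
    rintro _ ⟨j, rfl⟩
    exact wJ_mem j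

theorem Uw_one : T.Uw 1 = ⊥ := by
  have : invS T.P (1 : W) = ∅ := by
    ext r; simp [invS]
  rw [Uw, this, T.XS_empty]

theorem Uw_w0 {w : W} (hw : ∀ r ∈ T.P, w • r ∉ T.P) : T.Uw w = T.U := by
  have : invS T.P w = T.P := by
    ext r; exact ⟨fun h => h.1, fun h => ⟨h, hw r h⟩⟩
  rw [Uw, this]

theorem fix_conj {m a : G} (hm : T.σ m = m) (ha : T.σ a = a) : T.σ (m * a * m⁻¹) = m * a * m⁻¹ := by
  rw [map_mul, map_mul, map_inv, hm, ha]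

theorem Uw_wJ_le {w : W} {j : ι} (h : ∀ r ∈ invS T.P (T.wJ j), w • r ∉ T.P) : T.Uw (T.wJ j) ≤ T.Uw w :=
  T.XS_mono (show invS T.P (T.wJ j) ⊆ invS T.P w from fun r hr => ⟨hr.1, h r hr⟩)

theorem Uw_split {w : W} {j : ι} (h : ∀ r ∈ invS T.P (T.wJ j), w • r ∉ T.P) {m : G} (hm : T.Rep m (T.wJ j))
    (hσm : T.σ m = m) {g : G} (hg : g ∈ T.Uw w) (hσ : T.σ g = g) :
    ∃ a ∈ T.Uw (w * T.wJ j), T.σ a = a ∧ ∃ b ∈ T.Uw (T.wJ j), T.σ b = b ∧ g = m⁻¹ * a * m * b := by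
  obtain ⟨a, ha, hσa, b, hb, hσb, rfl⟩ := fact_fix (wJ_mem j) (Uw_le_U w hg) hσ
  obtain ⟨n, hn⟩ := T.rep_surj w
  have hb' : b ∈ T.Uw w := Uw_wJ_le h hb
  have ha' : a ∈ T.Uw w := by
    have := (T.Uw w).mul_mem hg ((T.Uw w).inv_mem hb')
    rwa [mul_inv_cancel_right] at this
  refine ⟨m * a * m⁻¹, ?_, fix_conj hσm hσa, b, hb, hσb, by group⟩
  apply mem_Uw_of_conj (T.rep_mul hn (rep_wJ_inv hm)) (keep_le_U _ (T.rep_conj hm (keep_wJ j) ha))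
  have : n * a * n⁻¹ ∈ T.V := T.rep_conj hn (fun r hr => hr.2) ha'
  convert this using 1
  group

theorem mem_G1_of_Uw [Finite Φ] : ∀ w ∈ T.W1, ∀ g ∈ T.Uw w, T.σ g = g → g ∈ T.G1 := by
  apply W1_induction
  · intro g hg _
    rw [Uw_one, Subgroup.mem_bot] at hg
    rw [hg]; exact one_mem _
  · intro w _ j hj ih g hg hσ
    obtain ⟨m, hm, hm1⟩ := exists_rep_wJ (T := T) j
    obtain ⟨a, ha, hσa, b, hb, hσb, rfl⟩ := Uw_split hj hm (G1_le_Fix hm1) hg hσ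
    exact T.G1.mul_mem (T.G1.mul_mem (T.G1.mul_mem (T.G1.inv_mem hm1) (ih a ha hσa)) hm1) (mem_G1_of_pos hb hσb)

/-- The fixed points of `σ` in `U` lie in the twisted group. -/
theorem mem_G1_of_U [Finite Φ] {g : G} (hg : g ∈ T.U) (hσ : T.σ g = g) : g ∈ T.G1 := by
  obtain ⟨w, hw, hw0⟩ := exists_w0_mem (T := T)
  exact mem_G1_of_Uw w hw g (by rw [Uw_w0 hw0]; exact hg) hσ

theorem w0_smul_neg {w : W} (hw0 : ∀ r ∈ T.P, w • r ∉ T.P) {r : Φ} (hr : r ∉ T.P) : w • r ∈ T.P := by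
  have := hw0 _ ((T.neg_mem r).2 hr)
  rwa [T.smul_neg, T.neg_mem, not_not] at this

/-- The fixed points of `σ` in `V` lie in the twisted group. -/
theorem mem_G1_of_V [Finite Φ] {g : G} (hg : g ∈ T.V) (hσ : T.σ g = g) : g ∈ T.G1 := by
  obtain ⟨w, hw, hw0⟩ := exists_w0_mem (T := T)
  obtain ⟨n, hn1, hn⟩ := exists_rep_G1 w hw
  have h1 : n * g * n⁻¹ ∈ T.G1 :=
    mem_G1_of_U (T.rep_conj hn (fun r hr => w0_smul_neg hw0 hr) hg) (fix_conj (G1_le_Fix hn1) hσ)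
  have := T.G1.mul_mem (T.G1.mul_mem (T.G1.inv_mem hn1) h1) hn1
  convert this using 1
  group

theorem U_inf_G1 [Finite Φ] : T.U ⊓ T.G1 = T.U ⊓ T.Fix :=
  le_antisymm (inf_le_inf_left _ G1_le_Fix) fun _ hg => ⟨hg.1, mem_G1_of_U hg.1 hg.2⟩

theorem card_Uw_split {w : W} {j : ι} (h : ∀ r ∈ invS T.P (T.wJ j), w • r ∉ T.P) :
    Nat.card ↥(T.Uw w ⊓ T.Fix) = Nat.card ↥(T.Uw (w * T.wJ j) ⊓ T.Fix) * Nat.card ↥(T.Uw (T.wJ j) ⊓ T.Fix) := by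
  obtain ⟨m, hm, hm1⟩ := exists_rep_wJ (T := T) j
  have hσm : T.σ m = m := G1_le_Fix hm1
  have hk : ∀ a ∈ T.Uw (w * T.wJ j), m⁻¹ * a * m⁻¹⁻¹ ∈ T.XS (keepS T.P (T.wJ j)) := fun a ha =>
    T.rep_conj (rep_wJ_inv hm) (fun r hr => (wJ_smul_mem_of_inv_mul h hr).2) ha
  have hi : ∀ a ∈ T.Uw (w * T.wJ j), m⁻¹ * a * m⁻¹⁻¹ ∈ T.Uw w := fun a ha =>
    T.rep_conj (rep_wJ_inv hm) (fun r hr => (wJ_smul_mem_of_inv_mul h hr).1) ha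
  simp only [inv_inv] at hk hi
  rw [← Nat.card_prod]
  symm
  refine Nat.card_congr (Equiv.ofBijective (fun p => ⟨m⁻¹ * p.1.1 * m * p.2.1, ?_, ?_⟩) ⟨?_, ?_⟩)
  · exact (T.Uw w).mul_mem (hi _ p.1.2.1) (Uw_wJ_le h p.2.2.1)
  · exact T.Fix.mul_mem (T.Fix.mul_mem (T.Fix.mul_mem (T.Fix.inv_mem hσm) p.1.2.2) hσm) p.2.2.2
  · rintro ⟨⟨a, ha, ha2⟩, ⟨b, hb, hb2⟩⟩ ⟨⟨a', ha', ha2'⟩, ⟨b', hb', hb2'⟩⟩ heq
    have heq' : m⁻¹ * a * m * b = m⁻¹ * a' * m * b' := congrArg Subtype.val heq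
    have h1 : (m⁻¹ * a' * m)⁻¹ * (m⁻¹ * a * m) = b' * b⁻¹ := by
      rw [inv_mul_eq_iff_eq_mul, ← mul_assoc, eq_mul_inv_iff_mul_eq, heq']
    have h2 : (m⁻¹ * a' * m)⁻¹ * (m⁻¹ * a * m) = 1 := eq_one_of_keep_inv
      ((T.XS _).mul_mem ((T.XS _).inv_mem (hk _ ha')) (hk _ ha))
      (h1 ▸ (T.Uw _).mul_mem hb' ((T.Uw _).inv_mem hb))
    rw [h2] at h1
    have e1 : a = a' := by
      have := inv_mul_eq_one.1 h2
      simpa using this.symm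
    have e2 : b = b' := (mul_inv_eq_one.1 h1.symm).symm
    subst e1 e2
    rfl
  · rintro ⟨g, hg, hσ⟩
    obtain ⟨a, ha, hσa, b, hb, hσb, rfl⟩ := Uw_split h hm hσm hg hσ
    exact ⟨(⟨a, ha, hσa⟩, ⟨b, hb, hσb⟩), rfl⟩

theorem card_Uw [Finite Φ] {q k : ℕ}
    (hJ : ∀ j, ∃ e, Nat.card ↥(T.Uw (T.wJ j) ⊓ T.Fix) = q ^ e ∧ k * e = (invS T.P (T.wJ j)).ncard) :
    ∀ w ∈ T.W1, ∃ e, Nat.card ↥(T.Uw w ⊓ T.Fix) = q ^ e ∧ k * e = (invS T.P w).ncard := by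
  apply W1_induction
  · refine ⟨0, by rw [Uw_one, bot_inf_eq]; simp, ?_⟩
    have : invS T.P (1 : W) = ∅ := by
      ext r; simp [invS]
    rw [this]; simp
  · rintro w - j hj ⟨e, he1, he2⟩
    obtain ⟨e', h1, h2⟩ := hJ j
    exact ⟨e + e', by rw [card_Uw_split hj, he1, h1, pow_add], by rw [ncard_invS hj, mul_add, he2, h2]⟩

theorem card_Uw_div [Finite Φ] {q k : ℕ} (hk : 0 < k)
    (hJ : ∀ j, ∃ e, Nat.card ↥(T.Uw (T.wJ j) ⊓ T.Fix) = q ^ e ∧ k * e = (invS T.P (T.wJ j)).ncard)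
    {w : W} (hw : w ∈ T.W1) : Nat.card ↥(T.Uw w ⊓ T.Fix) = q ^ ((invS T.P w).ncard / k) := by
  obtain ⟨e, h1, h2⟩ := card_Uw hJ w hw
  rw [h1, ← h2, Nat.mul_div_cancel_left _ hk]

theorem card_U_inf_G1 [Finite Φ] {q k : ℕ} (hk : 0 < k)
    (hJ : ∀ j, ∃ e, Nat.card ↥(T.Uw (T.wJ j) ⊓ T.Fix) = q ^ e ∧ k * e = (invS T.P (T.wJ j)).ncard) :
    Nat.card ↥(T.U ⊓ T.G1) = q ^ (T.P.ncard / k) := by
  obtain ⟨w, hw, hw0⟩ := exists_w0_mem (T := T)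
  have : invS T.P w = T.P := by
    ext r; exact ⟨fun h => h.1, fun h => ⟨h, hw0 r h⟩⟩
  rw [U_inf_G1, ← Uw_w0 hw0, card_Uw_div hk hJ hw, this]

/-- Bruhat decomposition in the twisted group. -/
theorem bruhat_G1 [Finite Φ] {g : G} (hg : g ∈ T.G1) : ∃ u ∈ T.U, u ∈ T.G1 ∧ ∃ n w, T.Rep n w ∧ n ∈ T.G1 ∧
    w ∈ T.W1 ∧ ∃ v ∈ T.Uw w, v ∈ T.G1 ∧ g = u * n * v := by
  obtain ⟨u, hu, hσu, n, w, hn, -, hw, v, hv, hσv, hg'⟩ := bruhat_fix (G1_le_Fix hg)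
  have h1 := mem_G1_of_U hu hσu
  have h2 := mem_G1_of_U (Uw_le_U _ hv) hσv
  refine ⟨u, hu, h1, n, w, hn, ?_, hw, v, hv, h2, hg'⟩
  have : n = u⁻¹ * g * v⁻¹ := by rw [hg']; group
  rw [this]
  exact T.G1.mul_mem (T.G1.mul_mem (T.G1.inv_mem h1) hg) (T.G1.inv_mem h2)

/-- The order formula. -/
theorem card_G1 [Finite Φ] [Finite G] [Fintype T.W1] :
    Nat.card T.G1 = Nat.card ↥(T.U ⊓ T.G1) * Nat.card ↥(T.H ⊓ T.G1) * ∑ w : T.W1, Nat.card ↥(T.Uw w ⊓ T.Fix) := by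
  choose n hn1 hn using exists_rep_G1 (T := T)
  have : Nat.card T.G1 = Nat.card (Σ w : T.W1, ↥(T.U ⊓ T.G1) × ↥(T.H ⊓ T.G1) × ↥(T.Uw w ⊓ T.Fix)) := by
    symm
    refine Nat.card_congr (Equiv.ofBijective
      (fun p => ⟨p.2.1.1 * (p.2.2.1.1 * n p.1 p.1.2) * p.2.2.2.1, ?_⟩) ⟨?_, ?_⟩)
    · exact T.G1.mul_mem (T.G1.mul_mem p.2.1.2.2 (T.G1.mul_mem p.2.2.1.2.2 (hn1 _ _)))
        (mem_G1_of_U (Uw_le_U _ p.2.2.2.2.1) p.2.2.2.2.2)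
    · rintro ⟨⟨w, hw⟩, ⟨u, hu⟩, ⟨h, hh⟩, ⟨v, hv⟩⟩ ⟨⟨w', hw'⟩, ⟨u', hu'⟩, ⟨h', hh'⟩, ⟨v', hv'⟩⟩ heq
      have heq' : u * (h * n w hw) * v = u' * (h' * n w' hw') * v' := congrArg Subtype.val heq
      have r1 : T.Rep (h * n w hw) w := by simpa using T.rep_mul ((T.mem_H h).1 hh.1) (hn w hw)
      have r2 : T.Rep (h' * n w' hw') w' := by simpa using T.rep_mul ((T.mem_H h').1 hh'.1) (hn w' hw')
      obtain ⟨e1, e2, e3⟩ := T.bruhat_uniq hu.1 hu'.1 r1 r2 hv.1 hv'.1 heq'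
      have e4 : w = w' := T.rep_unique r1 (e2 ▸ r2)
      subst e4 e1 e3
      have e5 : h = h' := mul_right_cancel e2
      subst e5
      rfl
    · rintro ⟨g, hg⟩
      obtain ⟨u, hu, hu1, m, w, hm, hm1, hw, v, hv, hv1, rfl⟩ := bruhat_G1 hg
      refine ⟨⟨⟨w, hw⟩, ⟨u, hu, hu1⟩, ⟨m * (n w hw)⁻¹, mem_H_of_rep hm (hn w hw),
        T.G1.mul_mem hm1 (T.G1.inv_mem (hn1 w hw))⟩, ⟨v, hv, G1_le_Fix hv1⟩⟩, Subtype.ext ?_⟩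
      simp
  rw [this, Nat.card_sigma, Finset.mul_sum]
  apply Finset.sum_congr rfl
  intro w _
  rw [Nat.card_prod, Nat.card_prod, mul_assoc]

/-- The key multiplication lemma, relative to a subgroup `N₀` of `N ∩ G¹` containing the monomial parts of the fixed
elements of the `U_{-J}`. -/
theorem mul_lemma {N₀ : Subgroup G} (hN : N₀ ≤ T.N) (hG : N₀ ≤ T.Fix)
    (h₀ : ∀ j, ∀ y ∈ T.XS (ninvS T.P (T.wJ j)), y ≠ 1 → T.σ y = y → ∃ b ∈ T.U, ∃ m ∈ N₀, ∃ v ∈ T.U, y = b * m * v)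
    {j : ι} {s u n : G} (hs : s ∈ N₀) (hsj : T.Rep s (T.wJ j)) (hu : u ∈ T.U) (hσu : T.σ u = u) (hn : n ∈ N₀) :
    ∃ u₁ ∈ T.U ⊓ T.Fix, ∃ u₂ ∈ T.U ⊓ T.Fix,
      s * u * n = u₁ * (s * n) * u₂ ∨ ∃ h ∈ T.H ⊓ N₀, s * u * n = u₁ * (h * n) * u₂ := by
  obtain ⟨w, hw⟩ := (T.mem_N n).1 (hN hn)
  have hσn : T.σ n = n := hG hn
  have hσs : T.σ s = s := hG hs
  have hw1 : w ∈ T.W1 := mem_W1_of_fix hw hσn
  obtain ⟨a, ha, hσa, c, hc, hσc, rfl⟩ := fact_fix (wJ_mem j) hu hσu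
  have ha' : s * a * s⁻¹ ∈ T.U ⊓ T.Fix := ⟨keep_le_U _ (T.rep_conj hsj (keep_wJ j) ha), fix_conj hσs hσa⟩
  rcases T.dich w⁻¹ (T.W1.inv_mem hw1) j with h | h
  · by_cases hc1 : s * c * s⁻¹ = 1
    · have : c = 1 := by simpa using hc1
      exact ⟨_, ha', 1, one_mem _, Or.inl (by rw [this]; group)⟩
    · have hy : s * c * s⁻¹ ∈ T.XS (ninvS T.P (T.wJ j)) := T.rep_conj hsj (inv_wJ j) hc
      obtain ⟨b, hb, hσb, m, hm, -, v, hv, hσv, hy'⟩ := rank_one hy hc1 (fix_conj hσs hσc)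
      obtain ⟨b', hb', m', hm', v', hv', hy''⟩ := h₀ j _ hy hc1 (fix_conj hσs hσc)
      have hmm : m = m' := eq_of_UNU (Uw_le_U _ hb) hb' (Uw_le_U _ hv) hv' (Rep_mem_N hm) (hN hm') (hy'.symm.trans hy'')
      subst hmm
      have hr : T.Rep (s * n)⁻¹ (w⁻¹ * T.wJ j) := by
        have := T.rep_inv (T.rep_mul hsj hw)
        rwa [mul_inv_rev (T.wJ j), wJ_inv] at this
      refine ⟨s * a * s⁻¹ * b, (T.U ⊓ T.Fix).mul_mem ha' ⟨Uw_le_U _ hb, hσb⟩, (s * n)⁻¹ * v * (s * n)⁻¹⁻¹,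
        ⟨T.rep_conj hr (fun r hr => mul_wJ_pos h hr) hv,
          fix_conj (T.Fix.inv_mem (T.Fix.mul_mem hσs hσn)) hσv⟩, Or.inr ⟨m * s, ⟨?_, N₀.mul_mem hm' hs⟩, ?_⟩⟩
      · exact (T.mem_H _).2 (T.wJ_sq j ▸ T.rep_mul hm hsj)
      · calc s * (a * c) * n = s * a * s⁻¹ * (s * c * s⁻¹) * (s * n) := by group
          _ = _ := by rw [hy']; group
  · refine ⟨_, ha', n⁻¹ * c * n⁻¹⁻¹, ⟨T.rep_conj (T.rep_inv hw) h hc, fix_conj (T.Fix.inv_mem hσn) hσc⟩,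
      Or.inl (by group)⟩

/-- Determination of `N ∩ G¹`. -/
theorem N_inf_G1_le {N₀ : Subgroup G} (hN : N₀ ≤ T.N) (hG : N₀ ≤ T.Fix)
    (h₀ : ∀ j, ∀ y ∈ T.XS (ninvS T.P (T.wJ j)), y ≠ 1 → T.σ y = y → ∃ b ∈ T.U, ∃ m ∈ N₀, ∃ v ∈ T.U, y = b * m * v) :
    T.N ⊓ T.G1 ≤ N₀ := by
  let A : Set G := {g | ∃ u₁ ∈ T.U ⊓ T.Fix, ∃ m ∈ N₀, ∃ u₂ ∈ T.U ⊓ T.Fix, g = u₁ * m * u₂}
  let L : Subgroup G :=
    { carrier := {g | ∀ a ∈ A, g * a ∈ A ∧ g⁻¹ * a ∈ A}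
      mul_mem' := fun {g g'} hg hg' a ha =>
        ⟨by rw [mul_assoc]; exact (hg _ (hg' a ha).1).1, by rw [mul_inv_rev, mul_assoc]; exact (hg' _ (hg a ha).2).2⟩
      one_mem' := fun a ha => by simpa using ha
      inv_mem' := fun {g} hg a ha => ⟨(hg a ha).2, by rw [inv_inv]; exact (hg a ha).1⟩ }
  have hUA : ∀ g ∈ T.U ⊓ T.Fix, ∀ a ∈ A, g * a ∈ A := by
    rintro g hg _ ⟨u₁, h1, m, hm, u₂, h2, rfl⟩
    exact ⟨g * u₁, (T.U ⊓ T.Fix).mul_mem hg h1, m, hm, u₂, h2, by group⟩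
  have hUL : T.U ⊓ T.Fix ≤ L := fun g hg a ha => ⟨hUA g hg a ha, hUA _ ((T.U ⊓ T.Fix).inv_mem hg) a ha⟩
  have hsA : ∀ j, ∀ s ∈ N₀, T.Rep s (T.wJ j) → ∀ a ∈ A, s * a ∈ A := by
    rintro j s hs hsj _ ⟨u₁, h1, m, hm, u₂, h2, rfl⟩
    obtain ⟨v₁, hv₁, v₂, hv₂, h | ⟨h, hh, h'⟩⟩ := mul_lemma hN hG h₀ hs hsj h1.1 h1.2 hm
    · refine ⟨v₁, hv₁, s * m, N₀.mul_mem hs hm, v₂ * u₂, (T.U ⊓ T.Fix).mul_mem hv₂ h2, ?_⟩
      rw [← mul_assoc, ← mul_assoc, h]; group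
    · refine ⟨v₁, hv₁, h * m, N₀.mul_mem hh.2 hm, v₂ * u₂, (T.U ⊓ T.Fix).mul_mem hv₂ h2, ?_⟩
      rw [← mul_assoc, ← mul_assoc, h']; group
  have hGL : T.G1 ≤ L := by
    refine iSup_le fun j => sup_le (le_trans (inf_le_inf_right _ (Uw_le_U _)) hUL) ?_
    rintro y ⟨hy, hσy⟩
    obtain ⟨y₀, hy₀, hy₀1, hσ₀⟩ := T.nontriv j
    obtain ⟨b, hb, -, s, hs, -, v, hv, -, hy'⟩ := rank_one hy₀ hy₀1 hσ₀
    obtain ⟨b', hb', s', hs', v', hv', hy''⟩ := h₀ j _ hy₀ hy₀1 hσ₀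
    have hss : s = s' := eq_of_UNU (Uw_le_U _ hb) hb' (Uw_le_U _ hv) hv' (Rep_mem_N hs) (hN hs') (hy'.symm.trans hy'')
    subst hss
    have hsL : s ∈ L := fun a ha => ⟨hsA j s hs' hs a ha, hsA j _ (N₀.inv_mem hs') (rep_wJ_inv hs) a ha⟩
    have h1 : s * y * s⁻¹ ∈ L := hUL ⟨Uw_le_U _ (T.rep_conj hs (ninv_wJ j) hy), fix_conj (hG hs') hσy⟩
    have := L.mul_mem (L.mul_mem (L.inv_mem hsL) h1) hsL
    convert this using 1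
    group
  rintro n ⟨hn, hn1⟩
  obtain ⟨u₁, h1, m, hm, u₂, h2, h⟩ := (hGL hn1 1 ⟨1, one_mem _, 1, one_mem _, 1, one_mem _, by simp⟩).1
  have : n = m := eq_of_UNU T.U.one_mem h1.1 T.U.one_mem h2.1 hn (hN hm) (by rw [one_mul, h])
  rw [this]; exact hm

end TwSys

end CL.Tw
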