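import Cfsg.Agent.Base
import Cfsg.Agent.Chev.TwAbs2

/-!
Abstract theory of twisted groups, part 3: the (B,N)-pair, the core of `B¹`, the homomorphism `N¹ → W¹`, criteria for
perfectness.  The twisted group is given as a group `Γ` with an injective homomorphism onto `T.G1`.
-/

set_option autoImplicit false

namespace CL.Tw

open scoped Pointwise commutatorElement

namespace TwSys

variable {G W Φ ι : Type*} [Group G] [Group W] [MulAction W Φ] {T : TwSys G W Φ ι}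

theorem B_inf_G1 [Finite Φ] {b : G} (hb : b ∈ T.B) (hb1 : b ∈ T.G1) :
    ∃ u ∈ T.U, u ∈ T.G1 ∧ ∃ h ∈ T.H, h ∈ T.G1 ∧ b = u * h := by
  obtain ⟨u, hu, hσu, h, hh, -, rfl⟩ := B_fix hb (G1_le_Fix hb1)
  have h1 := mem_G1_of_U hu hσu
  refine ⟨u, hu, h1, h, hh, ?_, rfl⟩
  have := T.G1.mul_mem (T.G1.inv_mem h1) hb1
  rwa [inv_mul_cancel_left] at this

theorem exists_pos_nontriv (j : ι) : ∃ c ∈ T.Uw (T.wJ j), c ≠ 1 ∧ T.σ c = c := by
  obtain ⟨y, hy, hy1, hσ⟩ := T.nontriv j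
  obtain ⟨m, hm, hm1⟩ := exists_rep_wJ (T := T) j
  exact ⟨m * y * m⁻¹, T.rep_conj hm (ninv_wJ j) hy, by simpa using hy1, fix_conj (G1_le_Fix hm1) hσ⟩

section Gamma

variable {Γ : Type*} [Group Γ] (e : Γ →* G)

/-- The (B,N)-pair of the twisted group. -/
theorem exists_BNPair [Finite Φ] (he : Function.Injective e) (hr : e.range = T.G1) :
    ∃ P : Cfsg.BNPair Γ, P.B = T.B.comap e ∧ P.N = T.N.comap e ∧
      (∀ s ∈ P.S, ∃ j, T.Rep (e s) (T.wJ j)) ∧ (∀ j, ∃ s ∈ P.S, T.Rep (e s) (T.wJ j)) := by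
  have hl : ∀ g ∈ T.G1, ∃ γ, e γ = g := fun g hg => by rw [← hr] at hg; exact hg
  have hm : ∀ γ, e γ ∈ T.G1 := fun γ => by rw [← hr]; exact ⟨γ, rfl⟩
  have : ∀ j, ∃ s : Γ, T.Rep (e s) (T.wJ j) := fun j => by
    obtain ⟨m, h1, h2⟩ := exists_rep_wJ (T := T) j
    obtain ⟨s, rfl⟩ := hl m h2
    exact ⟨s, h1⟩
  choose n hn using this
  refine ⟨{ B := T.B.comap e
            N := T.N.comap e
            S := Set.range n
            sup_eq_top := ?_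
            conj_mem := ?_
            subset := ?_
            sq_mem := ?_
            inj := ?_
            closure_sup := ?_
            mul_mem_union := ?_
            conj_ne := ?_ }, rfl, rfl, ?_, ?_⟩
  · rw [eq_top_iff]
    intro γ _
    obtain ⟨u, hu, hu1, m, w, hmw, hm1, -, v, hv, hv1, h⟩ := bruhat_G1 (hm γ)
    obtain ⟨u, rfl⟩ := hl u hu1
    obtain ⟨m, rfl⟩ := hl m hm1
    obtain ⟨v, rfl⟩ := hl v hv1
    rw [← map_mul, ← map_mul] at h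
    rw [he h]
    exact Subgroup.mul_mem _ (Subgroup.mul_mem _ (Subgroup.mem_sup_left (U_le_B hu))
      (Subgroup.mem_sup_right (Rep_mem_N hmw))) (Subgroup.mem_sup_left (U_le_B (Uw_le_U _ hv)))
  · intro m hm t ht
    rw [Subgroup.mem_comap, map_mul, map_mul, map_inv]
    exact H_le_B (conj_mem_H hm (mem_H_of_mem_B_N ht.1 ht.2))
  · rintro _ ⟨j, rfl⟩
    exact Rep_mem_N (hn j)
  · rintro _ ⟨j, rfl⟩
    rw [Subgroup.mem_comap, map_mul]
    exact H_le_B ((T.mem_H _).2 (T.wJ_sq j ▸ T.rep_mul (hn j) (hn j)))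
  · rintro _ ⟨j, rfl⟩ _ ⟨k, rfl⟩ h
    rw [Subgroup.mem_comap, map_mul, map_inv] at h
    have h1 := T.rep_mul (T.rep_inv (hn j)) (hn k)
    have h2 := T.rep_unique h1 ((T.mem_H _).1 (mem_H_of_mem_B_N h (Rep_mem_N h1)))
    rw [T.wJ_inj (inv_mul_eq_one.1 h2)]
  · apply le_antisymm
    · refine sup_le ?_ inf_le_right
      rw [Subgroup.closure_le]
      rintro _ ⟨j, rfl⟩
      exact Rep_mem_N (hn j)
    · intro m hmN
      obtain ⟨w, hw⟩ := (T.mem_N _).1 hmN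
      obtain ⟨_, ⟨m', hm', rfl⟩, hw'⟩ := exists_rep_of_subgroup ((Subgroup.closure (Set.range n)).map e)
        (fun j => ⟨e (n j), ⟨n j, Subgroup.subset_closure ⟨j, rfl⟩, rfl⟩, hn j⟩) w
        (mem_W1_of_fix hw (G1_le_Fix (hm m)))
      have h1 : e (m'⁻¹ * m) ∈ T.H := by rw [map_mul, map_inv]; exact mem_H_of_rep' hw' hw
      have : m = m' * (m'⁻¹ * m) := by group
      rw [this]
      exact Subgroup.mul_mem _ (Subgroup.mem_sup_left hm') (Subgroup.mem_sup_right ⟨H_le_B h1, H_le_N h1⟩)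
  · rintro _ ⟨j, rfl⟩ m hmN b hb
    obtain ⟨u, hu, hu1, h, hh, hh1, hb'⟩ := B_inf_G1 hb (hm b)
    have hsN : e (n j) ∈ T.N ⊓ T.G1 := ⟨Rep_mem_N (hn j), hm _⟩
    obtain ⟨u₁, h₁, u₂, h₂, hc⟩ := mul_lemma (N₀ := T.N ⊓ T.G1) inf_le_left (inf_le_right.trans G1_le_Fix)
      (fun j y hy hy1 hσ => by
        obtain ⟨b, hb, -, m, hm, hm1, v, hv, -, h⟩ := rank_one hy hy1 hσ
        exact ⟨b, Uw_le_U _ hb, m, ⟨Rep_mem_N hm, hm1⟩, v, Uw_le_U _ hv, h⟩)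
      hsN (hn j) hu (G1_le_Fix hu1) (n := h * e m) ⟨T.N.mul_mem (H_le_N hh) hmN, T.G1.mul_mem hh1 (hm m)⟩
    obtain ⟨v₂, rfl⟩ := hl u₂ (mem_G1_of_U h₂.1 h₂.2)
    have hu₁ := mem_G1_of_U h₁.1 h₁.2
    rcases hc with hc | ⟨h', hh', hc⟩
    · left
      have hx : u₁ * (e (n j) * h * (e (n j))⁻¹) ∈ T.G1 :=
        T.G1.mul_mem hu₁ (T.G1.mul_mem (T.G1.mul_mem (hm _) hh1) (T.G1.inv_mem (hm _)))
      obtain ⟨x, hx'⟩ := hl _ hx
      refine DoubleCoset.mem_doubleCoset.2 ⟨x, ?_, v₂, U_le_B h₂.1, he ?_⟩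
      · change e x ∈ T.B
        rw [hx']
        exact T.B.mul_mem (U_le_B h₁.1) (H_le_B (conj_mem_H hsN.1 hh))
      · simp only [map_mul, hx', hb']
        calc e (n j) * (u * h) * e m = e (n j) * u * (h * e m) := by group
          _ = _ := by rw [hc]; group
    · right
      have hx : u₁ * (h' * h) ∈ T.G1 := T.G1.mul_mem hu₁ (T.G1.mul_mem hh'.2.2 hh1)
      obtain ⟨x, hx'⟩ := hl _ hx
      refine DoubleCoset.mem_doubleCoset.2 ⟨x, ?_, v₂, U_le_B h₂.1, he ?_⟩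
      · change e x ∈ T.B
        rw [hx']
        exact T.B.mul_mem (U_le_B h₁.1) (H_le_B (T.H.mul_mem hh'.1 hh))
      · simp only [map_mul, hx', hb']
        calc e (n j) * (u * h) * e m = e (n j) * u * (h * e m) := by group
          _ = _ := by rw [hc]; group
  · rintro _ ⟨j, rfl⟩ hc
    obtain ⟨c, hcU, hc1, hσ⟩ := exists_pos_nontriv (T := T) j
    obtain ⟨c, rfl⟩ := hl c (mem_G1_of_pos hcU hσ)
    have h1 : n j * c * n j ∈ ((T.B.comap e : Subgroup Γ) : Set Γ) := by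
      rw [← hc]
      exact ⟨c, U_le_B (Uw_le_U _ hcU), rfl⟩
    have h2 : e (n j) * e c * e (n j) ∈ T.B := by simpa using h1
    have h3 : e (n j) * e (n j) ∈ T.H := (T.mem_H _).2 (T.wJ_sq j ▸ T.rep_mul (hn j) (hn j))
    have h4 : e (n j) * e c * (e (n j))⁻¹ ∈ T.B := by
      have := T.B.mul_mem h2 (T.B.inv_mem (H_le_B h3))
      convert this using 1
      group
    have := eq_one_of_mem_B_V h4 (ninv_le_V _ (T.rep_conj (hn j) (inv_wJ j) hcU))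
    exact hc1 (by simpa using this)
  · rintro _ ⟨j, rfl⟩
    exact ⟨j, hn j⟩
  · exact fun j => ⟨n j, ⟨j, rfl⟩, hn j⟩

theorem irreducible_BNPair {P : Cfsg.BNPair Γ} (hB : P.B = T.B.comap e)
    (hS : ∀ s ∈ P.S, ∃ j, T.Rep (e s) (T.wJ j)) (hS' : ∀ j, ∃ s ∈ P.S, T.Rep (e s) (T.wJ j))
    (hconn : ∀ A : Set ι, A.Nonempty → Aᶜ.Nonempty → ∃ j ∈ A, ∃ k ∉ A, T.wJ j * T.wJ k ≠ T.wJ k * T.wJ j) :
    P.Irreducible := by
  intro J hJ hJ1 hJ2
  obtain ⟨j, ⟨s, hs, hj⟩, k, hk, hjk⟩ := hconn {j | ∃ s ∈ J, T.Rep (e s) (T.wJ j)} (by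
    obtain ⟨s, hs⟩ := hJ1
    obtain ⟨j, hj⟩ := hS s (hJ hs)
    exact ⟨j, s, hs, hj⟩) (by
    obtain ⟨s, hs, hs'⟩ := hJ2
    obtain ⟨j, hj⟩ := hS s hs
    refine ⟨j, ?_⟩
    rintro ⟨t, ht, hj'⟩
    have : t = s := P.inj t (hJ ht) s hs (by
      rw [hB, Subgroup.mem_comap, map_mul, map_inv]
      exact H_le_B (mem_H_of_rep' hj' hj))
    exact hs' (this ▸ ht))
  obtain ⟨t, ht, hk'⟩ := hS' k
  refine ⟨s, hs, t, ⟨ht, fun h => hk ⟨t, h, hk'⟩⟩, fun h => hjk ?_⟩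
  rw [hB, Subgroup.mem_comap, map_mul, map_mul, map_mul, map_inv, map_inv] at h
  have h1 := T.rep_mul (T.rep_mul (T.rep_mul hj hk') (T.rep_inv hj)) (T.rep_inv hk')
  have h2 := T.rep_unique h1 ((T.mem_H _).1 (mem_H_of_mem_B_N h (Rep_mem_N h1)))
  rw [mul_inv_eq_one, mul_inv_eq_iff_eq_mul] at h2
  exact h2

/-- `B ∩ n₀ B n₀⁻¹ = H`. -/
theorem mem_H_of_conj_w0 {n g : G} {w : W} (hn : T.Rep n w) (hw : ∀ r ∈ T.P, w • r ∉ T.P) (hg : g ∈ T.B)
    (hg' : n⁻¹ * g * n ∈ T.B) : g ∈ T.H := by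
  obtain ⟨u, hu, h, hh, h1⟩ := mem_B_iff.1 hg'
  have h2 : n * u * n⁻¹ ∈ T.V := T.rep_conj hn hw hu
  have h3 : n * h * n⁻¹ ∈ T.H := conj_mem_H (Rep_mem_N hn) hh
  have h4 : g = (n * u * n⁻¹) * (n * h * n⁻¹) := by
    calc g = n * (n⁻¹ * g * n) * n⁻¹ := by group
      _ = _ := by rw [h1]; group
  have h5 : n * u * n⁻¹ = 1 := by
    apply eq_one_of_mem_B_V _ h2
    have := T.B.mul_mem hg (T.B.inv_mem (H_le_B h3))
    rwa [h4, mul_inv_cancel_right] at this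
  rw [h4, h5, one_mul]; exact h3

/-- The core of `B¹` is trivial. -/
theorem normalCore_eq_bot [Finite Φ] (he : Function.Injective e) (hr : e.range = T.G1)
    (hC : ∀ h ∈ T.H, (∀ j, ∀ u ∈ T.Uw (T.wJ j), T.σ u = u → h * u = u * h) → h = 1) :
    (T.B.comap e).normalCore = ⊥ := by
  have hl : ∀ g ∈ T.G1, ∃ γ, e γ = g := fun g hg => by rw [← hr] at hg; exact hg
  obtain ⟨w, hw, hw0⟩ := exists_w0_mem (T := T)
  obtain ⟨n, hn1, hn⟩ := exists_rep_G1 w hw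
  obtain ⟨n, rfl⟩ := hl n hn1
  have hH : ∀ γ ∈ (T.B.comap e).normalCore, e γ ∈ T.H := by
    intro γ hγ
    apply mem_H_of_conj_w0 hn hw0
    · simpa using hγ 1
    · simpa using hγ n⁻¹
  rw [eq_bot_iff]
  intro γ hγ
  rw [Subgroup.mem_bot]
  apply he
  rw [map_one]
  apply hC _ (hH γ hγ)
  intro j u hu hσ
  obtain ⟨u, rfl⟩ := hl u (mem_G1_of_pos hu hσ)
  have h1 : γ * (u * γ⁻¹ * u⁻¹) ∈ (T.B.comap e).normalCore :=
    Subgroup.mul_mem _ hγ ((T.B.comap e).normalCore_normal.conj_mem _ (Subgroup.inv_mem _ hγ) u)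
  have h2 := hH _ h1
  have h3 : e (γ * (u * γ⁻¹ * u⁻¹)) ∈ T.U := by
    have := T.U.mul_mem (H_conj_XS (hH γ hγ) (Uw_le_U _ hu)) (T.U.inv_mem (Uw_le_U _ hu))
    convert this using 1
    simp only [map_mul, map_inv]; group
  have := eq_one_of_mem_U_H h3 h2
  simp only [map_mul, map_inv] at this
  calc e γ * e u = e γ * (e u * (e γ)⁻¹ * (e u)⁻¹) * (e u * e γ) := by group
    _ = _ := by rw [this, one_mul]

/-- The homomorphism `N¹ → W¹`. -/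
theorem exists_hom_W1 [Finite Φ] (hr : e.range = T.N ⊓ T.G1) :
    ∃ φ : Γ →* T.W1, Function.Surjective φ ∧ φ.ker = T.H.comap e ∧ ∀ γ, T.Rep (e γ) (φ γ) := by
  have hm : ∀ γ, e γ ∈ T.N ⊓ T.G1 := fun γ => by rw [← hr]; exact ⟨γ, rfl⟩
  have : ∀ γ, ∃ w : T.W1, T.Rep (e γ) w := fun γ => by
    obtain ⟨w, hw⟩ := (T.mem_N _).1 (hm γ).1
    exact ⟨⟨w, mem_W1_of_fix hw (G1_le_Fix (hm γ).2)⟩, hw⟩
  choose f hf using this
  let φ : Γ →* T.W1 := MonoidHom.mk' f fun a b =>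
    Subtype.ext (T.rep_unique (hf (a * b)) (by rw [map_mul]; exact T.rep_mul (hf a) (hf b)))
  refine ⟨φ, ?_, ?_, hf⟩
  · rintro ⟨w, hw⟩
    obtain ⟨n, hn1, hn⟩ := exists_rep_G1 w hw
    have : n ∈ e.range := by rw [hr]; exact ⟨Rep_mem_N hn, hn1⟩
    obtain ⟨γ, rfl⟩ := this
    exact ⟨γ, Subtype.ext (T.rep_unique (hf γ) hn)⟩
  · ext γ
    rw [MonoidHom.mem_ker, Subgroup.mem_comap, T.mem_H]
    constructor
    · intro h
      have := hf γ
      rwa [show f γ = 1 from h] at this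
    · intro h
      exact Subtype.ext (T.rep_unique (hf γ) h)

theorem commutator_eq_top_of (he : Function.Injective e) (hr : e.range = T.G1)
    (h : ∀ j, ∀ u ∈ T.Uw (T.wJ j), T.σ u = u → u ∈ ⁅T.G1, T.G1⁆) : commutator Γ = ⊤ := by
  have h1 : T.G1 ≤ ⁅T.G1, T.G1⁆ := by
    refine iSup_le fun j => sup_le (fun u hu => h j u hu.1 hu.2) ?_
    rintro y ⟨hy, hσ⟩
    obtain ⟨m, hm, hm1⟩ := exists_rep_wJ (T := T) j
    have h2 := h j _ (T.rep_conj hm (ninv_wJ j) hy) (fix_conj (G1_le_Fix hm1) hσ)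
    have h3 : y ∈ T.G1 := mem_G1_of_neg hy hσ
    have h4 : ⁅m⁻¹, m * y * m⁻¹⁆ ∈ ⁅T.G1, T.G1⁆ := Subgroup.commutator_mem_commutator (T.G1.inv_mem hm1)
      (T.G1.mul_mem (T.G1.mul_mem hm1 h3) (T.G1.inv_mem hm1))
    have := Subgroup.mul_mem _ h4 h2
    convert this using 1
    rw [commutatorElement_def]; group
  have h2 : (commutator Γ).map e = (⊤ : Subgroup Γ).map e := by
    rw [commutator_def, Subgroup.map_commutator, ← MonoidHom.range_eq_map, hr]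
    exact le_antisymm (Subgroup.commutator_le_self _) h1
  exact Subgroup.map_injective he h2

end Gamma

/-- An element of `H¹` acting without fixed points on `U_J` makes the fixed points of `U_J` commutators. -/
theorem mem_commutator_of_fpf [Finite G] {j : ι} {h : G} (hh : h ∈ T.H) (hh1 : h ∈ T.G1)
    (hf : ∀ u ∈ T.Uw (T.wJ j), T.σ u = u → h * u = u * h → u = 1) :
    ∀ u ∈ T.Uw (T.wJ j), T.σ u = u → u ∈ ⁅T.G1, T.G1⁆ := by
  let Q := T.Uw (T.wJ j) ⊓ T.Fix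
  let f : Q → Q := fun x => ⟨x.1⁻¹ * (h * x.1 * h⁻¹), Q.mul_mem (Q.inv_mem x.2)
    ⟨H_conj_XS hh x.2.1, fix_conj (G1_le_Fix hh1) x.2.2⟩⟩
  have hinj : Function.Injective f := by
    rintro ⟨x, hx⟩ ⟨y, hy⟩ hxy
    have h1 : x⁻¹ * (h * x * h⁻¹) = y⁻¹ * (h * y * h⁻¹) := congrArg Subtype.val hxy
    have h2 : x * y⁻¹ ∈ Q := Q.mul_mem hx (Q.inv_mem hy)
    have h3 := hf _ h2.1 h2.2 (by
      calc h * (x * y⁻¹) = x * (x⁻¹ * (h * x * h⁻¹)) * (h * y⁻¹) := by group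
        _ = _ := by rw [h1]; group)
    exact Subtype.ext (mul_inv_eq_one.1 h3)
  intro u hu hσ
  obtain ⟨⟨x, hx⟩, hx'⟩ := (Finite.injective_iff_surjective.1 hinj) ⟨u, hu, hσ⟩
  have h1 : u = ⁅x⁻¹, h⁆ := by
    rw [← show x⁻¹ * (h * x * h⁻¹) = u from congrArg Subtype.val hx', commutatorElement_def]; group
  rw [h1]
  exact Subgroup.commutator_mem_commutator (T.G1.inv_mem (mem_G1_of_pos hx.1 hx.2)) hh1

/-- A fixed element of `H` normalises the twisted group. -/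
theorem conj_mem_G1_of_H {h : G} (hh : h ∈ T.H) (hσ : T.σ h = h) {g : G} (hg : g ∈ T.G1) : h * g * h⁻¹ ∈ T.G1 := by
  have : T.G1 ≤ T.G1.comap (MulAut.conj h).toMonoidHom := by
    refine iSup_le fun j => sup_le ?_ ?_
    · rintro u ⟨hu, hσu⟩
      exact mem_G1_of_pos (H_conj_XS hh hu) (fix_conj hσ hσu)
    · rintro u ⟨hu, hσu⟩
      exact mem_G1_of_neg (H_conj_XS hh hu) (fix_conj hσ hσu)
  exact this hg

/-- If an element of the twisted group inverts a fixed element `h` of `H`, then `h²` lies in the twisted group. -/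
theorem sq_mem_G1 {h n : G} (hh : h ∈ T.H) (hσ : T.σ h = h) (hn : n ∈ T.G1) (hinv : n * h * n⁻¹ = h⁻¹) :
    h * h ∈ T.G1 := by
  have := T.G1.mul_mem (conj_mem_G1_of_H hh hσ (T.G1.inv_mem hn)) hn
  convert this using 1
  calc h * h = h * n⁻¹ * (n * h * n⁻¹) * n := by group
    _ = _ := by rw [hinv]

end TwSys

end CL.Tw
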