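import Cfsg.Agent.Base
import Cfsg.Agent.Chev.TwBruhat
import Cfsg.Agent.Chev.TwAbs3
import Cfsg.Agent.Chev.CoxTwist
import Cfsg.Agent.Chev.NF
import Cfsg.Agent.S0319

/-!
The system `TwSys` attached to an endomorphism of the Chevalley group `↥(D.group K)` permuting the root subgroups,
and the transfer of the abstract results to the subgroups of the general linear group named in the statements.
-/

set_option autoImplicit false
set_option linter.unusedSectionVars false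

namespace CL.Tw

open Cfsg Cfsg.Lie Cfsg.Lie.ChevalleyDatum CL.ChevM CL.Weyl CL.Cox

variable {D : ChevalleyDatum} {η : ℕ → ℕ → ℤ} [WeylOK D] [CoefOK D]

/-- The data defining a twisted group. -/
structure TwData (C : Core D η) (K : Type*) [Field K] (ι : Type*) where
  /-- the symmetry of the diagram -/
  τ : DiagAut (Φ D)
  /-- the endomorphism -/
  σ : ↥(D.group K) →* ↥(D.group K)
  /-- the exponents -/
  e : Fin D.rank → ℕ
  /-- representatives of the orbits on the nodes -/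
  rep : ι → Fin D.rank
  he : ∀ i (t : K), (-t) ^ e i = -t ^ e i
  h1 : ∀ (i : Fin D.rank) (t : K), σ (xG C (D.simple i) t) = xG C (D.simple (τ.π i)) (t ^ e i)
  h2 : ∀ (i : Fin D.rank) (t : K), σ (xG C (D.neg (D.simple i)) t) = xG C (D.neg (D.simple (τ.π i))) (t ^ e i)
  rep_inj : ∀ j k, rep k ∈ τ.orb (rep j) → j = k
  rep_surj : ∀ i, ∃ j, i ∈ τ.orb (rep j)
  nontriv : ∀ j, ∃ y ∈ XSg C K {r | ¬ (Φ D).Pos r ∧ (Φ D).InSub (τ.orb (rep j)) r}, y ≠ 1 ∧ σ y = y

theorem invS_w0 (J : Set (Fin D.rank)) : invS (PP D) ((Φ D).w0 J) = {r | (Φ D).Pos r ∧ (Φ D).InSub J r} :=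
  Set.ext fun _ => (Φ D).mem_inv.symm.trans (Φ D).mem_inv_w0

theorem keepS_w0 (J : Set (Fin D.rank)) : keepS (PP D) ((Φ D).w0 J) = Rad D J := by
  ext r
  refine and_congr_right fun hr => ⟨fun h hc => (Φ D).not_pos_w0_smul hr hc h, fun h => ?_⟩
  exact (Φ D).pos_smul_of_not_inSub ((Φ D).w0_mem J) hr h

theorem ninvS_w0 (J : Set (Fin D.rank)) : ninvS (PP D) ((Φ D).w0 J) = {r | ¬ (Φ D).Pos r ∧ (Φ D).InSub J r} := by
  ext r
  refine and_congr_right fun hr => ⟨fun h => by_contra fun hc => ?_, fun h => ((Φ D).pos_w0_smul_iff h).2 hr⟩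
  exact hr (((Φ D).pos_smul_iff_of_not_inSub ((Φ D).w0_mem J) hc).1 h)

theorem ncard_invS (w : W D) : (invS (PP D) w).ncard = (cs D).length w := by
  rw [(Φ D).length_eq_card_inv, ← Set.ncard_coe_finset]
  congr 1
  ext r
  exact (Φ D).mem_inv.symm

variable {C : Core D η} {K : Type*} [Field K] {ι : Type*}

theorem Rep.mem_levi {n : ↥(D.group K)} {w : W D} {J : Set (Fin D.rank)} (hn : Rep C n w)
    (hw : w ∈ parab (cs D) J) : n ∈ (tor C).range ⊔ XSg C K {r | (Φ D).InSub J r} := by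
  obtain ⟨l, -, hl, rfl⟩ := (Φ D).exists_reduced_of_mem_parab hw
  have h1 : n * (nW C K l)⁻¹ ∈ (tor C).range := by
    rw [rep_one_iff, ← mul_inv_cancel ((cs D).wordProd l)]; exact hn.mul (rep_nW C l).inv
  have h2 : nW C K l ∈ XSg C K {r | (Φ D).InSub J r} := by
    refine list_prod_mem fun y hy => ?_
    obtain ⟨i, hi, rfl⟩ := List.mem_map.1 hy
    have h3 : (Φ D).InSub J ((Φ D).simple i) := (Φ D).inSub_simple_iff.2 (hl i hi)
    exact mul_mem (mul_mem (xG_mem_XSg C (r := (Φ D).simple i) h3 _)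
      (xG_mem_XSg C (r := (Φ D).neg ((Φ D).simple i)) ((Φ D).inSub_neg_iff.2 h3) _))
      (xG_mem_XSg C (r := (Φ D).simple i) h3 _)
  simpa using mul_mem (Subgroup.mem_sup_left h1) (Subgroup.mem_sup_right h2)

namespace TwData

variable (T : TwData C K ι)

theorem σ_tor (c : Fin D.rank → Kˣ) : T.σ (tor C c) = tor C fun j => c (T.τ.π.symm j) ^ T.e (T.τ.π.symm j) :=
  map_tor C T.σ T.τ.π T.e T.he T.h1 T.h2 c

theorem σ_nG (i : Fin D.rank) (t : K) : T.σ (nG C (D.simple i) t) = nG C (D.simple (T.τ.π i)) (t ^ T.e i) := by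
  rw [nG, map_mul, map_mul, T.h1, T.h2, nG, T.he, inv_pow]

theorem σ_nS (i : Fin D.rank) : T.σ (nS C K i) = nS C K (T.τ.π i) := by rw [nS, σ_nG, one_pow, nS]

theorem σ_nW (l : List (Fin D.rank)) : T.σ (nW C K l) = nW C K (l.map T.τ.π) := by
  induction l with
  | nil => exact map_one _
  | cons i l ih => rw [nW_cons, map_mul, σ_nS, ih, List.map_cons, nW_cons]

theorem rep_σ {n : ↥(D.group K)} {w : W D} (h : Rep C n w) : Rep C (T.σ n) (T.τ.σ w) := by
  obtain ⟨_, ⟨c, rfl⟩, l, rfl, rfl⟩ := h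
  exact ⟨_, ⟨_, rfl⟩, _, by rw [map_mul, σ_tor, σ_nW], T.τ.σ_wordProd l⟩

theorem σ_xG_mem {S : Set (Fin D.nroots)} {r : Fin D.nroots} (hr : T.τ.ρ r ∈ S) (t : K) :
    T.σ (xG C r t) ∈ XSg C K S := by
  obtain ⟨w, i, rfl⟩ := (Φ D).exists_smul_simple r
  obtain ⟨n, hn⟩ := CL.Tw.rep_surj C (K := K) w
  obtain ⟨a, ha, -⟩ := hn.exists_conj ((Φ D).simple i)
  rw [show t = a * ((a⁻¹ : Kˣ) * t) by simp, ← ha, map_mul, map_mul, map_inv]
  rw [T.τ.ρ_smul, T.τ.ρ_simple] at hr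
  have := T.h1 i ((a⁻¹ : Kˣ) * t)
  erw [this]
  exact (T.rep_σ hn).conj_xG_mem (r := (Φ D).simple (T.τ.π i)) hr _

/-- The abstract system attached to the data. -/
noncomputable def sys : TwSys ↥(D.group K) (W D) (Fin D.nroots) ι where
  XS := XSg C K
  P := PP D
  neg := (Φ D).neg
  N := (D.monomialSubgroup K).subgroupOf (D.group K)
  H := (tor C).range
  Rep := Rep C
  σ := T.σ
  ρ := T.τ.ρ
  wJ j := (Φ D).w0 (T.τ.orb (T.rep j))
  neg_mem := (Φ D).pos_neg_iff
  smul_neg := (Φ D).smul_neg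
  keep_one _ h := (Φ D).eq_one_of_pos h
  exists_w0 := ⟨(Φ D).w0 Set.univ, fun r hr h => ((Φ D).pos_w0_univ_smul_iff r).1 h hr⟩
  XS_mono := XSg_mono C
  XS_empty := XSg_empty C
  XS_ne_bot r h := by
    have : xG C r (1 : K) ∈ XSg C K {r} := xG_mem_XSg C (Set.mem_singleton r) 1
    rw [h, Subgroup.mem_bot, xG_eq_one_iff C r.2] at this
    exact one_ne_zero this
  mem_N := mem_N_iff C
  mem_H := rep_one_iff C
  rep_mul := Rep.mul
  rep_inv := Rep.inv
  rep_unique := Rep.unique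
  rep_surj := CL.Tw.rep_surj C
  rep_conj h hS hg := h.conj hS hg
  bruhat_ex := bruhat_ex C
  bruhat_uniq := bruhat_uniq C
  fact := fact_U C
  ρ_mem := T.τ.pos_ρ_iff
  σ_XS h hg := map_mem_XSg C (fun r hr t => T.σ_xG_mem (h r hr) t) hg
  rep_σ h := ⟨_, T.rep_σ h, fun r => (T.τ.ρ_smul _ r).symm⟩
  wJ_ρ j := T.τ.w0_orb_mem_fixed _
  wJ_sq j := (Φ D).w0_mul_self _
  wJ_inj j k h := T.rep_inj j k (by rw [(Φ D).w0_injective h]; exact T.τ.self_mem_orb _)
  desc w hw h1 := by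
    obtain ⟨i, hi⟩ : ∃ i, ¬ (Φ D).Pos (w • (Φ D).simple i) :=
      not_forall.1 fun h => h1 ((Φ D).eq_one_of_pos_simple h)
    obtain ⟨j, hj⟩ := T.rep_surj i
    refine ⟨j, fun r hr => ?_⟩
    rw [invS_w0] at hr
    exact (Φ D).not_pos_smul_of_inSub ((T.τ.pos_or_not_pos_orb hw _).resolve_left fun h => hi (h i hj)) hr.1 hr.2
  dich w hw j := by
    rw [invS_w0]
    exact (T.τ.pos_or_not_pos_orb hw (T.rep j)).symm.imp
      (fun h r hr => (Φ D).not_pos_smul_of_inSub h hr.1 hr.2) fun h r hr => (Φ D).pos_smul_of_inSub h hr.1 hr.2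
  normR j u hu := by
    rw [keepS_w0]
    exact conj_mem_of_norm C (fun r hr t g hg => xG_conj_rad C _ hr t hg) hu
  lev j a ha ha' := by
    rw [keepS_w0] at ha
    obtain ⟨L, hL⟩ := exists_fun (D := D) (T.τ.orb (T.rep j)) 1
    simp only [one_smul] at hL
    refine eq_one_of_grading C L (T := {r | (Φ D).InSub (T.τ.orb (T.rep j)) r})
      (fun r hr => (hL r).2.1 hr.1 hr.2) (fun r hr => ((hL r).1 hr).le) ha (SetLike.le_def.1 (sup_le ?_ ?_) ha')
    · rw [invS_w0]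
      exact le_sup_of_le_right (XSg_mono C fun r hr => hr.2)
    · exact (Subgroup.closure_le _).2 fun n hn => Rep.mem_levi hn ((Φ D).w0_mem _)
  nontriv j := by rw [ninvS_w0]; exact T.nontriv j

theorem sys_W1 : T.sys.W1 = T.τ.fixed := rfl

theorem sys_Uw (j : ι) :
    T.sys.Uw (T.sys.wJ j) = XSg C K {r | (Φ D).Pos r ∧ (Φ D).InSub (T.τ.orb (T.rep j)) r} := by
  rw [← invS_w0]; rfl

theorem sys_ninv (j : ι) : T.sys.XS (ninvS T.sys.P (T.sys.wJ j)) =
    XSg C K {r | ¬ (Φ D).Pos r ∧ (Φ D).InSub (T.τ.orb (T.rep j)) r} := by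
  rw [← ninvS_w0]; rfl

theorem sys_G1 : T.sys.G1 = ⨆ j, (XSg C K {r | (Φ D).Pos r ∧ (Φ D).InSub (T.τ.orb (T.rep j)) r} ⊓ T.sys.Fix ⊔
    XSg C K {r | ¬ (Φ D).Pos r ∧ (Φ D).InSub (T.τ.orb (T.rep j)) r} ⊓ T.sys.Fix) := by
  simp only [← sys_Uw, ← sys_ninv]; rfl

end TwData

/-! ### The standard subgroups -/

omit [WeylOK D] [CoefOK D] in
theorem map_XSg (C : Core D η) (S : Set (Fin D.nroots)) : (XSg C K S).map (D.group K).subtype =
    Subgroup.closure {g : GL D.Idx K | ∃ r ∈ S, ∃ t : K, (g : Matrix D.Idx D.Idx K) = D.x K r t} := by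
  rw [XSg, MonoidHom.map_closure]
  congr 1
  ext g
  constructor
  · rintro ⟨_, ⟨r, hr, t, rfl⟩, rfl⟩
    exact ⟨r, hr, t, rfl⟩
  · rintro ⟨r, hr, t, h⟩
    exact ⟨_, ⟨r, hr, t, rfl⟩, Units.ext h.symm⟩

omit [CoefOK D] in
theorem map_U (C : Core D η) : (XSg C K (PP D)).map (D.group K).subtype = D.posUnipotent K := by
  rw [map_XSg, posUnipotent]
  congr 1
  ext g
  exact ⟨fun ⟨r, hr, t, h⟩ => ⟨r, t, (isPosRoot_iff D r).2 hr, h⟩,
    fun ⟨r, t, hr, h⟩ => ⟨⟨r, hr.1⟩, (isPosRoot_iff D ⟨r, hr.1⟩).1 hr, t, h⟩⟩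

omit [WeylOK D] [CoefOK D] in
theorem map_H (C : Core D η) : (tor C).range.map (D.group K).subtype = D.diagonalSubgroup K := by
  ext g
  constructor
  · rintro ⟨_, ⟨c, rfl⟩, rfl⟩
    exact (mem_H_iff C _).2 ⟨c, rfl⟩
  · intro hg
    obtain ⟨c, hc⟩ := (mem_H_iff C ⟨g, diagonalSubgroup_le C hg⟩).1 hg
    exact ⟨_, ⟨c, rfl⟩, by rw [← hc]; rfl⟩

omit [CoefOK D] in
theorem map_B (C : Core D η) :
    (XSg C K (PP D) ⊔ (tor C).range).map (D.group K).subtype = D.borelSubgroup K := by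
  rw [Subgroup.map_sup, map_U, map_H, borelSubgroup]

omit [WeylOK D] [CoefOK D] in
theorem subgroupOf_genSubgroup (C : Core D η) (S : Set (List (ℕ × K))) :
    D.genSubgroup K S = (Subgroup.closure (wG C '' S)).map (D.group K).subtype := by
  rw [MonoidHom.map_closure, genSubgroup]
  congr 1
  ext g
  constructor
  · rintro ⟨w, hw, h⟩
    exact ⟨_, ⟨w, hw, rfl⟩, Units.ext ((mat_wG C w).trans h.symm)⟩
  · rintro ⟨_, ⟨w, hw, rfl⟩, rfl⟩
    exact ⟨w, hw, mat_wG C w⟩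

theorem isSolvable_B (C : Core D η) : Group.IsSolvable ↥(XSg C K (PP D) ⊔ (tor C).range) := by
  obtain ⟨L, hL⟩ := exists_ht (D := D) 1
  simp only [one_smul] at hL
  have hG : CL.Chev.Graded (fun (r : Fin D.nroots) (t : K) => xG C r t) (PP D) fun r => L (wt D r) :=
    { fin := Set.toFinite _
      add := fun r _ => xG_add C r
      comm := fun r hr s hs h t u => by
        rw [mul_assoc, xG_comm C r.2 s.2 (fun e => h (Fin.ext e)) (ne_neg_of_pos hr hs), ← mul_inv_rev,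
          inv_mul_cancel_left]
        refine list_prod_mem fun y hy => ?_
        simp only [commWord, List.map_map, List.mem_map, Function.comp] at hy
        obtain ⟨c, hc, rfl⟩ := hy
        obtain ⟨h1, h2, h3, h4⟩ := wt_commTerms C r.2 s.2 c hc
        have h5 := (hL r).1 hr
        have h6 := (hL s).1 hs
        have h7 : L (wt D c.1) = c.2.2.1 * L (wt D r) + c.2.2.2 * L (wt D s) := by
          rw [h4, map_add, map_nsmul, map_nsmul, nsmul_eq_mul, nsmul_eq_mul]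
        refine xG_mem_XSg C (S := {k | k ∈ PP D ∧ L (wt D r) < L (wt D k) ∧ L (wt D s) < L (wt D k)}) (r := ⟨c.1, h1⟩)
          ⟨by simpa using pos_smul_comb (w := 1) (k := ⟨c.1, h1⟩) h2 (by simpa using hr) (by simpa using hs) h4,
            ?_, ?_⟩ _ <;> simp only [h7] <;> nlinarith }
  have hU : Group.IsNilpotent ↥(XSg C K (PP D)) := hG.isNilpotent
  let U' := (XSg C K (PP D)).subgroupOf (XSg C K (PP D) ⊔ (tor C).range)
  have hn : U'.Normal := by
    rw [Subgroup.normal_subgroupOf_iff_le_normalizer le_sup_left]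
    refine sup_le Subgroup.le_normalizer fun h hh => ?_
    rw [Subgroup.mem_normalizer_iff]
    refine fun g => ⟨(rep_of_mem_H C hh).conj (fun r hr => by simpa using hr), fun hg => ?_⟩
    simpa [mul_assoc] using (rep_of_mem_H C (inv_mem hh)).conj (T := PP D) (fun r hr => by simpa using hr) hg
  have h1 : Group.IsSolvable U' := Group.isSolvable_of_surjective
    (f := (Subgroup.subgroupOfEquivOfLe le_sup_left).symm.toMonoidHom) (MulEquiv.surjective _)
  let f : (Fin D.rank → Kˣ) →* ↥(XSg C K (PP D) ⊔ (tor C).range) ⧸ U' :=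
    (QuotientGroup.mk' U').comp ((tor C).codRestrict _ fun c => Subgroup.mem_sup_right ⟨c, rfl⟩)
  have h2 : Function.Surjective f := by
    rw [← MonoidHom.range_eq_top, eq_top_iff]
    rintro x -
    obtain ⟨⟨b, hb⟩, rfl⟩ := QuotientGroup.mk'_surjective U' x
    have : b ∈ (f.range.comap (QuotientGroup.mk' U')).map (Subgroup.subtype _) := by
      refine SetLike.le_def.1 (sup_le (fun u hu => ?_) ?_) hb
      · refine ⟨⟨u, Subgroup.mem_sup_left hu⟩, ?_, rfl⟩
        rw [SetLike.mem_coe, Subgroup.mem_comap, QuotientGroup.mk'_apply,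
          (QuotientGroup.eq_one_iff (N := U') ⟨u, Subgroup.mem_sup_left hu⟩).2 hu]
        exact one_mem _
      · rintro _ ⟨c, rfl⟩
        exact ⟨_, ⟨c, rfl⟩, rfl⟩
    obtain ⟨y, hy, rfl⟩ := this
    exact hy
  have h3 := Group.isSolvable_of_surjective h2
  exact Group.isSolvable_of_ker_le_range U'.subtype (QuotientGroup.mk' U') (by simp)

/-! ### Transfer to the subgroups of the general linear group -/

namespace TwData

variable (T : TwData C K ι) {Γ : Subgroup (GL D.Idx K)} (hΓ : Γ = T.sys.G1.map (D.group K).subtype)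
include hΓ

theorem le_group : Γ ≤ D.group K := by rw [hΓ]; exact Subgroup.map_subtype_le _

theorem range_inclusion : (Subgroup.inclusion (T.le_group hΓ)).range = T.sys.G1 := by
  rw [Subgroup.inclusion_range]
  subst hΓ
  exact Subgroup.comap_map_eq_self_of_injective (D.group K).subtype_injective _

theorem comap_inclusion (Q : Subgroup ↥(D.group K)) :
    Q.comap (Subgroup.inclusion (T.le_group hΓ)) = (Q.map (D.group K).subtype ⊓ Γ).subgroupOf Γ := by
  rw [Subgroup.inf_subgroupOf_right]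
  ext g
  rw [Subgroup.mem_subgroupOf, Subgroup.mem_comap]
  exact (Subgroup.mem_map_iff_mem (D.group K).subtype_injective).symm

theorem card_inf (Q : Subgroup ↥(D.group K)) :
    Nat.card ↥(Q.map (D.group K).subtype ⊓ Γ) = Nat.card ↥(Q ⊓ T.sys.G1) := by
  rw [hΓ, ← Subgroup.map_inf _ _ _ (D.group K).subtype_injective, Subgroup.card_map_of_injective
    (D.group K).subtype_injective]

theorem card_eq : Nat.card Γ = Nat.card T.sys.G1 := by
  rw [hΓ, Subgroup.card_map_of_injective (D.group K).subtype_injective]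

theorem card_U : Nat.card ↥(D.posUnipotent K ⊓ Γ) = Nat.card ↥(T.sys.U ⊓ T.sys.G1) := by
  rw [← map_U C]; exact T.card_inf hΓ _

theorem card_H : Nat.card ↥(D.diagonalSubgroup K ⊓ Γ) = Nat.card ↥((tor C).range ⊓ T.sys.G1) := by
  rw [← map_H C]; exact T.card_inf hΓ _

theorem comap_B : T.sys.B.comap (Subgroup.inclusion (T.le_group hΓ)) = (D.borelSubgroup K ⊓ Γ).subgroupOf Γ := by
  rw [T.comap_inclusion hΓ, ← map_B C]; rfl

theorem comap_N :
    T.sys.N.comap (Subgroup.inclusion (T.le_group hΓ)) = (D.monomialSubgroup K ⊓ Γ).subgroupOf Γ := by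
  rw [Subgroup.inf_subgroupOf_right]; rfl

theorem exists_BN : ∃ P : BNPair ↥Γ, P.B = (D.borelSubgroup K ⊓ Γ).subgroupOf Γ ∧
    P.N = (D.monomialSubgroup K ⊓ Γ).subgroupOf Γ := by
  obtain ⟨P, h1, h2, -⟩ := TwSys.exists_BNPair _ (Subgroup.inclusion_injective _) (T.range_inclusion hΓ)
  exact ⟨P, h1.trans (T.comap_B hΓ), h2.trans (T.comap_N hΓ)⟩

theorem core_eq_bot (hC : ∀ c : Fin D.rank → Kˣ, (∀ j, ∀ u ∈ T.sys.Uw (T.sys.wJ j), T.σ u = u →
    tor C c * u = u * tor C c) → tor C c = 1) : ((D.borelSubgroup K ⊓ Γ).subgroupOf Γ).normalCore = ⊥ := by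
  rw [← T.comap_B hΓ]
  refine TwSys.normalCore_eq_bot _ (Subgroup.inclusion_injective _) (T.range_inclusion hΓ) ?_
  rintro _ ⟨c, rfl⟩
  exact hC c

theorem perfect (h : ∀ j, ∀ u ∈ T.sys.Uw (T.sys.wJ j), T.σ u = u → u ∈ ⁅T.sys.G1, T.sys.G1⁆) :
    commutator ↥Γ = ⊤ :=
  TwSys.commutator_eq_top_of _ (Subgroup.inclusion_injective _) (T.range_inclusion hΓ) h

theorem simple [Nonempty ι] (hperf : commutator ↥Γ = ⊤)
    (hcore : ((D.borelSubgroup K ⊓ Γ).subgroupOf Γ).normalCore = ⊥)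
    (hconn : ∀ A : Set ι, A.Nonempty → Aᶜ.Nonempty → ∃ j ∈ A, ∃ k ∉ A,
      T.sys.wJ j * T.sys.wJ k ≠ T.sys.wJ k * T.sys.wJ j) : IsSimpleGroup ↥Γ ∧ ¬ IsMulCommutative ↥Γ := by
  obtain ⟨P, h1, -, h3, h4⟩ := TwSys.exists_BNPair _ (Subgroup.inclusion_injective _) (T.range_inclusion hΓ)
  have hnt : Nontrivial ↥Γ := by
    obtain ⟨c, hc, hc1, hσ⟩ := TwSys.exists_pos_nontriv (T := T.sys) (Classical.arbitrary ι)
    have : c ∈ (Subgroup.inclusion (T.le_group hΓ)).range := by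
      rw [T.range_inclusion hΓ]; exact TwSys.mem_G1_of_pos hc hσ
    obtain ⟨γ, rfl⟩ := this
    exact ⟨γ, 1, fun h => hc1 (by rw [h, map_one])⟩
  have hs : Group.IsSolvable P.B := by
    rw [h1]
    have := isSolvable_B (K := K) C
    exact Group.isSolvable_of_isSolvable_injective
      (f := ((Subgroup.inclusion (T.le_group hΓ)).comp (Subgroup.subtype _)).codRestrict
        (XSg C K (PP D) ⊔ (tor C).range) fun b => b.2)
      fun a b h => Subtype.ext (Subgroup.inclusion_injective (T.le_group hΓ) (Subtype.ext_iff.1 h))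
  refine ⟨Cfsg.Agent.S0319.result P (TwSys.irreducible_BNPair _ h1 h3 h4 hconn) hs hperf
    (by rw [h1, T.comap_B hΓ, hcore]), fun hc => ?_⟩
  have : commutator ↥Γ = ⊥ := by
    rw [commutator_def, Subgroup.commutator_eq_bot_iff_le_centralizer]
    intro a _ b _
    exact hc.is_comm.comm b a
  rw [hperf] at this
  exact top_ne_bot this

theorem exists_hom_fixed : ∃ φ : ↥(D.monomialSubgroup K ⊓ Γ) →* T.τ.fixed, Function.Surjective φ ∧
    φ.ker = (D.diagonalSubgroup K ⊓ Γ).subgroupOf (D.monomialSubgroup K ⊓ Γ) := by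
  have hle : D.monomialSubgroup K ⊓ Γ ≤ D.group K := inf_le_right.trans (T.le_group hΓ)
  obtain ⟨φ, h1, h2, -⟩ := TwSys.exists_hom_W1 (T := T.sys) (Subgroup.inclusion hle) (by
    rw [Subgroup.inclusion_range, Subgroup.subgroupOf, Subgroup.comap_inf, ← T.range_inclusion hΓ,
      Subgroup.inclusion_range]
    rfl)
  refine ⟨φ, h1, h2.trans ?_⟩
  ext g
  rw [Subgroup.mem_comap, Subgroup.mem_subgroupOf, Subgroup.mem_inf,
    and_iff_left (Subgroup.mem_inf.1 g.2).2]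
  exact ⟨fun ⟨c, hc⟩ => (mem_H_iff C (Subgroup.inclusion hle g)).2 ⟨c, hc.symm⟩,
    fun h => ((mem_H_iff C (Subgroup.inclusion hle g)).1 h).imp fun _ => Eq.symm⟩

end TwData

end CL.Tw
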