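import Cfsg.Agent.Base
import Cfsg.Agent.Chev.TwMk
import Cfsg.Agent.Chev.TwCoef
import Cfsg.Agent.Chev.MatAll

/-!
Standard parabolic subgroups, the Levi decomposition and the Bruhat normal form in `↥(D.group K)`.
-/

set_option autoImplicit false
set_option linter.unusedSectionVars false

namespace CL.Tw

open Cfsg Cfsg.Lie Cfsg.Lie.ChevalleyDatum CL.ChevM CL.Weyl CL.Cox

variable {D : ChevalleyDatum} {η : ℕ → ℕ → ℤ} [WeylOK D] [CoefOK D] (C : Core D η) {K : Type*}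
  [Field K]

theorem tor_conj_mem_XSg {S : Set (Fin D.nroots)} {h g : ↥(D.group K)} (hh : h ∈ (tor C).range)
    (hg : g ∈ XSg C K S) : h * g * h⁻¹ ∈ XSg C K S :=
  (rep_of_mem_H C hh).conj (fun r hr => by rwa [one_smul]) hg

theorem tor_le_normalizer (S : Set (Fin D.nroots)) :
    (tor C).range ≤ Subgroup.normalizer (XSg C K S : Set ↥(D.group K)) :=
  Subgroup.le_normalizer_iff.2 fun _ hh _ hg => tor_conj_mem_XSg C hh hg

theorem mem_XSg_sup_tor_iff {S : Set (Fin D.nroots)} {g : ↥(D.group K)} :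
    g ∈ XSg C K S ⊔ (tor C).range ↔ ∃ u ∈ XSg C K S, ∃ h ∈ (tor C).range, g = u * h := by
  constructor
  · intro hg
    have : g ∈ ((XSg C K S ⊔ (tor C).range : Subgroup _) : Set ↥(D.group K)) := hg
    rw [Subgroup.coe_mul_of_right_le_normalizer_left _ _ (tor_le_normalizer C S)] at this
    obtain ⟨u, hu, h, hh, rfl⟩ := this
    exact ⟨u, hu, h, hh, rfl⟩
  · rintro ⟨u, hu, h, hh, rfl⟩
    exact mul_mem (Subgroup.mem_sup_left hu) (Subgroup.mem_sup_right hh)

theorem not_pos_of_xG_mem {s : Fin D.nroots} {t : K} (ht : t ≠ 0)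
    (h : xG C s t ∈ XSg C K {r | ¬ (Φ D).Pos r}) : ¬ (Φ D).Pos s := fun hs =>
  ht ((xG_eq_one_iff C s.2 t).1 (eq_one_of_pos_neg C 1 (S := {s}) (T := {r | ¬ (Φ D).Pos r})
    (fun r hr => by rw [one_smul, hr]; exact hs) (fun r hr => by rwa [one_smul])
    (xG_mem_XSg C (Set.mem_singleton s) t) (Subgroup.mem_sup_right h)))

theorem mem_rad_of_xG_mem {J : Set (Fin D.rank)} {s : Fin D.nroots} {t : K} (ht : t ≠ 0)
    (h : xG C s t ∈ XSg C K (Rad D J)) : s ∈ Rad D J := by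
  obtain ⟨L, hL⟩ := exists_fun (D := D) J 1
  simp only [one_smul] at hL
  by_contra hs
  refine ht ((xG_eq_one_iff C s.2 t).1 (eq_one_of_grading' C L (T := {s})
    (fun r hr => (hL r).2.1 hr.1 hr.2) (fun r hr => ?_) h (xG_mem_XSg C (Set.mem_singleton s) t)))
  rw [hr]
  by_cases h1 : (Φ D).InSub J s
  · exact ((hL s).1 h1).le
  · exact ((hL s).2.2 (fun h2 => hs ⟨h2, h1⟩) h1).le

variable (K) in
/-- The standard parabolic subgroup. -/
def PJ (J : Set (Fin D.rank)) : Subgroup ↥(D.group K) :=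
  (XSg C K (PP D) ⊔ (tor C).range) ⊔ Subgroup.closure (nS C K '' J)

theorem nW_mem_PJ {J : Set (Fin D.rank)} {l : List (Fin D.rank)} (hl : ∀ j ∈ l, j ∈ J) :
    nW C K l ∈ PJ C K J := by
  refine list_prod_mem fun y hy => ?_
  obtain ⟨i, hi, rfl⟩ := List.mem_map.1 hy
  exact Subgroup.mem_sup_right (Subgroup.subset_closure ⟨i, hl i hi, rfl⟩)

theorem XSg_inSub_le_PJ (J : Set (Fin D.rank)) : XSg C K {r | (Φ D).InSub J r} ≤ PJ C K J := by
  rw [XSg_le_iff]
  intro r hr t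
  obtain ⟨w, hw, j, -, rfl⟩ := (Φ D).exists_parab_smul_simple hr
  obtain ⟨l, -, hl, rfl⟩ := (Φ D).exists_reduced_of_mem_parab hw
  obtain ⟨a, ha, -⟩ := (rep_nW C (K := K) l).exists_conj ((Φ D).simple j)
  have e := ha ((a⁻¹ : Kˣ) * t)
  rw [← mul_assoc, Units.mul_inv, one_mul] at e
  rw [← e]
  exact mul_mem (mul_mem (nW_mem_PJ C hl) (Subgroup.mem_sup_left (Subgroup.mem_sup_left
    (xG_mem_XSg C ((Φ D).pos_simple j) _)))) (inv_mem (nW_mem_PJ C hl))

theorem PJ_eq (J : Set (Fin D.rank)) :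
    PJ C K J = (tor C).range ⊔ XSg C K {r | (Φ D).Pos r ∨ (Φ D).InSub J r} := by
  refine le_antisymm (sup_le (sup_le ((XSg_mono C fun r hr => Or.inl hr).trans le_sup_right)
    le_sup_left) ?_) (sup_le (le_sup_right.trans le_sup_left) ?_)
  · rw [Subgroup.closure_le]
    rintro _ ⟨j, hj, rfl⟩
    exact sup_le_sup_left (XSg_mono C fun r hr => Or.inr hr) _
      ((rep_nS C j).mem_levi (simple_mem_parab _ hj))
  · rw [XSg_le_iff]
    rintro r (hr | hr) t
    · exact Subgroup.mem_sup_left (Subgroup.mem_sup_left (xG_mem_XSg C hr t))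
    · exact XSg_inSub_le_PJ C J (xG_mem_XSg C hr t)

theorem PJ_le_normalizer (J : Set (Fin D.rank)) :
    PJ C K J ≤ Subgroup.normalizer (XSg C K (Rad D J) : Set ↥(D.group K)) := by
  rw [PJ_eq]
  refine sup_le (tor_le_normalizer C _) (Subgroup.le_normalizer_iff.2 fun u hu g hg => ?_)
  refine conj_mem_of_norm C (fun r hr t g hg => xG_conj_mem C (fun s hs e => ?_)
    (fun s hs k i j _ hj e => mem_rad_comb hj hr hs e) t hg) hu g hg
  have e' : s = (Φ D).neg r := Fin.ext e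
  rcases hr with hr | hr
  · exact (Φ D).not_pos_neg_iff r |>.2 hr (e' ▸ hs.1)
  · exact hs.2 (e' ▸ (Φ D).inSub_neg_iff.2 hr)

theorem rad_sup_levi (J : Set (Fin D.rank)) :
    XSg C K (Rad D J) ⊔ ((tor C).range ⊔ XSg C K {r | (Φ D).InSub J r}) = PJ C K J := by
  rw [PJ_eq]
  refine le_antisymm (sup_le ((XSg_mono C fun r hr => Or.inl hr.1).trans le_sup_right)
    (sup_le_sup_left (XSg_mono C fun r hr => Or.inr hr) _))
    (sup_le (le_sup_left.trans le_sup_right) ?_)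
  rw [XSg_le_iff]
  intro r hr t
  by_cases h : (Φ D).InSub J r
  · exact Subgroup.mem_sup_right (Subgroup.mem_sup_right (xG_mem_XSg C h t))
  · exact Subgroup.mem_sup_left (xG_mem_XSg C (S := Rad D J) ⟨hr.resolve_right h, h⟩ t)

theorem rad_inf_levi (J : Set (Fin D.rank)) :
    XSg C K (Rad D J) ⊓ ((tor C).range ⊔ XSg C K {r | (Φ D).InSub J r}) = ⊥ := by
  obtain ⟨L, hL⟩ := exists_fun (D := D) J 1
  simp only [one_smul] at hL
  rw [eq_bot_iff]
  intro g hg
  exact eq_one_of_grading C L (fun r hr => (hL r).2.1 hr.1 hr.2) (fun r hr => ((hL r).1 hr).le)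
    hg.1 hg.2

theorem normalizer_rad (J : Set (Fin D.rank)) :
    Subgroup.normalizer (XSg C K (Rad D J) : Set ↥(D.group K)) = PJ C K J := by
  refine le_antisymm (fun g hg => ?_) (PJ_le_normalizer C J)
  obtain ⟨u, hu, n, w, hn, v, hv, rfl⟩ := exists_UNU C g
  have hu' : u ∈ PJ C K J := Subgroup.mem_sup_left (Subgroup.mem_sup_left hu)
  have hv' : v ∈ PJ C K J := Subgroup.mem_sup_left (Subgroup.mem_sup_left hv)
  have hn' : n ∈ Subgroup.normalizer (XSg C K (Rad D J) : Set ↥(D.group K)) := by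
    rwa [Subgroup.mul_mem_cancel_right _ (PJ_le_normalizer C J hv'),
      Subgroup.mul_mem_cancel_left _ (PJ_le_normalizer C J hu')] at hg
  have hw : w ∈ parab (cs D) J := by
    refine (Φ D).mem_parab_iff.2 fun r hr hwr => by_contra fun hJ => hwr ?_
    obtain ⟨a, ha, -⟩ := hn.exists_conj r
    have h1 := (Subgroup.mem_normalizer_iff.1 hn' _).1 (xG_mem_XSg C (S := Rad D J) ⟨hr, hJ⟩ (1 : K))
    rw [ha] at h1
    exact (mem_rad_of_xG_mem C (by simp) h1).1
  refine mul_mem (mul_mem hu' ?_) hv'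
  rw [← rad_sup_levi]
  exact Subgroup.mem_sup_right (hn.mem_levi hw)

theorem exists_rep_conj_of_conj {h₁ h₂ g : ↥(D.group K)} (h1 : h₁ ∈ (tor C).range)
    (h2 : h₂ ∈ (tor C).range) (e : g * h₁ * g⁻¹ = h₂) :
    ∃ n w, Rep C n w ∧ n * h₁ * n⁻¹ = h₂ := by
  obtain ⟨u, hu, n, w, hn, v, hv, rfl⟩ := bruhat_ex C g
  refine ⟨n, w, hn, ?_⟩
  have r1 : Rep C (n * h₁) w := by simpa using hn.mul (rep_of_mem_H C h1)
  have r2 : Rep C (h₂ * n) w := by simpa using (rep_of_mem_H C h2).mul hn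
  have hv' := tor_conj_mem_XSg C (inv_mem h1) hv
  have hu' := tor_conj_mem_XSg C h2 hu
  have := (bruhat_uniq C hu hu' r1 r2 hv' hv (by
    rw [← e]; group)).2.1
  rw [this]; group

/-! ### transfer to the subgroups of the general linear group -/

theorem inRootSub_iff (J : Set ℕ) (r : Fin D.nroots) :
    D.InRootSub J r ↔ (Φ D).InSub {i : Fin D.rank | (i : ℕ) ∈ J} r :=
  ⟨fun h i hi => h.2 i i.2 hi, fun h => ⟨r.2, fun i hi hJ => h ⟨i, hi⟩ hJ⟩⟩

theorem map_XSg' {p : ℕ → Prop} (hp : ∀ r, p r → r < D.nroots) {S : Set (Fin D.nroots)}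
    (hS : ∀ r : Fin D.nroots, p r ↔ r ∈ S) : (XSg C K S).map (D.group K).subtype =
    Subgroup.closure {g : GL D.Idx K | ∃ (r : ℕ) (t : K), p r ∧
      (g : Matrix D.Idx D.Idx K) = D.x K r t} := by
  rw [map_XSg]
  congr 1
  ext g
  exact ⟨fun ⟨r, hr, t, h⟩ => ⟨r, t, (hS r).2 hr, h⟩,
    fun ⟨r, t, hr, h⟩ => ⟨⟨r, hp r hr⟩, (hS ⟨r, hp r hr⟩).1 hr, t, h⟩⟩

theorem map_V : (XSg C K {r | ¬ (Φ D).Pos r}).map (D.group K).subtype = D.negUnipotent K :=
  map_XSg' C (fun _ h => h.1) fun r => isNegRoot_iff D r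

theorem map_rootSubgroup (r : Fin D.nroots) :
    (XSg C K {r}).map (D.group K).subtype = D.rootSubgroup K r := by
  rw [map_XSg, rootSubgroup]
  congr 1
  ext g
  simp

theorem map_rad (J : Set ℕ) : (XSg C K (Rad D {i | (i : ℕ) ∈ J})).map (D.group K).subtype =
    D.unipotentRadical K J := by
  rw [map_XSg' C (p := fun r => D.IsPosRoot r ∧ ¬ D.InRootSub J r) (fun _ h => h.1.1)
    fun r => by rw [isPosRoot_iff, inRootSub_iff]; rfl, unipotentRadical]
  simp only [and_assoc]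

theorem map_levi (J : Set ℕ) : ((tor C).range ⊔ XSg C K {r | (Φ D).InSub {i | (i : ℕ) ∈ J} r}).map
    (D.group K).subtype = D.leviSubgroup K J := by
  rw [Subgroup.map_sup, map_H, map_XSg' C (p := D.InRootSub J) (fun _ h => h.1)
    (S := {r | (Φ D).InSub {i | (i : ℕ) ∈ J} r}) fun r => inRootSub_iff J r, leviSubgroup]

theorem map_PJ (J : Set ℕ) :
    (PJ C K {i | (i : ℕ) ∈ J}).map (D.group K).subtype = D.parabolicSubgroup K J := by
  rw [PJ, Subgroup.map_sup, map_B, parabolicSubgroup, MonoidHom.map_closure]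
  congr 2
  ext g
  constructor
  · rintro ⟨_, ⟨j, hj, rfl⟩, rfl⟩
    exact ⟨j, hj, j.2, mat_nG C _ _⟩
  · rintro ⟨j, hj, hj', h⟩
    exact ⟨_, ⟨⟨j, hj'⟩, hj, rfl⟩, Units.ext ((mat_nG C _ _).trans h.symm)⟩

theorem map_normalizer (Q : Subgroup ↥(D.group K)) :
    (Subgroup.normalizer (Q : Set ↥(D.group K))).map (D.group K).subtype =
      Subgroup.normalizer (Q.map (D.group K).subtype : Set (GL D.Idx K)) ⊓ D.group K := by
  rw [← Subgroup.subgroupOf_map_subtype, Subgroup.subgroupOf_normalizer_eq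
    (Subgroup.map_subtype_le Q), Subgroup.subgroupOf, Subgroup.comap_map_eq_self_of_injective
    (D.group K).subtype_injective]

theorem Rep.rootSubgroup_le_iff {C : Core D η} {n : ↥(D.group K)} {w : W D} (hn : Rep C n w)
    (r : Fin D.nroots) : (D.rootSubgroup K r).map (MulAut.conj (n : GL D.Idx K)).toMonoidHom ≤
      D.negUnipotent K ↔ ¬ (Φ D).Pos (w • r) := by
  rw [← map_V C, ← map_rootSubgroup C]
  constructor
  · intro h
    obtain ⟨a, ha, -⟩ := hn.exists_conj r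
    obtain ⟨y, hy, e⟩ := h ⟨_, ⟨_, xG_mem_XSg C (Set.mem_singleton r) (1 : K), rfl⟩, rfl⟩
    have e' : y = n * xG C r 1 * n⁻¹ := Subtype.ext e
    rw [e', ha] at hy
    exact not_pos_of_xG_mem C (by simp) hy
  · rintro h _ ⟨_, ⟨y, hy, rfl⟩, rfl⟩
    exact ⟨n * y * n⁻¹, hn.conj (fun s hs => by rw [hs]; exact h) hy, rfl⟩

theorem Rep.map_invS {C : Core D η} {n : ↥(D.group K)} {w : W D} (hn : Rep C n w) :
    (XSg C K (invS (PP D) w)).map (D.group K).subtype =
      Subgroup.closure {x : GL D.Idx K | ∃ (r : ℕ) (t : K), D.IsPosRoot r ∧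
        (D.rootSubgroup K r).map (MulAut.conj (n : GL D.Idx K)).toMonoidHom ≤ D.negUnipotent K ∧
        (x : Matrix D.Idx D.Idx K) = D.x K r t} := by
  rw [map_XSg' C (p := fun r => D.IsPosRoot r ∧
    (D.rootSubgroup K r).map (MulAut.conj (n : GL D.Idx K)).toMonoidHom ≤ D.negUnipotent K)
    (fun _ h => h.1.1) fun r => by rw [isPosRoot_iff, hn.rootSubgroup_le_iff]; rfl]
  simp only [and_assoc]

include C in
theorem monomialSubgroup_le : D.monomialSubgroup K ≤ D.group K := by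
  refine sup_le (diagonalSubgroup_le C) ?_
  rw [Subgroup.closure_le]
  rintro g ⟨r, -, h⟩
  have : g = (nG C r (1 : K) : ↥(D.group K)) := Units.ext (h.trans (mat_nG C _ _).symm)
  rw [this]
  exact (nG C r (1 : K)).2

end CL.Tw
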