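import Cfsg.Agent.Base

/-!
# Steinberg's presentation of `SL₂(F)`

If `X, Y : F → G` are additive families in a group such that `n(c) = X(c) Y(-c⁻¹) X(c)` conjugates `X(t)` to
`Y(-c⁻² t)` and `h(c) = n(c) n(-1)` is multiplicative, there is a homomorphism `SL₂(F) → G` sending the upper
and lower unitriangular matrices to the `X(t)` and `Y(t)`.
-/

set_option autoImplicit false

namespace CL.SL2P

open Matrix MatrixGroups

variable {F : Type*} [Field F] {G : Type*} [Group G]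

/-- `n(c) = X(c) Y(-c⁻¹) X(c)`. -/
def nn (X Y : F → G) (c : F) : G := X c * Y (-c⁻¹) * X c

/-- `h(c) = n(c) n(-1)`. -/
def hh (X Y : F → G) (c : F) : G := nn X Y c * nn X Y (-1)

/-- Steinberg's relations for `SL₂`. -/
structure Rel (X Y : F → G) : Prop where
  X_add : ∀ t u, X t * X u = X (t + u)
  Y_add : ∀ t u, Y t * Y u = Y (t + u)
  n_X : ∀ c ≠ 0, ∀ t, nn X Y c * X t = Y (-(c⁻¹ ^ 2 * t)) * nn X Y c
  h_mul : ∀ c ≠ 0, ∀ d ≠ 0, hh X Y c * hh X Y d = hh X Y (c * d)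

/-- The upper unitriangular matrix with entry `t`. -/
def up (t : F) : SL(2, F) := ⟨!![1, t; 0, 1], by simp [det_fin_two]⟩
/-- The lower unitriangular matrix with entry `t`. -/
def lo (t : F) : SL(2, F) := ⟨!![1, 0; t, 1], by simp [det_fin_two]⟩

@[simp] theorem coe_up (t : F) : ((up t : SL(2, F)) : Matrix (Fin 2) (Fin 2) F) = !![1, t; 0, 1] := rfl
@[simp] theorem coe_lo (t : F) : ((lo t : SL(2, F)) : Matrix (Fin 2) (Fin 2) F) = !![1, 0; t, 1] := rfl

theorem det_rel (g : SL(2, F)) : g 0 0 * g 1 1 - g 0 1 * g 1 0 = 1 := by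
  have := g.det_coe
  rwa [det_fin_two] at this

/-- Induction: `SL₂(F)` is generated, as a monoid, by the unitriangular matrices. -/
theorem induction_up_lo {P : SL(2, F) → Prop} (h1 : P 1) (hu : ∀ g t, P g → P (g * up t))
    (hl : ∀ g t, P g → P (g * lo t)) (g : SL(2, F)) : P g := by
  have key : ∀ g : SL(2, F), g 1 0 ≠ 0 → P g := by
    intro g hc
    have hd := det_rel g
    have : g = 1 * up ((g 0 0 - 1) / g 1 0) * lo (g 1 0) * up ((g 1 1 - 1) / g 1 0) := by
      ext i j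
      fin_cases i <;> fin_cases j <;> simp [Matrix.mul_apply, Fin.sum_univ_two] <;> field_simp
      · ring
      · linear_combination -hd
      · ring
    rw [this]
    exact hu _ _ (hl _ _ (hu _ _ h1))
  by_cases hc : g 1 0 = 0
  · have hd := det_rel g
    have h11 : g 1 1 ≠ 0 := by
      intro h; rw [hc, h] at hd; simp at hd
    have : g = g * lo 1 * lo (-1) := by
      ext i j
      fin_cases i <;> fin_cases j <;> simp [Matrix.mul_apply, Fin.sum_univ_two]
    rw [this]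
    refine hl _ _ (key _ ?_)
    simpa [Matrix.mul_apply, Fin.sum_univ_two, hc] using h11
  · exact key g hc

theorem closure_up_lo : Subgroup.closure (Set.range (up : F → SL(2, F)) ∪ Set.range lo) = ⊤ := by
  rw [eq_top_iff]
  intro g _
  induction g using induction_up_lo with
  | h1 => exact one_mem _
  | hu g t h => exact mul_mem (h trivial) (Subgroup.subset_closure (Or.inl ⟨t, rfl⟩))
  | hl g t h => exact mul_mem (h trivial) (Subgroup.subset_closure (Or.inr ⟨t, rfl⟩))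

namespace Rel

variable {X Y : F → G} (R : Rel X Y)
include R

theorem X_zero : X 0 = 1 := by simpa using R.X_add 0 0
theorem Y_zero : Y 0 = 1 := by simpa using R.Y_add 0 0
theorem X_neg (t : F) : X (-t) = (X t)⁻¹ := by
  rw [eq_inv_iff_mul_eq_one, R.X_add, neg_add_cancel, R.X_zero]
theorem Y_neg (t : F) : Y (-t) = (Y t)⁻¹ := by
  rw [eq_inv_iff_mul_eq_one, R.Y_add, neg_add_cancel, R.Y_zero]

theorem n_neg (c : F) : nn X Y (-c) = (nn X Y c)⁻¹ := by
  simp only [nn, inv_neg, R.X_neg, R.Y_neg, _root_.mul_inv_rev, inv_inv, mul_assoc]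

theorem n_Y {c : F} (hc : c ≠ 0) (u : F) : nn X Y c * Y u = X (-(c ^ 2 * u)) * nn X Y c := by
  have h := R.n_X (-c) (neg_ne_zero.2 hc) (-(c ^ 2 * u))
  have e : -((-c)⁻¹ ^ 2 * -(c ^ 2 * u)) = u := by field_simp
  rw [e, R.n_neg] at h
  rw [← mul_inv_eq_iff_eq_mul, mul_assoc, ← h, mul_inv_cancel_left]

theorem h_one : hh X Y 1 = 1 := by rw [hh, R.n_neg, mul_inv_cancel]

theorem n_eq (c : F) : nn X Y c = hh X Y c * nn X Y 1 := by rw [hh, R.n_neg, inv_mul_cancel_right]

theorem h_X {c : F} (hc : c ≠ 0) (u : F) : hh X Y c * X u = X (c ^ 2 * u) * hh X Y c := by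
  rw [hh, mul_assoc, R.n_X _ (neg_ne_zero.2 one_ne_zero), ← mul_assoc, R.n_Y hc, mul_assoc]
  congr 2
  simp

theorem h_Y {c : F} (hc : c ≠ 0) (u : F) : hh X Y c * Y u = Y (c⁻¹ ^ 2 * u) * hh X Y c := by
  rw [hh, mul_assoc, R.n_Y (neg_ne_zero.2 one_ne_zero), ← mul_assoc, R.n_X _ hc, mul_assoc]
  congr 2
  simp

theorem n_eq' {c : F} (hc : c ≠ 0) : nn X Y c = Y (-c⁻¹) * X c * Y (-c⁻¹) := by
  have h := R.n_X c hc c
  have e : -(c⁻¹ ^ 2 * c) = -c⁻¹ := by field_simp
  rw [e] at h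
  have h2 : nn X Y c * X c = Y (-c⁻¹) * X c * Y (-c⁻¹) * X c := by rw [h, nn]; simp only [mul_assoc]
  exact mul_right_cancel h2

theorem n_n {c d : F} (hc : c ≠ 0) (hd : d ≠ 0) : nn X Y c * nn X Y d = nn X Y (c ^ 2 / d) * nn X Y c := by
  have hcd : c ^ 2 / d ≠ 0 := div_ne_zero (pow_ne_zero _ hc) hd
  conv_lhs => rw [nn.eq_1 X Y d]
  rw [← mul_assoc, ← mul_assoc, R.n_X c hc, mul_assoc _ _ (Y _), R.n_Y hc, mul_assoc, mul_assoc, R.n_X c hc,
    R.n_eq' hcd]
  have e1 : -(c ^ 2 / d)⁻¹ = -(c⁻¹ ^ 2 * d) := by field_simp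
  have e2 : -(c ^ 2 * -d⁻¹) = c ^ 2 / d := by field_simp
  rw [e1, e2]; simp only [mul_assoc]

theorem n_h {d : F} (hd : d ≠ 0) : nn X Y 1 * hh X Y d = hh X Y d⁻¹ * nn X Y 1 := by
  rw [hh, ← mul_assoc, R.n_n one_ne_zero hd, mul_assoc, R.n_n one_ne_zero (neg_ne_zero.2 one_ne_zero), hh,
    mul_assoc]
  congr 2 <;> simp

theorem h_inv {c : F} (hc : c ≠ 0) : hh X Y c⁻¹ = (hh X Y c)⁻¹ := by
  rw [eq_inv_iff_mul_eq_one, R.h_mul _ (inv_ne_zero hc) _ hc, inv_mul_cancel₀ hc, R.h_one]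

theorem n_sq : nn X Y 1 * nn X Y 1 = hh X Y (-1) := by
  have h := R.h_mul (-1) (neg_ne_zero.2 one_ne_zero) (-1) (neg_ne_zero.2 one_ne_zero)
  rw [neg_mul_neg, one_mul, R.h_one] at h
  rw [← eq_inv_iff_mul_eq_one] at h
  rw [h, hh, R.n_neg, _root_.mul_inv_rev, inv_inv]

theorem n_mul_n {c d : F} (hc : c ≠ 0) (hd : d ≠ 0) : nn X Y c * nn X Y d = hh X Y (-(c / d)) := by
  rw [R.n_eq c, R.n_eq d, mul_assoc, ← mul_assoc (nn X Y 1), R.n_h hd, mul_assoc, R.n_sq,
    R.h_mul _ (inv_ne_zero hd) _ (neg_ne_zero.2 one_ne_zero), R.h_mul _ hc _ (by simpa using hd)]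
  congr 1
  field_simp

theorem h_n {c d : F} (hc : c ≠ 0) (hd : d ≠ 0) : hh X Y c * nn X Y d = nn X Y (c * d) := by
  rw [R.n_eq d, ← mul_assoc, R.h_mul _ hc _ hd, ← R.n_eq]

theorem Y_eq {u : F} : Y u = X u⁻¹ * nn X Y (-u⁻¹) * X u⁻¹ := by
  simp [nn, R.X_neg, mul_assoc]

end Rel

open Classical in
/-- The map given by the Bruhat decomposition. -/
noncomputable def phi (X Y : F → G) (g : SL(2, F)) : G :=
  if g 1 0 = 0 then hh X Y (g 0 0) * X (g 0 1 / g 0 0)
  else X (g 0 0 / g 1 0) * nn X Y (-(g 1 0)⁻¹) * X (g 1 1 / g 1 0)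

namespace Rel

variable {X Y : F → G} (R : Rel X Y)
include R

theorem phi_mul_up (g : SL(2, F)) (t : F) : phi X Y (g * up t) = phi X Y g * X t := by
  have hd := det_rel g
  have e00 : (g * up t) 0 0 = g 0 0 := by simp [Matrix.mul_apply, Fin.sum_univ_two]
  have e01 : (g * up t) 0 1 = g 0 0 * t + g 0 1 := by simp [Matrix.mul_apply, Fin.sum_univ_two]
  have e10 : (g * up t) 1 0 = g 1 0 := by simp [Matrix.mul_apply, Fin.sum_univ_two]
  have e11 : (g * up t) 1 1 = g 1 0 * t + g 1 1 := by simp [Matrix.mul_apply, Fin.sum_univ_two]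
  unfold phi
  rw [e00, e01, e10, e11]
  split_ifs with hc
  · have ha : g 0 0 ≠ 0 := by
      intro h; rw [hc, h] at hd; simp at hd
    rw [mul_assoc, R.X_add]
    congr 2
    field_simp; ring
  · rw [mul_assoc _ (X _), R.X_add]
    congr 2
    field_simp; ring

theorem phi_mul_lo (g : SL(2, F)) (t : F) : phi X Y (g * lo t) = phi X Y g * Y t := by
  by_cases ht : t = 0
  · have : lo (0 : F) = 1 := by ext i j; fin_cases i <;> fin_cases j <;> simp
    rw [ht, this, R.Y_zero, mul_one, mul_one]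
  -- `lo t = up t⁻¹ * w * up t⁻¹` with `w` the image of `n(-t⁻¹)`
  obtain ⟨w, hw0⟩ : ∃ w : SL(2, F), (w : Matrix (Fin 2) (Fin 2) F) = !![0, -t⁻¹; t, 0] :=
    ⟨⟨!![0, -t⁻¹; t, 0], by simp [det_fin_two, ht]⟩, rfl⟩
  have hw : lo t = up t⁻¹ * w * up t⁻¹ := by
    ext i j
    fin_cases i <;> fin_cases j <;> simp [hw0, Matrix.mul_apply, Fin.sum_univ_two, ht]
  have key : ∀ g : SL(2, F), phi X Y (g * w) = phi X Y g * nn X Y (-t⁻¹) := by
    intro g
    have hd := det_rel g
    have ht' : -t⁻¹ ≠ 0 := by simpa using ht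
    have e00 : (g * w) 0 0 = g 0 1 * t := by simp [hw0, Matrix.mul_apply, Fin.sum_univ_two]
    have e01 : (g * w) 0 1 = -(g 0 0 * t⁻¹) := by simp [hw0, Matrix.mul_apply, Fin.sum_univ_two]
    have e10 : (g * w) 1 0 = g 1 1 * t := by simp [hw0, Matrix.mul_apply, Fin.sum_univ_two]
    have e11 : (g * w) 1 1 = -(g 1 0 * t⁻¹) := by simp [hw0, Matrix.mul_apply, Fin.sum_univ_two]
    unfold phi
    rw [e00, e01, e10, e11]
    generalize g 0 0 = a at *
    generalize g 0 1 = b at *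
    generalize g 1 0 = c at *
    generalize g 1 1 = d at *
    by_cases hc : c = 0
    · subst hc
      have ha : a ≠ 0 := by
        intro h; rw [h] at hd; simp at hd
      have hd' : d = a⁻¹ := by field_simp; linear_combination hd
      subst hd'
      rw [if_pos rfl, if_neg (by simp [ha, ht]), R.h_X ha, mul_assoc _ (hh _ _ _), R.h_n ha ht']
      simp only [zero_mul, neg_zero, zero_div, R.X_zero, mul_one]
      congr 2 <;> field_simp
    rw [if_neg hc]
    have hc' : -c⁻¹ ≠ 0 := by simpa using hc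
    by_cases hd0 : d = 0
    · subst hd0
      have hb : b = -c⁻¹ := by field_simp; linear_combination -hd
      subst hb
      rw [if_pos (by simp), zero_div, R.X_zero, mul_one, mul_assoc, R.n_mul_n hc' ht',
        R.h_X (mul_ne_zero hc' ht)]
      congr 2 <;> field_simp
    · rw [if_neg (mul_ne_zero hd0 ht)]
      have hv : d / c ≠ 0 := div_ne_zero hd0 hc
      -- `X v = Y v⁻¹ * n v * Y v⁻¹`
      have hX : X (d / c) = Y (d / c)⁻¹ * nn X Y (d / c) * Y (d / c)⁻¹ := by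
        rw [R.n_eq' hv, R.Y_neg]; group
      have hY : Y (d / c)⁻¹ * nn X Y (-t⁻¹) = nn X Y (-t⁻¹) * X (-(c * t⁻¹) / (d * t)) := by
        rw [R.n_X _ ht']
        congr 2
        field_simp
      rw [hX]
      simp only [mul_assoc]
      rw [hY, ← mul_assoc (nn X Y (-c⁻¹)), R.n_Y hc', mul_assoc, ← mul_assoc (nn X Y (-c⁻¹)), R.n_mul_n hc' hv,
        ← mul_assoc (hh _ _ _), R.h_n (by simp [hc, hd0]) ht', ← mul_assoc (X _) (X _), R.X_add]
      congr 3
      · field_simp; linear_combination -hd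
      · field_simp
  rw [hw, ← mul_assoc, ← mul_assoc, R.phi_mul_up, key, R.phi_mul_up, R.Y_eq (u := t)]
  simp only [mul_assoc]

theorem phi_one : phi X Y 1 = 1 := by simp [phi, R.h_one, R.X_zero]

theorem phi_mul (g k : SL(2, F)) : phi X Y (g * k) = phi X Y g * phi X Y k := by
  induction k using induction_up_lo with
  | h1 => rw [mul_one, R.phi_one, mul_one]
  | hu k t h => rw [← mul_assoc, R.phi_mul_up, R.phi_mul_up, h, mul_assoc]
  | hl k t h => rw [← mul_assoc, R.phi_mul_lo, R.phi_mul_lo, h, mul_assoc]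

/-- The homomorphism from `SL₂(F)`. -/
noncomputable def hom : SL(2, F) →* G := MonoidHom.mk' (phi X Y) R.phi_mul

theorem hom_up (t : F) : R.hom (up t) = X t := by
  have := R.phi_mul_up 1 t
  rwa [one_mul, R.phi_one, one_mul] at this

theorem hom_lo (t : F) : R.hom (lo t) = Y t := by
  have := R.phi_mul_lo 1 t
  rwa [one_mul, R.phi_one, one_mul] at this

theorem range_hom : R.hom.range = Subgroup.closure (Set.range X) ⊔ Subgroup.closure (Set.range Y) := by
  rw [MonoidHom.range_eq_map, ← closure_up_lo, MonoidHom.map_closure, Set.image_union, Subgroup.closure_union,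
    ← Set.range_comp, ← Set.range_comp]
  congr 3
  · exact funext R.hom_up
  · exact funext R.hom_lo

/-- Steinberg's presentation of `SL₂(F)`, as an existence statement. -/
theorem exists_hom : ∃ φ : SL(2, F) →* G, (∀ t, φ (up t) = X t) ∧ (∀ t, φ (lo t) = Y t) ∧
    φ.range = Subgroup.closure (Set.range X) ⊔ Subgroup.closure (Set.range Y) :=
  ⟨R.hom, R.hom_up, R.hom_lo, R.range_hom⟩

end Rel

end CL.SL2P
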