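import Cfsg.Agent.Base
import Cfsg.Agent.Chev.MatCore
import Cfsg.Agent.Chev.SL2Pres

/-!
# The root elements as elements of the general linear group; the homomorphisms from `SL₂`
-/

set_option autoImplicit false

namespace CL.ChevM

open Matrix MatrixGroups Cfsg.Lie Cfsg.Lie.ChevalleyDatum

variable {D : ChevalleyDatum} {η : ℕ → ℕ → ℤ}

namespace Core

variable (C : Core D η) (F : Type*) [Field F]

/-- `x_r(t)` as an element of the general linear group. -/
def xU (r : ℕ) (t : F) : GL D.Idx F := ⟨D.x F r t, D.x F r (-t), C.x_mul_x_neg r t, C.x_neg_mul_x r t⟩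

/-- `n_r(t)` as an element of the general linear group. -/
def nU (r : ℕ) (t : F) : GL D.Idx F := C.xU F r t * C.xU F (D.neg r) (-t⁻¹) * C.xU F r t

/-- `h_r(t)` as an element of the general linear group. -/
def hU (r : ℕ) (t : F) : GL D.Idx F := C.nU F r t * C.nU F r (-1)

variable {F}

@[simp] theorem coe_xU (r : ℕ) (t : F) : (C.xU F r t : Matrix D.Idx D.Idx F) = D.x F r t := rfl

@[simp] theorem coe_nU (r : ℕ) (t : F) : (C.nU F r t : Matrix D.Idx D.Idx F) = D.nMat F r t := by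
  rw [nMat_eq]; rfl

@[simp] theorem coe_hU (r : ℕ) (t : F) : (C.hU F r t : Matrix D.Idx D.Idx F) = D.hMat F r t := by
  rw [hMat_eq, hU, Units.val_mul, coe_nU, coe_nU]

theorem eq_xU {g : GL D.Idx F} {r : ℕ} {t : F} (h : (g : Matrix D.Idx D.Idx F) = D.x F r t) : g = C.xU F r t :=
  Units.ext h

theorem eq_nU {g : GL D.Idx F} {r : ℕ} {t : F} (h : (g : Matrix D.Idx D.Idx F) = D.nMat F r t) :
    g = C.nU F r t := Units.ext (h.trans (C.coe_nU r t).symm)

theorem eq_hU {g : GL D.Idx F} {r : ℕ} {t : F} (h : (g : Matrix D.Idx D.Idx F) = D.hMat F r t) :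
    g = C.hU F r t := Units.ext (h.trans (C.coe_hU r t).symm)

theorem xU_add (r : ℕ) (t u : F) : C.xU F r t * C.xU F r u = C.xU F r (t + u) := Units.ext (C.x_add' r t u)

theorem xU_zero (r : ℕ) : C.xU F r 0 = 1 := Units.ext (C.x_zero r)

theorem xU_neg (r : ℕ) (t : F) : C.xU F r (-t) = (C.xU F r t)⁻¹ := Units.ext rfl

theorem xU_mem_group (r : ℕ) (t : F) : C.xU F r t ∈ D.group F := by
  by_cases hr : r < D.nroots
  · exact Subgroup.subset_closure ⟨⟨r, hr⟩, t, x_of_lt hr t⟩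
  · have : C.xU F r t = 1 := Units.ext (x_of_ge (not_lt.1 hr) t)
    rw [this]; exact one_mem _

theorem group_eq : D.group F = Subgroup.closure {g | ∃ r < D.nroots, ∃ t : F, g = C.xU F r t} := by
  unfold ChevalleyDatum.group
  congr 1
  ext g
  constructor
  · rintro ⟨r, t, h⟩
    exact ⟨r, r.2, t, C.eq_xU (h.trans (x_of_lt r.2 t).symm)⟩
  · rintro ⟨r, hr, t, rfl⟩
    exact ⟨⟨r, hr⟩, t, x_of_lt hr t⟩

theorem rootSubgroup_eq (r : ℕ) : D.rootSubgroup F r = Subgroup.closure (Set.range (C.xU F r)) := by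
  unfold rootSubgroup
  congr 1
  ext g
  exact ⟨fun ⟨t, h⟩ => ⟨t, (C.eq_xU h).symm⟩, fun ⟨t, h⟩ => ⟨t, h ▸ rfl⟩⟩

theorem diagonalSubgroup_eq : D.diagonalSubgroup F =
    Subgroup.closure {g | ∃ r < D.nroots, ∃ t : F, t ≠ 0 ∧ g = C.hU F r t} := by
  unfold diagonalSubgroup
  congr 1
  ext g
  exact ⟨fun ⟨r, t, hr, ht, h⟩ => ⟨r, hr, t, ht, C.eq_hU h⟩,
    fun ⟨r, hr, t, ht, h⟩ => ⟨r, t, hr, ht, h ▸ C.coe_hU r t⟩⟩

theorem nU_mem_group (r : ℕ) (t : F) : C.nU F r t ∈ D.group F :=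
  mul_mem (mul_mem (C.xU_mem_group _ _) (C.xU_mem_group _ _)) (C.xU_mem_group _ _)

theorem hU_mem_group (r : ℕ) (t : F) : C.hU F r t ∈ D.group F :=
  mul_mem (C.nU_mem_group _ _) (C.nU_mem_group _ _)

/-- Steinberg's relations for the rank one subgroup `⟨X_r, X_{-r}⟩`. -/
theorem sl2Rel {r : ℕ} (hr : r < D.nroots) : SL2P.Rel (C.xU F r) (C.xU F (D.neg r)) where
  X_add := C.xU_add r
  Y_add := C.xU_add _
  n_X c hc t := Units.ext (by
    have := C.nMat_mul_x_self hr hc t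
    rw [← C.coe_nU] at this
    exact this)
  h_mul c hc d hd := Units.ext (by
    have := C.hMat_mul hr hc hd
    simp only [← C.coe_hU] at this
    exact this)

/-- The homomorphism `SL₂(F) → ⟨X_r, X_{-r}⟩`. -/
theorem exists_sl2_hom {r : ℕ} (hr : r < D.nroots) : ∃ φ : SL(2, F) →* GL D.Idx F,
    (∀ t, φ (SL2P.up t) = C.xU F r t) ∧ (∀ t, φ (SL2P.lo t) = C.xU F (D.neg r) t) ∧
      φ.range = D.rootSubgroup F r ⊔ D.rootSubgroup F (D.neg r) := by
  rw [C.rootSubgroup_eq, C.rootSubgroup_eq]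
  exact (C.sl2Rel hr).exists_hom

end Core

end CL.ChevM
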