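import Cfsg.Agent.Base
import Cfsg.Agent.Chev.MatGL
import Cfsg.Agent.Chev.MatAll

/-! # The Chevalley groups are perfect (except `G₂(2)` and `B₂(2)`) -/

set_option autoImplicit false

namespace CL.ChevM

open Matrix Cfsg.Lie Cfsg.Lie.ChevalleyDatum
open scoped commutatorElement

variable {D : ChevalleyDatum} {η : ℕ → ℕ → ℤ} {F : Type*} [Field F]

namespace Core
variable (C : Core D η)

theorem nU_mul_xU {i s : ℕ} (hi : i < D.rank) (hs : s < D.nroots) (t : F) :
    C.nU F (D.simple i) 1 * C.xU F s t * (C.nU F (D.simple i) 1)⁻¹ =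
      C.xU F (D.reflectRoot i s) ((η i s : F) * t) := by
  rw [mul_inv_eq_iff_eq_mul]
  exact Units.ext (by simpa using C.nMat_mul_x hi hs t)

theorem hU_mul_xU {r s : ℕ} (hr : r < D.nroots) (hs : s < D.nroots) {c : F} (hc : c ≠ 0) (t : F) :
    C.hU F r c * C.xU F s t * (C.hU F r c)⁻¹ = C.xU F s (c ^ cartR D r s * t) := by
  rw [mul_inv_eq_iff_eq_mul]
  exact Units.ext (by simpa using C.hMat_mul_x hr hs hc t)

/-- A subgroup normalised by the `n_p` and containing the fundamental root subgroups contains the group. -/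
theorem group_le_of_simple {K : Subgroup (GL D.Idx F)}
    (hn : ∀ i < D.rank, ∀ g ∈ K, C.nU F (D.simple i) 1 * g * (C.nU F (D.simple i) 1)⁻¹ ∈ K)
    (h : ∀ i < D.rank, ∀ t : F, C.xU F (D.simple i) t ∈ K) : D.group F ≤ K := by
  have key : ∀ r < D.nroots, ∀ t : F, C.xU F r t ∈ K := by
    refine C.root_induction h fun i hi r hr ih t => ?_
    have e : t = η i r * (η i r * t) := by rw [← mul_assoc, (C.sa i hi).sq' hr, one_mul]
    rw [e, ← C.nU_mul_xU hi hr]
    exact hn i hi _ (ih _)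
  rw [C.group_eq, Subgroup.closure_le]
  rintro _ ⟨r, hr, t, rfl⟩
  exact key r hr t

theorem xU_mem_commutator_of_comm {p r s : ℕ} {a : ℤ} (hr : r < D.nroots) (hs : s < D.nroots) (h1 : s ≠ r)
    (h2 : s ≠ D.neg r) (h : D.commTerms r s = [(p, a, 1, 1)]) (ha : (a : F) ≠ 0) (t : F) :
    C.xU F p t ∈ ⁅D.group F, D.group F⁆ := by
  have e := C.x_comm hr hs h1 h2 (-(t / a)) 1
  simp only [commWord, h, List.map_cons, List.map_nil, wordMat_cons, wordMat_nil, mul_one, neg_neg, pow_one,
    mul_div_cancel₀ _ ha] at e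
  have e' : C.xU F s 1 * C.xU F r (-(t / a)) = C.xU F r (-(t / a)) * C.xU F s 1 * C.xU F p t := Units.ext e
  have : C.xU F p t = ⁅(C.xU F s 1)⁻¹, (C.xU F r (-(t / a)))⁻¹⁆ := by
    rw [commutatorElement_def, inv_inv, inv_inv, mul_assoc, e']; group
  rw [this]
  exact Subgroup.commutator_mem_commutator (inv_mem (C.xU_mem_group _ _)) (inv_mem (C.xU_mem_group _ _))

theorem xU_mem_commutator_of_h {r s : ℕ} (hr : r < D.nroots) (hs : s < D.nroots) {c : F} (hc : c ≠ 0)
    (h : c ^ cartR D r s ≠ 1) (t : F) : C.xU F s t ∈ ⁅D.group F, D.group F⁆ := by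
  have h' : c ^ cartR D r s - 1 ≠ 0 := sub_ne_zero.2 h
  have : C.xU F s t = ⁅C.hU F r c, C.xU F s (t / (c ^ cartR D r s - 1))⁆ := by
    rw [commutatorElement_def, C.hU_mul_xU hr hs hc, ← C.xU_neg, C.xU_add]
    congr 1
    field_simp
    ring
  rw [this]
  exact Subgroup.commutator_mem_commutator (C.hU_mem_group _ _) (C.xU_mem_group _ _)

theorem commutator_eq_top_of (h : ∀ i < D.rank, ∀ t : F, C.xU F (D.simple i) t ∈ ⁅D.group F, D.group F⁆) :
    commutator ↥(D.group F) = ⊤ := by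
  rw [← Group.isPerfect_def, Subgroup.isPerfect_iff]
  refine le_antisymm (Subgroup.commutator_le_self _) (C.group_le_of_simple (fun i _ g hg => ?_) h)
  have := Subgroup.normalizer_commutator_ge_left (D.group F) (D.group F) (C.nU_mem_group (D.simple i) 1)
  exact (Subgroup.mem_normalizer_iff.1 this g).1 hg

include C in
theorem commutator_eq_top_of_sq {c : F} (hc : c ≠ 0) (h : c ^ 2 ≠ 1) : commutator ↥(D.group F) = ⊤ := by
  refine C.commutator_eq_top_of fun i hi t => ?_
  have hp := C.tab.simple_lt i hi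
  refine C.xU_mem_commutator_of_h hp hp hc ?_ t
  rw [C.cartR_self hp]
  exact_mod_cast h

include C in
theorem commutator_eq_top_of_list (L : List (ℕ × ℕ))
    (h : ∀ i < D.rank, (L.getD i (0, 0)).1 < D.nroots ∧ (L.getD i (0, 0)).2 < D.nroots ∧
      (L.getD i (0, 0)).2 ≠ (L.getD i (0, 0)).1 ∧ (L.getD i (0, 0)).2 ≠ D.neg (L.getD i (0, 0)).1 ∧
      D.commTerms (L.getD i (0, 0)).1 (L.getD i (0, 0)).2 = [(D.simple i, 1, 1, 1)]) :
    commutator ↥(D.group F) = ⊤ :=
  C.commutator_eq_top_of fun i hi t =>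
    C.xU_mem_commutator_of_comm (h i hi).1 (h i hi).2.1 (h i hi).2.2.1 (h i hi).2.2.2.1 (h i hi).2.2.2.2
      (by simp) t

end Core

theorem perfectD4 : commutator ↥(chevD4.group F) = ⊤ :=
  coreD4.commutator_eq_top_of_list [(6, 22), (10, 16), (16, 9), (15, 9)] (by decide +kernel)

theorem perfectF4 : commutator ↥(chevF4.group F) = ⊤ :=
  coreF4.commutator_eq_top_of_list [(18, 36), (34, 14), (23, 26), (26, 22)] (by decide +kernel)

theorem perfectE6 : commutator ↥(chevE6.group F) = ⊤ :=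
  coreE6.commutator_eq_top_of_list [(16, 66), (30, 49), (30, 45), (33, 41), (35, 38), (38, 34)]
    (by decide +kernel)

theorem perfectE7 : commutator ↥(chevE7.group F) = ⊤ :=
  coreE7.commutator_eq_top_of_list [(33, 108), (53, 82), (53, 77), (57, 72), (60, 68), (62, 65), (65, 61)]
    (by decide +kernel)

theorem perfectE8 : commutator ↥(chevE8.group F) = ⊤ :=
  coreE8.commutator_eq_top_of_list
    [(78, 183), (105, 146), (105, 140), (110, 134), (114, 129), (117, 125), (119, 122), (122, 118)]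
    (by decide +kernel)

theorem exists_sq_ne_one_or_two_ne_zero (hF : ∃ a : F, a ≠ 0 ∧ a ≠ 1) :
    (∃ c : F, c ≠ 0 ∧ c ^ 2 ≠ 1) ∨ (2 : F) ≠ 0 := by
  obtain ⟨a, h0, h1⟩ := hF
  by_cases h : a ^ 2 = 1
  · refine Or.inr fun h2 => h1 ?_
    have : (a - 1) ^ 2 = 0 := by linear_combination h + (1 - a) * h2
    exact sub_eq_zero.1 (pow_eq_zero_iff two_ne_zero |>.1 this)
  · exact Or.inl ⟨a, h0, h⟩

theorem neg_one_zpow_neg_one_ne (h : (2 : F) ≠ 0) : (-1 : F) ^ (-1 : ℤ) ≠ 1 := by
  intro e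
  apply h
  simp only [_root_.zpow_neg_one, inv_neg, inv_one] at e
  linear_combination -e

theorem perfectG2 (hF : ∃ a : F, a ≠ 0 ∧ a ≠ 1) : commutator ↥(chevG2.group F) = ⊤ := by
  rcases exists_sq_ne_one_or_two_ne_zero hF with ⟨c, hc, h⟩ | h
  · exact coreG2.commutator_eq_top_of_sq hc h
  refine coreG2.commutator_eq_top_of fun i hi t => ?_
  have hi' : i < 2 := hi
  interval_cases i
  · refine coreG2.xU_mem_commutator_of_h (r := chevG2.simple 1) (by decide) (by decide)
      (neg_ne_zero.2 one_ne_zero) ?_ t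
    rw [coreG2.cartR_simple (by decide)]
    exact neg_one_zpow_neg_one_ne h
  · exact coreG2.xU_mem_commutator_of_comm (r := 11) (s := 1) (a := 1) (by decide) (by decide) (by decide)
      (by decide) (by decide +kernel) (by simp) t

theorem perfectB2 (hF : ∃ a : F, a ≠ 0 ∧ a ≠ 1) : commutator ↥(chevB2.group F) = ⊤ := by
  rcases exists_sq_ne_one_or_two_ne_zero hF with ⟨c, hc, h⟩ | h
  · exact coreB2.commutator_eq_top_of_sq hc h
  refine coreB2.commutator_eq_top_of fun i hi t => ?_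
  have hi' : i < 2 := hi
  interval_cases i
  · refine coreB2.xU_mem_commutator_of_h (r := chevB2.simple 1) (by decide) (by decide)
      (neg_ne_zero.2 one_ne_zero) ?_ t
    rw [coreB2.cartR_simple (by decide)]
    exact neg_one_zpow_neg_one_ne h
  · exact coreB2.xU_mem_commutator_of_comm (r := 6) (s := 2) (a := 2) (by decide) (by decide) (by decide)
      (by decide) (by decide +kernel) (by simpa using h) t

end CL.ChevM
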