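import Cfsg.Agent.Base
import Cfsg.Agent.Chev.MatGL

/-!
# The diagonal subgroup `H` as the image of `(Fˣ)^l`; kernels of integer matrices on powers of cyclic groups
-/

set_option autoImplicit false

namespace CL.ChevM

open Matrix Cfsg.Lie Cfsg.Lie.ChevalleyDatum

section smith
variable {M : Type*} [CommGroup M] {ι : Type*} [Fintype ι] [DecidableEq ι]

/-- The endomorphism `c ↦ (j ↦ ∏ i, c i ^ A i j)` of `M ^ ι`. -/
def powMat (A : Matrix ι ι ℤ) : (ι → M) →* (ι → M) where
  toFun c j := ∏ i, c i ^ A i j
  map_one' := by funext j; simp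
  map_mul' c d := by funext j; simp [mul_zpow, Finset.prod_mul_distrib]

omit [DecidableEq ι] in
theorem powMat_apply (A : Matrix ι ι ℤ) (c : ι → M) (j : ι) : powMat A c j = ∏ i, c i ^ A i j := rfl

omit [Fintype ι] [DecidableEq ι] in
theorem zpow_finsum {κ : Type*} (s : Finset κ) (a : M) (f : κ → ℤ) : a ^ (∑ k ∈ s, f k) = ∏ k ∈ s, a ^ f k := by
  classical
  induction s using Finset.induction_on with
  | empty => simp
  | insert k s hk ih => rw [Finset.sum_insert hk, Finset.prod_insert hk, _root_.zpow_add, ih]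

omit [DecidableEq ι] in
theorem powMat_mul (A B : Matrix ι ι ℤ) (c : ι → M) : powMat (A * B) c = powMat B (powMat A c) := by
  funext j
  simp only [powMat_apply, Matrix.mul_apply, zpow_finsum, ← Finset.prod_zpow, ← _root_.zpow_mul]
  exact Finset.prod_comm

theorem powMat_diagonal (d : ι → ℤ) (c : ι → M) (j : ι) : powMat (diagonal d) c j = c j ^ d j := by
  rw [powMat_apply, Finset.prod_eq_single j]
  · simp
  · intro i _ h; simp [h]
  · simp

theorem powMat_one (c : ι → M) : powMat (1 : Matrix ι ι ℤ) c = c := by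
  funext j; rw [← diagonal_one, powMat_diagonal]; simp

/-- The kernel of an integer matrix on a power of a finite cyclic group, from a Smith normal form. -/
theorem card_ker_powMat [Finite M] [IsCyclic M] {A P P' Q Q' : Matrix ι ι ℤ} {d : ι → ℕ} (hP : P * P' = 1)
    (hQ : Q * Q' = 1) (h : P * A * Q = diagonal fun i => (d i : ℤ)) :
    Nat.card (powMat (M := M) A).ker = ∏ j, (Nat.card M).gcd (d j) := by
  have hP' : P' * P = 1 := mul_eq_one_comm.1 hP
  have e1 : (powMat (M := M) A).ker ≃ (powMat (M := M) (P * A * Q)).ker :=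
    { toFun := fun c => ⟨powMat P' c.1, by
        rw [MonoidHom.mem_ker, ← powMat_mul, ← mul_assoc, ← mul_assoc, hP', one_mul, powMat_mul,
          MonoidHom.mem_ker.1 c.2, map_one]⟩
      invFun := fun c => ⟨powMat P c.1, by
        have := congrArg (powMat Q') (MonoidHom.mem_ker.1 c.2)
        rwa [← powMat_mul, mul_assoc, hQ, mul_one, powMat_mul, map_one] at this⟩
      left_inv := fun c => Subtype.ext (by simp only; rw [← powMat_mul, hP', powMat_one])
      right_inv := fun c => Subtype.ext (by simp only; rw [← powMat_mul, hP, powMat_one]) }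
  rw [h] at e1
  have e2 : (powMat (M := M) (diagonal fun i => (d i : ℤ))).ker ≃ ∀ j, (powMonoidHom (d j) : M →* M).ker :=
    { toFun := fun c j => ⟨c.1 j, by
        have := congrFun (MonoidHom.mem_ker.1 c.2) j
        rw [powMat_diagonal] at this
        simpa using this⟩
      invFun := fun c => ⟨fun j => c j, by
        rw [MonoidHom.mem_ker]
        funext j
        rw [powMat_diagonal, zpow_natCast]
        exact (c j).2⟩
      left_inv := fun c => rfl
      right_inv := fun c => rfl }
  rw [Nat.card_congr (e1.trans e2), Nat.card_pi]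
  exact Finset.prod_congr rfl fun j _ => IsCyclic.card_powMonoidHom_ker M (d j)

end smith

variable {D : ChevalleyDatum} {η : ℕ → ℕ → ℤ} {F : Type*} [Field F]

variable (D) in
/-- The Cartan matrix `A_{p_i, p_j}`. -/
def cartanMat : Matrix (Fin D.rank) (Fin D.rank) ℤ := Matrix.of fun i j => D.cartan i (D.simple j)

variable (D) in
/-- The character `s ↦ ∏ c_i ^ A_{p_i, s}` of the root lattice. -/
def torChar (c : Fin D.rank → Fˣ) (s : ℕ) : Fˣ := ∏ i, c i ^ D.cartan i s

theorem torChar_mul (c d : Fin D.rank → Fˣ) (s : ℕ) : torChar D (c * d) s = torChar D c s * torChar D d s := by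
  simp [torChar, mul_zpow, Finset.prod_mul_distrib]

theorem torChar_one (s : ℕ) : torChar D (1 : Fin D.rank → Fˣ) s = 1 := by simp [torChar]

variable (D) in
/-- The invertible diagonal matrix attached to a unit-valued function on the roots. -/
def diagU (χ : ℕ → Fˣ) : GL D.Idx F :=
  ⟨diagM D fun s => (χ s : F), diagM D fun s => ((χ s)⁻¹ : Fˣ), by rw [diagM_mul, ← diagM_one]; simp,
    by rw [diagM_mul, ← diagM_one]; simp⟩

@[simp] theorem coe_diagU (χ : ℕ → Fˣ) : (diagU D χ : Matrix D.Idx D.Idx F) = diagM D fun s => (χ s : F) := rfl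

theorem diagU_mul (χ χ' : ℕ → Fˣ) : diagU D χ * diagU D χ' = diagU D (χ * χ') :=
  Units.ext (by simp [diagM_mul])

theorem diagM_eq_iff {χ χ' : ℕ → F} : diagM D χ = diagM D χ' ↔ ∀ s < D.nroots, χ s = χ' s := by
  refine ⟨fun h s hs => ?_, diagM_congr⟩
  have := congrFun (congrFun h (Sum.inr ⟨s, hs⟩)) (Sum.inr ⟨s, hs⟩)
  simpa [diagM] using this

theorem diagU_eq_iff {χ χ' : ℕ → Fˣ} : diagU D χ = diagU D χ' ↔ ∀ s < D.nroots, χ s = χ' s := by
  rw [Units.ext_iff, coe_diagU, coe_diagU, diagM_eq_iff]
  simp only [Units.val_inj]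

theorem diagU_one : diagU D (1 : ℕ → Fˣ) = 1 := Units.ext (by simp [diagM_one])

variable (D F) in
/-- The homomorphism `(Fˣ)^l → GL`, `c ↦ ∏ h_{p_i}(c_i)`. -/
def torHom : (Fin D.rank → Fˣ) →* GL D.Idx F where
  toFun c := diagU D (torChar D c)
  map_one' := by rw [← diagU_one]; exact diagU_eq_iff.2 fun s _ => torChar_one s
  map_mul' c d := by rw [diagU_mul]; exact diagU_eq_iff.2 fun s _ => torChar_mul c d s

theorem torHom_apply (c : Fin D.rank → Fˣ) : torHom D F c = diagU D (torChar D c) := rfl

namespace Core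
variable (C : Core D η)
include C

theorem hU_eq_torHom {r : ℕ} (hr : r < D.nroots) (c : Fˣ) :
    C.hU F r c = torHom D F fun i => c ^ cor D r i := by
  refine Units.ext ?_
  rw [coe_hU, C.hMat_eq_diagM hr c.ne_zero, torHom_apply, coe_diagU]
  refine diagM_congr fun s _ => ?_
  rw [← Units.val_zpow_eq_zpow_val, cartR, ← Fin.sum_univ_eq_sum_range (fun i => cor D r i * D.cartan i s),
    zpow_finsum, torChar]
  simp only [_root_.zpow_mul]

theorem torHom_single (i : Fin D.rank) (c : Fˣ) : torHom D F (Pi.mulSingle i c) = C.hU F (D.simple i) c := by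
  rw [C.hU_eq_torHom (C.tab.simple_lt i i.2)]
  congr 1
  funext j
  rw [C.cor_simple i i.2 j j.2, Pi.mulSingle_apply]
  by_cases h : j = i
  · simp [h]
  · rw [if_neg h, if_neg (fun e => h (Fin.ext e)), zpow_zero]

/-- `H` is the image of `(Fˣ)^l`. -/
theorem range_torHom : (torHom D F).range = D.diagonalSubgroup F := by
  rw [C.diagonalSubgroup_eq]
  apply le_antisymm
  · rintro _ ⟨c, rfl⟩
    induction c using Pi.mulSingle_induction with
    | one => rw [map_one]; exact one_mem _
    | mul f g hf hg => rw [map_mul]; exact mul_mem hf hg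
    | mulSingle i c =>
      rw [C.torHom_single]
      exact Subgroup.subset_closure ⟨_, C.tab.simple_lt i i.2, c, c.ne_zero, rfl⟩
  · rw [Subgroup.closure_le]
    rintro _ ⟨r, hr, t, ht, rfl⟩
    exact ⟨_, (C.hU_eq_torHom hr (Units.mk0 t ht)).symm⟩

theorem cartan_refl {i k s : ℕ} (hi : i < D.rank) (hk : k < D.rank) (hs : s < D.nroots) :
    D.cartan k (D.reflectRoot i s) = D.cartan k s - D.cartan i s * D.cartan k (D.simple i) := by
  have h := (C.sa i hi).cart k hk s hs
  simp only [reflA, sub_mul, ite_mul, one_mul, zero_mul, Finset.sum_sub_distrib,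
    Finset.sum_ite_eq', Finset.mem_range, hi, hk, if_true, C.cart_refl hi hs] at h
  linear_combination -h

theorem torChar_refl (c : Fin D.rank → Fˣ) {i s : ℕ} (hi : i < D.rank) (hs : s < D.nroots) :
    torChar D c (D.reflectRoot i s) = torChar D c s * torChar D c (D.simple i) ^ (-D.cartan i s) := by
  simp only [torChar, ← Finset.prod_zpow, ← Finset.prod_mul_distrib, ← _root_.zpow_mul, ← _root_.zpow_add]
  refine Finset.prod_congr rfl fun k _ => ?_
  rw [C.cartan_refl hi k.2 hs]
  congr 1; ring

theorem ker_torHom : (torHom D F).ker = (powMat (cartanMat D)).ker := by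
  ext c
  rw [MonoidHom.mem_ker, MonoidHom.mem_ker, torHom_apply, ← diagU_one, diagU_eq_iff, funext_iff]
  constructor
  · intro h j
    exact h _ (C.tab.simple_lt j j.2)
  · intro h
    have h' : ∀ i < D.rank, torChar D c (D.simple i) = 1 := fun i hi => h ⟨i, hi⟩
    refine C.root_induction h' fun i hi r hr e => ?_
    rw [C.torChar_refl c hi hr, h' i hi]
    simpa using e

theorem card_ker_mul_card_diagonal [Finite F] :
    Nat.card (powMat (M := Fˣ) (cartanMat D)).ker * Nat.card (D.diagonalSubgroup F) =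
      (Nat.card F - 1) ^ D.rank := by
  rw [← C.range_torHom, ← C.ker_torHom, ← Subgroup.index_ker, Subgroup.card_mul_index, Nat.card_pi,
    Finset.prod_const, Nat.card_units, Finset.card_univ, Fintype.card_fin]

end Core

end CL.ChevM
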