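import Cfsg.Agent.Base
import Cfsg.Agent.Chev.MatGL
import Cfsg.Agent.Chev.MatFast

/-!
# Chevalley groups in characteristic two acting on vectors coded by bit masks; graphs of homomorphisms
-/

set_option autoImplicit false

namespace CL.ChevM

open Matrix Cfsg.Lie Cfsg.Lie.ChevalleyDatum CL.WC

section Graph

variable {G Γ : Type*} [Group G] [Group Γ]

/-- A relation between two groups which is a subgroup of the product. -/
structure GraphRel (R : G → Γ → Prop) : Prop where
  one : R 1 1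
  mul : ∀ g γ g' γ', R g γ → R g' γ' → R (g * g') (γ * γ')
  inv : ∀ g γ, R g γ → R g⁻¹ γ⁻¹
  uniq : ∀ γ, R 1 γ → γ = 1

namespace GraphRel

variable {R : G → Γ → Prop} (h : GraphRel R)

/-- The domain of the relation. -/
def dom : Subgroup G where
  carrier := {g | ∃ γ, R g γ}
  one_mem' := ⟨1, h.one⟩
  mul_mem' := fun ⟨γ, h1⟩ ⟨γ', h2⟩ => ⟨γ * γ', h.mul _ _ _ _ h1 h2⟩
  inv_mem' := fun ⟨γ, h1⟩ => ⟨γ⁻¹, h.inv _ _ h1⟩

include h in
theorem eq_of_rel {g : G} {γ γ' : Γ} (h1 : R g γ) (h2 : R g γ') : γ = γ' := by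
  have := h.mul _ _ _ _ (h.inv _ _ h1) h2
  rw [inv_mul_cancel] at this
  exact inv_mul_eq_one.1 (h.uniq _ this)

/-- The homomorphism whose graph is the relation. -/
noncomputable def hom : h.dom →* Γ :=
  MonoidHom.mk' (fun g => g.2.choose) fun g g' =>
    h.eq_of_rel (g * g').2.choose_spec (h.mul _ _ _ _ g.2.choose_spec g'.2.choose_spec)

theorem rel_hom (g : h.dom) : R g (h.hom g) := g.2.choose_spec

theorem hom_eq {g : G} {γ : Γ} (h1 : R g γ) : h.hom ⟨g, γ, h1⟩ = γ := h.eq_of_rel (h.rel_hom _) h1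

include h in
/-- A homomorphism defined on a subgroup contained in the domain. -/
theorem exists_hom (K : Subgroup G) (hK : K ≤ h.dom) : ∃ ρ : K →* Γ, ∀ g : K, R g (ρ g) :=
  ⟨h.hom.comp (Subgroup.inclusion hK), fun g => h.rel_hom (Subgroup.inclusion hK g)⟩

end GraphRel

/-- The relation `g • v i = v (γ • i)`. -/
theorem graphRel_smul {X I : Type*} [MulAction G X] [MulAction Γ I] (v : I → X)
    (hv : ∀ γ : Γ, (∀ i, v i = v (γ • i)) → γ = 1) : GraphRel fun (g : G) (γ : Γ) => ∀ i, g • v i = v (γ • i) where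
  one i := by simp
  mul g γ g' γ' h1 h2 i := by rw [mul_smul, h2, h1, mul_smul]
  inv g γ h1 i := by rw [inv_smul_eq_iff, h1, smul_inv_smul]
  uniq γ h1 := hv γ fun i => by simpa using h1 i

/-- A lower bound for the order of a permutation group from two steps of a stabiliser chain. -/
theorem mul_le_card_of_chain {α : Type*} [Finite α] (K : Subgroup (Equiv.Perm α)) (a b : α) {m n : ℕ}
    (w : Fin m → Equiv.Perm α) (hw : ∀ i, w i ∈ K) (hwi : Function.Injective fun i => w i a)
    (s : Fin n → Equiv.Perm α) (hs : ∀ j, s j ∈ K) (hsa : ∀ j, s j a = a)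
    (hsi : Function.Injective fun j => s j b) : m * n ≤ Nat.card K := by
  let f : Fin m × Fin n → K := fun p => ⟨w p.1 * s p.2, mul_mem (hw _) (hs _)⟩
  have hf : Function.Injective f := by
    rintro ⟨i, j⟩ ⟨i', j'⟩ e
    have e1 : w i * s j = w i' * s j' := congrArg Subtype.val e
    have e2 : i = i' := hwi (by simpa [hsa] using congrArg (fun g : Equiv.Perm α => g a) e1)
    subst e2
    have e3 : j = j' := hsi (by simp only [mul_left_cancel e1])
    rw [e3]
  simpa using Nat.card_le_card_of_injective f hf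

end Graph

variable {D : ChevalleyDatum} {η : ℕ → ℕ → ℤ} {F : Type*} [Field F]

namespace Core
variable (C : Core D η)

/-- The group is generated by the root subgroups of the fundamental roots and their negatives. -/
theorem group_le_of_simple_neg {K : Subgroup (GL D.Idx F)}
    (h : ∀ i < D.rank, ∀ t : F, C.xU F (D.simple i) t ∈ K)
    (h' : ∀ i < D.rank, ∀ t : F, C.xU F (D.neg (D.simple i)) t ∈ K) : D.group F ≤ K := by
  have key : ∀ r < D.nroots, ∀ t : F, C.xU F r t ∈ K := by
    refine C.root_induction h fun i hi r hr ih t => ?_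
    have e : t = η i r * (η i r * t) := by rw [← mul_assoc, (C.sa i hi).sq' hr, one_mul]
    have e2 : C.xU F (D.reflectRoot i r) (η i r * (η i r * t)) =
        C.nU F (D.simple i) 1 * C.xU F r (η i r * t) * (C.nU F (D.simple i) 1)⁻¹ := by
      rw [eq_mul_inv_iff_mul_eq]
      exact Units.ext (by simpa using (C.nMat_mul_x hi hr _).symm)
    have hn : C.nU F (D.simple i) 1 ∈ K := mul_mem (mul_mem (h i hi _) (h' i hi _)) (h i hi _)
    rw [e, e2]
    exact mul_mem (mul_mem hn (ih _)) (inv_mem hn)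
  rw [C.group_eq, Subgroup.closure_le]
  rintro _ ⟨r, hr, t, rfl⟩
  exact key r hr t

end Core

/-! ### Bit masks -/

variable (D F) in
/-- The vector with the given bit mask. -/
def vb (m : ℕ) : D.Idx → F := fun row => if m.testBit (code D row) then 1 else 0

theorem vb_zero : vb D F 0 = 0 := by
  funext row; simp [vb]

theorem vb_xor (h2 : (2 : F) = 0) (m m' : ℕ) : vb D F (Nat.xor m m') = vb D F m + vb D F m' := by
  funext row
  have : Nat.xor m m' = m ^^^ m' := rfl
  simp only [vb, this, Nat.testBit_xor, Pi.add_apply]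
  cases m.testBit (code D row) <;> cases m'.testBit (code D row) <;> simp [one_add_one_eq_two, h2]

theorem vb_pow (k : ℕ) : vb D F (Nat.pow 2 k) = bv D F k := by
  funext row
  have : Nat.pow 2 k = 2 ^ k := rfl
  simp only [vb, bv, this, Nat.testBit_two_pow, decide_eq_true_eq]
  simp only [eq_comm]

theorem exists_code_eq {k : ℕ} (hk : k < D.rank + D.nroots) : ∃ c, code D c = k := by
  by_cases h : k < D.rank
  · exact ⟨Sum.inl ⟨k, h⟩, rfl⟩
  · exact ⟨Sum.inr ⟨k - D.rank, by omega⟩, by simp only [code]; omega⟩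

theorem vb_inj {m m' : ℕ} (hm : m < 2 ^ (D.rank + D.nroots)) (hm' : m' < 2 ^ (D.rank + D.nroots))
    (h : vb D F m = vb D F m') : m = m' := by
  apply Nat.eq_of_testBit_eq
  intro k
  by_cases hk : k < D.rank + D.nroots
  · obtain ⟨c, rfl⟩ := exists_code_eq hk
    have := congrFun h c
    simp only [vb] at this
    revert this
    cases m.testBit (code D c) <;> cases m'.testBit (code D c) <;> simp
  · have h1 : 2 ^ (D.rank + D.nroots) ≤ 2 ^ k := Nat.pow_le_pow_right (by norm_num) (not_lt.1 hk)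
    rw [Nat.testBit_lt_two_pow (hm.trans_le h1), Nat.testBit_lt_two_pow (hm'.trans_le h1)]

/-- The mask of a column at the parameter `1`. -/
noncomputable def colMask (c : Col) : ℕ :=
  List.rec 0 (fun y _ acc => Bool.rec (Nat.xor (Nat.pow 2 y.1) acc) acc (Nat.beq (Nat.mod (Int.natAbs y.2.1) 2) 0)) c

theorem vb_colMask (h2 : (2 : F) = 0) (c : Col) : vb D F (colMask c) = evC (bv D F) (1 : F) c := by
  induction c with
  | nil => exact vb_zero
  | cons y c ih =>
    have : colMask (y :: c) = Bool.rec (Nat.xor (Nat.pow 2 y.1) (colMask c)) (colMask c)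
      (Nat.beq (Nat.mod (Int.natAbs y.2.1) 2) 0) := rfl
    rw [this, evC_cons, one_pow, mul_one, ← ih]
    cases hb : Nat.beq (Nat.mod (Int.natAbs y.2.1) 2) 0 with
    | true =>
      have h3 : Int.natAbs y.2.1 % 2 = 0 := Nat.eq_of_beq_eq_true hb
      obtain ⟨z, hz⟩ : (2 : ℤ) ∣ y.2.1 := by omega
      simp [hz, h2]
    | false =>
      have h3 : Int.natAbs y.2.1 % 2 ≠ 0 := Nat.ne_of_beq_eq_false hb
      obtain ⟨z, hz⟩ : ∃ z, y.2.1 = 2 * z + 1 := ⟨y.2.1 / 2, by omega⟩
      refine (vb_xor h2 _ _).trans ?_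
      rw [vb_pow]
      simp [hz, h2]

/-- The sum of the masks `f k` over the bits `k < N` of `m`. -/
noncomputable def actM (f : ℕ → ℕ) (N m : ℕ) : ℕ :=
  Nat.rec 0 (fun k acc => Bool.rec (Nat.xor (f k) acc) acc (Nat.beq (Nat.mod (Nat.shiftRight m k) 2) 0)) N

theorem vb_actM (h2 : (2 : F) = 0) (f : ℕ → ℕ) (N m : ℕ) :
    vb D F (actM f N m) = ∑ k ∈ Finset.range N, if m.testBit k then vb D F (f k) else 0 := by
  induction N with
  | zero => exact vb_zero
  | succ N ih =>
    have : actM f (N + 1) m = Bool.rec (Nat.xor (f N) (actM f N m)) (actM f N m)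
      (Nat.beq (Nat.mod (Nat.shiftRight m N) 2) 0) := rfl
    rw [this, Finset.sum_range_succ, ← ih]
    have h3 : Nat.mod (Nat.shiftRight m N) 2 = m / 2 ^ N % 2 := by
      change (m >>> N) % 2 = _
      rw [Nat.shiftRight_eq_div_pow]
    rw [h3, Nat.testBit_eq_decide_div_mod_eq]
    rcases Nat.mod_two_eq_zero_or_one (m / 2 ^ N) with h | h
    · simp [h]
    · rw [h]
      exact (vb_xor h2 _ _).trans (by simp [add_comm])

theorem vb_eq_sum (m : ℕ) :
    vb D F m = ∑ k ∈ Finset.range (D.rank + D.nroots), if m.testBit k then bv D F k else 0 := by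
  funext row
  rw [Finset.sum_apply, Finset.sum_eq_single (code D row)]
  · simp only [vb]; split_ifs <;> simp [bv]
  · intro k _ hk
    split_ifs
    · simp [bv, Ne.symm hk]
    · rfl
  · intro h
    exact absurd (Finset.mem_range.2 (code_lt D row)) h

/-- The action of a matrix on a vector given by a mask. -/
theorem mulVec_vb (h2 : (2 : F) = 0) {A : Matrix D.Idx D.Idx F} {f : ℕ → ℕ}
    (hf : ∀ k < D.rank + D.nroots, A *ᵥ bv D F k = vb D F (f k)) (m : ℕ) :
    A *ᵥ vb D F m = vb D F (actM f (D.rank + D.nroots) m) := by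
  rw [vb_actM h2, vb_eq_sum, mulVec_sum]
  refine Finset.sum_congr rfl fun k hk => ?_
  split_ifs
  · exact hf k (Finset.mem_range.1 hk)
  · exact mulVec_zero _

/-- The action of `x_r(1)` on masks. -/
noncomputable def Fast.act (T : Fast) (r m : ℕ) : ℕ := actM (fun k => colMask (T.col r k)) (Nat.add T.l T.n) m

theorem Agree.x_mulVec_vb {T : Fast} (h : Agree D T) (hU : ChainUniq D) (h2 : (2 : F) = 0) (r m : ℕ) :
    D.x F r 1 *ᵥ vb D F m = vb D F (T.act r m) := by
  have e : Nat.add T.l T.n = D.rank + D.nroots := by rw [h.l, h.n]; rfl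
  rw [Fast.act, e]
  refine mulVec_vb h2 (fun k _ => ?_) m
  rw [vb_colMask h2, x_mulVec_bv hU, h.col]

/-- The sum of a list of masks. -/
noncomputable def xorL (f : ℕ → ℕ) (L : List ℕ) : ℕ := List.rec 0 (fun i _ acc => Nat.xor (f i) acc) L

theorem mulVec_vb_xorL (h2 : (2 : F) = 0) {A : Matrix D.Idx D.Idx F} {f : ℕ → ℕ} (L : List ℕ)
    (h : ∀ i ∈ L, A *ᵥ vb D F (f i) = vb D F (f i)) : A *ᵥ vb D F (xorL f L) = vb D F (xorL f L) := by
  induction L with
  | nil => exact (congrArg _ vb_zero).trans ((mulVec_zero _).trans vb_zero.symm)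
  | cons i L ih =>
    have : xorL f (i :: L) = Nat.xor (f i) (xorL f L) := rfl
    rw [this, vb_xor h2, mulVec_add, h i (by simp), ih fun j hj => h j (by simp [hj])]

/-- A matrix fixing a spanning family of masks is the identity. -/
theorem eq_one_of_fix (h2 : (2 : F) = 0) {A : Matrix D.Idx D.Idx F} {f : ℕ → ℕ} {n : ℕ}
    (h : ∀ i < n, A *ᵥ vb D F (f i) = vb D F (f i)) (L : ℕ → List ℕ)
    (hL : ∀ k < D.rank + D.nroots, xorL f (L k) = Nat.pow 2 k ∧ ∀ i ∈ L k, i < n) : A = 1 := by
  have key : ∀ k < D.rank + D.nroots, A *ᵥ bv D F k = (1 : Matrix D.Idx D.Idx F) *ᵥ bv D F k := by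
    intro k hk
    rw [one_mulVec, ← vb_pow, ← (hL k hk).1]
    exact mulVec_vb_xorL h2 _ fun i hi => h i ((hL k hk).2 i hi)
  exact ext_bv (fun i hi => key i (by omega)) fun s hs => key _ (by omega)

theorem eq_zero_or_one_of_card_eq_two [Fintype F] (hF : Fintype.card F = 2) (x : F) : x = 0 ∨ x = 1 := by
  have h := FiniteField.pow_card x
  rw [hF] at h
  have : x * (x - 1) = 0 := by linear_combination h
  rcases mul_eq_zero.1 this with h | h
  · exact Or.inl h
  · exact Or.inr (sub_eq_zero.1 h)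

theorem two_eq_zero_of_card_eq_two [Fintype F] (hF : Fintype.card F = 2) : (2 : F) = 0 := by
  have h := FiniteField.cast_card_eq_zero F
  rw [hF] at h
  exact_mod_cast h

/-- A faithful action of a Chevalley group over the field with two elements, read off from a spanning family of
vectors permuted by the generators `x_{±p}(1)`. -/
theorem Core.exists_rep (C : Core D η) [Fintype F] (hF : Fintype.card F = 2) {Γ I : Type*} [Group Γ]
    [MulAction Γ I] (m : I → ℕ) (hm : ∀ γ : Γ, (∀ i, vb D F (m i) = vb D F (m (γ • i))) → γ = 1)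
    (hspan : ∀ A : Matrix D.Idx D.Idx F, (∀ i, A *ᵥ vb D F (m i) = vb D F (m i)) → A = 1)
    (h : ∀ i < D.rank, ∃ γ : Γ, ∀ j, D.x F (D.simple i) 1 *ᵥ vb D F (m j) = vb D F (m (γ • j)))
    (h' : ∀ i < D.rank, ∃ γ : Γ, ∀ j, D.x F (D.neg (D.simple i)) 1 *ᵥ vb D F (m j) = vb D F (m (γ • j))) :
    ∃ ρ : D.group F →* Γ, Function.Injective ρ ∧ ∀ (g : D.group F) (γ : Γ),
      (∀ j, ((g : GL D.Idx F) : Matrix D.Idx D.Idx F) *ᵥ vb D F (m j) = vb D F (m (γ • j))) → ρ g = γ := by
  have R : GraphRel fun (g : GL D.Idx F) (γ : Γ) => ∀ i, g • vb D F (m i) = vb D F (m (γ • i)) :=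
    graphRel_smul (fun i => vb D F (m i)) hm
  have hx : ∀ r, (∃ γ : Γ, ∀ j, D.x F r 1 *ᵥ vb D F (m j) = vb D F (m (γ • j))) →
      ∀ t, C.xU F r t ∈ R.dom := by
    intro r hr t
    rcases eq_zero_or_one_of_card_eq_two hF t with rfl | rfl
    · rw [C.xU_zero]; exact one_mem _
    · exact hr
  obtain ⟨ρ, hρ⟩ := R.exists_hom (D.group F)
    (C.group_le_of_simple_neg (fun i hi => hx _ (h i hi)) fun i hi => hx _ (h' i hi))
  refine ⟨ρ, (injective_iff_map_eq_one ρ).2 fun g hg => ?_, fun g γ hg => R.eq_of_rel (hρ g) hg⟩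
  have := hρ g
  simp only [hg, one_smul] at this
  exact Subtype.ext (Units.ext (hspan _ this))

end CL.ChevM
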