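import Cfsg.Agent.Base
import Cfsg.Agent.Chev.MatTwo
import Cfsg.Agent.Chev.MatTorus
import Cfsg.Agent.Chev.WeylDefs
import Cfsg.Agent.Chev.CoxInv

/-!
# The monomial subgroup: the homomorphism `N → W` with kernel `H`
-/

set_option autoImplicit false

namespace CL.ChevM

open Matrix Cfsg.Lie Cfsg.Lie.ChevalleyDatum CL.Weyl CL.Cox

section Deletion

variable {B : Type*} [Fintype B] [DecidableEq B] {M : CoxeterMatrix B} {W : Type*} [Group W]
  {cs : CoxeterSystem M W} {R : Type*} [MulAction W R] (Φ : RootSys cs R)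

theorem exists_split_of_not_pos (i : B) (ω : List B) (h : ¬ Φ.Pos (cs.wordProd ω • Φ.simple i)) :
    ∃ α j β, ω = α ++ j :: β ∧ cs.wordProd β • Φ.simple i = Φ.simple j := by
  induction ω with
  | nil => exact absurd (by simpa using Φ.pos_simple i) h
  | cons k ω ih =>
    by_cases h1 : Φ.Pos (cs.wordProd ω • Φ.simple i)
    · rw [cs.wordProd_cons, mul_smul] at h
      exact ⟨[], k, ω, rfl, (Φ.not_pos_simple_smul_iff h1).1 h⟩
    · obtain ⟨α, j, β, rfl, h2⟩ := ih h1
      exact ⟨k :: α, j, β, rfl, h2⟩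

/-- The deletion argument. -/
theorem prod_eq_one_of_wordProd {Q : Type*} [Group Q] (f : B → Q) (h2 : ∀ i, f i * f i = 1)
    (hc : ∀ β i j, cs.wordProd β • Φ.simple i = Φ.simple j → (β.map f).prod * f i = f j * (β.map f).prod)
    (ω : List B) (h : cs.wordProd ω = 1) : (ω.map f).prod = 1 := by
  induction hn : ω.length using Nat.strong_induction_on generalizing ω with
  | _ n ih =>
  rcases List.eq_nil_or_concat ω with rfl | ⟨ω, i, rfl⟩
  · simp
  · rw [cs.wordProd_concat, mul_eq_one_iff_eq_inv, cs.inv_simple] at h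
    obtain ⟨α, j, β, rfl, h3⟩ := exists_split_of_not_pos Φ i ω (by
      rw [h, Φ.simple_smul_simple, Φ.not_pos_neg_iff]; exact Φ.pos_simple i)
    have h4 := Φ.conj_simple_of_smul_eq h3
    have h5 := ih (α ++ β).length (by simp at hn ⊢; omega) (α ++ β) (by
      rw [cs.wordProd_append, cs.wordProd_cons, ← h4] at h
      rw [cs.wordProd_append]
      simpa [← mul_assoc] using h) rfl
    simp only [List.concat_eq_append, List.map_append, List.map_cons, List.prod_append, List.prod_cons,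
      List.map_nil, List.prod_nil, mul_one, mul_assoc] at h5 ⊢
    rw [hc β i j h3, ← mul_assoc (f j), h2, one_mul, h5]

end Deletion

variable {D : ChevalleyDatum} {η : ℕ → ℕ → ℤ} {F : Type*} [Field F]

theorem diagM_mulVec_e (χ : ℕ → F) {s : ℕ} (hs : s < D.nroots) :
    diagM D χ *ᵥ bv D F (D.rank + s) = χ s • bv D F (D.rank + s) := by
  rw [diagM_eq_nu, nu_bv_e _ _ _ hs]; rfl

theorem bv_e_ne_zero (r : Fin D.nroots) : bv D F (D.rank + r) ≠ 0 := fun h => by
  simpa using congrFun h (Sum.inr r)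

namespace Core

variable (C : Core D η) [WeylOK D]

/-- `g` acts monomially on the root vectors and on the root subgroups, permuting the roots like `w`. -/
def Mono (g : GL D.Idx F) (w : W D) : Prop :=
  ∃ c : Fin D.nroots → F, ∀ r, c (negF D r) * c r = 1 ∧
    (g : Matrix D.Idx D.Idx F) *ᵥ bv D F (D.rank + r) = c r • bv D F (D.rank + (w • r : Fin D.nroots)) ∧
    ∀ t, g * C.xU F r t * g⁻¹ = C.xU F (w • r : Fin D.nroots) (c r * t)

theorem monoRel : GraphRel (C.Mono (F := F)) where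
  one := ⟨fun _ => 1, fun r => by simp⟩
  mul g w g' w' := by
    rintro ⟨c, hc⟩ ⟨c', hc'⟩
    refine ⟨fun r => c (w' • r) * c' r, fun r => ⟨?_, ?_, fun t => ?_⟩⟩
    · simp only
      rw [smul_negF, mul_mul_mul_comm, (hc _).1, (hc' _).1, mul_one]
    · simp only
      rw [Units.val_mul, ← mulVec_mulVec, (hc' r).2.1, mulVec_smul, (hc _).2.1, smul_smul, mul_smul w, mul_comm]
    · rw [mul_smul, mul_assoc (c _), ← (hc _).2.2, ← (hc' _).2.2]; group
  inv g w := by
    rintro ⟨c, hc⟩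
    refine ⟨fun r => c (negF D (w⁻¹ • r)), fun r => ⟨?_, ?_, fun t => ?_⟩⟩
    · simp only
      rw [smul_negF, negF_negF, mul_comm, (hc _).1]
    · have := congrArg (fun v => ((g⁻¹ : GL D.Idx F) : Matrix D.Idx D.Idx F) *ᵥ v) (hc (w⁻¹ • r)).2.1
      simp only [mulVec_mulVec, Units.inv_mul, one_mulVec, mulVec_smul, smul_inv_smul] at this
      rw [this, smul_smul, (hc _).1, one_smul]
    · have := (hc (w⁻¹ • r)).2.2 (c (negF D (w⁻¹ • r)) * t)
      rw [smul_inv_smul, ← mul_assoc (c _), mul_comm (c (w⁻¹ • r)), (hc _).1, one_mul] at this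
      rw [← this]; group
  uniq w := by
    rintro ⟨c, hc⟩
    refine eq_of_smul_eq_smul (α := Fin D.nroots) fun r => ?_
    have := congrFun (hc r).2.1 (Sum.inr r)
    by_contra hne
    have h2 : (r : ℕ) ≠ (w • r : Fin D.nroots) := fun e => hne (by rw [one_smul]; exact (Fin.ext e).symm)
    simp [h2] at this

theorem Mono.exists_conj {g : GL D.Idx F} {w : W D} (h : C.Mono g w) (r : Fin D.nroots) :
    ∃ c : F, c ≠ 0 ∧ ∀ t, g * C.xU F r t * g⁻¹ = C.xU F (w • r : Fin D.nroots) (c * t) := by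
  obtain ⟨c, hc⟩ := h
  exact ⟨c r, right_ne_zero_of_mul_eq_one (hc r).1, (hc r).2.2⟩

theorem Mono.exists_conj_nU {g : GL D.Idx F} {w : W D} (h : C.Mono g w) (r : Fin D.nroots) :
    ∃ c : F, c ≠ 0 ∧ ∀ t, g * C.nU F r t * g⁻¹ = C.nU F (w • r : Fin D.nroots) (c * t) := by
  obtain ⟨c, hc⟩ := h
  refine ⟨c r, right_ne_zero_of_mul_eq_one (hc r).1, fun t => ?_⟩
  have h1 := (hc (negF D r)).2.2 (-t⁻¹)
  rw [smul_negF, val_negF, val_negF, eq_inv_of_mul_eq_one_left (hc r).1, mul_neg, ← mul_inv] at h1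
  rw [nU, nU, ← (hc r).2.2, ← h1]; group

theorem mono_nU (i : Fin D.rank) : C.Mono (C.nU F (D.simple i) 1) (s D i) := by
  refine ⟨fun r => η i r, fun r => ⟨?_, ?_, fun t => ?_⟩⟩
  · simp only [val_negF]
    rw [(C.sa i i.2).sgn_neg r r.2, (C.sa i i.2).sq' r.2]
  · rw [coe_nU, C.nMat_simple_one i.2, nu_bv_e _ _ _ r.2, val_s_smul]
  · rw [mul_inv_eq_iff_eq_mul, val_s_smul]
    exact Units.ext (by simpa using C.nMat_mul_x i.2 r.2 t)

theorem mono_hU {r : ℕ} (hr : r < D.nroots) {c : F} (hc : c ≠ 0) : C.Mono (C.hU F r c) 1 := by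
  refine ⟨fun s => c ^ cartR D r s, fun s => ⟨?_, ?_, fun t => ?_⟩⟩
  · simp only [val_negF]
    rw [C.cartR_neg r s.2, _root_.zpow_neg, inv_mul_cancel₀ (zpow_ne_zero _ hc)]
  · rw [coe_hU, C.hMat_eq_diagM hr hc, diagM_mulVec_e _ s.2, one_smul]
  · rw [mul_inv_eq_iff_eq_mul, one_smul]
    exact Units.ext (by simpa using C.hMat_mul_x hr s.2 hc t)

theorem mono_of_mem_diagonal {g : GL D.Idx F} (hg : g ∈ D.diagonalSubgroup F) : C.Mono g 1 := by
  rw [C.diagonalSubgroup_eq] at hg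
  induction hg using Subgroup.closure_induction with
  | mem g hg => obtain ⟨r, hr, t, ht, rfl⟩ := hg; exact C.mono_hU hr ht
  | one => exact C.monoRel.one
  | mul g g' _ _ h h' => simpa using C.monoRel.mul _ _ _ _ h h'
  | inv g _ h => simpa using C.monoRel.inv _ _ h

omit [WeylOK D] in
theorem hU_mem_diagonal {r : ℕ} (hr : r < D.nroots) {c : F} (hc : c ≠ 0) : C.hU F r c ∈ D.diagonalSubgroup F := by
  rw [C.diagonalSubgroup_eq]; exact Subgroup.subset_closure ⟨r, hr, c, hc, rfl⟩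

omit [WeylOK D] in
theorem nU_eq_hU_mul (r : ℕ) (c : F) : C.nU F r c = C.hU F r c * C.nU F r 1 :=
  Units.ext (by simpa using C.nMat_eq_hMat_mul r c)

omit [WeylOK D] in
theorem nU_neg (r : ℕ) (c : F) : C.nU F r (-c) = (C.nU F r c)⁻¹ :=
  eq_inv_of_mul_eq_one_right (Units.ext (by simpa using C.nMat_mul_nMat_neg r c))

omit [WeylOK D] in
theorem nU_mul_self (r : ℕ) : C.nU F r 1 * C.nU F r 1 = (C.hU F r (-1))⁻¹ := by
  rw [hU, C.nU_neg, ← _root_.mul_inv_rev, inv_inv]

omit [WeylOK D] in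
theorem nU_mem_monomial {r : ℕ} (hr : r < D.nroots) {c : F} (hc : c ≠ 0) : C.nU F r c ∈ D.monomialSubgroup F := by
  rw [C.nU_eq_hU_mul]
  exact mul_mem (Subgroup.mem_sup_left (C.hU_mem_diagonal hr hc))
    (Subgroup.mem_sup_right (Subgroup.subset_closure ⟨r, hr, C.coe_nU r 1⟩))

/-- `N` is generated by `H` and the `n_p`, `p` fundamental. -/
theorem monomial_le {K : Subgroup (GL D.Idx F)} (h1 : D.diagonalSubgroup F ≤ K)
    (h2 : ∀ i : Fin D.rank, C.nU F (D.simple i) 1 ∈ K) : D.monomialSubgroup F ≤ K := by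
  refine sup_le h1 ((Subgroup.closure_le _).2 ?_)
  rintro g ⟨r, hr, hg⟩
  rw [C.eq_nU hg]
  refine C.root_induction (P := fun r => C.nU F r 1 ∈ K) (fun i hi => h2 ⟨i, hi⟩) (fun i hi r hr ih => ?_) r hr
  obtain ⟨c, hc, h⟩ := (C.mono_nU (F := F) ⟨i, hi⟩).exists_conj_nU C ⟨r, hr⟩
  have h3 := h 1
  rw [val_s_smul, C.nU_eq_hU_mul (D.reflectRoot _ _), mul_one, ← inv_mul_eq_iff_eq_mul] at h3
  rw [← h3]
  exact mul_mem (inv_mem (h1 (C.hU_mem_diagonal (C.refl_lt hi hr) hc)))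
    (mul_mem (mul_mem (h2 _) ih) (inv_mem (h2 _)))

theorem monomial_le_dom : D.monomialSubgroup F ≤ (C.monoRel (F := F)).dom :=
  C.monomial_le (fun _ hg => ⟨1, C.mono_of_mem_diagonal hg⟩) fun i => ⟨_, C.mono_nU i⟩

include C in
theorem monomial_le_normalizer :
    D.monomialSubgroup F ≤ Subgroup.normalizer (D.diagonalSubgroup F : Set (GL D.Idx F)) := by
  refine C.monomial_le Subgroup.le_normalizer fun i => ?_
  have key : ∀ g ∈ D.diagonalSubgroup F,
      C.nU F (D.simple i) 1 * g * (C.nU F (D.simple i) 1)⁻¹ ∈ D.diagonalSubgroup F := by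
    change D.diagonalSubgroup F ≤ (D.diagonalSubgroup F).comap (MulAut.conj (C.nU F (D.simple i) 1)).toMonoidHom
    conv_lhs => rw [C.diagonalSubgroup_eq]
    rw [Subgroup.closure_le]
    rintro _ ⟨r, hr, c, hc, rfl⟩
    have : C.nU F (D.simple i) 1 * C.hU F r c * (C.nU F (D.simple i) 1)⁻¹ = C.hU F (D.reflectRoot i r) c := by
      rw [mul_inv_eq_iff_eq_mul]
      exact Units.ext (by simpa using C.nMat_mul_hMat i.2 hr hc)
    change C.nU F (D.simple i) 1 * C.hU F r c * (C.nU F (D.simple i) 1)⁻¹ ∈ D.diagonalSubgroup F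
    rw [this]
    exact C.hU_mem_diagonal (C.refl_lt i.2 hr) hc
  refine Subgroup.mem_normalizer_iff.2 fun g => ⟨key g, fun hg => ?_⟩
  have h1 : C.hU F (D.simple i) (-1) ∈ D.diagonalSubgroup F :=
    C.hU_mem_diagonal (C.tab.simple_lt i i.2) (neg_ne_zero.2 one_ne_zero)
  have h2 := mul_mem (mul_mem h1 (key _ hg)) (inv_mem h1)
  rw [← inv_inv (C.hU F (D.simple i) (-1)), ← C.nU_mul_self] at h2
  convert h2 using 1
  group

include C in
theorem diagonal_normal : ((D.diagonalSubgroup F).subgroupOf (D.monomialSubgroup F)).Normal :=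
  ⟨fun n hn g => (Subgroup.mem_normalizer_iff.1 (C.monomial_le_normalizer g.2) n).1 hn⟩

variable (F) in
/-- The homomorphism `N → W`. -/
noncomputable def weylHom : D.monomialSubgroup F →* W D :=
  (C.monoRel (F := F)).hom.comp (Subgroup.inclusion C.monomial_le_dom)

theorem mono_weylHom (g : D.monomialSubgroup F) : C.Mono (g : GL D.Idx F) (C.weylHom F g) :=
  C.monoRel.rel_hom (Subgroup.inclusion C.monomial_le_dom g)

theorem weylHom_eq {g : D.monomialSubgroup F} {w : W D} (h : C.Mono (g : GL D.Idx F) w) : C.weylHom F g = w :=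
  C.monoRel.eq_of_rel (C.mono_weylHom g) h

variable (F) in
/-- `n_p` as an element of `N`. -/
def nN (i : Fin D.rank) : D.monomialSubgroup F :=
  ⟨C.nU F (D.simple i) 1, C.nU_mem_monomial (C.tab.simple_lt i i.2) one_ne_zero⟩

theorem weylHom_nN (i : Fin D.rank) : C.weylHom F (nN F C i) = s D i := C.weylHom_eq (C.mono_nU i)

theorem weylHom_word (ω : List (Fin D.rank)) : C.weylHom F (ω.map (nN F C)).prod = (cs D).wordProd ω := by
  simp only [map_list_prod, CoxeterSystem.wordProd, Function.comp_def, C.weylHom_nN, List.map_map]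

theorem weylHom_surjective : Function.Surjective (C.weylHom F) := fun w => by
  obtain ⟨ω, rfl⟩ := (cs D).wordProd_surjective w
  exact ⟨_, C.weylHom_word ω⟩

theorem ker_weylHom : (C.weylHom F).ker = (D.diagonalSubgroup F).subgroupOf (D.monomialSubgroup F) := by
  refine le_antisymm (fun g hg => ?_) fun g hg => C.weylHom_eq (C.mono_of_mem_diagonal hg)
  have := C.diagonal_normal (F := F)
  let π := QuotientGroup.mk' ((D.diagonalSubgroup F).subgroupOf (D.monomialSubgroup F))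
  have hπ : ∀ x, π x = 1 ↔ (x : GL D.Idx F) ∈ D.diagonalSubgroup F := fun x => QuotientGroup.eq_one_iff x
  have hw : ∀ ω : List (Fin D.rank), (ω.map fun i => π (nN F C i)).prod = π (ω.map (nN F C)).prod := fun ω => by
    simp [map_list_prod, Function.comp_def]
  have h2 : ∀ i, π (nN F C i) * π (nN F C i) = 1 := fun i => by
    rw [← map_mul, hπ]
    change C.nU F (D.simple i) 1 * C.nU F (D.simple i) 1 ∈ _
    rw [C.nU_mul_self]
    exact inv_mem (C.hU_mem_diagonal (C.tab.simple_lt i i.2) (neg_ne_zero.2 one_ne_zero))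
  have key := prod_eq_one_of_wordProd (Φ D) (fun i => π (nN F C i)) h2 fun β i j h => by
    obtain ⟨c, hc, h3⟩ := (C.mono_weylHom (β.map (nN F C)).prod).exists_conj_nU C (simpleF D i)
    have h4 := h3 1
    rw [C.weylHom_word, show (cs D).wordProd β • simpleF D i = simpleF D j from h, mul_one,
      C.nU_eq_hU_mul _ c, val_simpleF, val_simpleF, ← mul_inv_eq_iff_eq_mul] at h4
    rw [hw, ← mul_inv_eq_iff_eq_mul, ← mul_inv_eq_one, ← map_inv, ← map_inv, ← map_mul, ← map_mul, ← map_mul, hπ]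
    change ((β.map (nN F C)).prod : GL D.Idx F) * C.nU F (D.simple i) 1 * ((β.map (nN F C)).prod : GL D.Idx F)⁻¹ *
      (C.nU F (D.simple j) 1)⁻¹ ∈ _
    rw [h4]
    exact C.hU_mem_diagonal (C.tab.simple_lt j j.2) hc
  let K : Subgroup (D.monomialSubgroup F) :=
    { carrier := {x | ∃ ω : List (Fin D.rank), π x = π (ω.map (nN F C)).prod}
      one_mem' := ⟨[], rfl⟩
      mul_mem' := fun ⟨ω, h⟩ ⟨ω', h'⟩ => ⟨ω ++ ω', by rw [map_mul, h, h', List.map_append, List.prod_append, map_mul]⟩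
      inv_mem' := fun ⟨ω, h⟩ => ⟨ω.reverse, by
        rw [map_inv, h, ← hw, ← hw, List.prod_inv_reverse, List.map_reverse, List.map_map]
        congr 2
        exact List.map_congr_left fun i _ => inv_eq_of_mul_eq_one_left (h2 i)⟩ }
  have hK : D.monomialSubgroup F ≤ K.map (D.monomialSubgroup F).subtype :=
    C.monomial_le (fun x hx => ⟨⟨x, Subgroup.mem_sup_left hx⟩, ⟨[], (hπ _).2 hx⟩, rfl⟩)
      fun i => ⟨nN F C i, ⟨[i], by simp⟩, rfl⟩
  obtain ⟨g', ⟨ω, hω⟩, e⟩ := hK g.2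
  obtain rfl : g' = g := Subtype.ext e
  have h5 : (cs D).wordProd ω = 1 := by
    have h6 : C.weylHom F (g'⁻¹ * (ω.map (nN F C)).prod) = 1 :=
      C.weylHom_eq (C.mono_of_mem_diagonal ((hπ _).1 (by rw [map_mul, map_inv, hω, inv_mul_cancel])))
    rwa [map_mul, map_inv, (MonoidHom.mem_ker).1 hg, inv_one, one_mul, C.weylHom_word] at h6
  rw [← hw, key ω h5] at hω
  exact (hπ _).1 hω

theorem exists_mono (w : W D) : ∃ g ∈ D.monomialSubgroup F, C.Mono g w := by
  obtain ⟨g, rfl⟩ := C.weylHom_surjective (F := F) w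
  exact ⟨g, g.2, C.mono_weylHom g⟩

theorem mem_diagonal_of_mono {g : GL D.Idx F} (hg : g ∈ D.monomialSubgroup F) (h : C.Mono g 1) :
    g ∈ D.diagonalSubgroup F := by
  have : (⟨g, hg⟩ : D.monomialSubgroup F) ∈ (C.weylHom F).ker := C.weylHom_eq h
  rwa [C.ker_weylHom] at this

/-- Conjugation of a subgroup generated by root subgroups. -/
theorem Mono.map_conj {g : GL D.Idx F} {w : W D} (h : C.Mono g w) {P Q : ℕ → Prop} (hP : ∀ r, P r → r < D.nroots)
    (hQ : ∀ r, Q r → r < D.nroots) (hPQ : ∀ r : Fin D.nroots, P r ↔ Q (w • r : Fin D.nroots)) :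
    (Subgroup.closure {x : GL D.Idx F | ∃ (r : ℕ) (t : F), P r ∧ (x : Matrix D.Idx D.Idx F) = D.x F r t}).map
      (MulAut.conj g).toMonoidHom =
      Subgroup.closure {x : GL D.Idx F | ∃ (r : ℕ) (t : F), Q r ∧ (x : Matrix D.Idx D.Idx F) = D.x F r t} := by
  rw [MonoidHom.map_closure]
  congr 1
  ext x
  constructor
  · rintro ⟨y, ⟨r, t, hr, hy⟩, rfl⟩
    obtain ⟨c, -, hc⟩ := h.exists_conj C ⟨r, hP r hr⟩
    refine ⟨_, c * t, (hPQ ⟨r, hP r hr⟩).1 hr, ?_⟩
    rw [C.eq_xU hy, ← C.coe_xU, ← hc]; rfl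
  · rintro ⟨r, t, hr, hx⟩
    obtain ⟨c, hc0, hc⟩ := h.exists_conj C (w⁻¹ • ⟨r, hQ r hr⟩)
    refine ⟨C.xU F (w⁻¹ • (⟨r, hQ r hr⟩ : Fin D.nroots) : Fin D.nroots) (c⁻¹ * t),
      ⟨_, _, (hPQ _).2 (by rwa [smul_inv_smul]), rfl⟩, ?_⟩
    rw [C.eq_xU hx]
    exact (hc _).trans (by rw [smul_inv_smul, mul_inv_cancel_left₀ hc0])

include C in
/-- A representative of the longest element interchanges `U` and `V`. -/
theorem exists_conj_pos_eq_neg : ∃ n ∈ D.monomialSubgroup F,
    (D.posUnipotent F).map (MulAut.conj n).toMonoidHom = D.negUnipotent F := by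
  obtain ⟨g, hg, h⟩ := C.exists_mono (F := F) ((Φ D).w0 Set.univ)
  exact ⟨g, hg, h.map_conj C (fun _ h => h.1) (fun _ h => h.1) fun r => by
    rw [isNegRoot_iff, isPosRoot_iff, (Φ D).pos_w0_univ_smul_iff, not_not]⟩

end Core

end CL.ChevM
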