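import Cfsg.Agent.Base

/-!
Tables of the diagram symmetries `ρ` of the root systems E₆, D₄ (both 3-cycles), F₄, B₂, G₂, as permutations of the
root indices and of the indices of the fundamental roots, with the signs `γ` (simply laced types) and the
exponents `λ` (`λ r = p` if `r` is short, `1` if `r` is long).
-/

set_option autoImplicit false

namespace CL.Tw

open Cfsg Cfsg.Lie

/-- The check that two tables are mutually inverse permutations of `{0, …, n-1}`. -/
def PermTab (n : ℕ) (l l' : List ℕ) : Prop :=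
  ∀ i < n, l.getD i 0 < n ∧ l'.getD i 0 < n ∧ l'.getD (l.getD i 0) 0 = i ∧ l.getD (l'.getD i 0) 0 = i

instance instDecidablePermTab (n : ℕ) (l l' : List ℕ) : Decidable (PermTab n l l') :=
  inferInstanceAs (Decidable (∀ i < n, _))

/-- The permutation of `Fin n` given by a table and the table of its inverse. -/
def permOfTab (n : ℕ) (l l' : List ℕ) (h : PermTab n l l') : Equiv.Perm (Fin n) where
  toFun i := ⟨l.getD i 0, (h i i.2).1⟩
  invFun i := ⟨l'.getD i 0, (h i i.2).2.1⟩
  left_inv i := Fin.ext (h i i.2).2.2.1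
  right_inv i := Fin.ext (h i i.2).2.2.2

theorem permOfTab_val (n : ℕ) (l l' : List ℕ) (h : PermTab n l l') (i : Fin n) :
    (permOfTab n l l' h i : ℕ) = l.getD i 0 := rfl

theorem permOfTab_symm_val (n : ℕ) (l l' : List ℕ) (h : PermTab n l l') (i : Fin n) :
    ((permOfTab n l l' h).symm i : ℕ) = l'.getD i 0 := rfl

/-- E₆, symmetry of order 2: table of the permutation of the roots. -/
def rhoE6Tab : List ℕ := [0, 1, 2, 5, 16, 3, 6, 17, 8, 19, 22, 11, 26, 30, 33, 35, 4, 7, 18, 9, 20, 23, 10, 21, 24, 25, 12, 27, 31, 34, 13, 28, 32, 14, 29, 15, 56, 42, 57, 39, 43, 58, 37, 40, 44, 59, 46, 47, 50, 61, 48, 51, 62, 53, 64, 67, 36, 38, 41, 45, 60, 49, 52, 63, 54, 65, 68, 55, 66, 69, 70, 71]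
/-- E₆, symmetry of order 2: table of the inverse permutation of the roots. -/
def rhoE6Inv : List ℕ := [0, 1, 2, 5, 16, 3, 6, 17, 8, 19, 22, 11, 26, 30, 33, 35, 4, 7, 18, 9, 20, 23, 10, 21, 24, 25, 12, 27, 31, 34, 13, 28, 32, 14, 29, 15, 56, 42, 57, 39, 43, 58, 37, 40, 44, 59, 46, 47, 50, 61, 48, 51, 62, 53, 64, 67, 36, 38, 41, 45, 60, 49, 52, 63, 54, 65, 68, 55, 66, 69, 70, 71]
/-- E₆, symmetry of order 2: table of the permutation of the fundamental roots. -/
def piE6Tab : List ℕ := [5, 1, 4, 3, 2, 0]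
/-- E₆, symmetry of order 2: table of the inverse permutation of the fundamental roots. -/
def piE6Inv : List ℕ := [5, 1, 4, 3, 2, 0]
/-- E₆, symmetry of order 2: table of the signs. -/
def gamE6Tab : List ℤ := [1, 1, 1, 1, -1, 1, 1, -1, 1, -1, -1, 1, -1, 1, -1, 1, -1, -1, 1, -1, 1, 1, -1, 1, 1, 1, -1, 1, -1, 1, 1, -1, 1, -1, 1, 1, 1, 1, -1, 1, -1, 1, 1, -1, 1, -1, 1, 1, 1, -1, 1, 1, -1, 1, -1, -1, 1, -1, 1, -1, 1, -1, -1, 1, -1, 1, 1, -1, 1, 1, 1, 1]
/-- E₆, symmetry of order 2: the permutation of the roots. -/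
def rhoE6 : Equiv.Perm (Fin chevE6.nroots) :=
  permOfTab _ rhoE6Tab rhoE6Inv (by decide +kernel)
/-- E₆, symmetry of order 2: the permutation of the fundamental roots. -/
def piE6 : Equiv.Perm (Fin chevE6.rank) :=
  permOfTab _ piE6Tab piE6Inv (by decide +kernel)

/-- D₄, triality p₁ ↦ p₃ ↦ p₄ ↦ p₁: table of the permutation of the roots. -/
def rhoD4Tab : List ℕ := [0, 1, 6, 2, 7, 10, 3, 8, 4, 9, 11, 5, 18, 12, 14, 19, 15, 20, 13, 16, 21, 17, 22, 23]
/-- D₄, triality p₁ ↦ p₃ ↦ p₄ ↦ p₁: table of the inverse permutation of the roots. -/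
def rhoD4Inv : List ℕ := [0, 1, 3, 6, 8, 11, 2, 4, 7, 9, 5, 10, 13, 18, 14, 16, 19, 21, 12, 15, 17, 20, 22, 23]
/-- D₄, triality p₁ ↦ p₃ ↦ p₄ ↦ p₁: table of the permutation of the fundamental roots. -/
def piD4Tab : List ℕ := [2, 1, 3, 0]
/-- D₄, triality p₁ ↦ p₃ ↦ p₄ ↦ p₁: table of the inverse permutation of the fundamental roots. -/
def piD4Inv : List ℕ := [3, 1, 0, 2]
/-- D₄, triality p₁ ↦ p₃ ↦ p₄ ↦ p₁: table of the signs. -/
def gamD4Tab : List ℤ := [1, 1, -1, 1, -1, 1, -1, 1, -1, 1, 1, 1, 1, 1, 1, -1, 1, -1, 1, -1, 1, -1, 1, 1]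
/-- D₄, triality p₁ ↦ p₃ ↦ p₄ ↦ p₁: the permutation of the roots. -/
def rhoD4 : Equiv.Perm (Fin chevD4.nroots) :=
  permOfTab _ rhoD4Tab rhoD4Inv (by decide +kernel)
/-- D₄, triality p₁ ↦ p₃ ↦ p₄ ↦ p₁: the permutation of the fundamental roots. -/
def piD4 : Equiv.Perm (Fin chevD4.rank) :=
  permOfTab _ piD4Tab piD4Inv (by decide +kernel)

/-- D₄, triality p₁ ↦ p₄ ↦ p₃ ↦ p₁: table of the permutation of the roots. -/
def rhoD4bTab : List ℕ := [0, 1, 3, 6, 8, 11, 2, 4, 7, 9, 5, 10, 13, 18, 14, 16, 19, 21, 12, 15, 17, 20, 22, 23]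
/-- D₄, triality p₁ ↦ p₄ ↦ p₃ ↦ p₁: table of the inverse permutation of the roots. -/
def rhoD4bInv : List ℕ := [0, 1, 6, 2, 7, 10, 3, 8, 4, 9, 11, 5, 18, 12, 14, 19, 15, 20, 13, 16, 21, 17, 22, 23]
/-- D₄, triality p₁ ↦ p₄ ↦ p₃ ↦ p₁: table of the permutation of the fundamental roots. -/
def piD4bTab : List ℕ := [3, 1, 0, 2]
/-- D₄, triality p₁ ↦ p₄ ↦ p₃ ↦ p₁: table of the inverse permutation of the fundamental roots. -/
def piD4bInv : List ℕ := [2, 1, 3, 0]
/-- D₄, triality p₁ ↦ p₄ ↦ p₃ ↦ p₁: table of the signs. -/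
def gamD4bTab : List ℤ := [1, 1, 1, -1, -1, 1, -1, -1, 1, 1, 1, 1, 1, 1, 1, 1, -1, -1, 1, -1, -1, 1, 1, 1]
/-- D₄, triality p₁ ↦ p₄ ↦ p₃ ↦ p₁: the permutation of the roots. -/
def rhoD4b : Equiv.Perm (Fin chevD4.nroots) :=
  permOfTab _ rhoD4bTab rhoD4bInv (by decide +kernel)
/-- D₄, triality p₁ ↦ p₄ ↦ p₃ ↦ p₁: the permutation of the fundamental roots. -/
def piD4b : Equiv.Perm (Fin chevD4.rank) :=
  permOfTab _ piD4bTab piD4bInv (by decide +kernel)

/-- F4, symmetry exchanging long and short roots: table of the permutation of the roots. -/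
def rhoF4Tab : List ℕ := [3, 7, 8, 0, 9, 11, 18, 1, 2, 4, 15, 5, 16, 21, 23, 10, 12, 19, 6, 17, 22, 13, 20, 14, 33, 27, 34, 25, 30, 41, 28, 35, 37, 24, 26, 31, 42, 32, 43, 45, 46, 29, 36, 38, 47, 39, 40, 44]
/-- F4, symmetry exchanging long and short roots: table of the inverse permutation of the roots. -/
def rhoF4Inv : List ℕ := [3, 7, 8, 0, 9, 11, 18, 1, 2, 4, 15, 5, 16, 21, 23, 10, 12, 19, 6, 17, 22, 13, 20, 14, 33, 27, 34, 25, 30, 41, 28, 35, 37, 24, 26, 31, 42, 32, 43, 45, 46, 29, 36, 38, 47, 39, 40, 44]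
/-- F4, symmetry exchanging long and short roots: table of the permutation of the fundamental roots. -/
def piF4Tab : List ℕ := [3, 2, 1, 0]
/-- F4, symmetry exchanging long and short roots: table of the inverse permutation of the fundamental roots. -/
def piF4Inv : List ℕ := [3, 2, 1, 0]
/-- F4, symmetry exchanging long and short roots: table of the exponents. -/
def lamF4Tab : List ℕ := [1, 1, 1, 2, 1, 1, 1, 2, 2, 2, 2, 2, 2, 2, 2, 1, 1, 1, 2, 2, 2, 1, 1, 1, 1, 1, 1, 2, 2, 2, 1, 1, 1, 2, 2, 2, 2, 2, 2, 2, 2, 1, 1, 1, 2, 1, 1, 1]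
/-- F4, symmetry exchanging long and short roots: the permutation of the roots. -/
def rhoF4 : Equiv.Perm (Fin chevF4.nroots) :=
  permOfTab _ rhoF4Tab rhoF4Inv (by decide +kernel)
/-- F4, symmetry exchanging long and short roots: the permutation of the fundamental roots. -/
def piF4 : Equiv.Perm (Fin chevF4.rank) :=
  permOfTab _ piF4Tab piF4Inv (by decide +kernel)

/-- B2, symmetry exchanging long and short roots: table of the permutation of the roots. -/
def rhoB2Tab : List ℕ := [1, 0, 3, 2, 5, 4, 7, 6]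
/-- B2, symmetry exchanging long and short roots: table of the inverse permutation of the roots. -/
def rhoB2Inv : List ℕ := [1, 0, 3, 2, 5, 4, 7, 6]
/-- B2, symmetry exchanging long and short roots: table of the permutation of the fundamental roots. -/
def piB2Tab : List ℕ := [1, 0]
/-- B2, symmetry exchanging long and short roots: table of the inverse permutation of the fundamental roots. -/
def piB2Inv : List ℕ := [1, 0]
/-- B2, symmetry exchanging long and short roots: table of the exponents. -/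
def lamB2Tab : List ℕ := [1, 2, 2, 1, 1, 2, 2, 1]
/-- B2, symmetry exchanging long and short roots: the permutation of the roots. -/
def rhoB2 : Equiv.Perm (Fin chevB2.nroots) :=
  permOfTab _ rhoB2Tab rhoB2Inv (by decide +kernel)
/-- B2, symmetry exchanging long and short roots: the permutation of the fundamental roots. -/
def piB2 : Equiv.Perm (Fin chevB2.rank) :=
  permOfTab _ piB2Tab piB2Inv (by decide +kernel)

/-- G2, symmetry exchanging long and short roots: table of the permutation of the roots. -/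
def rhoG2Tab : List ℕ := [2, 3, 0, 1, 5, 4, 7, 6, 10, 11, 8, 9]
/-- G2, symmetry exchanging long and short roots: table of the inverse permutation of the roots. -/
def rhoG2Inv : List ℕ := [2, 3, 0, 1, 5, 4, 7, 6, 10, 11, 8, 9]
/-- G2, symmetry exchanging long and short roots: table of the permutation of the fundamental roots. -/
def piG2Tab : List ℕ := [1, 0]
/-- G2, symmetry exchanging long and short roots: table of the inverse permutation of the fundamental roots. -/
def piG2Inv : List ℕ := [1, 0]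
/-- G2, symmetry exchanging long and short roots: table of the exponents. -/
def lamG2Tab : List ℕ := [1, 1, 3, 3, 3, 1, 1, 3, 3, 3, 1, 1]
/-- G2, symmetry exchanging long and short roots: the permutation of the roots. -/
def rhoG2 : Equiv.Perm (Fin chevG2.nroots) :=
  permOfTab _ rhoG2Tab rhoG2Inv (by decide +kernel)
/-- G2, symmetry exchanging long and short roots: the permutation of the fundamental roots. -/
def piG2 : Equiv.Perm (Fin chevG2.rank) :=
  permOfTab _ piG2Tab piG2Inv (by decide +kernel)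

end CL.Tw
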