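import Cfsg.Agent.Base
import Cfsg.Agent.Chev.WeylCheck
import Cfsg.Agent.Chev.CoxPoincare

/-!
Words in the simple reflections of the Weyl group of a tabulated datum, computed on fast tables;
Poincaré polynomials, orders of the Weyl groups and of the Coxeter elements.
-/

set_option autoImplicit false
set_option linter.unusedSectionVars false
set_option linter.unusedSimpArgs false
set_option maxRecDepth 100000

namespace CL.Weyl

open Cfsg.Lie CL.Cox CL.ChevM CL.WC

/-- The simple reflection with index a natural number (trivial out of range). -/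
noncomputable def sN (D : ChevalleyDatum) (i : ℕ) : W D :=
  if h : i < D.rank then s D ⟨i, h⟩ else 1

theorem sN_of_lt {D : ChevalleyDatum} {i : ℕ} (h : i < D.rank) : sN D i = s D ⟨i, h⟩ := dif_pos h

theorem sN_coe {D : ChevalleyDatum} (i : Fin D.rank) : sN D i = s D i := dif_pos i.2

/-- The product of a word of natural numbers. -/
noncomputable def wordN (D : ChevalleyDatum) (ω : List ℕ) : W D := (ω.map (sN D)).prod

theorem wordN_nil (D : ChevalleyDatum) : wordN D [] = 1 := rfl

theorem wordN_cons (D : ChevalleyDatum) (i : ℕ) (ω : List ℕ) :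
    wordN D (i :: ω) = sN D i * wordN D ω := by simp [wordN]

theorem wordN_append (D : ChevalleyDatum) (ω ω' : List ℕ) :
    wordN D (ω ++ ω') = wordN D ω * wordN D ω' := by simp [wordN]

theorem wordN_map_val (D : ChevalleyDatum) (ω : List (Fin D.rank)) :
    wordN D (ω.map Fin.val) = (cs D).wordProd ω := by
  induction ω with
  | nil => simp [wordN]
  | cons a ω ih => rw [List.map_cons, wordN_cons, ih, sN_coe, CoxeterSystem.wordProd_cons]

theorem wordN_mem_parab (D : ChevalleyDatum) {J : Set (Fin D.rank)} {ω : List ℕ}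
    (h : ∀ i : Fin D.rank, (i : ℕ) ∈ ω → i ∈ J) : wordN D ω ∈ parab (cs D) J := by
  induction ω with
  | nil => exact one_mem _
  | cons a ω ih =>
    rw [wordN_cons]
    refine mul_mem ?_ (ih fun i hi => h i (List.mem_cons_of_mem _ hi))
    unfold sN
    split_ifs with ha
    · exact simple_mem_parab _ (h ⟨a, ha⟩ List.mem_cons_self)
    · exact one_mem _

theorem wordN_pow (D : ChevalleyDatum) (ω : List ℕ) (k : ℕ) :
    wordN D ω ^ k = wordN D (List.replicate k ω).flatten := by
  induction k with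
  | zero => simp [wordN]
  | succ k ih => rw [pow_succ', ih, List.replicate_succ, List.flatten_cons, wordN_append]

/-- The fast tables describe the simple reflections, and the positive roots are the upper half. -/
structure FastW (D : ChevalleyDatum) (T : Fast) : Prop where
  agree : Agree D T
  refl : ∀ i < D.rank, ∀ r < D.nroots, D.reflectRoot i r = T.wN i r
  pos : ∀ r < D.nroots, D.IsPosRoot r ↔ D.nroots / 2 ≤ r

/-- The action of a word on a root index. -/
noncomputable def actN (T : Fast) (ω : List ℕ) (r : ℕ) : ℕ :=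
  List.rec r (fun i _ ih => T.wN i ih) ω

theorem fastW_of_chk {D : ChevalleyDatum} [WeylOK D] {T : Fast} (h : Agree D T)
    (hR : allLt T.l T.chkR = true)
    (hp : allLt T.n (fun r => Bool.rec (bnot (allLt T.l fun j => nonnegZ (T.cor r j)))
      (allLt T.l fun j => nonnegZ (T.cor r j)) (Nat.ble (Nat.div T.n 2) r)) = true) :
    FastW D T := by
  refine ⟨h, fun i hi r hr => ?_, fun r hr => ?_⟩
  · simp only [allLt_iff, Fast.chkR, band_iff, beq_iff'] at hR
    rw [h.refl]
    exact ((hR i (h.l ▸ hi)).2.2.2 r (h.n ▸ hr)).1.symm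
  · have h1 := allLt_iff.1 hp r (h.n ▸ hr)
    have h2 : D.IsPosRoot r ↔ (allLt T.l fun j => nonnegZ (T.cor r j)) = true := by
      rw [ChevalleyDatum.IsPosRoot, forall_mem_coroot_iff D r hr, allLt_iff, ← h.l, ← h.cor]
      simp only [nonnegZ_iff]
      exact ⟨fun h j hj => h.2 ⟨j, hj⟩, fun h => ⟨hr, fun j => h j j.2⟩⟩
    rw [h2, h.n]
    by_cases h3 : T.n / 2 ≤ r
    · have : Nat.ble (Nat.div T.n 2) r = true := by rw [Nat.ble_eq]; exact h3
      rw [this] at h1
      exact ⟨fun _ => h3, fun _ => h1⟩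
    · have : Nat.ble (Nat.div T.n 2) r = false := by
        rw [← Bool.not_eq_true, Nat.ble_eq]; exact h3
      rw [this] at h1
      exact ⟨fun h4 => absurd h4 (bnot_iff.1 h1), fun h4 => absurd h4 h3⟩

theorem fastW_G2 : FastW chevG2 fastG2 := fastW_of_chk agreeG2 chkRG2 (by decide +kernel)
theorem fastW_B2 : FastW chevB2 fastB2 := fastW_of_chk agreeB2 chkRB2 (by decide +kernel)
theorem fastW_D4 : FastW chevD4 fastD4 := fastW_of_chk agreeD4 chkRD4 (by decide +kernel)
theorem fastW_F4 : FastW chevF4 fastF4 := fastW_of_chk agreeF4 chkRF4 (by decide +kernel)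
theorem fastW_E6 : FastW chevE6 fastE6 := fastW_of_chk agreeE6 chkRE6 (by decide +kernel)
theorem fastW_E7 : FastW chevE7 fastE7 := fastW_of_chk agreeE7 chkRE7 (by decide +kernel)
theorem fastW_E8 : FastW chevE8 fastE8 := fastW_of_chk agreeE8 chkRE8 (by decide +kernel)

namespace FastW

variable {D : ChevalleyDatum} [WeylOK D] {T : Fast} (h : FastW D T)
include h

theorem pos_iff (r : Fin D.nroots) : (Φ D).Pos r ↔ T.n / 2 ≤ r := by
  rw [← isPosRoot_iff, h.pos r r.2, ← h.agree.n]

theorem val_s_smul (i : Fin D.rank) (r : Fin D.nroots) :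
    ((s D i • r : Fin D.nroots) : ℕ) = T.wN i r := by
  rw [CL.Weyl.val_s_smul, h.refl i i.2 r r.2]

theorem val_simpleF (i : Fin D.rank) : (simpleF D i : ℕ) = T.sim i := by
  rw [CL.Weyl.val_simpleF, h.agree.simple, T.simple_eq (h.agree.l ▸ i.2)]

theorem val_wordN_smul {ω : List ℕ} (hω : allL ω (fun i => Nat.blt i T.l) = true)
    (r : Fin D.nroots) : ((wordN D ω • r : Fin D.nroots) : ℕ) = actN T ω r := by
  rw [allL_iff] at hω
  induction ω with
  | nil => simp [wordN, actN]
  | cons a ω ih =>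
    have ha : a < D.rank := by rw [h.agree.l]; exact blt_iff'.1 (hω a List.mem_cons_self)
    rw [wordN_cons, mul_smul, sN_of_lt ha, h.val_s_smul,
      ih fun i hi => hω i (List.mem_cons_of_mem _ hi)]
    rfl

theorem wordN_eq_of_chk {ω ω' : List ℕ} (hc : band (allL ω (fun i => Nat.blt i T.l))
    (band (allL ω' (fun i => Nat.blt i T.l))
      (allLt T.l fun i => Nat.beq (actN T ω (T.sim i)) (actN T ω' (T.sim i)))) = true) :
    wordN D ω = wordN D ω' := by
  rw [band_iff, band_iff, allLt_iff] at hc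
  refine (Φ D).eq_of_smul_simple_eq fun i => Fin.ext ?_
  rw [h.val_wordN_smul hc.1, h.val_wordN_smul hc.2.1, Φ_simple, h.val_simpleF]
  exact beq_iff'.1 (hc.2.2 i (h.agree.l ▸ i.2))

theorem wordN_ne_of_chk {ω ω' : List ℕ} (hc : band (allL ω (fun i => Nat.blt i T.l))
    (band (allL ω' (fun i => Nat.blt i T.l))
      (anyLt T.l fun i => bnot (Nat.beq (actN T ω (T.sim i)) (actN T ω' (T.sim i))))) = true) :
    wordN D ω ≠ wordN D ω' := by
  rw [band_iff, band_iff, anyLt_iff] at hc
  obtain ⟨h1, h2, i, hi, h3⟩ := hc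
  intro he
  rw [bnot_iff, beq_iff'] at h3
  apply h3
  have hi' : i < D.rank := h.agree.l ▸ hi
  have h4 := h.val_simpleF ⟨i, hi'⟩
  simp only at h4
  rw [← h4, ← h.val_wordN_smul h1, ← h.val_wordN_smul h2, he]

theorem length_wordN {ω : List ℕ} (hω : allL ω (fun i => Nat.blt i T.l) = true) :
    (cs D).length (wordN D ω) =
      ((List.range T.n).filter fun r => band (Nat.ble (Nat.div T.n 2) r)
        (Nat.blt (actN T ω r) (Nat.div T.n 2))).length := by
  classical
  rw [(Φ D).length_eq_card_inv, ← List.toFinset_card_of_nodup (List.nodup_range.filter _)]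
  refine Finset.card_bij (fun r _ => (r : ℕ)) ?_ (fun a _ b _ h => Fin.ext h) ?_
  · intro r hr
    rw [RootSys.mem_inv, h.pos_iff, h.pos_iff, h.val_wordN_smul hω] at hr
    simp only [List.mem_toFinset, List.mem_filter, List.mem_range, band_iff, Nat.ble_eq, blt_iff']
    exact ⟨h.agree.n ▸ r.2, hr.1, not_le.1 hr.2⟩
  · intro r hr
    simp only [List.mem_toFinset, List.mem_filter, List.mem_range, band_iff, Nat.ble_eq,
      blt_iff'] at hr
    refine ⟨⟨r, h.agree.n ▸ hr.1⟩, ?_, rfl⟩
    rw [RootSys.mem_inv, h.pos_iff, h.pos_iff, h.val_wordN_smul hω]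
    exact ⟨hr.2.1, not_le.2 hr.2.2⟩

theorem orderOf_wordN {ω : List ℕ} {k : ℕ} (hk : 0 < k) (hc : band (allL ω (fun i => Nat.blt i T.l))
    (band (allLt T.l fun i => Nat.beq (actN T (List.replicate k ω).flatten (T.sim i)) (T.sim i))
      (allLt k fun m => bor (Nat.beq m 0) (anyLt T.l fun i =>
        bnot (Nat.beq (actN T (List.replicate m ω).flatten (T.sim i)) (T.sim i))))) = true) :
    orderOf (wordN D ω) = k := by
  rw [band_iff, band_iff] at hc
  have hall : ∀ m, allL (List.replicate m ω).flatten (fun i => Nat.blt i T.l) = true := by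
    intro m
    rw [allL_iff]
    intro i hi
    simp only [List.mem_flatten, List.mem_replicate] at hi
    obtain ⟨_, ⟨-, rfl⟩, hi⟩ := hi
    exact allL_iff.1 hc.1 i hi
  rw [orderOf_eq_iff hk]
  refine ⟨?_, fun m hm hm0 => ?_⟩
  · rw [wordN_pow, ← wordN_nil D]
    exact h.wordN_eq_of_chk (band_iff.2 ⟨hall k, band_iff.2 ⟨rfl, hc.2.1⟩⟩)
  · rw [wordN_pow, ← wordN_nil D]
    rcases bor_iff.1 (allLt_iff.1 hc.2.2 m hm) with h1 | h1
    · rw [beq_iff'] at h1; omega
    · exact h.wordN_ne_of_chk (band_iff.2 ⟨hall m, band_iff.2 ⟨rfl, h1⟩⟩)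

theorem cartan_rows {AL : List (List ℤ)}
    (hA : AL = (List.range T.l).map fun i => (List.range T.l).map fun j => T.cart j (T.simple i))
    (j : Fin D.rank) : AL.getD j [] = List.ofFn ((Φ D).A j) := by
  subst hA
  rw [← h.agree.l, ← h.agree.cart, ← h.agree.simple]
  apply List.ext_getElem
  · simp [List.getD_eq_getElem?_getD]
  · intro k h1 h2
    simp [List.getD_eq_getElem?_getD, Φ_A, cA]

/-- The weighted Poincaré sum from a kernel computation. -/
theorem poincare [Fintype (W D)] {S : Type*} [CommSemiring S] (q : S) {e : Fin D.nroots → ℕ}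
    (he : ∀ (w : W D) r, e (w • r) = e r) {AL : List (List ℤ)}
    (hA : AL = (List.range T.l).map fun i => (List.range T.l).map fun j => T.cart j (T.simple i))
    {eL : List ℕ} (hE : ∀ j : Fin D.rank, eL.getD j 0 = e (simpleF D j)) {J : List ℕ}
    (hJ : J.Nodup ∧ ∀ j < T.l, j ∈ J) {P : List (List ℕ)}
    (hP : chainExps T.l (T.n + 1) AL eL J = P) :
    ∑ w : W D, q ^ (Φ D).wlen e w = (P.map fun l => (l.map (q ^ ·)).sum).prod :=
  (Φ D).poincare_univ q he (h.cartan_rows hA) hE (N := T.n + 1)
    (by rw [Fintype.card_fin, h.agree.n]; exact Nat.lt_succ_self _) hJ.1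
    (by rw [h.agree.l]; exact hJ.2) (by rw [h.agree.l]; exact hP)

theorem poincare_length [Fintype (W D)] {S : Type*} [CommSemiring S] (q : S) {AL : List (List ℤ)}
    (hA : AL = (List.range T.l).map fun i => (List.range T.l).map fun j => T.cart j (T.simple i))
    {J : List ℕ} (hJ : J.Nodup ∧ ∀ j < T.l, j ∈ J) {P : List (List ℕ)}
    (hP : chainExps T.l (T.n + 1) AL (List.replicate T.l 1) J = P) :
    ∑ w : W D, q ^ (cs D).length w = (P.map fun l => (l.map (q ^ ·)).sum).prod := by
  rw [← h.poincare q (e := fun _ => 1) (fun _ _ => rfl) hA (fun j => ?_) hJ hP]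
  · simp only [RootSys.wlen_one]
  · have : (j : ℕ) < T.l := h.agree.l ▸ j.2
    simp [List.getD_eq_getElem?_getD, this]

end FastW

theorem card_eq_of_poincare {G : Type*} [Fintype G] {f : G → ℕ} {P : List (List ℕ)}
    (h : ∑ w : G, (1 : ℕ) ^ f w = (P.map fun l => (l.map ((1 : ℕ) ^ ·)).sum).prod) :
    Nat.card G = (P.map List.length).prod := by
  simpa using h

end CL.Weyl
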