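import Cfsg.Agent.Base
import Cfsg.Agent.Chev.WeylWord

/-!
Poincaré polynomials, orders and Coxeter numbers of the Weyl groups of the seven tabulated types.
-/

set_option autoImplicit false
set_option maxRecDepth 100000

namespace CL.Weyl

open Cfsg.Lie CL.Cox CL.ChevM CL.WC

theorem card_of_coxMat_eq {D : ChevalleyDatum} {M : CoxeterMatrix (Fin D.rank)} (h : coxMat D = M) :
    Nat.card M.Group = Nat.card (W D) := by
  subst h; rfl

theorem orderOf_of_coxMat_eq {D : ChevalleyDatum} {M : CoxeterMatrix (Fin D.rank)}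
    (h : coxMat D = M) :
    orderOf ((List.finRange D.rank).map M.simple).prod = orderOf (wordN D (List.range D.rank)) := by
  subst h
  rw [← List.map_coe_finRange_eq_range, wordN_map_val]
  rfl

/-- Cartan rows of type G2. -/
def cartRowsG2 : List (List ℤ) :=
  [[2, -1], [-3, 2]]

theorem cartRowsG2_eq : cartRowsG2 = (List.range fastG2.l).map fun i =>
    (List.range fastG2.l).map fun j => fastG2.cart j (fastG2.simple i) := by decide +kernel

/-- Exponents of the factors of the Poincaré polynomial of type G2. -/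
def expsG2 : List (List ℕ) :=
  [[0, 1, 2, 3, 4, 5], [0, 1]]

theorem poincare_G2_raw [Fintype (W chevG2)] {S : Type*} [CommSemiring S] (q : S) :
    ∑ w : W chevG2, q ^ (cs chevG2).length w =
      (expsG2.map fun l => (l.map (q ^ ·)).sum).prod :=
  fastW_G2.poincare_length q cartRowsG2_eq (J := [0, 1]) (by decide +kernel) (by decide +kernel)

theorem poincare_G2 [Fintype (W chevG2)] {S : Type*} [CommRing S] (q : S) :
    (q - 1) ^ 2 * ∑ w : W chevG2, q ^ (cs chevG2).length w =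
      (q ^ 2 - 1) * (q ^ 6 - 1) := by
  rw [poincare_G2_raw]
  simp only [expsG2, List.map_cons, List.map_nil, List.sum_cons, List.sum_nil, List.prod_cons,
    List.prod_nil]
  ring

theorem poincare_G2_nat [Fintype (W chevG2)] {q : ℕ} (hq : 1 ≤ q) :
    (q - 1) ^ 2 * ∑ w : W chevG2, q ^ (cs chevG2).length w =
      (q ^ 2 - 1) * (q ^ 6 - 1) := by
  have h : ∀ d, 1 ≤ q ^ d := fun d => Nat.one_le_pow d q hq
  zify [hq, h]
  exact poincare_G2 (q : ℤ)

theorem card_W_G2 : Nat.card (W chevG2) = 12 := by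
  have := Fintype.ofFinite (W chevG2)
  rw [card_eq_of_poincare (poincare_G2_raw 1)]
  decide +kernel

theorem orderOf_coxeterElt_G2 : orderOf (wordN chevG2 (List.range chevG2.rank)) = 6 :=
  fastW_G2.orderOf_wordN (by norm_num) (by decide +kernel)

/-- Cartan rows of type B2. -/
def cartRowsB2 : List (List ℤ) :=
  [[2, -1], [-2, 2]]

theorem cartRowsB2_eq : cartRowsB2 = (List.range fastB2.l).map fun i =>
    (List.range fastB2.l).map fun j => fastB2.cart j (fastB2.simple i) := by decide +kernel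

/-- Exponents of the factors of the Poincaré polynomial of type B2. -/
def expsB2 : List (List ℕ) :=
  [[0, 1, 2, 3], [0, 1]]

theorem poincare_B2_raw [Fintype (W chevB2)] {S : Type*} [CommSemiring S] (q : S) :
    ∑ w : W chevB2, q ^ (cs chevB2).length w =
      (expsB2.map fun l => (l.map (q ^ ·)).sum).prod :=
  fastW_B2.poincare_length q cartRowsB2_eq (J := [0, 1]) (by decide +kernel) (by decide +kernel)

theorem poincare_B2 [Fintype (W chevB2)] {S : Type*} [CommRing S] (q : S) :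
    (q - 1) ^ 2 * ∑ w : W chevB2, q ^ (cs chevB2).length w =
      (q ^ 2 - 1) * (q ^ 4 - 1) := by
  rw [poincare_B2_raw]
  simp only [expsB2, List.map_cons, List.map_nil, List.sum_cons, List.sum_nil, List.prod_cons,
    List.prod_nil]
  ring

theorem poincare_B2_nat [Fintype (W chevB2)] {q : ℕ} (hq : 1 ≤ q) :
    (q - 1) ^ 2 * ∑ w : W chevB2, q ^ (cs chevB2).length w =
      (q ^ 2 - 1) * (q ^ 4 - 1) := by
  have h : ∀ d, 1 ≤ q ^ d := fun d => Nat.one_le_pow d q hq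
  zify [hq, h]
  exact poincare_B2 (q : ℤ)

theorem card_W_B2 : Nat.card (W chevB2) = 8 := by
  have := Fintype.ofFinite (W chevB2)
  rw [card_eq_of_poincare (poincare_B2_raw 1)]
  decide +kernel

theorem orderOf_coxeterElt_B2 : orderOf (wordN chevB2 (List.range chevB2.rank)) = 4 :=
  fastW_B2.orderOf_wordN (by norm_num) (by decide +kernel)

/-- Cartan rows of type D4. -/
def cartRowsD4 : List (List ℤ) :=
  [[2, -1, 0, 0], [-1, 2, -1, -1], [0, -1, 2, 0], [0, -1, 0, 2]]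

theorem cartRowsD4_eq : cartRowsD4 = (List.range fastD4.l).map fun i =>
    (List.range fastD4.l).map fun j => fastD4.cart j (fastD4.simple i) := by decide +kernel

/-- Exponents of the factors of the Poincaré polynomial of type D4. -/
def expsD4 : List (List ℕ) :=
  [[0, 1, 2, 3, 3, 4, 5, 6], [0, 1, 2, 3], [0, 1, 2], [0, 1]]

theorem poincare_D4_raw [Fintype (W chevD4)] {S : Type*} [CommSemiring S] (q : S) :
    ∑ w : W chevD4, q ^ (cs chevD4).length w =
      (expsD4.map fun l => (l.map (q ^ ·)).sum).prod :=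
  fastW_D4.poincare_length q cartRowsD4_eq (J := [3, 2, 1, 0]) (by decide +kernel) (by decide +kernel)

theorem poincare_D4 [Fintype (W chevD4)] {S : Type*} [CommRing S] (q : S) :
    (q - 1) ^ 4 * ∑ w : W chevD4, q ^ (cs chevD4).length w =
      (q ^ 2 - 1) * (q ^ 4 - 1) * (q ^ 4 - 1) * (q ^ 6 - 1) := by
  rw [poincare_D4_raw]
  simp only [expsD4, List.map_cons, List.map_nil, List.sum_cons, List.sum_nil, List.prod_cons,
    List.prod_nil]
  ring

theorem poincare_D4_nat [Fintype (W chevD4)] {q : ℕ} (hq : 1 ≤ q) :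
    (q - 1) ^ 4 * ∑ w : W chevD4, q ^ (cs chevD4).length w =
      (q ^ 2 - 1) * (q ^ 4 - 1) * (q ^ 4 - 1) * (q ^ 6 - 1) := by
  have h : ∀ d, 1 ≤ q ^ d := fun d => Nat.one_le_pow d q hq
  zify [hq, h]
  exact poincare_D4 (q : ℤ)

theorem card_W_D4 : Nat.card (W chevD4) = 192 := by
  have := Fintype.ofFinite (W chevD4)
  rw [card_eq_of_poincare (poincare_D4_raw 1)]
  decide +kernel

theorem orderOf_coxeterElt_D4 : orderOf (wordN chevD4 (List.range chevD4.rank)) = 6 :=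
  fastW_D4.orderOf_wordN (by norm_num) (by decide +kernel)

/-- Cartan rows of type F4. -/
def cartRowsF4 : List (List ℤ) :=
  [[2, -1, 0, 0], [-1, 2, -1, 0], [0, -2, 2, -1], [0, 0, -1, 2]]

theorem cartRowsF4_eq : cartRowsF4 = (List.range fastF4.l).map fun i =>
    (List.range fastF4.l).map fun j => fastF4.cart j (fastF4.simple i) := by decide +kernel

/-- Exponents of the factors of the Poincaré polynomial of type F4. -/
def expsF4 : List (List ℕ) :=
  [[0, 1, 2, 3, 4, 4, 5, 5, 6, 6, 7, 7, 8, 8, 9, 9, 10, 10, 11, 11, 12, 13, 14, 15], [0, 1, 2, 3,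
    4, 5], [0, 1, 2, 3], [0, 1]]

theorem poincare_F4_raw [Fintype (W chevF4)] {S : Type*} [CommSemiring S] (q : S) :
    ∑ w : W chevF4, q ^ (cs chevF4).length w =
      (expsF4.map fun l => (l.map (q ^ ·)).sum).prod :=
  fastW_F4.poincare_length q cartRowsF4_eq (J := [3, 0, 2, 1]) (by decide +kernel) (by decide +kernel)

theorem poincare_F4 [Fintype (W chevF4)] {S : Type*} [CommRing S] (q : S) :
    (q - 1) ^ 4 * ∑ w : W chevF4, q ^ (cs chevF4).length w =
      (q ^ 2 - 1) * (q ^ 6 - 1) * (q ^ 8 - 1) * (q ^ 12 - 1) := by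
  rw [poincare_F4_raw]
  simp only [expsF4, List.map_cons, List.map_nil, List.sum_cons, List.sum_nil, List.prod_cons,
    List.prod_nil]
  ring

theorem poincare_F4_nat [Fintype (W chevF4)] {q : ℕ} (hq : 1 ≤ q) :
    (q - 1) ^ 4 * ∑ w : W chevF4, q ^ (cs chevF4).length w =
      (q ^ 2 - 1) * (q ^ 6 - 1) * (q ^ 8 - 1) * (q ^ 12 - 1) := by
  have h : ∀ d, 1 ≤ q ^ d := fun d => Nat.one_le_pow d q hq
  zify [hq, h]
  exact poincare_F4 (q : ℤ)

theorem card_W_F4 : Nat.card (W chevF4) = 1152 := by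
  have := Fintype.ofFinite (W chevF4)
  rw [card_eq_of_poincare (poincare_F4_raw 1)]
  decide +kernel

theorem orderOf_coxeterElt_F4 : orderOf (wordN chevF4 (List.range chevF4.rank)) = 12 :=
  fastW_F4.orderOf_wordN (by norm_num) (by decide +kernel)

/-- Cartan rows of type E6. -/
def cartRowsE6 : List (List ℤ) :=
  [[2, 0, -1, 0, 0, 0], [0, 2, 0, -1, 0, 0], [-1, 0, 2, -1, 0, 0], [0, -1, -1, 2, -1, 0], [0, 0,
    0, -1, 2, -1], [0, 0, 0, 0, -1, 2]]

theorem cartRowsE6_eq : cartRowsE6 = (List.range fastE6.l).map fun i =>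
    (List.range fastE6.l).map fun j => fastE6.cart j (fastE6.simple i) := by decide +kernel

/-- Exponents of the factors of the Poincaré polynomial of type E6. -/
def expsE6 : List (List ℕ) :=
  [[0, 1, 2, 3, 4, 4, 5, 5, 6, 6, 7, 7, 8, 8, 8, 9, 9, 10, 10, 11, 11, 12, 12, 13, 14, 15, 16],
    [0, 1, 2, 3, 3, 4, 4, 5, 5, 6, 6, 7, 7, 8, 9, 10], [0, 1, 2, 3, 4], [0, 1, 2, 3], [0, 1, 2], [0,
    1]]

theorem poincare_E6_raw [Fintype (W chevE6)] {S : Type*} [CommSemiring S] (q : S) :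
    ∑ w : W chevE6, q ^ (cs chevE6).length w =
      (expsE6.map fun l => (l.map (q ^ ·)).sum).prod :=
  fastW_E6.poincare_length q cartRowsE6_eq (J := [5, 4, 1, 3, 2, 0]) (by decide +kernel) (by decide +kernel)

theorem poincare_E6 [Fintype (W chevE6)] {S : Type*} [CommRing S] (q : S) :
    (q - 1) ^ 6 * ∑ w : W chevE6, q ^ (cs chevE6).length w =
      (q ^ 2 - 1) * (q ^ 5 - 1) * (q ^ 6 - 1) * (q ^ 8 - 1) * (q ^ 9 - 1) * (q ^ 12 - 1) := by
  rw [poincare_E6_raw]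
  simp only [expsE6, List.map_cons, List.map_nil, List.sum_cons, List.sum_nil, List.prod_cons,
    List.prod_nil]
  ring

theorem poincare_E6_nat [Fintype (W chevE6)] {q : ℕ} (hq : 1 ≤ q) :
    (q - 1) ^ 6 * ∑ w : W chevE6, q ^ (cs chevE6).length w =
      (q ^ 2 - 1) * (q ^ 5 - 1) * (q ^ 6 - 1) * (q ^ 8 - 1) * (q ^ 9 - 1) * (q ^ 12 - 1) := by
  have h : ∀ d, 1 ≤ q ^ d := fun d => Nat.one_le_pow d q hq
  zify [hq, h]
  exact poincare_E6 (q : ℤ)

theorem card_W_E6 : Nat.card (W chevE6) = 51840 := by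
  have := Fintype.ofFinite (W chevE6)
  rw [card_eq_of_poincare (poincare_E6_raw 1)]
  decide +kernel

theorem orderOf_coxeterElt_E6 : orderOf (wordN chevE6 (List.range chevE6.rank)) = 12 :=
  fastW_E6.orderOf_wordN (by norm_num) (by decide +kernel)

/-- Cartan rows of type E7. -/
def cartRowsE7 : List (List ℤ) :=
  [[2, 0, -1, 0, 0, 0, 0], [0, 2, 0, -1, 0, 0, 0], [-1, 0, 2, -1, 0, 0, 0], [0, -1, -1, 2, -1, 0,
    0], [0, 0, 0, -1, 2, -1, 0], [0, 0, 0, 0, -1, 2, -1], [0, 0, 0, 0, 0, -1, 2]]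

theorem cartRowsE7_eq : cartRowsE7 = (List.range fastE7.l).map fun i =>
    (List.range fastE7.l).map fun j => fastE7.cart j (fastE7.simple i) := by decide +kernel

/-- Exponents of the factors of the Poincaré polynomial of type E7. -/
def expsE7 : List (List ℕ) :=
  [[0, 1, 2, 3, 4, 5, 5, 6, 6, 7, 7, 8, 8, 9, 9, 9, 10, 10, 10, 11, 11, 11, 12, 12, 12, 13, 13,
    13, 14, 14, 14, 15, 15, 15, 16, 16, 16, 17, 17, 17, 18, 18, 18, 19, 19, 20, 20, 21, 21, 22, 22,
    23, 24, 25, 26, 27], [0, 1, 2, 3, 4, 4, 5, 5, 6, 6, 7, 7, 8, 8, 8, 9, 9, 10, 10, 11, 11, 12, 12,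
    13, 14, 15, 16], [0, 1, 2, 3, 3, 4, 4, 5, 5, 6, 6, 7, 7, 8, 9, 10], [0, 1, 2, 3, 4], [0, 1, 2,
    3], [0, 1, 2], [0, 1]]

theorem poincare_E7_raw [Fintype (W chevE7)] {S : Type*} [CommSemiring S] (q : S) :
    ∑ w : W chevE7, q ^ (cs chevE7).length w =
      (expsE7.map fun l => (l.map (q ^ ·)).sum).prod :=
  fastW_E7.poincare_length q cartRowsE7_eq (J := [6, 5, 4, 1, 3, 2, 0]) (by decide +kernel) (by decide +kernel)

theorem poincare_E7 [Fintype (W chevE7)] {S : Type*} [CommRing S] (q : S) :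
    (q - 1) ^ 7 * ∑ w : W chevE7, q ^ (cs chevE7).length w =
      (q ^ 2 - 1) * (q ^ 6 - 1) * (q ^ 8 - 1) * (q ^ 10 - 1) * (q ^ 12 - 1) * (q ^ 14 - 1) * (q ^ 18 -
      1) := by
  rw [poincare_E7_raw]
  simp only [expsE7, List.map_cons, List.map_nil, List.sum_cons, List.sum_nil, List.prod_cons,
    List.prod_nil]
  ring

theorem poincare_E7_nat [Fintype (W chevE7)] {q : ℕ} (hq : 1 ≤ q) :
    (q - 1) ^ 7 * ∑ w : W chevE7, q ^ (cs chevE7).length w =
      (q ^ 2 - 1) * (q ^ 6 - 1) * (q ^ 8 - 1) * (q ^ 10 - 1) * (q ^ 12 - 1) * (q ^ 14 - 1) * (q ^ 18 -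
      1) := by
  have h : ∀ d, 1 ≤ q ^ d := fun d => Nat.one_le_pow d q hq
  zify [hq, h]
  exact poincare_E7 (q : ℤ)

theorem card_W_E7 : Nat.card (W chevE7) = 2903040 := by
  have := Fintype.ofFinite (W chevE7)
  rw [card_eq_of_poincare (poincare_E7_raw 1)]
  decide +kernel

theorem orderOf_coxeterElt_E7 : orderOf (wordN chevE7 (List.range chevE7.rank)) = 18 :=
  fastW_E7.orderOf_wordN (by norm_num) (by decide +kernel)

/-- Cartan rows of type E8. -/
def cartRowsE8 : List (List ℤ) :=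
  [[2, 0, -1, 0, 0, 0, 0, 0], [0, 2, 0, -1, 0, 0, 0, 0], [-1, 0, 2, -1, 0, 0, 0, 0], [0, -1, -1,
    2, -1, 0, 0, 0], [0, 0, 0, -1, 2, -1, 0, 0], [0, 0, 0, 0, -1, 2, -1, 0], [0, 0, 0, 0, 0, -1, 2,
    -1], [0, 0, 0, 0, 0, 0, -1, 2]]

theorem cartRowsE8_eq : cartRowsE8 = (List.range fastE8.l).map fun i =>
    (List.range fastE8.l).map fun j => fastE8.cart j (fastE8.simple i) := by decide +kernel

/-- Exponents of the factors of the Poincaré polynomial of type E8. -/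
def expsE8 : List (List ℕ) :=
  [[0, 1, 2, 3, 4, 5, 6, 6, 7, 7, 8, 8, 9, 9, 10, 10, 10, 11, 11, 11, 12, 12, 12, 12, 13, 13, 13,
    13, 14, 14, 14, 14, 15, 15, 15, 15, 16, 16, 16, 16, 16, 17, 17, 17, 17, 17, 18, 18, 18, 18, 18,
    18, 19, 19, 19, 19, 19, 19, 20, 20, 20, 20, 20, 20, 21, 21, 21, 21, 21, 21, 22, 22, 22, 22, 22,
    22, 22, 23, 23, 23, 23, 23, 23, 23, 24, 24, 24, 24, 24, 24, 24, 25, 25, 25, 25, 25, 25, 25, 26,
    26, 26, 26, 26, 26, 26, 27, 27, 27, 27, 27, 27, 27, 28, 28, 28, 28, 28, 28, 28, 28, 29, 29, 29,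
    29, 29, 29, 29, 29, 30, 30, 30, 30, 30, 30, 30, 31, 31, 31, 31, 31, 31, 31, 32, 32, 32, 32, 32,
    32, 32, 33, 33, 33, 33, 33, 33, 33, 34, 34, 34, 34, 34, 34, 34, 35, 35, 35, 35, 35, 35, 35, 36,
    36, 36, 36, 36, 36, 37, 37, 37, 37, 37, 37, 38, 38, 38, 38, 38, 38, 39, 39, 39, 39, 39, 39, 40,
    40, 40, 40, 40, 41, 41, 41, 41, 41, 42, 42, 42, 42, 43, 43, 43, 43, 44, 44, 44, 44, 45, 45, 45,
    45, 46, 46, 46, 47, 47, 47, 48, 48, 49, 49, 50, 50, 51, 51, 52, 53, 54, 55, 56, 57], [0, 1, 2,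
    3, 4, 5, 5, 6, 6, 7, 7, 8, 8, 9, 9, 9, 10, 10, 10, 11, 11, 11, 12, 12, 12, 13, 13, 13, 14, 14,
    14, 15, 15, 15, 16, 16, 16, 17, 17, 17, 18, 18, 18, 19, 19, 20, 20, 21, 21, 22, 22, 23, 24, 25,
    26, 27], [0, 1, 2, 3, 4, 4, 5, 5, 6, 6, 7, 7, 8, 8, 8, 9, 9, 10, 10, 11, 11, 12, 12, 13, 14, 15,
    16], [0, 1, 2, 3, 3, 4, 4, 5, 5, 6, 6, 7, 7, 8, 9, 10], [0, 1, 2, 3, 4], [0, 1, 2, 3], [0, 1,
    2], [0, 1]]

theorem poincare_E8_raw [Fintype (W chevE8)] {S : Type*} [CommSemiring S] (q : S) :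
    ∑ w : W chevE8, q ^ (cs chevE8).length w =
      (expsE8.map fun l => (l.map (q ^ ·)).sum).prod :=
  fastW_E8.poincare_length q cartRowsE8_eq (J := [7, 6, 5, 4, 1, 3, 2, 0]) (by decide +kernel) (by decide +kernel)

theorem poincare_E8 [Fintype (W chevE8)] {S : Type*} [CommRing S] (q : S) :
    (q - 1) ^ 8 * ∑ w : W chevE8, q ^ (cs chevE8).length w =
      (q ^ 2 - 1) * (q ^ 8 - 1) * (q ^ 12 - 1) * (q ^ 14 - 1) * (q ^ 18 - 1) * (q ^ 20 - 1) * (q ^ 24
      - 1) * (q ^ 30 - 1) := by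
  rw [poincare_E8_raw]
  simp only [expsE8, List.map_cons, List.map_nil, List.sum_cons, List.sum_nil, List.prod_cons,
    List.prod_nil]
  ring

theorem poincare_E8_nat [Fintype (W chevE8)] {q : ℕ} (hq : 1 ≤ q) :
    (q - 1) ^ 8 * ∑ w : W chevE8, q ^ (cs chevE8).length w =
      (q ^ 2 - 1) * (q ^ 8 - 1) * (q ^ 12 - 1) * (q ^ 14 - 1) * (q ^ 18 - 1) * (q ^ 20 - 1) * (q ^ 24
      - 1) * (q ^ 30 - 1) := by
  have h : ∀ d, 1 ≤ q ^ d := fun d => Nat.one_le_pow d q hq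
  zify [hq, h]
  exact poincare_E8 (q : ℤ)

theorem card_W_E8 : Nat.card (W chevE8) = 696729600 := by
  have := Fintype.ofFinite (W chevE8)
  rw [card_eq_of_poincare (poincare_E8_raw 1)]
  decide +kernel

theorem orderOf_coxeterElt_E8 : orderOf (wordN chevE8 (List.range chevE8.rank)) = 30 :=
  fastW_E8.orderOf_wordN (by norm_num) (by decide +kernel)

end CL.Weyl
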