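import Cfsg.Agent.Base
import Cfsg.Agent.Chev.WeylPoincare
import Cfsg.Agent.Chev.CoxTwist
import Cfsg.Agent.Chev.TwRho
import Cfsg.Agent.Invol.Dihedral

/-!
The diagram automorphisms of the tabulated root systems, the twisted Weyl groups `W^σ` and their
Poincaré sums.
-/

set_option autoImplicit false
set_option linter.unusedSectionVars false
set_option linter.unusedSimpArgs false
set_option maxRecDepth 100000

namespace CL.Weyl

open Cfsg.Lie CL.Cox CL.ChevM CL.WC CL.Tw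

section mk

variable {D D' : ChevalleyDatum} [WeylOK D] [WeylOK D'] {T T' : Fast}

/-- A diagram automorphism from tables. -/
noncomputable def FastW.diagAut (h : FastW D T) (ρ : Equiv.Perm (Fin D.nroots))
    (π : Equiv.Perm (Fin D.rank)) (ρT πT : List ℕ) (hρ : ∀ r, (ρ r : ℕ) = ρT.getD r 0)
    (hπ : ∀ i, (π i : ℕ) = πT.getD i 0)
    (hc : allLt T.l (fun i => band (Nat.beq (ρT.getD (T.sim i) 0) (T.sim (πT.getD i 0)))
      (allLt T.n fun r => Nat.beq (ρT.getD (T.wN i r) 0) (T.wN (πT.getD i 0) (ρT.getD r 0))))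
      = true) : DiagAut (Φ D) where
  ρ := ρ
  π := π
  ρ_simple i := by
    simp only [allLt_iff, band_iff, beq_iff'] at hc
    apply Fin.ext
    rw [hρ, Φ_simple, Φ_simple, h.val_simpleF, h.val_simpleF, hπ]
    exact (hc i (h.agree.l ▸ i.2)).1
  ρ_simple_smul i r := by
    simp only [allLt_iff, band_iff, beq_iff'] at hc
    apply Fin.ext
    rw [hρ, h.val_s_smul, h.val_s_smul, hπ, hρ]
    exact (hc i (h.agree.l ▸ i.2)).2 r (h.agree.n ▸ r.2)

/-- The Boolean check for a folding. -/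
noncomputable def chkFold (T T' : Fast) (prT κT : List ℕ) (ws : List (List ℕ)) : Bool :=
  band (allLt T.n fun r => band (Nat.blt (prT.getD r 0) T'.n)
    (Nat.beq (Bool.rec 0 1 (Nat.ble (Nat.div T.n 2) r))
      (Bool.rec 0 1 (Nat.ble (Nat.div T'.n 2) (prT.getD r 0)))))
  (band (allLt T.l fun i => band (Nat.blt (κT.getD i 0) T'.l)
    (Nat.beq (prT.getD (T.sim i) 0) (T'.sim (κT.getD i 0))))
  (allLt T'.l fun k => band (anyLt T.l fun i => Nat.beq (κT.getD i 0) k)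
    (band (allL (ws.getD k []) fun i => Nat.blt i T.l)
    (band (allL (ws.getD k []) fun i => Nat.beq (κT.getD i 0) k)
      (allLt T.n fun r => Nat.beq (prT.getD (actN T (ws.getD k []) r) 0)
        (T'.wN k (prT.getD r 0)))))))

theorem boolRec_eq_iff {a b : Bool}
    (h : (Bool.rec 0 1 a : ℕ) = Bool.rec 0 1 b) : a = true ↔ b = true := by
  cases a <;> cases b <;> simp_all

theorem chkFold_spec {T T' : Fast} {prT κT : List ℕ} {ws : List (List ℕ)}
    (hc : chkFold T T' prT κT ws = true) :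
    (∀ r < T.n, prT.getD r 0 < T'.n ∧ (Bool.rec 0 1 (Nat.ble (Nat.div T.n 2) r) : ℕ) =
      Bool.rec 0 1 (Nat.ble (Nat.div T'.n 2) (prT.getD r 0))) ∧
    (∀ i < T.l, κT.getD i 0 < T'.l ∧ prT.getD (T.sim i) 0 = T'.sim (κT.getD i 0)) ∧
    ∀ k < T'.l, (∃ i < T.l, κT.getD i 0 = k) ∧
      allL (ws.getD k []) (fun i => Nat.blt i T.l) = true ∧
      allL (ws.getD k []) (fun i => Nat.beq (κT.getD i 0) k) = true ∧
      ∀ r < T.n, prT.getD (actN T (ws.getD k []) r) 0 = T'.wN k (prT.getD r 0) := by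
  simpa only [chkFold, band_iff, allLt_iff, anyLt_iff, beq_iff', blt_iff'] using hc

/-- A folding from tables. -/
noncomputable def FastW.folding (h : FastW D T) (h' : FastW D' T') (prT κT : List ℕ)
    (ws : List (List ℕ)) (hc : chkFold T T' prT κT ws = true) : Folding (Φ D) (Φ D') :=
  have hc' := chkFold_spec hc
  { g := fun k => wordN D (ws.getD k [])
    pr := fun r => ⟨prT.getD r 0, h'.agree.n ▸ (hc'.1 r (h.agree.n ▸ r.2)).1⟩
    pr_g := fun k r => by
      apply Fin.ext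
      have h1 := hc'.2.2 k (h'.agree.l ▸ k.2)
      simp only
      rw [h.val_wordN_smul h1.2.1, h'.val_s_smul]
      exact h1.2.2.2 r (h.agree.n ▸ r.2)
    pos_pr := fun r => by
      rw [h.pos_iff, h'.pos_iff]
      have h1 := boolRec_eq_iff (hc'.1 r (h.agree.n ▸ r.2)).2
      rw [Nat.ble_eq, Nat.ble_eq] at h1
      exact h1.symm
    κ := fun i => ⟨κT.getD i 0, h'.agree.l ▸ (hc'.2.1 i (h.agree.l ▸ i.2)).1⟩
    pr_simple := fun i => by
      apply Fin.ext
      simp only [Φ_simple]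
      rw [h.val_simpleF, h'.val_simpleF]
      exact (hc'.2.1 i (h.agree.l ▸ i.2)).2
    κ_surj := fun k => by
      obtain ⟨i, hi, h1⟩ := (hc'.2.2 k (h'.agree.l ▸ k.2)).1
      exact ⟨⟨i, h.agree.l ▸ hi⟩, Fin.ext h1⟩
    g_mem := fun k => wordN_mem_parab D fun i hi =>
      Fin.ext (beq_iff'.1 (allL_iff.1 (hc'.2.2 k (h'.agree.l ▸ k.2)).2.2.1 i hi)) }

theorem FastW.wordN_eq_w0 (h : FastW D T) {J : Set (Fin D.rank)} {JL ω : List ℕ}
    (hJ : ∀ i : Fin D.rank, i ∈ J ↔ (i : ℕ) ∈ JL)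
    (hc : band (allL ω fun i => Nat.blt i T.l) (band (allL ω fun i => decide (i ∈ JL))
      (allL JL fun j => Nat.blt (actN T ω (T.sim j)) (Nat.div T.n 2))) = true) :
    wordN D ω = (Φ D).w0 J := by
  rw [band_iff, band_iff, allL_iff, allL_iff, allL_iff] at hc
  refine (Φ D).eq_w0 (wordN_mem_parab D fun i hi => (hJ i).2 (by simpa using hc.2.1 i hi))
    fun j hj => ?_
  rw [h.pos_iff, h.val_wordN_smul (allL_iff.2 hc.1), Φ_simple, h.val_simpleF]
  exact not_le.2 (blt_iff'.1 (hc.2.2 j ((hJ j).1 hj)))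

end mk

/-! ### The diagram automorphisms -/

/-- The diagram automorphism of E₆. -/
noncomputable def tauE6 : DiagAut (Φ chevE6) :=
  fastW_E6.diagAut rhoE6 piE6 rhoE6Tab piE6Tab (fun _ => rfl) (fun _ => rfl) (by decide +kernel)
/-- The triality `p₁ ↦ p₃ ↦ p₄ ↦ p₁` of D₄. -/
noncomputable def tauD4 : DiagAut (Φ chevD4) :=
  fastW_D4.diagAut rhoD4 piD4 rhoD4Tab piD4Tab (fun _ => rfl) (fun _ => rfl) (by decide +kernel)
/-- The triality `p₁ ↦ p₄ ↦ p₃ ↦ p₁` of D₄. -/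
noncomputable def tauD4b : DiagAut (Φ chevD4) :=
  fastW_D4.diagAut rhoD4b piD4b rhoD4bTab piD4bTab (fun _ => rfl) (fun _ => rfl)
    (by decide +kernel)
/-- The symmetry of F₄. -/
noncomputable def tauF4 : DiagAut (Φ chevF4) :=
  fastW_F4.diagAut rhoF4 piF4 rhoF4Tab piF4Tab (fun _ => rfl) (fun _ => rfl) (by decide +kernel)
/-- The symmetry of B₂. -/
noncomputable def tauB2 : DiagAut (Φ chevB2) :=
  fastW_B2.diagAut rhoB2 piB2 rhoB2Tab piB2Tab (fun _ => rfl) (fun _ => rfl) (by decide +kernel)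
/-- The symmetry of G₂. -/
noncomputable def tauG2 : DiagAut (Φ chevG2) :=
  fastW_G2.diagAut rhoG2 piG2 rhoG2Tab piG2Tab (fun _ => rfl) (fun _ => rfl) (by decide +kernel)

theorem tauE6_ρ : tauE6.ρ = rhoE6 := rfl
theorem tauE6_π : tauE6.π = piE6 := rfl
theorem tauD4_ρ : tauD4.ρ = rhoD4 := rfl
theorem tauD4_π : tauD4.π = piD4 := rfl
theorem tauD4b_ρ : tauD4b.ρ = rhoD4b := rfl
theorem tauD4b_π : tauD4b.π = piD4b := rfl
theorem tauF4_ρ : tauF4.ρ = rhoF4 := rfl
theorem tauF4_π : tauF4.π = piF4 := rfl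
theorem tauB2_ρ : tauB2.ρ = rhoB2 := rfl
theorem tauB2_π : tauB2.π = piB2 := rfl
theorem tauG2_ρ : tauG2.ρ = rhoG2 := rfl
theorem tauG2_π : tauG2.π = piG2 := rfl

theorem sameCycle_iff_of_tab {n : ℕ} (π : Equiv.Perm (Fin n)) (πT κT : List ℕ)
    (hπ : ∀ i, (π i : ℕ) = πT.getD i 0)
    (h1 : ∀ i < n, κT.getD (πT.getD i 0) 0 = κT.getD i 0)
    (h2 : ∀ i < n, ∀ j < n, κT.getD j 0 = κT.getD i 0 →
      j = i ∨ j = πT.getD i 0 ∨ j = πT.getD (πT.getD i 0) 0) (i j : Fin n) :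
    π.SameCycle i j ↔ κT.getD j 0 = κT.getD i 0 := by
  constructor
  · intro h
    obtain ⟨m, rfl⟩ := h.exists_nat_pow_eq
    clear h
    induction m with
    | zero => rfl
    | succ m ih => rw [pow_succ', Equiv.Perm.mul_apply, hπ, h1 _ (Fin.is_lt _), ih]
  · intro h
    rcases h2 i i.2 j j.2 h with h | h | h
    · rw [Fin.ext h]
    · exact ⟨1, Fin.ext (by rw [h, zpow_one, hπ])⟩
    · exact ⟨2, Fin.ext (by rw [h, zpow_two, Equiv.Perm.mul_apply, hπ, hπ])⟩

theorem mem_orb_E6 (i j : Fin chevE6.rank) :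
    j ∈ tauE6.orb i ↔ [0, 3, 1, 2, 1, 0].getD j 0 = [0, 3, 1, 2, 1, 0].getD i 0 :=
  sameCycle_iff_of_tab _ piE6Tab _ (fun _ => rfl) (by decide +kernel) (by decide +kernel) i j
theorem mem_orb_D4 (i j : Fin chevD4.rank) :
    j ∈ tauD4.orb i ↔ [0, 1, 0, 0].getD j 0 = [0, 1, 0, 0].getD i 0 :=
  sameCycle_iff_of_tab _ piD4Tab _ (fun _ => rfl) (by decide +kernel) (by decide +kernel) i j
theorem mem_orb_D4b (i j : Fin chevD4.rank) :
    j ∈ tauD4b.orb i ↔ [0, 1, 0, 0].getD j 0 = [0, 1, 0, 0].getD i 0 :=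
  sameCycle_iff_of_tab _ piD4bTab _ (fun _ => rfl) (by decide +kernel) (by decide +kernel) i j
theorem mem_orb_F4 (i j : Fin chevF4.rank) :
    j ∈ tauF4.orb i ↔ [0, 1, 1, 0].getD j 0 = [0, 1, 1, 0].getD i 0 :=
  sameCycle_iff_of_tab _ piF4Tab _ (fun _ => rfl) (by decide +kernel) (by decide +kernel) i j
theorem mem_orb_B2 (i j : Fin chevB2.rank) : j ∈ tauB2.orb i :=
  (sameCycle_iff_of_tab _ piB2Tab [] (fun _ => rfl) (by decide +kernel) (by decide +kernel) i j).2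
    (by simp)
theorem mem_orb_G2 (i j : Fin chevG2.rank) : j ∈ tauG2.orb i :=
  (sameCycle_iff_of_tab _ piG2Tab [] (fun _ => rfl) (by decide +kernel) (by decide +kernel) i j).2
    (by simp)

/-! ### Foldings E₆ → F₄ and D₄ → G₂ -/

/-- The projection of the roots of E₆ onto those of F₄. -/
def prE6Tab : List ℕ := [0, 1, 2, 3, 7, 3, 4, 8, 5, 9, 11, 6, 10, 12, 13, 14, 7, 8, 15, 9, 16, 18,
  11, 18, 21, 23, 10, 17, 19, 20, 12, 19, 22, 13, 20, 14, 33, 27, 34, 25, 28, 35, 27, 28, 30, 37,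
  24, 26, 29, 36, 29, 31, 38, 32, 39, 40, 33, 34, 35, 37, 41, 36, 38, 42, 39, 43, 44, 40, 44, 45,
  46, 47]

/-- The projection of the roots of D₄ onto those of G₂. -/
def prD4Tab : List ℕ := [0, 1, 2, 2, 3, 4, 2, 3, 3, 5, 4, 4, 7, 7, 6, 8, 8, 9, 7, 8, 9, 9, 10, 11]

/-- The folding E₆ → F₄. -/
noncomputable def foldE6 : Folding (Φ chevE6) (Φ chevF4) :=
  fastW_E6.folding fastW_F4 prE6Tab [0, 3, 1, 2, 1, 0] [[0, 5], [2, 4], [3], [1]]
    (by decide +kernel)

/-- The folding D₄ → G₂. -/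
noncomputable def foldD4 : Folding (Φ chevD4) (Φ chevG2) :=
  fastW_D4.folding fastW_G2 prD4Tab [0, 1, 0, 0] [[0, 2, 3], [1]] (by decide +kernel)

theorem foldE6_κ (i j : Fin chevE6.rank) : foldE6.κ j = foldE6.κ i ↔ tauE6.π.SameCycle i j :=
  Fin.ext_iff.trans (mem_orb_E6 i j).symm
theorem foldD4_κ (i j : Fin chevD4.rank) : foldD4.κ j = foldD4.κ i ↔ tauD4.π.SameCycle i j :=
  Fin.ext_iff.trans (mem_orb_D4 i j).symm
theorem foldD4b_κ (i j : Fin chevD4.rank) : foldD4.κ j = foldD4.κ i ↔ tauD4b.π.SameCycle i j :=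
  Fin.ext_iff.trans (mem_orb_D4b i j).symm

/-- `W(F₄) ≃ W(E₆)^σ`. -/
noncomputable def equivE6 : W chevF4 ≃* tauE6.fixed := foldE6.equivFixed tauE6 foldE6_κ
/-- `W(G₂) ≃ W(D₄)^σ`. -/
noncomputable def equivD4 : W chevG2 ≃* tauD4.fixed := foldD4.equivFixed tauD4 foldD4_κ

theorem tauD4b_fixed : tauD4b.fixed = tauD4.fixed :=
  (foldD4.range_hom tauD4b foldD4b_κ).symm.trans (foldD4.range_hom tauD4 foldD4_κ)

/-- Transport along an equality of Coxeter matrices. -/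
noncomputable def equivOfCoxMatEq {D : ChevalleyDatum} {M : CoxeterMatrix (Fin D.rank)}
    (h : coxMat D = M) : W D ≃* M.Group := h ▸ MulEquiv.refl _

theorem equivOfCoxMatEq_s {D : ChevalleyDatum} {M : CoxeterMatrix (Fin D.rank)}
    (h : coxMat D = M) (i : Fin D.rank) : equivOfCoxMatEq h (s D i) = M.simple i := by
  subst h; rfl

theorem nonempty_fixed_E6 : Nonempty (tauE6.fixed ≃* CoxeterMatrix.F₄.Group) :=
  ⟨equivE6.symm.trans (equivOfCoxMatEq coxMat_F4)⟩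

theorem nonempty_fixed_D4 : Nonempty (tauD4.fixed ≃* CoxeterMatrix.G₂.Group) :=
  ⟨equivD4.symm.trans (equivOfCoxMatEq coxMat_G2)⟩

theorem poincare_tw_E6 [Fintype tauE6.fixed] {S : Type*} [CommRing S] (q : S) :
    (q - 1) ^ 4 * (q + 1) ^ 2 * ∑ w : tauE6.fixed, q ^ (cs chevE6).length w =
      (q ^ 2 - 1) * (q ^ 5 + 1) * (q ^ 6 - 1) * (q ^ 8 - 1) * (q ^ 9 + 1) * (q ^ 12 - 1) := by
  have := Fintype.ofFinite (W chevF4)
  rw [← Fintype.sum_equiv equivE6.toEquiv (fun w => q ^ (Φ chevF4).wlen foldE6.mult w)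
    (fun w => q ^ (cs chevE6).length w) fun w => congrArg (q ^ ·) (foldE6.length_hom w).symm,
    fastW_F4.poincare q foldE6.mult_smul cartRowsF4_eq (eL := [2, 2, 1, 1]) (J := [3, 0, 2, 1])
      (P := [[0, 1, 2, 4, 6, 5, 6, 7, 8, 9, 10, 10, 11, 11, 13, 12, 15, 14, 16, 15, 17, 19, 20, 21],
        [0, 2, 4, 5, 7, 9], [0, 1, 3, 4], [0, 2]]) _ (by decide +kernel) (by decide +kernel)]
  · simp only [List.map_cons, List.map_nil, List.sum_cons, List.sum_nil, List.prod_cons,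
      List.prod_nil]
    ring
  · intro j
    rw [← Φ_simple, foldE6.mult_simple]
    have key : ∀ k < 4, allL ([[0, 5], [2, 4], [3], [1]].getD k []) (fun i => Nat.blt i fastE6.l) =
        true ∧ [2, 2, 1, 1].getD k 0 = ((List.range fastE6.n).filter fun r =>
          band (Nat.ble (Nat.div fastE6.n 2) r) (Nat.blt (actN fastE6
            ([[0, 5], [2, 4], [3], [1]].getD k []) r) (Nat.div fastE6.n 2))).length := by
      decide +kernel
    exact (key j j.2).2.trans (fastW_E6.length_wordN (key j j.2).1).symm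

theorem poincare_tw_E6_nat [Fintype tauE6.fixed] {q : ℕ} (hq : 1 ≤ q) :
    (q - 1) ^ 4 * (q + 1) ^ 2 * ∑ w : tauE6.fixed, q ^ (cs chevE6).length w =
      (q ^ 2 - 1) * (q ^ 5 + 1) * (q ^ 6 - 1) * (q ^ 8 - 1) * (q ^ 9 + 1) * (q ^ 12 - 1) := by
  have h : ∀ d, 1 ≤ q ^ d := fun d => Nat.one_le_pow d q hq
  zify [hq, h]
  exact poincare_tw_E6 (q : ℤ)

theorem poincare_tw_D4 [Fintype tauD4.fixed] {S : Type*} [CommRing S] (q : S) :
    (q - 1) ^ 2 * (q ^ 2 + q + 1) * ∑ w : tauD4.fixed, q ^ (cs chevD4).length w =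
      (q ^ 2 - 1) * (q ^ 6 - 1) * (q ^ 8 + q ^ 4 + 1) := by
  have := Fintype.ofFinite (W chevG2)
  rw [← Fintype.sum_equiv equivD4.toEquiv (fun w => q ^ (Φ chevG2).wlen foldD4.mult w)
    (fun w => q ^ (cs chevD4).length w) fun w => congrArg (q ^ ·) (foldD4.length_hom w).symm,
    fastW_G2.poincare q foldD4.mult_smul cartRowsG2_eq (eL := [3, 1]) (J := [0, 1])
      (P := [[0, 3, 4, 7, 8, 11], [0, 1]]) _ (by decide +kernel) (by decide +kernel)]
  · simp only [List.map_cons, List.map_nil, List.sum_cons, List.sum_nil, List.prod_cons,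
      List.prod_nil]
    ring
  · intro j
    rw [← Φ_simple, foldD4.mult_simple]
    have key : ∀ k < 2, allL ([[0, 2, 3], [1]].getD k []) (fun i => Nat.blt i fastD4.l) =
        true ∧ [3, 1].getD k 0 = ((List.range fastD4.n).filter fun r =>
          band (Nat.ble (Nat.div fastD4.n 2) r) (Nat.blt (actN fastD4
            ([[0, 2, 3], [1]].getD k []) r) (Nat.div fastD4.n 2))).length := by
      decide +kernel
    exact (key j j.2).2.trans (fastW_D4.length_wordN (key j j.2).1).symm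

theorem poincare_tw_D4_nat [Fintype tauD4.fixed] {q : ℕ} (hq : 1 ≤ q) :
    (q - 1) ^ 2 * (q ^ 2 + q + 1) * ∑ w : tauD4.fixed, q ^ (cs chevD4).length w =
      (q ^ 2 - 1) * (q ^ 6 - 1) * (q ^ 8 + q ^ 4 + 1) := by
  have h : ∀ d, 1 ≤ q ^ d := fun d => Nat.one_le_pow d q hq
  zify [hq, h]
  exact poincare_tw_D4 (q : ℤ)

/-! ### F₄: the dihedral group of order 16 -/

theorem w0_orb_F4 (i : Fin chevF4.rank) : (Φ chevF4).w0 (tauF4.orb i) =
    wordN chevF4 ([[0, 3], [1, 2, 1, 2], [1, 2, 1, 2], [0, 3]].getD i []) := by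
  symm
  have key : ∀ i < 4, (∀ j < 4, [0, 1, 1, 0].getD j 0 = [0, 1, 1, 0].getD i 0 ↔
      j ∈ [[0, 3], [1, 2], [1, 2], [0, 3]].getD i []) ∧
      band (allL ([[0, 3], [1, 2, 1, 2], [1, 2, 1, 2], [0, 3]].getD i []) fun i => Nat.blt i fastF4.l)
        (band (allL ([[0, 3], [1, 2, 1, 2], [1, 2, 1, 2], [0, 3]].getD i []) fun k =>
          decide (k ∈ [[0, 3], [1, 2], [1, 2], [0, 3]].getD i []))
        (allL ([[0, 3], [1, 2], [1, 2], [0, 3]].getD i []) fun j => Nat.blt (actN fastF4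
          ([[0, 3], [1, 2, 1, 2], [1, 2, 1, 2], [0, 3]].getD i []) (fastF4.sim j))
          (Nat.div fastF4.n 2))) = true := by
    decide +kernel
  exact fastW_F4.wordN_eq_w0 (fun j => (mem_orb_F4 i j).trans ((key i i.2).1 j j.2)) (key i i.2).2

theorem tauF4_fixed : tauF4.fixed =
    Subgroup.closure {wordN chevF4 [0, 3], wordN chevF4 [0, 3, 1, 2, 1, 2]} := by
  rw [show [0, 3, 1, 2, 1, 2] = [0, 3] ++ [1, 2, 1, 2] from rfl, wordN_append,
    ← CL.Invol.closure_pair_eq, tauF4.fixed_eq_closure]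
  congr 1
  ext w
  simp only [Set.mem_range, w0_orb_F4, Set.mem_insert_iff, Set.mem_singleton_iff]
  constructor
  · rintro ⟨⟨i, hi⟩, rfl⟩
    have hi' : i < 4 := hi
    interval_cases i <;> simp
  · rintro (rfl | rfl)
    · exact ⟨⟨0, by decide⟩, rfl⟩
    · exact ⟨⟨1, by decide⟩, rfl⟩

theorem dihF4_t : wordN chevF4 [0, 3] * wordN chevF4 [0, 3] = 1 := by
  rw [← wordN_append, ← wordN_nil]
  exact fastW_F4.wordN_eq_of_chk (by decide +kernel)

theorem dihF4_conj : wordN chevF4 [0, 3] * wordN chevF4 [0, 3, 1, 2, 1, 2] *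
    (wordN chevF4 [0, 3])⁻¹ = (wordN chevF4 [0, 3, 1, 2, 1, 2])⁻¹ := by
  rw [inv_eq_of_mul_eq_one_right dihF4_t, eq_inv_iff_mul_eq_one, ← wordN_append, ← wordN_append,
    ← wordN_append, ← wordN_nil]
  exact fastW_F4.wordN_eq_of_chk (by decide +kernel)

theorem dihF4_order : orderOf (wordN chevF4 [0, 3, 1, 2, 1, 2]) = 8 :=
  fastW_F4.orderOf_wordN (by norm_num) (by decide +kernel)

theorem dihF4_pow : wordN chevF4 [0, 3, 1, 2, 1, 2] ^ 8 = 1 := by
  rw [← dihF4_order, pow_orderOf_eq_one]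

theorem dihF4_notMem : wordN chevF4 [0, 3] ∉ Subgroup.zpowers (wordN chevF4 [0, 3, 1, 2, 1, 2]) := by
  intro h
  have h1 := dihF4_conj
  obtain ⟨k, hk⟩ := h
  simp only at hk
  rw [← hk, ← zpow_add_one, ← zpow_sub, add_sub_cancel_left, zpow_one, eq_inv_iff_mul_eq_one,
    ← pow_two] at h1
  have := orderOf_dvd_of_pow_eq_one h1
  rw [dihF4_order] at this
  omega

/-- `D₁₆ ≃ W(F₄)^σ`. -/
noncomputable def equivF4 : DihedralGroup 8 ≃* tauF4.fixed :=
  (MonoidHom.ofInjective (CL.Invol.dihedralHom_injective dihF4_t dihF4_conj dihF4_pow dihF4_order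
    dihF4_notMem)).trans (MulEquiv.subgroupCongr
      ((CL.Invol.dihedralHom_range dihF4_t dihF4_conj dihF4_pow).trans tauF4_fixed.symm))

theorem nonempty_fixed_F4 : Nonempty (tauF4.fixed ≃* DihedralGroup 8) := ⟨equivF4.symm⟩

theorem length_equivF4 (d : DihedralGroup 8) : (cs chevF4).length (equivF4 d) =
    match d with
    | DihedralGroup.r i => [0, 6, 12, 18, 24, 18, 12, 6].getD i.val 0
    | DihedralGroup.sr i => [2, 4, 10, 16, 22, 20, 14, 8].getD i.val 0 := by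
  have key : ∀ k < 8,
      (allL (List.replicate k [0, 3, 1, 2, 1, 2]).flatten (fun i => Nat.blt i fastF4.l) = true ∧
      ((List.range fastF4.n).filter fun r => band (Nat.ble (Nat.div fastF4.n 2) r)
        (Nat.blt (actN fastF4 (List.replicate k [0, 3, 1, 2, 1, 2]).flatten r)
          (Nat.div fastF4.n 2))).length = [0, 6, 12, 18, 24, 18, 12, 6].getD k 0) ∧
      (allL ([0, 3] ++ (List.replicate k [0, 3, 1, 2, 1, 2]).flatten)
        (fun i => Nat.blt i fastF4.l) = true ∧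
      ((List.range fastF4.n).filter fun r => band (Nat.ble (Nat.div fastF4.n 2) r)
        (Nat.blt (actN fastF4 ([0, 3] ++ (List.replicate k [0, 3, 1, 2, 1, 2]).flatten) r)
          (Nat.div fastF4.n 2))).length = [2, 4, 10, 16, 22, 20, 14, 8].getD k 0) := by
    decide +kernel
  rcases d with i | i
  · have h1 : (equivF4 (DihedralGroup.r i) : W chevF4) =
        wordN chevF4 [0, 3, 1, 2, 1, 2] ^ (i.val : ℤ) := rfl
    rw [h1, zpow_natCast, wordN_pow, fastW_F4.length_wordN (key _ (ZMod.val_lt i)).1.1]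
    exact (key _ (ZMod.val_lt i)).1.2
  · have h1 : (equivF4 (DihedralGroup.sr i) : W chevF4) =
        wordN chevF4 [0, 3] * wordN chevF4 [0, 3, 1, 2, 1, 2] ^ (i.val : ℤ) := rfl
    rw [h1, zpow_natCast, wordN_pow, ← wordN_append,
      fastW_F4.length_wordN (key _ (ZMod.val_lt i)).2.1]
    exact (key _ (ZMod.val_lt i)).2.2

theorem sum_fixed_F4 [Fintype tauF4.fixed] {S : Type*} [AddCommMonoid S] (f : ℕ → S) :
    ∑ w : tauF4.fixed, f ((cs chevF4).length w) =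
      f 0 + f 2 + f 4 + f 6 + f 6 + f 8 + f 10 + f 12 + f 12 + f 14 + f 16 + f 18 + f 18 + f 20 +
        f 22 + f 24 := by
  rw [← Fintype.sum_equiv equivF4.toEquiv _ _ fun d => congrArg f (length_equivF4 d).symm,
    ← Fintype.sum_equiv DihedralGroup.equivSum.symm _ _ fun _ => rfl, Fintype.sum_sum_type]
  change ∑ i : Fin 8, f ([0, 6, 12, 18, 24, 18, 12, 6].getD i.val 0) +
    ∑ i : Fin 8, f ([2, 4, 10, 16, 22, 20, 14, 8].getD i.val 0) = _
  simp only [Fin.sum_univ_eight]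
  change f 0 + f 6 + f 12 + f 18 + f 24 + f 18 + f 12 + f 6 +
    (f 2 + f 4 + f 10 + f 16 + f 22 + f 20 + f 14 + f 8) = _
  abel

theorem poincare_tw_F4 [Fintype tauF4.fixed] {S : Type*} [CommSemiring S] (q : S) :
    ∑ w : tauF4.fixed, q ^ ((cs chevF4).length w / 2) =
      (q + 1) * (q ^ 2 + 1) * (q ^ 3 + 1) * (q ^ 6 + 1) := by
  rw [sum_fixed_F4 (fun n => q ^ (n / 2))]
  norm_num
  ring

theorem poincare_tw_F4_nat [Fintype tauF4.fixed] {q : ℕ} (hq : 1 ≤ q) :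
    (q - 1) ^ 2 * ∑ w : tauF4.fixed, q ^ ((cs chevF4).length w / 2) =
      (q - 1) * (q ^ 3 + 1) * (q ^ 4 - 1) * (q ^ 6 + 1) := by
  have h : ∀ d, 1 ≤ q ^ d := fun d => Nat.one_le_pow d q hq
  rw [poincare_tw_F4]
  zify [hq, h]
  ring

/-! ### Rank two types with one orbit -/

theorem fixed_eq_of_orb_univ {D : ChevalleyDatum} [WeylOK D] (τ : DiagAut (Φ D))
    (h : ∀ i j, j ∈ τ.orb i) (i₀ : Fin D.rank) {w : W D} :
    w ∈ τ.fixed ↔ w = 1 ∨ w = (Φ D).w0 Set.univ := by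
  have h1 : τ.orb i₀ = Set.univ := Set.eq_univ_of_forall (h i₀)
  constructor
  · intro hw
    rw [← h1]
    exact τ.eq_one_or_w0_of_mem hw (by rw [h1, parab_univ]; trivial)
  · rintro (rfl | rfl)
    exacts [one_mem _, τ.w0_univ_mem_fixed]

theorem mem_fixed_G2 {w : W chevG2} : w ∈ tauG2.fixed ↔ w = 1 ∨ w = (Φ chevG2).w0 Set.univ :=
  fixed_eq_of_orb_univ tauG2 mem_orb_G2 ⟨0, by decide⟩

theorem mem_fixed_B2 {w : W chevB2} : w ∈ tauB2.fixed ↔ w = 1 ∨ w = (Φ chevB2).w0 Set.univ :=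
  fixed_eq_of_orb_univ tauB2 mem_orb_B2 ⟨0, by decide⟩

theorem length_w0_univ {D : ChevalleyDatum} [WeylOK D] :
    2 * (cs D).length ((Φ D).w0 Set.univ) = D.nroots := by
  classical
  rw [(Φ D).length_eq_card_inv]
  have h1 : (Φ D).inv ((Φ D).w0 Set.univ) = Finset.univ.filter (Φ D).Pos := by
    ext r; simp [RootSys.mem_inv_w0, RootSys.inSub_univ]
  have h2 := Finset.card_filter_add_card_filter_not (s := Finset.univ) (Φ D).Pos
  have h3 : (Finset.univ.filter (Φ D).Pos).card =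
      (Finset.univ.filter fun r => ¬ (Φ D).Pos r).card := by
    refine Finset.card_bij (fun r _ => (Φ D).neg r) ?_ (fun a _ b _ h => (Φ D).neg_injective h) ?_
    · intro r hr
      simpa [RootSys.not_pos_neg_iff] using hr
    · intro r hr
      exact ⟨(Φ D).neg r, by simpa [RootSys.pos_neg_iff] using hr, (Φ D).neg_neg r⟩
  rw [Finset.card_univ, Fintype.card_fin] at h2
  rw [h1]
  omega

end CL.Weyl
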