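import Cfsg.Agent.Base
import Cfsg.Agent.Chev.TwMk
import Cfsg.Agent.Chev.WeylTw

/-!
The untwisted case of the theory of `TwData`: the trivial twist gives the whole Chevalley group, and the order
formula `|G| = q^N · |H| · ∑_w q^{ℓ(w)}`.
-/

set_option autoImplicit false
set_option linter.unusedSectionVars false

namespace CL.Tw

open Cfsg Cfsg.Lie Cfsg.Lie.ChevalleyDatum CL.ChevM CL.Weyl CL.Cox

variable {D : ChevalleyDatum} {η : ℕ → ℕ → ℤ} [WeylOK D] [CoefOK D]

variable (D) in
/-- The trivial symmetry of the diagram. -/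
def trivAut : DiagAut (Φ D) where
  ρ := 1
  π := 1
  ρ_simple _ := rfl
  ρ_simple_smul _ _ := rfl

omit [CoefOK D] in
theorem trivAut_orb (i : Fin D.rank) : (trivAut D).orb i = {i} := by
  ext j
  rw [DiagAut.mem_orb, Set.mem_singleton_iff, eq_comm]
  exact Equiv.Perm.sameCycle_one

omit [CoefOK D] in
theorem mem_trivAut_fixed (w : W D) : w ∈ (trivAut D).fixed := fun _ => rfl

omit [CoefOK D] in
theorem pos_inSub_singleton (i : Fin D.rank) :
    {r | (Φ D).Pos r ∧ (Φ D).InSub {i} r} = {(Φ D).simple i} := by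
  ext r
  exact ⟨fun h => (Φ D).reduced i r h.1 h.2, by
    rintro rfl; exact ⟨(Φ D).pos_simple i, (Φ D).inSub_simple_iff.2 rfl⟩⟩

variable (C : Core D η) (K : Type*) [Field K]

/-- The trivial twist. -/
def trivTw : TwData C K (Fin D.rank) where
  τ := trivAut D
  σ := MonoidHom.id _
  e _ := 1
  rep := id
  he _ _ := by simp
  h1 _ _ := by rw [pow_one]; rfl
  h2 _ _ := by rw [pow_one]; rfl
  rep_inj j k h := by rw [trivAut_orb] at h; exact h.symm
  rep_surj i := ⟨i, (trivAut D).self_mem_orb i⟩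
  nontriv j := by
    refine ⟨xG C ((Φ D).neg ((Φ D).simple j)) (1 : K), xG_mem_XSg C (r := (Φ D).neg ((Φ D).simple j))
      (And.intro (((Φ D).not_pos_neg_iff _).2 ((Φ D).pos_simple j)) ((Φ D).inSub_neg_iff.2
        ((Φ D).inSub_simple_iff.2 ((trivAut D).self_mem_orb j)))) 1, ?_, rfl⟩
    rw [Ne, xG_eq_one_iff C ((Φ D).neg ((Φ D).simple j)).2]
    exact one_ne_zero

theorem trivTw_Fix : (trivTw C K).sys.Fix = ⊤ := eq_top_iff.2 fun _ _ => rfl

theorem trivTw_G1 : (trivTw C K).sys.G1 = ⊤ := by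
  rw [eq_top_iff, ← XSg_univ C, XSg_le_iff]
  intro r _ t
  by_cases hr : (Φ D).Pos r
  · exact TwSys.mem_G1_of_U (T := (trivTw C K).sys) (xG_mem_XSg C (S := PP D) hr t) rfl
  · exact TwSys.mem_G1_of_V (T := (trivTw C K).sys) (xG_mem_XSg C (S := (PP D)ᶜ) hr t) rfl

theorem trivTw_group : D.group K = (trivTw C K).sys.G1.map (D.group K).subtype := by
  rw [trivTw_G1, ← MonoidHom.range_eq_map, Subgroup.range_subtype]

theorem card_XSg_singleton (r : Fin D.nroots) : Nat.card (XSg C K {r}) = Nat.card K :=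
  (Nat.card_congr (Equiv.ofBijective (fun t : K => (⟨xG C r t, xG_mem_XSg C (Set.mem_singleton r) t⟩ : XSg C K {r}))
    ⟨fun _ _ h => xG_injective C r.2 (congrArg Subtype.val h), fun ⟨g, hg⟩ => by
      obtain ⟨t, rfl⟩ := (mem_XSg_singleton C).1 hg
      exact ⟨t, rfl⟩⟩)).symm

theorem trivTw_hJ (j : Fin D.rank) : ∃ e, Nat.card ↥((trivTw C K).sys.Uw ((trivTw C K).sys.wJ j) ⊓
    (trivTw C K).sys.Fix) = Nat.card K ^ e ∧
      1 * e = (invS (trivTw C K).sys.P ((trivTw C K).sys.wJ j)).ncard := by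
  have h : invS (trivTw C K).sys.P ((trivTw C K).sys.wJ j) = {(Φ D).simple j} := by
    rw [← pos_inSub_singleton, ← invS_w0, ← trivAut_orb]; rfl
  refine ⟨1, ?_, by rw [h, Set.ncard_singleton]⟩
  rw [trivTw_Fix, inf_top_eq, TwSys.Uw, h, pow_one]
  exact card_XSg_singleton C K _

/-- `|U_w| = q^{ℓ(w)}`. -/
theorem card_XSg_invS (w : W D) : Nat.card (XSg C K (invS (PP D) w)) = Nat.card K ^ (cs D).length w := by
  have := TwSys.card_Uw_div (T := (trivTw C K).sys) one_pos (trivTw_hJ C K) (w := w) (mem_trivAut_fixed w)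
  rw [trivTw_Fix, inf_top_eq, Nat.div_one] at this
  rw [← ncard_invS]
  exact this

omit [CoefOK D] in
theorem invS_w0_univ : invS (PP D) ((Φ D).w0 Set.univ) = PP D :=
  Set.ext fun r => ⟨fun h => h.1, fun h => ⟨h, fun h' => ((Φ D).pos_w0_univ_smul_iff r).1 h' h⟩⟩

/-- `|U| = q^N`. -/
theorem card_XSg_PP : Nat.card (XSg C K (PP D)) = Nat.card K ^ (D.nroots / 2) := by
  have := length_w0_univ (D := D)
  rw [← invS_w0_univ, card_XSg_invS]
  congr 1
  omega

include C in
theorem card_posUnipotent : Nat.card (D.posUnipotent K) = Nat.card K ^ (D.nroots / 2) := by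
  rw [← map_U C, Subgroup.card_map_of_injective (D.group K).subtype_injective, card_XSg_PP]

include C in
/-- The order formula for the Chevalley group over a finite field. -/
theorem card_group [Finite K] [Fintype (W D)] : Nat.card (D.group K) =
    Nat.card K ^ (D.nroots / 2) * Nat.card (D.diagonalSubgroup K) * ∑ w : W D, Nat.card K ^ (cs D).length w := by
  classical
  have : Fintype (trivTw C K).sys.W1 := Fintype.ofFinite _
  have h := TwSys.card_G1 (T := (trivTw C K).sys)
  rw [trivTw_G1, trivTw_Fix, inf_top_eq, inf_top_eq, Subgroup.card_top] at h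
  rw [h, ← map_H C, Subgroup.card_map_of_injective (D.group K).subtype_injective, ← card_XSg_PP C K]
  congr 1
  refine Fintype.sum_bijective (fun w : (trivTw C K).sys.W1 => (w : W D)) ⟨Subtype.val_injective, fun w => ⟨⟨w, mem_trivAut_fixed w⟩, rfl⟩⟩ _ _
    fun w => ?_
  rw [inf_top_eq, ← card_XSg_invS C K]
  rfl

include C in
/-- The order formula in the shape used for the seven data. -/
theorem mul_card_group [Fintype K] [Fintype (W D)] {q d l N P : ℕ} (hq : Fintype.card K = q)
    (hH : d * Nat.card (D.diagonalSubgroup K) = (q - 1) ^ l) (hN : D.nroots / 2 = N)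
    (hP : (q - 1) ^ l * ∑ w : W D, q ^ (cs D).length w = P) : d * Nat.card (D.group K) = q ^ N * P := by
  rw [card_group C K, Nat.card_eq_fintype_card, hq, hN, ← hP, ← hH]
  ring

end CL.Tw
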