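import Cfsg.Agent.Base
import Cfsg.Agent.Chev.MatWeyl
import Cfsg.Agent.Chev.MatPerfect
import Cfsg.Agent.Chev.WeylCheck
import Cfsg.Agent.S0319
import Cfsg.Agent.S1040
import Cfsg.Agent.S1042
import Cfsg.Agent.S1050
import Cfsg.Agent.S1051

/-! # Simplicity of the Chevalley groups -/

set_option autoImplicit false

namespace CL.ChevM

open Matrix Cfsg Cfsg.Lie Cfsg.Lie.ChevalleyDatum CL.Weyl CL.Cox

/-- Commuting fundamental reflections belong to orthogonal fundamental roots. -/
theorem cartan_eq_zero_of_commute {B : Type*} [Fintype B] [DecidableEq B] {M : CoxeterMatrix B} {W : Type*}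
    [Group W] {cs : CoxeterSystem M W} {R : Type*} [MulAction W R] (Φ : RootSys cs R) {i j : B} (hij : i ≠ j)
    (h : cs.simple i * cs.simple j = cs.simple j * cs.simple i) : Φ.A i j = 0 := by
  have h1 : Φ.Pos (cs.simple i • Φ.simple j) :=
    Φ.pos_simple_smul (Φ.pos_simple j) fun e => hij (Φ.simple_injective e).symm
  have h2 : ¬ Φ.Pos (cs.simple j • cs.simple i • Φ.simple j) := by
    rw [← mul_smul, ← h, mul_smul, Φ.simple_smul_simple, Φ.smul_neg, Φ.not_pos_neg_iff]
    exact h1
  have h3 := congrArg Φ.root ((Φ.not_pos_simple_smul_iff h1).1 h2)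
  rw [Φ.root_simple_smul, Φ.root_simple, refl_single] at h3
  simpa [hij] using congrFun h3 i

/-- The Dynkin diagram is connected. -/
def Connected (D : ChevalleyDatum) : Prop :=
  ∀ J : Fin D.rank → Bool, (∃ i, J i = true) → (∃ j, J j = false) →
    ∃ i j, J i = true ∧ J j = false ∧ D.cartan j (D.simple i) ≠ 0

theorem Agree.connected {D : ChevalleyDatum} {T : Fast} (h : Agree D T)
    (hc : ∀ J : Fin D.rank → Bool, (∃ i, J i = true) → (∃ j, J j = false) →
      ∃ i j, J i = true ∧ J j = false ∧ T.cart j (T.simple i) ≠ 0) : Connected D := by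
  rw [Connected, h.cart, h.simple]; exact hc

theorem connected_of_mem {D : ChevalleyDatum}
    (hD : D ∈ [chevG2, chevB2, chevD4, chevF4, chevE6, chevE7, chevE8]) : Connected D := by
  simp only [List.mem_cons, List.not_mem_nil, or_false] at hD
  rcases hD with rfl | rfl | rfl | rfl | rfl | rfl | rfl
  exacts [agreeG2.connected (by decide +kernel), agreeB2.connected (by decide +kernel),
    agreeD4.connected (by decide +kernel), agreeF4.connected (by decide +kernel),
    agreeE6.connected (by decide +kernel), agreeE7.connected (by decide +kernel),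
    agreeE8.connected (by decide +kernel)]

theorem rank_pos_of_mem {D : ChevalleyDatum}
    (hD : D ∈ [chevG2, chevB2, chevD4, chevF4, chevE6, chevE7, chevE8]) : 0 < D.rank := by
  simp only [List.mem_cons, List.not_mem_nil, or_false] at hD
  rcases hD with rfl | rfl | rfl | rfl | rfl | rfl | rfl <;> decide

variable {F : Type*} [Field F]

theorem isSimpleGroup_of_perfect {D : ChevalleyDatum}
    (hD : D ∈ [chevG2, chevB2, chevD4, chevF4, chevE6, chevE7, chevE8]) (hp : commutator (D.group F) = ⊤) :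
    IsSimpleGroup (D.group F) ∧ ¬ IsMulCommutative (D.group F) := by
  classical
  obtain ⟨η, C⟩ := core_of_mem hD
  have := weylOK_of_mem hD
  obtain ⟨P, hB, -, hS⟩ := Agent.S1042.result (F := F) D hD
  have hp0 := C.tab.simple_lt 0 (rank_pos_of_mem hD)
  have hnt : Nontrivial (D.group F) := ⟨⟨⟨C.xU F (D.simple 0) 1, C.xU_mem_group _ _⟩, 1, fun h =>
    one_ne_zero ((C.x_eq_one_iff hp0 (1 : F)).1 (congrArg Units.val (congrArg Subtype.val h)))⟩⟩
  let n : Fin D.rank → D.group F := fun i => ⟨C.nU F (D.simple i) 1, C.nU_mem_group _ _⟩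
  have hn : ∀ g ∈ P.S, ∃ i, g = n i := fun g hg => by
    rw [hS] at hg
    obtain ⟨i, hi, h⟩ := hg
    exact ⟨⟨i, hi⟩, Subtype.ext (C.eq_nU h)⟩
  have hn' : ∀ i, n i ∈ P.S := fun i => by rw [hS]; exact ⟨i, i.2, C.coe_nU _ _⟩
  have hirr : P.Irreducible := by
    rintro J hJ ⟨a, ha⟩ ⟨b, hb, hb'⟩
    obtain ⟨i, rfl⟩ := hn a (hJ ha)
    obtain ⟨j, rfl⟩ := hn b hb
    obtain ⟨i, j, hi, hj, hij⟩ := connected_of_mem hD (fun k => decide (n k ∈ J)) ⟨i, by simpa⟩ ⟨j, by simpa⟩
    simp only [decide_eq_true_eq, decide_eq_false_iff_not] at hi hj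
    refine ⟨n i, hi, n j, ⟨hn' j, hj⟩, fun h => hij ?_⟩
    have h1 : C.nN F i * C.nN F j * (C.nN F i)⁻¹ * (C.nN F j)⁻¹ ∈ (C.weylHom F).ker := by
      rw [C.ker_weylHom, Subgroup.mem_subgroupOf, ← (Agent.S1040.result (F := F) D hD).2]
      rw [hB] at h
      exact ⟨h, SetLike.coe_mem _⟩
    rw [MonoidHom.mem_ker, map_mul, map_mul, map_mul, map_inv, map_inv, C.weylHom_nN, C.weylHom_nN,
      mul_inv_eq_one, mul_inv_eq_iff_eq_mul] at h1
    exact cartan_eq_zero_of_commute (Φ D) (fun e => hj (e ▸ hi)) h1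
  have hBG : D.borelSubgroup F ≤ D.group F := by
    refine sup_le ((Subgroup.closure_le _).2 ?_) ?_
    · rintro g ⟨r, t, -, h⟩
      rw [C.eq_xU h]; exact C.xU_mem_group r t
    · rw [C.diagonalSubgroup_eq, Subgroup.closure_le]
      rintro _ ⟨r, -, t, -, rfl⟩
      exact C.hU_mem_group r t
  have hsolv : Group.IsSolvable P.B := by
    have := Agent.S1050.result (F := F) D hD
    rw [hB]
    exact Group.isSolvable_of_isSolvable_injective (f := (Subgroup.subgroupOfEquivOfLe hBG).toMonoidHom)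
      (Subgroup.subgroupOfEquivOfLe hBG).injective
  refine ⟨Agent.S0319.result P hirr hsolv hp (hB ▸ Agent.S1051.result D hD), fun hc => ?_⟩
  have : commutator (D.group F) = ⊥ := by
    rw [eq_bot_iff, commutator_def, Subgroup.commutator_le]
    intro a _ b _
    exact commutatorElement_eq_one_iff_mul_comm.2 (hc.is_comm.comm a b)
  exact top_ne_bot (hp.symm.trans this)

end CL.ChevM
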