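import Cfsg.Agent.Base
import Cfsg.Agent.Chev.MatTorus

/-! # Smith normal forms of the Cartan matrices and the orders of their kernels on `(Fˣ)^l` -/

set_option autoImplicit false

namespace CL.ChevM

open Matrix Cfsg.Lie

variable {M : Type*} [CommGroup M] [Finite M] [IsCyclic M]

theorem cartanMatG2 : @Eq (Matrix (Fin 2) (Fin 2) ℤ) (cartanMat chevG2)
    !![2, -3; -1, 2] := by
  have : (Matrix.of fun i j : Fin 2 => chevG2.cartan i (chevG2.simple j)) =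
      !![2, -3; -1, 2] := by decide +kernel
  exact this

theorem card_ker_cartanMatG2 : Nat.card (powMat (M := M) (cartanMat chevG2)).ker = 1 := by
  have h := card_ker_powMat (M := M) (ι := Fin 2)
    (A := !![2, -3; -1, 2])
    (P := !![0, -1; 1, 2])
    (P' := !![2, 1; -1, 0])
    (Q := !![1, 2; 0, 1])
    (Q' := !![1, -2; 0, 1])
    (d := ![1, 1]) (by decide +kernel) (by decide +kernel) (by decide +kernel)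
  rw [cartanMatG2]
  refine h.trans ?_
  simp [Fin.prod_univ_succ, Nat.gcd_comm, pow_two]

theorem cartanMatB2 : @Eq (Matrix (Fin 2) (Fin 2) ℤ) (cartanMat chevB2)
    !![2, -2; -1, 2] := by
  have : (Matrix.of fun i j : Fin 2 => chevB2.cartan i (chevB2.simple j)) =
      !![2, -2; -1, 2] := by decide +kernel
  exact this

theorem card_ker_cartanMatB2 : Nat.card (powMat (M := M) (cartanMat chevB2)).ker = Nat.gcd 2 (Nat.card M) := by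
  have h := card_ker_powMat (M := M) (ι := Fin 2)
    (A := !![2, -2; -1, 2])
    (P := !![0, -1; 1, 2])
    (P' := !![2, 1; -1, 0])
    (Q := !![1, 2; 0, 1])
    (Q' := !![1, -2; 0, 1])
    (d := ![1, 2]) (by decide +kernel) (by decide +kernel) (by decide +kernel)
  rw [cartanMatB2]
  refine h.trans ?_
  simp [Fin.prod_univ_succ, Nat.gcd_comm, pow_two]

theorem cartanMatD4 : @Eq (Matrix (Fin 4) (Fin 4) ℤ) (cartanMat chevD4)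
    !![2, -1, 0, 0; -1, 2, -1, -1; 0, -1, 2, 0; 0, -1, 0, 2] := by
  have : (Matrix.of fun i j : Fin 4 => chevD4.cartan i (chevD4.simple j)) =
      !![2, -1, 0, 0; -1, 2, -1, -1; 0, -1, 2, 0; 0, -1, 0, 2] := by decide +kernel
  exact this

theorem card_ker_cartanMatD4 : Nat.card (powMat (M := M) (cartanMat chevD4)).ker = Nat.gcd 2 (Nat.card M) ^ 2 := by
  have h := card_ker_powMat (M := M) (ι := Fin 4)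
    (A := !![2, -1, 0, 0; -1, 2, -1, -1; 0, -1, 2, 0; 0, -1, 0, 2])
    (P := !![-1, 0, 0, 0; -2, -1, 0, 0; -3, -2, -1, 0; 2, 2, 1, 1])
    (P' := !![-1, 0, 0, 0; 2, -1, 0, 0; -1, 2, -1, 0; -1, 0, 1, 1])
    (Q := !![0, 0, 0, 1; 1, 0, 0, 2; 0, 1, -1, 1; 0, 0, 1, 2])
    (Q' := !![-2, 1, 0, 0; -3, 0, 1, 1; -2, 0, 0, 1; 1, 0, 0, 0])
    (d := ![1, 1, 2, 2]) (by decide +kernel) (by decide +kernel) (by decide +kernel)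
  rw [cartanMatD4]
  refine h.trans ?_
  simp [Fin.prod_univ_succ, Nat.gcd_comm, pow_two]

theorem cartanMatF4 : @Eq (Matrix (Fin 4) (Fin 4) ℤ) (cartanMat chevF4)
    !![2, -1, 0, 0; -1, 2, -2, 0; 0, -1, 2, -1; 0, 0, -1, 2] := by
  have : (Matrix.of fun i j : Fin 4 => chevF4.cartan i (chevF4.simple j)) =
      !![2, -1, 0, 0; -1, 2, -2, 0; 0, -1, 2, -1; 0, 0, -1, 2] := by decide +kernel
  exact this

theorem card_ker_cartanMatF4 : Nat.card (powMat (M := M) (cartanMat chevF4)).ker = 1 := by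
  have h := card_ker_powMat (M := M) (ι := Fin 4)
    (A := !![2, -1, 0, 0; -1, 2, -2, 0; 0, -1, 2, -1; 0, 0, -1, 2])
    (P := !![-1, 0, 0, 0; 1, 0, -1, 0; -2, -1, 0, 0; -2, -2, -2, -1])
    (P' := !![-1, 0, 0, 0; 2, 0, -1, 0; -1, -1, 0, 0; 0, 2, 2, -1])
    (Q := !![0, 0, 1, -2; 1, 0, 2, -4; 0, 0, 2, -3; 0, 1, 2, -2])
    (Q' := !![-2, 1, 0, 0; 2, 0, -2, 1; -3, 0, 2, 0; -2, 0, 1, 0])
    (d := ![1, 1, 1, 1]) (by decide +kernel) (by decide +kernel) (by decide +kernel)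
  rw [cartanMatF4]
  refine h.trans ?_
  simp [Fin.prod_univ_succ, Nat.gcd_comm, pow_two]

theorem cartanMatE6 : @Eq (Matrix (Fin 6) (Fin 6) ℤ) (cartanMat chevE6)
    !![2, 0, -1, 0, 0, 0; 0, 2, 0, -1, 0, 0; -1, 0, 2, -1, 0, 0; 0, -1, -1, 2, -1, 0; 0, 0, 0, -1, 2, -1; 0, 0, 0, 0, -1, 2] := by
  have : (Matrix.of fun i j : Fin 6 => chevE6.cartan i (chevE6.simple j)) =
      !![2, 0, -1, 0, 0, 0; 0, 2, 0, -1, 0, 0; -1, 0, 2, -1, 0, 0; 0, -1, -1, 2, -1, 0; 0, 0, 0, -1, 2, -1; 0, 0, 0, 0, -1, 2] := by decide +kernel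
  exact this

theorem card_ker_cartanMatE6 : Nat.card (powMat (M := M) (cartanMat chevE6)).ker = Nat.gcd 3 (Nat.card M) := by
  have h := card_ker_powMat (M := M) (ι := Fin 6)
    (A := !![2, 0, -1, 0, 0, 0; 0, 2, 0, -1, 0, 0; -1, 0, 2, -1, 0, 0; 0, -1, -1, 2, -1, 0; 0, 0, 0, -1, 2, -1; 0, 0, 0, 0, -1, 2])
    (P := !![-1, 0, 0, 0, 0, 0; 0, -1, 0, 0, 0, 0; 1, -2, 0, -1, 0, 0; 2, -3, 0, -2, -1, 0; -2, 1, -1, 0, 0, 0; -5, 0, -4, -3, -2, -1])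
    (P' := !![-1, 0, 0, 0, 0, 0; 0, -1, 0, 0, 0, 0; 2, -1, 0, 0, -1, 0; -1, 2, -1, 0, 0, 0; 0, -1, 2, -1, 0, 0; 0, 0, -1, 2, 4, -1])
    (Q := !![0, 0, 0, 0, 1, -2; 0, 0, 0, 0, 2, -3; 1, 0, 0, 0, 2, -4; 0, 1, 0, 0, 4, -6; 0, 0, 1, 0, 4, -5; 0, 0, 0, 1, 4, -4])
    (Q' := !![-2, 0, 1, 0, 0, 0; 0, -2, 0, 1, 0, 0; 2, -3, 0, 0, 1, 0; 4, -4, 0, 0, 0, 1; -3, 2, 0, 0, 0, 0; -2, 1, 0, 0, 0, 0])
    (d := ![1, 1, 1, 1, 1, 3]) (by decide +kernel) (by decide +kernel) (by decide +kernel)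
  rw [cartanMatE6]
  refine h.trans ?_
  simp [Fin.prod_univ_succ, Nat.gcd_comm, pow_two]

theorem cartanMatE7 : @Eq (Matrix (Fin 7) (Fin 7) ℤ) (cartanMat chevE7)
    !![2, 0, -1, 0, 0, 0, 0; 0, 2, 0, -1, 0, 0, 0; -1, 0, 2, -1, 0, 0, 0; 0, -1, -1, 2, -1, 0, 0; 0, 0, 0, -1, 2, -1, 0; 0, 0, 0, 0, -1, 2, -1; 0, 0, 0, 0, 0, -1, 2] := by
  have : (Matrix.of fun i j : Fin 7 => chevE7.cartan i (chevE7.simple j)) =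
      !![2, 0, -1, 0, 0, 0, 0; 0, 2, 0, -1, 0, 0, 0; -1, 0, 2, -1, 0, 0, 0; 0, -1, -1, 2, -1, 0, 0; 0, 0, 0, -1, 2, -1, 0; 0, 0, 0, 0, -1, 2, -1; 0, 0, 0, 0, 0, -1, 2] := by decide +kernel
  exact this

theorem card_ker_cartanMatE7 : Nat.card (powMat (M := M) (cartanMat chevE7)).ker = Nat.gcd 2 (Nat.card M) := by
  have h := card_ker_powMat (M := M) (ι := Fin 7)
    (A := !![2, 0, -1, 0, 0, 0, 0; 0, 2, 0, -1, 0, 0, 0; -1, 0, 2, -1, 0, 0, 0; 0, -1, -1, 2, -1, 0, 0; 0, 0, 0, -1, 2, -1, 0; 0, 0, 0, 0, -1, 2, -1; 0, 0, 0, 0, 0, -1, 2])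
    (P := !![-1, 0, 0, 0, 0, 0, 0; 0, -1, 0, 0, 0, 0, 0; 1, -2, 0, -1, 0, 0, 0; 2, -3, 0, -2, -1, 0, 0; 3, -4, 0, -3, -2, -1, 0; -2, 1, -1, 0, 0, 0, 0; -4, -1, -4, -4, -3, -2, -1])
    (P' := !![-1, 0, 0, 0, 0, 0, 0; 0, -1, 0, 0, 0, 0, 0; 2, -1, 0, 0, 0, -1, 0; -1, 2, -1, 0, 0, 0, 0; 0, -1, 2, -1, 0, 0, 0; 0, 0, -1, 2, -1, 0, 0; 0, 0, 0, -1, 2, 4, -1])
    (Q := !![0, 0, 0, 0, 0, 1, -2; 0, 0, 0, 0, 0, 2, -3; 1, 0, 0, 0, 0, 2, -4; 0, 1, 0, 0, 0, 4, -6; 0, 0, 1, 0, 0, 4, -5; 0, 0, 0, 1, 0, 4, -4; 0, 0, 0, 0, 1, 4, -3])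
    (Q' := !![-2, 0, 1, 0, 0, 0, 0; 0, -2, 0, 1, 0, 0, 0; 2, -3, 0, 0, 1, 0, 0; 4, -4, 0, 0, 0, 1, 0; 6, -5, 0, 0, 0, 0, 1; -3, 2, 0, 0, 0, 0, 0; -2, 1, 0, 0, 0, 0, 0])
    (d := ![1, 1, 1, 1, 1, 1, 2]) (by decide +kernel) (by decide +kernel) (by decide +kernel)
  rw [cartanMatE7]
  refine h.trans ?_
  simp [Fin.prod_univ_succ, Nat.gcd_comm, pow_two]

theorem cartanMatE8 : @Eq (Matrix (Fin 8) (Fin 8) ℤ) (cartanMat chevE8)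
    !![2, 0, -1, 0, 0, 0, 0, 0; 0, 2, 0, -1, 0, 0, 0, 0; -1, 0, 2, -1, 0, 0, 0, 0; 0, -1, -1, 2, -1, 0, 0, 0; 0, 0, 0, -1, 2, -1, 0, 0; 0, 0, 0, 0, -1, 2, -1, 0; 0, 0, 0, 0, 0, -1, 2, -1; 0, 0, 0, 0, 0, 0, -1, 2] := by
  have : (Matrix.of fun i j : Fin 8 => chevE8.cartan i (chevE8.simple j)) =
      !![2, 0, -1, 0, 0, 0, 0, 0; 0, 2, 0, -1, 0, 0, 0, 0; -1, 0, 2, -1, 0, 0, 0, 0; 0, -1, -1, 2, -1, 0, 0, 0; 0, 0, 0, -1, 2, -1, 0, 0; 0, 0, 0, 0, -1, 2, -1, 0; 0, 0, 0, 0, 0, -1, 2, -1; 0, 0, 0, 0, 0, 0, -1, 2] := by decide +kernel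
  exact this

theorem card_ker_cartanMatE8 : Nat.card (powMat (M := M) (cartanMat chevE8)).ker = 1 := by
  have h := card_ker_powMat (M := M) (ι := Fin 8)
    (A := !![2, 0, -1, 0, 0, 0, 0, 0; 0, 2, 0, -1, 0, 0, 0, 0; -1, 0, 2, -1, 0, 0, 0, 0; 0, -1, -1, 2, -1, 0, 0, 0; 0, 0, 0, -1, 2, -1, 0, 0; 0, 0, 0, 0, -1, 2, -1, 0; 0, 0, 0, 0, 0, -1, 2, -1; 0, 0, 0, 0, 0, 0, -1, 2])
    (P := !![-1, 0, 0, 0, 0, 0, 0, 0; 0, -1, 0, 0, 0, 0, 0, 0; 1, -2, 0, -1, 0, 0, 0, 0; 2, -3, 0, -2, -1, 0, 0, 0; 3, -4, 0, -3, -2, -1, 0, 0; 4, -5, 0, -4, -3, -2, -1, 0; -2, 1, -1, 0, 0, 0, 0, 0; -3, -2, -4, -5, -4, -3, -2, -1])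
    (P' := !![-1, 0, 0, 0, 0, 0, 0, 0; 0, -1, 0, 0, 0, 0, 0, 0; 2, -1, 0, 0, 0, 0, -1, 0; -1, 2, -1, 0, 0, 0, 0, 0; 0, -1, 2, -1, 0, 0, 0, 0; 0, 0, -1, 2, -1, 0, 0, 0; 0, 0, 0, -1, 2, -1, 0, 0; 0, 0, 0, 0, -1, 2, 4, -1])
    (Q := !![0, 0, 0, 0, 0, 0, 1, -2; 0, 0, 0, 0, 0, 0, 2, -3; 1, 0, 0, 0, 0, 0, 2, -4; 0, 1, 0, 0, 0, 0, 4, -6; 0, 0, 1, 0, 0, 0, 4, -5; 0, 0, 0, 1, 0, 0, 4, -4; 0, 0, 0, 0, 1, 0, 4, -3; 0, 0, 0, 0, 0, 1, 4, -2])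
    (Q' := !![-2, 0, 1, 0, 0, 0, 0, 0; 0, -2, 0, 1, 0, 0, 0, 0; 2, -3, 0, 0, 1, 0, 0, 0; 4, -4, 0, 0, 0, 1, 0, 0; 6, -5, 0, 0, 0, 0, 1, 0; 8, -6, 0, 0, 0, 0, 0, 1; -3, 2, 0, 0, 0, 0, 0, 0; -2, 1, 0, 0, 0, 0, 0, 0])
    (d := ![1, 1, 1, 1, 1, 1, 1, 1]) (by decide +kernel) (by decide +kernel) (by decide +kernel)
  rw [cartanMatE8]
  refine h.trans ?_
  simp [Fin.prod_univ_succ, Nat.gcd_comm, pow_two]

end CL.ChevM
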