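import Cfsg.Agent.Base
import Cfsg.Agent.Chev.MatTwo
import Cfsg.Agent.TC.Sound

/-!
# Words in matrices over a field of characteristic two, evaluated on bit masks
-/

set_option autoImplicit false

namespace CL.ChevM

open Matrix Cfsg.Lie Cfsg.Lie.ChevalleyDatum CL.WC CL.TC

variable {D : ChevalleyDatum} {F : Type*} [Field F] {η : ℕ → ℕ → ℤ}

/-- Column `k` of a packed table of `N`-bit masks. -/
noncomputable def colT (N T k : ℕ) : ℕ := Nat.land (Nat.shiftRight T (Nat.mul N k)) (Nat.pred (Nat.pow 2 N))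

/-- The action of a word in matrices given by packed tables. -/
noncomputable def actW (tabs : List ℕ) (N : ℕ) (w : List ℕ) (m : ℕ) : ℕ :=
  List.rec m (fun j _ acc => force acc fun a => force (nth tabs j) fun T => actM (colT N T) N a) w

/-- The action of a word in the root elements `x_r(1)`. -/
noncomputable def Fast.actR (T : Fast) (w : List ℕ) (m : ℕ) : ℕ :=
  List.rec m (fun r _ acc => force acc (T.act r)) w

theorem Agree.ev_mulVec_vb {T : Fast} (h : Agree D T) (C : Core D η) (h2 : (2 : F) = 0) (w : List ℕ) (m : ℕ) :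
    ((ev (fun r => C.xU F r 1) w : GL D.Idx F) : Matrix D.Idx D.Idx F) *ᵥ vb D F m = vb D F (T.actR w m) := by
  induction w with
  | nil => exact one_mulVec _
  | cons r w ih =>
    have : T.actR (r :: w) m = force (T.actR w m) (T.act r) := rfl
    rw [this, force_eq, ev_cons, Units.val_mul, ← mulVec_mulVec, ih, C.coe_xU, h.x_mulVec_vb h.uniq h2]

/-- The matrices `g j`, `j < n`, have the columns listed in `tabs`. -/
def Tab (g : ℕ → GL D.Idx F) (n : ℕ) (tabs : List ℕ) : Prop :=
  ∀ j < n, ∀ k < D.rank + D.nroots,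
    (g j : Matrix D.Idx D.Idx F) *ᵥ bv D F k = vb D F (colT (D.rank + D.nroots) (nth tabs j) k)

theorem Agree.tab {T : Fast} (h : Agree D T) (C : Core D η) (h2 : (2 : F) = 0) (wd : ℕ → List ℕ) {n N : ℕ}
    (hN : D.rank + D.nroots = N) {tabs : List ℕ}
    (hc : ∀ j < n, ∀ k < N, T.actR (wd j) (Nat.pow 2 k) = colT N (nth tabs j) k) :
    Tab (fun j => ev (fun r => C.xU F r 1) (wd j)) n tabs := by
  subst hN
  intro j hj k hk
  rw [← vb_pow, h.ev_mulVec_vb C h2, hc j hj k hk]

theorem Tab.ev_mulVec {g : ℕ → GL D.Idx F} {n : ℕ} {tabs : List ℕ} (h : Tab g n tabs) (h2 : (2 : F) = 0)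
    (w : List ℕ) (hw : ∀ j ∈ w, j < n) (m : ℕ) :
    ((ev g w : GL D.Idx F) : Matrix D.Idx D.Idx F) *ᵥ vb D F m = vb D F (actW tabs (D.rank + D.nroots) w m) := by
  induction w with
  | nil => exact one_mulVec _
  | cons j w ih =>
    have : actW tabs (D.rank + D.nroots) (j :: w) m = force (actW tabs (D.rank + D.nroots) w m) fun a =>
      force (nth tabs j) fun T => actM (colT (D.rank + D.nroots) T) (D.rank + D.nroots) a := rfl
    rw [this, force_eq, force_eq, ev_cons, Units.val_mul, ← mulVec_mulVec, ih fun i hi => hw i (by simp [hi]),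
      mulVec_vb h2 (h j (hw j (by simp)))]

theorem Tab.ev_eq_one {g : ℕ → GL D.Idx F} {n : ℕ} {tabs : List ℕ} (h : Tab g n tabs) (h2 : (2 : F) = 0)
    {N : ℕ} (hN : D.rank + D.nroots = N) (w : List ℕ)
    (hw : (∀ j ∈ w, j < n) ∧ ∀ k < N, actW tabs N w (Nat.pow 2 k) = Nat.pow 2 k) : ev g w = 1 := by
  subst hN
  have key : ∀ k < D.rank + D.nroots, ((ev g w : GL D.Idx F) : Matrix D.Idx D.Idx F) *ᵥ bv D F k =
      (1 : Matrix D.Idx D.Idx F) *ᵥ bv D F k := fun k hk => by
    rw [one_mulVec, ← vb_pow, h.ev_mulVec h2 w hw.1, hw.2 k hk]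
  exact Units.ext (ext_bv (fun i hi => key i (by omega)) fun s hs => key _ (by omega))

end CL.ChevM
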