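import Cfsg.Agent.Base

/-!
Root combinatorics of a `ChevalleyDatum`: coefficient vectors `rc` of the roots on the fundamental
roots, lengths, the Cartan integers `A r s` for arbitrary roots, and the class `RootOK D` of table
facts (checked for the seven data in `Chev/RootsOK`).
-/

set_option autoImplicit false

namespace CL.Chev

open Cfsg.Lie

variable (D : ChevalleyDatum)

/-- coefficient of the coroot of `r` on the `i`-th fundamental coroot -/
def co (r i : ℕ) : ℤ := (D.coroot.getD r #[]).getD i 0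

/-- the largest squared root length (short roots have squared length 1) -/
def mlen : ℕ := if D.nroots = 12 then 3 else if D.nroots = 8 ∨ D.nroots = 48 then 2 else 1

/-- squared length of the `i`-th fundamental root -/
def slen (i : ℕ) : ℕ :=
  if D.nroots = 12 then (if i = 0 then 1 else 3)
  else if D.nroots = 8 then (if i = 0 then 1 else 2)
  else if D.nroots = 48 then (if i < 2 then 1 else 2) else 1

/-- squared length of the root `r` -/
def len (r : ℕ) : ℕ :=
  mlen D / (List.range D.rank).foldr (fun i g => Nat.gcd ((co D r i).natAbs * (mlen D / slen D i)) g) 0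

/-- coefficient of the root `r` on the `i`-th fundamental root -/
def rcN (r i : ℕ) : ℤ := co D r i * len D r / slen D i

/-- coefficient vector of the root `r` on the fundamental roots -/
def rc (r : ℕ) : Fin D.rank → ℤ := fun i => rcN D r i

/-- the Cartan integer `A_{r,s} = 2 (r,s)/(r,r)` of two roots -/
def A (r s : ℕ) : ℤ := ∑ i : Fin D.rank, co D r i * D.cartan i s

/-- gcd of the coroot coefficients -/
def coGcd (r : ℕ) : ℕ := (List.range D.rank).foldr (fun i g => Nat.gcd (co D r i).natAbs g) 0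

/-- Facts about the tables of a datum, true for the seven tabulated data. -/
class RootOK : Prop where
  co_size : ∀ r < D.nroots, (D.coroot.getD r #[]).size = D.rank
  neg_lt : ∀ r < D.nroots, D.neg r < D.nroots
  simple_lt : ∀ i < D.rank, D.simple i < D.nroots
  reflect_lt : ∀ i < D.rank, ∀ r < D.nroots, D.reflectRoot i r < D.nroots
  len_pos : ∀ r < D.nroots, 0 < len D r
  co_rc : ∀ r < D.nroots, ∀ i < D.rank, co D r i * len D r = rcN D r i * slen D i
  rc_lex : ∀ r < D.nroots, r + 1 < D.nroots →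
    ∃ i < D.rank, (∀ j < i, rcN D r j = rcN D (r + 1) j) ∧ rcN D r i < rcN D (r + 1) i
  rc_neg : ∀ r < D.nroots, ∀ i < D.rank, rcN D (D.neg r) i = - rcN D r i
  rc_simple : ∀ i < D.rank, ∀ j < D.rank, rcN D (D.simple i) j = if j = i then 1 else 0
  pos_or_neg : ∀ r < D.nroots, D.IsPosRoot r ∨ D.IsNegRoot r
  cartan_rc : ∀ i < D.rank, ∀ r < D.nroots,
    D.cartan i r = ∑ j : Fin D.rank, D.cartan i (D.simple j) * rcN D r j
  cartan_symm : ∀ i < D.rank, ∀ j < D.rank,
    (slen D i : ℤ) * D.cartan i (D.simple j) = slen D j * D.cartan j (D.simple i)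
  A_self : ∀ r < D.nroots, A D r r = 2
  rc_reflect : ∀ i < D.rank, ∀ r < D.nroots, ∀ j < D.rank,
    rcN D (D.reflectRoot i r) j = rcN D r j - if j = i then D.cartan i r else 0
  chain_rc : ∀ r < D.nroots, ∀ e ∈ (D.chain.getD r #[]).toList, e.1 < D.nroots ∧
    ∀ q ∈ e.2.toList.zipIdx, q.1.1 < D.nroots ∧
      ∀ i < D.rank, rcN D q.1.1 i = rcN D e.1 i + ((q.2 + 1 : ℕ) : ℤ) * rcN D r i
  co_gcd : ∀ r < D.nroots, coGcd D r = 1
  two_le_rank : 2 ≤ D.rank
  conn : ∀ m < 2 ^ D.rank, m ≠ 0 → m + 1 ≠ 2 ^ D.rank →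
    ∃ i < D.rank, ∃ j < D.rank, m.testBit i = true ∧ m.testBit j = false ∧ D.cartan i (D.simple j) ≠ 0

/-- table look-up used to check `RootOK` -/
def look (T r i : ℕ) : ℕ := (T >>> (4 * (8 * r + i))) % 16

theorem list_range_sum (n : ℕ) (f : ℕ → ℤ) : ((List.range n).map f).sum = ∑ i : Fin n, f i := by
  rw [Fin.sum_univ_eq_sum_range f n]; rfl

theorem RootOK.of_table (T : ℕ)
    (h0 : ∀ r < D.nroots, ∀ i < D.rank, rcN D r i = (look T r i : ℤ) - 8)
    (co_size : ∀ r < D.nroots, (D.coroot.getD r #[]).size = D.rank)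
    (neg_lt : ∀ r < D.nroots, D.neg r < D.nroots)
    (simple_lt : ∀ i < D.rank, D.simple i < D.nroots)
    (reflect_lt : ∀ i < D.rank, ∀ r < D.nroots, D.reflectRoot i r < D.nroots)
    (len_pos : ∀ r < D.nroots, 0 < len D r)
    (co_rc : ∀ r < D.nroots, ∀ i < D.rank, co D r i * len D r = ((look T r i : ℤ) - 8) * slen D i)
    (rc_lex : ∀ r < D.nroots, r + 1 < D.nroots →
      ∃ i < D.rank, (∀ j < i, look T r j = look T (r + 1) j) ∧ look T r i < look T (r + 1) i)
    (rc_neg : ∀ r < D.nroots, ∀ i < D.rank, look T (D.neg r) i + look T r i = 16)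
    (rc_simple : ∀ i < D.rank, ∀ j < D.rank, look T (D.simple i) j = if j = i then 9 else 8)
    (pos_or_neg : ∀ r < D.nroots, D.IsPosRoot r ∨ D.IsNegRoot r)
    (cartan_rc : ∀ i < D.rank, ∀ r < D.nroots,
      D.cartan i r = ((List.range D.rank).map fun j => D.cartan i (D.simple j) * ((look T r j : ℤ) - 8)).sum)
    (cartan_symm : ∀ i < D.rank, ∀ j < D.rank,
      (slen D i : ℤ) * D.cartan i (D.simple j) = slen D j * D.cartan j (D.simple i))
    (A_self : ∀ r < D.nroots, ((List.range D.rank).map fun i => co D r i * D.cartan i r).sum = 2)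
    (rc_reflect : ∀ i < D.rank, ∀ r < D.nroots, ∀ j < D.rank,
      (look T (D.reflectRoot i r) j : ℤ) = look T r j - if j = i then D.cartan i r else 0)
    (chain_rc : ∀ r < D.nroots, ((D.chain.getD r #[]).toList.all fun e => decide (e.1 < D.nroots) &&
      e.2.toList.zipIdx.all fun q => decide (q.1.1 < D.nroots) &&
        (List.range D.rank).all fun i =>
          look T q.1.1 i + (q.2 + 1) * 8 == look T e.1 i + (q.2 + 1) * look T r i) = true)
    (co_gcd : ∀ r < D.nroots, coGcd D r = 1)
    (two_le_rank : 2 ≤ D.rank)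
    (conn : ∀ m < 2 ^ D.rank, m ≠ 0 → m + 1 ≠ 2 ^ D.rank →
      ∃ i < D.rank, ∃ j < D.rank, m.testBit i = true ∧ m.testBit j = false ∧ D.cartan i (D.simple j) ≠ 0) :
    RootOK D where
  co_size := co_size
  neg_lt := neg_lt
  simple_lt := simple_lt
  reflect_lt := reflect_lt
  len_pos := len_pos
  co_rc r hr i hi := by rw [h0 r hr i hi]; exact co_rc r hr i hi
  rc_lex r hr hr' := by
    obtain ⟨i, hi, h1, h2⟩ := rc_lex r hr hr'
    refine ⟨i, hi, fun j hj => ?_, ?_⟩
    · rw [h0 r hr j (by omega), h0 _ hr' j (by omega), h1 j hj]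
    · rw [h0 r hr i hi, h0 _ hr' i hi]; omega
  rc_neg r hr i hi := by
    rw [h0 r hr i hi, h0 _ (neg_lt r hr) i hi]
    have := rc_neg r hr i hi
    omega
  rc_simple i hi j hj := by
    rw [h0 _ (simple_lt i hi) j hj, rc_simple i hi j hj]
    split_ifs <;> rfl
  pos_or_neg := pos_or_neg
  cartan_rc i hi r hr := by
    rw [cartan_rc i hi r hr, list_range_sum]
    exact Finset.sum_congr rfl fun j _ => by rw [h0 r hr j j.2]
  cartan_symm := cartan_symm
  A_self r hr := by
    rw [← A_self r hr, list_range_sum]; rfl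
  rc_reflect i hi r hr j hj := by
    rw [h0 r hr j hj, h0 _ (reflect_lt i hi r hr) j hj, rc_reflect i hi r hr j hj]
    ring
  chain_rc r hr e he := by
    have h := chain_rc r hr
    rw [List.all_eq_true] at h
    have h1 := h e he
    rw [Bool.and_eq_true, decide_eq_true_eq, List.all_eq_true] at h1
    refine ⟨h1.1, fun q hq => ?_⟩
    have h2 := h1.2 q hq
    rw [Bool.and_eq_true, decide_eq_true_eq, List.all_eq_true] at h2
    refine ⟨h2.1, fun i hi => ?_⟩
    have h3 := h2.2 i (List.mem_range.2 hi)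
    rw [beq_iff_eq] at h3
    rw [h0 _ h2.1 i hi, h0 _ h1.1 i hi, h0 _ hr i hi]
    have h4 : ((look T q.1.1 i + (q.2 + 1) * 8 : ℕ) : ℤ) = ((look T e.1 i + (q.2 + 1) * look T r i : ℕ) : ℤ) := by
      rw [h3]
    push_cast at h4 ⊢
    linear_combination h4
  co_gcd := co_gcd
  two_le_rank := two_le_rank
  conn := conn

end CL.Chev
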