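import Cfsg.Agent.Base
import Cfsg.Agent.Chev.Roots
import Cfsg.Agent.Chev.WeylDefs
import Cfsg.Agent.Chev.CoxInv
import Cfsg.Agent.Chev.MatCore

/-!
Root coefficient vectors `rc`, their relation with the Weyl group action, positive combinations
`Comb r s k` (`k = i r + j s`, `i, j > 0`), closed sets of roots and the height.
-/

set_option autoImplicit false
set_option linter.unusedSectionVars false

namespace CL.Chev

open Cfsg.Lie CL.Weyl CL.Cox CL.ChevM

variable {D : ChevalleyDatum}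

theorem co_eq_crt (r : ℕ) (i : Fin D.rank) : co D r i = crt D r i := rfl
theorem co_eq_cor (r i : ℕ) : co D r i = cor D r i := rfl

theorem slen_pos (i : ℕ) : 0 < slen D i := by
  unfold slen; split_ifs <;> norm_num

theorem A_eq_cartR (r s : ℕ) : A D r s = cartR D r s := by
  rw [A, cartR, ← Fin.sum_univ_eq_sum_range (fun i => cor D r i * D.cartan i s)]; rfl

variable (D) in
/-- the Cartan matrix acting on root coordinates -/
def rA : Fin D.rank → Fin D.rank → ℤ := fun i j => D.cartan i (D.simple j)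

variable (D) in
/-- the height, an additive function of the coefficient vector -/
def ht : (Fin D.rank → ℤ) →+ ℤ where
  toFun v := ∑ i, v i
  map_zero' := by simp
  map_add' u v := by simp [Finset.sum_add_distrib]

theorem ht_apply (v : Fin D.rank → ℤ) : ht D v = ∑ i, v i := rfl

open Classical in
variable (D) in
/-- the sum of the coefficients outside `J` -/
noncomputable def htOut (J : Set (Fin D.rank)) : (Fin D.rank → ℤ) →+ ℤ where
  toFun v := ∑ i, if i ∈ J then 0 else v i
  map_zero' := by simp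
  map_add' u v := by
    rw [← Finset.sum_add_distrib]
    exact Finset.sum_congr rfl fun i _ => by split_ifs <;> simp

open Classical in
theorem htOut_apply (J : Set (Fin D.rank)) (v : Fin D.rank → ℤ) :
    htOut D J v = ∑ i, if i ∈ J then 0 else v i := rfl

variable (D) in
/-- `k = i r + j s` with `i, j > 0` -/
def Comb (r s k : ℕ) : Prop :=
  ∃ i j : ℕ, 0 < i ∧ 0 < j ∧ rc D k = (i : ℤ) • rc D r + (j : ℤ) • rc D s

theorem Comb.symm {r s k : ℕ} (h : Comb D r s k) : Comb D s r k := by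
  obtain ⟨i, j, hi, hj, h⟩ := h
  exact ⟨j, i, hj, hi, by rw [h, add_comm]⟩

theorem Comb.apply_eq {r s k : ℕ} (h : Comb D r s k) (f : (Fin D.rank → ℤ) →+ ℤ) :
    ∃ i j : ℕ, 0 < i ∧ 0 < j ∧ f (rc D k) = i * f (rc D r) + j * f (rc D s) := by
  obtain ⟨i, j, hi, hj, h⟩ := h
  exact ⟨i, j, hi, hj, by rw [h, map_add, map_zsmul, map_zsmul]; rfl⟩

theorem Comb.lt {r s k : ℕ} (h : Comb D r s k) {f : (Fin D.rank → ℤ) →+ ℤ}
    (hr : 0 < f (rc D r)) (hs : 0 < f (rc D s)) :
    f (rc D r) < f (rc D k) ∧ f (rc D s) < f (rc D k) := by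
  obtain ⟨i, j, hi, hj, h⟩ := h.apply_eq f
  constructor <;> nlinarith

theorem Comb.pos_of_nonneg {r s k : ℕ} (h : Comb D r s k) {f : (Fin D.rank → ℤ) →+ ℤ}
    (hr : 0 ≤ f (rc D r)) (hs : 0 < f (rc D s)) : 0 < f (rc D k) := by
  obtain ⟨i, j, hi, hj, h⟩ := h.apply_eq f
  have : (0 : ℤ) < j := by exact_mod_cast hj
  nlinarith [mul_nonneg (Int.natCast_nonneg i) hr]

theorem Comb.nonneg {r s k : ℕ} (h : Comb D r s k) {f : (Fin D.rank → ℤ) →+ ℤ}
    (hr : 0 ≤ f (rc D r)) (hs : 0 ≤ f (rc D s)) : 0 ≤ f (rc D k) := by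
  obtain ⟨i, j, hi, hj, h⟩ := h.apply_eq f
  rw [h]; positivity

variable (D) in
/-- a set of roots closed under positive combinations -/
def Closed (S : Set (Fin D.nroots)) : Prop :=
  ∀ r ∈ S, ∀ s ∈ S, ∀ k : Fin D.nroots, Comb D r s k → k ∈ S

theorem Closed.inter {S T : Set (Fin D.nroots)} (hS : Closed D S) (hT : Closed D T) :
    Closed D (S ∩ T) := fun r hr s hs k hk => ⟨hS r hr.1 s hs.1 k hk, hT r hr.2 s hs.2 k hk⟩

theorem closed_pos_of (f : (Fin D.rank → ℤ) →+ ℤ) :
    Closed D {r : Fin D.nroots | 0 < f (rc D r)} := fun _ hr _ hs _ hk => hk.pos_of_nonneg (le_of_lt hr) hs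

theorem closed_nonneg_of (f : (Fin D.rank → ℤ) →+ ℤ) :
    Closed D {r : Fin D.nroots | 0 ≤ f (rc D r)} := fun _ hr _ hs _ hk => hk.nonneg hr hs

section RootOK

variable [hR : RootOK D]

theorem rc_toLex_strictMono : StrictMono fun r : Fin D.nroots => toLex (rc D r) := by
  have key : ∀ r, r + 1 < D.nroots → toLex (rc D r) < toLex (rc D (r + 1)) := by
    intro r hr
    obtain ⟨i, hi, h1, h2⟩ := hR.rc_lex r (by omega) hr
    exact ⟨⟨i, hi⟩, fun j hj => h1 j hj, h2⟩
  intro r s hrs
  have : ∀ n, r + n + 1 < D.nroots → toLex (rc D r) < toLex (rc D (r + n + 1)) := by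
    intro n
    induction n with
    | zero => exact key r
    | succ n ih => exact fun h => (ih (by omega)).trans (key _ h)
  have h1 : (r : ℕ) < s := hrs
  have := this (s - r - 1) (by omega)
  rwa [show (r : ℕ) + (s - r - 1) + 1 = s by omega] at this

theorem rc_inj {r s : Fin D.nroots} (h : rc D r = rc D s) : r = s :=
  rc_toLex_strictMono.injective (congrArg toLex h)

theorem rc_inj' {r s : ℕ} (hr : r < D.nroots) (hs : s < D.nroots) (h : rc D r = rc D s) : r = s :=
  congrArg Fin.val (rc_inj (r := ⟨r, hr⟩) (s := ⟨s, hs⟩) h)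

theorem rc_neg {r : ℕ} (hr : r < D.nroots) : rc D (D.neg r) = -rc D r :=
  funext fun i => hR.rc_neg r hr i i.2

theorem rc_simple (i : Fin D.rank) : rc D (D.simple i) = Pi.single i 1 := by
  funext j
  rw [rc, hR.rc_simple i i.2 j j.2, Pi.single_apply]
  simp [Fin.ext_iff]

theorem crt_mul_len {r : ℕ} (hr : r < D.nroots) (i : Fin D.rank) :
    crt D r i * len D r = rc D r i * slen D i := hR.co_rc r hr i i.2

theorem crt_pos_iff {r : ℕ} (hr : r < D.nroots) (i : Fin D.rank) : 0 < crt D r i ↔ 0 < rc D r i := by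
  have h := crt_mul_len hr i
  have h1 : (0 : ℤ) < len D r := by exact_mod_cast hR.len_pos r hr
  have h2 : (0 : ℤ) < slen D i := by exact_mod_cast slen_pos (D := D) i
  rw [← mul_pos_iff_of_pos_right h1, h, mul_pos_iff_of_pos_right h2]

theorem crt_neg_iff {r : ℕ} (hr : r < D.nroots) (i : Fin D.rank) : crt D r i < 0 ↔ rc D r i < 0 := by
  have h := crt_mul_len hr i
  have h1 : (0 : ℤ) < len D r := by exact_mod_cast hR.len_pos r hr
  have h2 : (0 : ℤ) < slen D i := by exact_mod_cast slen_pos (D := D) i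
  constructor <;> intro h3 <;> nlinarith

theorem crt_eq_zero_iff {r : ℕ} (hr : r < D.nroots) (i : Fin D.rank) :
    crt D r i = 0 ↔ rc D r i = 0 := by
  have h1 := crt_pos_iff hr i
  have h2 := crt_neg_iff hr i
  omega

theorem cartan_eq_form {r : ℕ} (hr : r < D.nroots) (i : Fin D.rank) :
    D.cartan i r = form (rA D) i (rc D r) := hR.cartan_rc i i.2 r hr

theorem rc_reflectRoot (i : Fin D.rank) {r : ℕ} (hr : r < D.nroots) :
    rc D (D.reflectRoot i r) = refl (rA D) i (rc D r) := by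
  funext j
  rw [refl_apply, ← cartan_eq_form hr, rc, hR.rc_reflect i i.2 r hr j j.2]
  simp [rc, Pi.single_apply, Fin.ext_iff]

theorem chainEntry_rc {r s : ℕ} (hr : r < D.nroots) {q : (ℕ × ℤ) × ℕ}
    (hq : q ∈ (D.chainEntry r s).zipIdx) :
    q.1.1 < D.nroots ∧ rc D q.1.1 = ((q.2 + 1 : ℕ) : ℤ) • rc D r + rc D s := by
  unfold ChevalleyDatum.chainEntry at hq
  split at hq
  · simp at hq
  · rename_i e he
    have h1 := List.mem_of_find?_eq_some he
    have h2 : e.1 = s := by simpa using List.find?_some he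
    obtain ⟨-, h3⟩ := hR.chain_rc r hr e h1
    obtain ⟨h4, h5⟩ := h3 q hq
    refine ⟨h4, funext fun i => ?_⟩
    have := h5 i i.2
    rw [h2] at this
    simp only [rc, this, Pi.add_apply, Pi.smul_apply, smul_eq_mul]
    ring

theorem chainRoot_rc {r s i k : ℕ} (hr : r < D.nroots) (hi : 0 < i)
    (h : D.chainRoot r s i = some k) : k < D.nroots ∧ rc D k = (i : ℤ) • rc D r + rc D s := by
  unfold ChevalleyDatum.chainRoot at h
  rw [Option.map_eq_some_iff] at h
  obtain ⟨a, ha, rfl⟩ := h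
  have := chainEntry_rc (D := D) (s := s) hr (q := (a, i - 1)) (List.mem_zipIdx_iff_getElem?.2 ha)
  rwa [show i - 1 + 1 = i by omega] at this

theorem commTerms_rc {r s : ℕ} (hr : r < D.nroots) (hs : s < D.nroots) {c : ℕ × ℤ × ℕ × ℕ}
    (hc : c ∈ D.commTerms r s) : c.1 < D.nroots ∧ 0 < c.2.2.1 ∧ 0 < c.2.2.2 ∧
      rc D c.1 = (c.2.2.1 : ℤ) • rc D r + (c.2.2.2 : ℤ) • rc D s := by
  unfold ChevalleyDatum.commTerms at hc
  simp only [List.mem_filterMap, Option.map_eq_some_iff] at hc
  obtain ⟨a, ha, k, hk, rfl⟩ := hc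
  simp only [List.mem_cons, List.not_mem_nil, or_false] at ha
  rcases ha with rfl | rfl | rfl | rfl | rfl | rfl | rfl
  · obtain ⟨h1, h2⟩ := chainRoot_rc hr (by norm_num) hk
    exact ⟨h1, by norm_num, by norm_num, by simpa using h2⟩
  · obtain ⟨h1, h2⟩ := chainRoot_rc hr (by norm_num) hk
    exact ⟨h1, by norm_num, by norm_num, by simpa using h2⟩
  · obtain ⟨h1, h2⟩ := chainRoot_rc hs (by norm_num) hk
    exact ⟨h1, by norm_num, by norm_num, by simpa [add_comm] using h2⟩
  · obtain ⟨h1, h2⟩ := chainRoot_rc hr (by norm_num) hk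
    exact ⟨h1, by norm_num, by norm_num, by simpa using h2⟩
  · obtain ⟨h1, h2⟩ := chainRoot_rc hs (by norm_num) hk
    exact ⟨h1, by norm_num, by norm_num, by simpa [add_comm] using h2⟩
  · simp only [Option.bind_eq_some_iff] at hk
    obtain ⟨m, hm, hk⟩ := hk
    obtain ⟨h1, h2⟩ := chainRoot_rc hr (by norm_num) hm
    obtain ⟨h3, h4⟩ := chainRoot_rc h1 (by norm_num) hk
    refine ⟨h3, by norm_num, by norm_num, ?_⟩
    rw [h4, h2]; push_cast; module
  · simp only [Option.bind_eq_some_iff] at hk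
    obtain ⟨m, hm, hk⟩ := hk
    obtain ⟨h1, h2⟩ := chainRoot_rc hs (by norm_num) hm
    obtain ⟨h3, h4⟩ := chainRoot_rc h1 (by norm_num) hk
    refine ⟨h3, by norm_num, by norm_num, ?_⟩
    rw [h4, h2]; push_cast; module

theorem commTerms_comb {r s : ℕ} (hr : r < D.nroots) (hs : s < D.nroots) {c : ℕ × ℤ × ℕ × ℕ}
    (hc : c ∈ D.commTerms r s) : c.1 < D.nroots ∧ Comb D r s c.1 := by
  obtain ⟨h1, h2, h3, h4⟩ := commTerms_rc hr hs hc
  exact ⟨h1, _, _, h2, h3, h4⟩

theorem Comb.neg {r s k : ℕ} (h : Comb D r s k) (hr : r < D.nroots) (hs : s < D.nroots)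
    (hk : k < D.nroots) : Comb D (D.neg r) (D.neg s) (D.neg k) := by
  obtain ⟨i, j, hi, hj, h⟩ := h
  exact ⟨i, j, hi, hj, by rw [rc_neg hr, rc_neg hs, rc_neg hk, h]; module⟩

/-- some coroot coefficient is non-zero in the field -/
theorem exists_co_ne_zero (F : Type*) [Field F] {r : ℕ} (hr : r < D.nroots) :
    ∃ i < D.rank, (co D r i : F) ≠ 0 := by
  by_contra hc
  push Not at hc
  have key : ∀ L : List ℕ, (∀ i ∈ L, i < D.rank) →
      ((L.foldr (fun i g => Nat.gcd (co D r i).natAbs g) 0 : ℕ) : F) = 0 := by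
    intro L
    induction L with
    | nil => simp
    | cons a L ih =>
      intro h
      have h1 := ih fun i hi => h i (by simp [hi])
      have h2 : (((co D r a).natAbs : ℕ) : F) = 0 := by
        have := hc a (h a (by simp))
        rcases Int.natAbs_eq (co D r a) with e | e
        · rw [e, Int.cast_natCast] at this; exact this
        · rw [e, Int.cast_neg, Int.cast_natCast, neg_eq_zero] at this; exact this
      rw [List.foldr_cons]
      rw [ringChar.spec] at h1 h2 ⊢
      exact Nat.dvd_gcd h2 h1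
  have := key (List.range D.rank) fun i hi => List.mem_range.1 hi
  rw [show List.foldr _ 0 (List.range D.rank) = coGcd D r from rfl, hR.co_gcd r hr] at this
  simp at this

end RootOK

section both

variable [hR : RootOK D] [hW : WeylOK D]

theorem pos_iff_rc (r : Fin D.nroots) : (Φ D).Pos r ↔ 0 ≤ rc D r :=
  forall_congr' fun i => by
    have := crt_neg_iff r.2 i
    simp only [Pi.zero_apply, Φ_root]
    omega

theorem not_pos_iff_rc (r : Fin D.nroots) : ¬ (Φ D).Pos r ↔ rc D r ≤ 0 := by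
  rw [RootSys.not_pos_iff]
  exact forall_congr' fun i => by
    have := crt_pos_iff r.2 i
    simp only [Pi.zero_apply, Φ_root]
    omega

theorem rc_negF (r : Fin D.nroots) : rc D (negF D r) = -rc D r := rc_neg r.2

theorem rc_simpleF (i : Fin D.rank) : rc D (simpleF D i) = Pi.single i 1 := rc_simple i

theorem rc_ne_zero (r : Fin D.nroots) : rc D r ≠ 0 := fun h =>
  (Φ D).ne_zero r (funext fun i => (crt_eq_zero_iff r.2 i).2 (congrFun h i))

theorem pos_of_rc_pos {r : Fin D.nroots} {i : Fin D.rank} (h : 0 < rc D r i) : (Φ D).Pos r :=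
  (Φ D).pos_of_coord_pos ((crt_pos_iff r.2 i).2 h)

theorem exists_rc_pos {r : Fin D.nroots} (h : (Φ D).Pos r) : ∃ i, 0 < rc D r i := by
  obtain ⟨i, hi⟩ := (Φ D).exists_coord_pos h
  exact ⟨i, (crt_pos_iff r.2 i).1 hi⟩

theorem exists_rc_pos_of_ne {r : Fin D.nroots} {i : Fin D.rank} (h : (Φ D).Pos r)
    (hr : r ≠ simpleF D i) : ∃ j, j ≠ i ∧ 0 < rc D r j := by
  obtain ⟨j, hj, hi⟩ := (Φ D).exists_coord_pos_of_ne h hr
  exact ⟨j, hj, (crt_pos_iff r.2 j).1 hi⟩

theorem pos_iff_ht (r : Fin D.nroots) : (Φ D).Pos r ↔ 0 < ht D (rc D r) := by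
  constructor
  · intro h
    obtain ⟨i, hi⟩ := exists_rc_pos h
    exact Finset.sum_pos' (fun k _ => (pos_iff_rc r).1 h k) ⟨i, Finset.mem_univ _, hi⟩
  · intro h
    by_contra hc
    rw [ht_apply] at h
    exact absurd (Finset.sum_nonpos fun k _ => (not_pos_iff_rc r).1 hc k) (not_le.2 h)

theorem not_pos_iff_ht (r : Fin D.nroots) : ¬ (Φ D).Pos r ↔ 0 < (-ht D) (rc D r) := by
  rw [← (Φ D).pos_neg_iff, pos_iff_ht, Φ_neg, rc_negF, map_neg]; rfl

theorem inSub_iff_rc {J : Set (Fin D.rank)} (r : Fin D.nroots) :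
    (Φ D).InSub J r ↔ ∀ i, i ∉ J → rc D r i = 0 :=
  forall_congr' fun i => forall_congr' fun _ => crt_eq_zero_iff r.2 i

omit hR in
theorem inRootSub_iff {J : Set ℕ} (r : Fin D.nroots) :
    D.InRootSub J r ↔ (Φ D).InSub {i : Fin D.rank | (i : ℕ) ∈ J} r :=
  ⟨fun h i hi => h.2 i i.2 hi, fun h => ⟨r.2, fun i hi hJ => h ⟨i, hi⟩ hJ⟩⟩

theorem htOut_pos_iff {J : Set (Fin D.rank)} (r : Fin D.nroots) :
    0 < htOut D J (rc D r) ↔ (Φ D).Pos r ∧ ¬ (Φ D).InSub J r := by
  classical
  rw [htOut_apply, inSub_iff_rc]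
  constructor
  · intro h
    have : ∃ i, i ∉ J ∧ 0 < rc D r i := by
      by_contra hc
      push Not at hc
      refine absurd (Finset.sum_nonpos fun k _ => ?_) (not_le.2 h)
      split_ifs with hk
      · rfl
      · exact hc k hk
    obtain ⟨i, hi, h'⟩ := this
    exact ⟨pos_of_rc_pos h', fun h0 => by rw [h0 i hi] at h'; exact lt_irrefl _ h'⟩
  · rintro ⟨h1, h2⟩
    push Not at h2
    obtain ⟨i, hi, h2⟩ := h2
    have h3 := (pos_iff_rc r).1 h1
    refine Finset.sum_pos' (fun k _ => ?_) ⟨i, Finset.mem_univ _, ?_⟩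
    · split_ifs
      · rfl
      · exact h3 k
    · rw [if_neg hi]; exact lt_of_le_of_ne (h3 i) (Ne.symm h2)

theorem htOut_eq_zero_of_inSub {J : Set (Fin D.rank)} {r : Fin D.nroots} (h : (Φ D).InSub J r) :
    htOut D J (rc D r) = 0 := by
  classical
  rw [htOut_apply]
  refine Finset.sum_eq_zero fun k _ => ?_
  split_ifs with hk
  · rfl
  · exact (inSub_iff_rc r).1 h k hk

theorem htOut_nonneg_iff {J : Set (Fin D.rank)} (r : Fin D.nroots) :
    0 ≤ htOut D J (rc D r) ↔ (Φ D).Pos r ∨ (Φ D).InSub J r := by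
  have h1 := htOut_pos_iff (J := J) (negF D r)
  rw [rc_negF, map_neg, ← Φ_neg, (Φ D).pos_neg_iff, (Φ D).inSub_neg_iff] at h1
  constructor
  · intro h
    by_contra hc
    push Not at hc
    have := h1.2 hc
    omega
  · intro h
    by_contra hc
    have := h1.1 (by omega)
    tauto

omit hR in
theorem isCartanFor_rA : IsCartanFor (coxMat D) (rA D) := by
  refine ⟨hW.cartan.1, fun i j hij => ?_⟩
  have := hW.cartan.2 j i hij.symm
  rwa [(coxMat D).symmetric j i] at this

variable (D) in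
/-- the linear action of the Weyl group on root coefficient vectors -/
noncomputable def rho : W D →* Module.End ℤ (Fin D.rank → ℤ) := geom (cs D) isCartanFor_rA

theorem rc_s_smul (i : Fin D.rank) (r : Fin D.nroots) :
    rc D (s D i • r : Fin D.nroots) = rc D r - D.cartan i r • (Pi.single i 1 : Fin D.rank → ℤ) := by
  rw [val_s_smul, rc_reflectRoot i r.2, refl_apply, ← cartan_eq_form r.2]

theorem rc_smul (w : W D) (r : Fin D.nroots) : rc D (w • r : Fin D.nroots) = rho D w (rc D r) := by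
  induction w using (cs D).simple_induction_left with
  | one => simp
  | mul_simple_left w i ih =>
    rw [mul_smul, val_s_smul, rc_reflectRoot i (w • r).2, ih, rho, geom_simple_mul]

theorem Comb.smul {r t k : Fin D.nroots} (h : Comb D r t k) (w : W D) :
    Comb D (w • r : Fin D.nroots) (w • t : Fin D.nroots) (w • k : Fin D.nroots) := by
  obtain ⟨i, j, hi, hj, h⟩ := h
  exact ⟨i, j, hi, hj, by rw [rc_smul, rc_smul, rc_smul, h, map_add, map_smul, map_smul]⟩

theorem Closed.preimage_smul {S : Set (Fin D.nroots)} (h : Closed D S) (w : W D) :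
    Closed D {r | w • r ∈ S} := fun _ hr _ ht _ hk => h _ hr _ ht _ (hk.smul w)

theorem closed_pos : Closed D {r | (Φ D).Pos r} := by
  simpa only [pos_iff_ht] using closed_pos_of (ht D)

theorem closed_not_pos : Closed D {r | ¬ (Φ D).Pos r} := by
  simpa only [not_pos_iff_ht] using closed_pos_of (-ht D)

theorem closed_inSub (J : Set (Fin D.rank)) : Closed D {r | (Φ D).InSub J r} := by
  rintro r hr t ht k ⟨i, j, -, -, h⟩
  simp only [Set.mem_ofPred_eq, inSub_iff_rc] at *
  intro m hm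
  simp [h, hr m hm, ht m hm]

omit hR in
theorem cartR_eq_pair (r t : Fin D.nroots) : cartR D r t = (Φ D).pair t r := by
  rw [Φ_pair, cartR, ← Fin.sum_univ_eq_sum_range (fun i => cor D r i * D.cartan i t)]
  exact Finset.sum_congr rfl fun i _ => mul_comm _ _

omit hR in
theorem cartR_smul (w : W D) (r t : Fin D.nroots) :
    cartR D (w • r : Fin D.nroots) (w • t : Fin D.nroots) = cartR D r t := by
  rw [cartR_eq_pair, cartR_eq_pair, (Φ D).pair_smul]

omit hR in
theorem cartR_simpleF (i : Fin D.rank) (t : Fin D.nroots) :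
    cartR D (simpleF D i) t = D.cartan i t := by
  rw [cartR_eq_pair, ← Φ_simple, (Φ D).pair_simple_right]; rfl

omit hR in
theorem cartR_self' (r : Fin D.nroots) : cartR D r r = 2 := by
  rw [cartR_eq_pair, (Φ D).pair_self]

omit hR in
theorem cartR_negF_right (r t : Fin D.nroots) : cartR D r (negF D t) = -cartR D r t := by
  rw [cartR_eq_pair, cartR_eq_pair, ← Φ_neg, (Φ D).pair_neg_left]

omit hR in
theorem cartR_negF_left (r t : Fin D.nroots) : cartR D (negF D r) t = -cartR D r t := by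
  rw [cartR_eq_pair, cartR_eq_pair, ← Φ_neg, (Φ D).pair_neg_right]

omit hR in
theorem cartan_s_smul (i : Fin D.rank) (t : Fin D.nroots) :
    D.cartan i (s D i • t : Fin D.nroots) = -D.cartan i t := by
  rw [← cartR_simpleF, ← cartR_simpleF, ← cartR_smul (s D i), s_smul_simpleF,
    RootSys.simple_smul_simple_smul, cartR_negF_left]

theorem rc_reflection_smul (r t : Fin D.nroots) :
    rc D ((Φ D).reflection r • t : Fin D.nroots) = rc D t - cartR D r t • rc D r := by
  obtain ⟨w, i, rfl⟩ := exists_smul_simpleF D r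
  obtain ⟨t, rfl⟩ : ∃ t', t = w • t' := ⟨w⁻¹ • t, by simp⟩
  rw [(Φ D).reflection_smul, ← Φ_simple, (Φ D).reflection_simple, mul_smul, mul_smul, inv_smul_smul,
    rc_smul, rc_s_smul, map_sub, map_smul, ← rc_smul, Φ_simple, cartR_smul, cartR_simpleF,
    rc_smul w (simpleF D i), rc_simpleF]

/-- the additive function on coefficient vectors given by pairing with a vector of coroot coordinates -/
def pairHom (v : Fin D.rank → ℤ) : (Fin D.rank → ℤ) →+ ℤ where
  toFun μ := ∑ i, v i * form (rA D) i μ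
  map_zero' := by simp
  map_add' a b := by simp [mul_add, Finset.sum_add_distrib]

omit hW in
theorem pairHom_rc (v : Fin D.rank → ℤ) {r : ℕ} (hr : r < D.nroots) :
    pairHom v (rc D r) = ∑ i, v i * D.cartan i r := by
  change ∑ i, v i * form (rA D) i (rc D r) = _
  exact Finset.sum_congr rfl fun i _ => by rw [cartan_eq_form hr]

end both

end CL.Chev
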