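import Cfsg.Agent.Chev.Roots

/-! The table facts `RootOK` for type E7. -/

set_option autoImplicit false

namespace CL.Chev

open Cfsg.Lie

def rcTabE7 : ℕ := 0x9abcbaa09abcba909abcaa909abbaa909aabaa9099abaa9089abaa909abba9909aaba99099aba99089aba9909aaaa99099aaa99089aaa990999aa990899aa990889aa9909aaa999099aa999089aa9990999a9990899a9990889a9990999999908999999088999990888999909999989089999890889998908889989088889890888888909aaa998099aa998089aa9980999a9980899a9980889a998099999980899999808899998088899980999989808999898088998980888989808888898099999880899998808899988088899880888898809999888089998880889988808889888099988880899888808898888099888880898888809888888078888880878888807788888088788880877888807778888088878880887788808777888077778880888878808887788088777880877778807777788088888780888787808877878087778780777787808887778088777780877777807777778088767780877677807776778087667780776677807666778088888870888878708887787088777870877778707777787088877770887777708777777077777770887677708776777077767770876677707766777076667770887667708776677077766770876667707766677076666770876567707765677076656770765567708765667077656670766566707655667076546670765456707654566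

theorem rootOK_E7 : RootOK chevE7 :=
  RootOK.of_table chevE7 rcTabE7 (by decide +kernel) (by decide +kernel) (by decide +kernel) (by decide +kernel) (by decide +kernel) (by decide +kernel) (by decide +kernel) (by decide +kernel) (by decide +kernel) (by decide +kernel) (by decide +kernel) (by decide +kernel) (by decide +kernel) (by decide +kernel) (by decide +kernel) (by decide +kernel) (by decide +kernel) (by decide +kernel) (by decide +kernel)

end CL.Chev
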