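import Cfsg.Agent.Chev.RootsE7
import Cfsg.Agent.Chev.RootsE8

/-! The table facts `RootOK` for the seven data. -/

set_option autoImplicit false

namespace CL.Chev

open Cfsg.Lie

def rcTabG2 : ℕ := 0xab0000009b0000009a000000990000008900000098000000780000008700000077000000760000007500000065

theorem rootOK_G2 : RootOK chevG2 :=
  RootOK.of_table chevG2 rcTabG2 (by decide +kernel) (by decide +kernel) (by decide +kernel) (by decide +kernel) (by decide +kernel) (by decide +kernel) (by decide +kernel) (by decide +kernel) (by decide +kernel) (by decide +kernel) (by decide +kernel) (by decide +kernel) (by decide +kernel) (by decide +kernel) (by decide +kernel) (by decide +kernel) (by decide +kernel) (by decide +kernel) (by decide +kernel)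

def rcTabB2 : ℕ := 0x9a00000099000000890000009800000078000000870000007700000076

theorem rootOK_B2 : RootOK chevB2 :=
  RootOK.of_table chevB2 rcTabB2 (by decide +kernel) (by decide +kernel) (by decide +kernel) (by decide +kernel) (by decide +kernel) (by decide +kernel) (by decide +kernel) (by decide +kernel) (by decide +kernel) (by decide +kernel) (by decide +kernel) (by decide +kernel) (by decide +kernel) (by decide +kernel) (by decide +kernel) (by decide +kernel) (by decide +kernel) (by decide +kernel) (by decide +kernel)

def rcTabD4 : ℕ := 0x99a90000999900008999000098990000889900008889000099980000899800009898000088980000898800009888000078880000878800008878000078780000877800007778000088870000887700007877000087770000777700007767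

theorem rootOK_D4 : RootOK chevD4 :=
  RootOK.of_table chevD4 rcTabD4 (by decide +kernel) (by decide +kernel) (by decide +kernel) (by decide +kernel) (by decide +kernel) (by decide +kernel) (by decide +kernel) (by decide +kernel) (by decide +kernel) (by decide +kernel) (by decide +kernel) (by decide +kernel) (by decide +kernel) (by decide +kernel) (by decide +kernel) (by decide +kernel) (by decide +kernel) (by decide +kernel) (by decide +kernel)

def rcTabF4 : ℕ := 0xabca00009bca00009aca00009aba00009aaa000099aa000089aa00009ab900009aa9000099a9000089a90000999900008999000088990000888900009aa8000099a8000089a8000099980000899800008898000099880000898800009888000078880000878800007788000088780000877800007778000087680000776800007668000088870000887700008777000077770000876700007767000076670000765700008766000077660000766600007656000076460000754600006546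

theorem rootOK_F4 : RootOK chevF4 :=
  RootOK.of_table chevF4 rcTabF4 (by decide +kernel) (by decide +kernel) (by decide +kernel) (by decide +kernel) (by decide +kernel) (by decide +kernel) (by decide +kernel) (by decide +kernel) (by decide +kernel) (by decide +kernel) (by decide +kernel) (by decide +kernel) (by decide +kernel) (by decide +kernel) (by decide +kernel) (by decide +kernel) (by decide +kernel) (by decide +kernel) (by decide +kernel)

def rcTabE6 : ℕ := 0x9abaa9009aba99009aaa990099aa990089aa99009aa9990099a9990089a9990099999900899999008899990099998900899989008899890088898900888889009aa9980099a9980089a9980099999800899998008899980099989800899898008898980088889800999988008999880088998800888988009998880089988800889888009988880089888800988888007888880087888800778888008878880087788800777888008887880088778800877788007777880088887800887878008778780077787800887778008777780077777800876778007767780076677800888887008887870088778700877787007777870088777700877777007777770087677700776777007667770087667700776677007666770076567700765667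

theorem rootOK_E6 : RootOK chevE6 :=
  RootOK.of_table chevE6 rcTabE6 (by decide +kernel) (by decide +kernel) (by decide +kernel) (by decide +kernel) (by decide +kernel) (by decide +kernel) (by decide +kernel) (by decide +kernel) (by decide +kernel) (by decide +kernel) (by decide +kernel) (by decide +kernel) (by decide +kernel) (by decide +kernel) (by decide +kernel) (by decide +kernel) (by decide +kernel) (by decide +kernel) (by decide +kernel)

theorem rootOK_of_mem {D : ChevalleyDatum}
    (hD : D ∈ [chevG2, chevB2, chevD4, chevF4, chevE6, chevE7, chevE8]) : RootOK D := by
  simp only [List.mem_cons, List.not_mem_nil, or_false] at hD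
  rcases hD with rfl | rfl | rfl | rfl | rfl | rfl | rfl
  exacts [rootOK_G2, rootOK_B2, rootOK_D4, rootOK_F4, rootOK_E6, rootOK_E7, rootOK_E8]

end CL.Chev
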