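import Cfsg.Agent.Base
import Cfsg.Agent.Chev.NF
import Cfsg.Agent.Chev.RootsBasic
import Cfsg.Agent.Chev.StHom
import Cfsg.Agent.Chev.SL2Pres

/-!
Groups with root elements `x r t` satisfying the Chevalley--Steinberg relations: definitions of the
standard subgroups, normal forms, and the action of the elements `n_r(t)`, `h_r(t)`.
-/

set_option autoImplicit false
set_option linter.unusedSectionVars false

namespace CL.Chev

open Cfsg.Lie CL.Weyl CL.Cox CL.ChevM CL.Rep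
open scoped commutatorElement

section defs

variable (D : ChevalleyDatum) {F : Type*} [Field F] {G : Type*} [Group G] (x : ℕ → F → G)

/-- the family `x` indexed by `Fin D.nroots` -/
abbrev xF : Fin D.nroots → F → G := fun r => x r

/-- the subgroup generated by the root subgroups of the roots in `S` -/
abbrev XR (S : Set (Fin D.nroots)) : Subgroup G := XS (xF D x) S

/-- `n_r(t)` -/
def nE (r : ℕ) (t : F) : G := x r t * x (D.neg r) (-t⁻¹) * x r t

/-- `h_r(t)` -/
def hE (r : ℕ) (t : F) : G := nE D x r t * nE D x r (-1)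

/-- the group generated by all root elements -/
def GG : Subgroup G := XR D x Set.univ

/-- the diagonal subgroup `H` -/
def HH : Subgroup G :=
  Subgroup.closure {g | ∃ r : Fin D.nroots, ∃ t : F, t ≠ 0 ∧ g = hE D x r t}

/-- the monomial subgroup `N` -/
def NN : Subgroup G := HH D x ⊔ Subgroup.closure {g | ∃ r : Fin D.nroots, g = nE D x r 1}

/-- `n_{p_i}(1)` -/
def nS (i : Fin D.rank) : G := nE D x (D.simple i) 1

/-- product of the `n_{p_i}(1)` along a word -/
def nW (ω : List (Fin D.rank)) : G := (ω.map (nS D x)).prod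

/-- the product `h_{p_1}(c_1) ⋯ h_{p_l}(c_l)` -/
def torE (c : Fin D.rank → F) : G :=
  ((List.finRange D.rank).map fun i : Fin D.rank => hE D x (D.simple i) (c i)).prod

variable [WeylOK D]

/-- the subgroup `U` -/
def UU : Subgroup G := XR D x {r | (Φ D).Pos r}

/-- the subgroup `V` -/
def VV : Subgroup G := XR D x {r | ¬ (Φ D).Pos r}

/-- the subgroup `B = U H` -/
def BB : Subgroup G := UU D x ⊔ HH D x

/-- `U_w^-`: generated by the positive root subgroups made negative by `w` -/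
def Um (w : W D) : Subgroup G := XR D x {r | (Φ D).Pos r ∧ ¬ (Φ D).Pos (w • r)}

/-- `U_w^+`: generated by the positive root subgroups kept positive by `w` -/
def Up (w : W D) : Subgroup G := XR D x {r | (Φ D).Pos r ∧ (Φ D).Pos (w • r)}

/-- conjugation by `g` maps `x r t` to `x (w r) (χ r * t)` -/
def ActsBy (g : G) (w : W D) (χ : Fin D.nroots → F) : Prop :=
  (∀ r, χ r * χ (negF D r) = 1) ∧
    ∀ (r : Fin D.nroots) (t : F), g * x r t * g⁻¹ = x (w • r : Fin D.nroots) (χ r * t)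

/-- conjugation by `g` permutes the root subgroups according to `w` -/
def Acts (g : G) (w : W D) : Prop := ∃ χ, ActsBy D x g w χ

/-- `n ∈ N` represents the element `w` of the Weyl group -/
def Rep (n : G) (w : W D) : Prop :=
  ∃ ω : List (Fin D.rank), (cs D).wordProd ω = w ∧ n * (nW D x ω)⁻¹ ∈ HH D x

/-- The Chevalley relations: Steinberg's relations together with the action of `n_p`, `h_p(c)` for
fundamental roots `p`. -/
structure ChevRel : Prop extends StRel D x where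
  nconj : ∀ i < D.rank, ∃ η : ℕ → ℤ, (∀ s < D.nroots, (η s = 1 ∨ η s = -1) ∧ η (D.neg s) = η s) ∧
    η (D.simple i) = -1 ∧ ∀ s < D.nroots, ∀ t : F,
      nE D x (D.simple i) 1 * x s t = x (D.reflectRoot i s) ((η s : F) * t) * nE D x (D.simple i) 1
  hconj : ∀ i < D.rank, ∀ s < D.nroots, ∀ c : F, c ≠ 0 → ∀ t : F,
    hE D x (D.simple i) c * x s t = x s (c ^ D.cartan i s * t) * hE D x (D.simple i) c

end defs

variable {D : ChevalleyDatum} {F : Type*} [Field F] {G : Type*} [Group G] {x : ℕ → F → G}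

theorem wP_nWord (r : ℕ) (t : F) : wP x (D.nWord r t) = nE D x r t := by
  simp [ChevalleyDatum.nWord, nE, mul_assoc]

theorem wP_hWord (r : ℕ) (t : F) : wP x (D.hWord r t) = hE D x r t := by
  rw [ChevalleyDatum.hWord, wP_append, wP_nWord, wP_nWord, hE]

theorem map_nE {G' : Type*} [Group G'] (φ : G →* G') (r : ℕ) (t : F) :
    φ (nE D x r t) = nE D (fun r t => φ (x r t)) r t := by simp [nE]

theorem map_hE {G' : Type*} [Group G'] (φ : G →* G') (r : ℕ) (t : F) :
    φ (hE D x r t) = hE D (fun r t => φ (x r t)) r t := by simp [hE, map_nE]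

theorem map_nW {G' : Type*} [Group G'] (φ : G →* G') (ω : List (Fin D.rank)) :
    φ (nW D x ω) = nW D (fun r t => φ (x r t)) ω := by
  simp only [nW, map_list_prod, List.map_map]
  congr 1
  exact List.map_congr_left fun i _ => map_nE φ _ _

theorem map_torE {G' : Type*} [Group G'] (φ : G →* G') (c : Fin D.rank → F) :
    φ (torE D x c) = torE D (fun r t => φ (x r t)) c := by
  simp only [torE, map_list_prod, List.map_map]
  congr 1
  exact List.map_congr_left fun i _ => map_hE φ _ _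

theorem map_XR {G' : Type*} [Group G'] (φ : G →* G') (S : Set (Fin D.nroots)) :
    (XR D x S).map φ = XR D (fun r t => φ (x r t)) S := map_XS φ

theorem map_GG {G' : Type*} [Group G'] (φ : G →* G') :
    (GG D x).map φ = GG D (fun r t => φ (x r t)) := map_XS φ

theorem map_HH {G' : Type*} [Group G'] (φ : G →* G') :
    (HH D x).map φ = HH D (fun r t => φ (x r t)) := by
  rw [HH, MonoidHom.map_closure, HH]
  congr 1
  ext g
  constructor
  · rintro ⟨_, ⟨r, t, ht, rfl⟩, rfl⟩; exact ⟨r, t, ht, map_hE φ _ _⟩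
  · rintro ⟨r, t, ht, rfl⟩; exact ⟨_, ⟨r, t, ht, rfl⟩, map_hE φ _ _⟩

theorem map_NN {G' : Type*} [Group G'] (φ : G →* G') :
    (NN D x).map φ = NN D (fun r t => φ (x r t)) := by
  rw [NN, Subgroup.map_sup, map_HH, MonoidHom.map_closure, NN]
  congr 2
  ext g
  constructor
  · rintro ⟨_, ⟨r, rfl⟩, rfl⟩; exact ⟨r, map_nE φ _ _⟩
  · rintro ⟨r, rfl⟩; exact ⟨_, ⟨r, rfl⟩, map_nE φ _ _⟩

@[simp] theorem nW_nil : nW D x [] = 1 := rfl

@[simp] theorem nW_cons (i : Fin D.rank) (ω : List (Fin D.rank)) :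
    nW D x (i :: ω) = nS D x i * nW D x ω := by simp [nW]

@[simp] theorem nW_append (ω ω' : List (Fin D.rank)) :
    nW D x (ω ++ ω') = nW D x ω * nW D x ω' := by simp [nW]

theorem x_mem_XR {S : Set (Fin D.nroots)} {r : Fin D.nroots} (hr : r ∈ S) (t : F) :
    x r t ∈ XR D x S := x_mem_XS (x := xF D x) hr t

theorem XR_le {S : Set (Fin D.nroots)} {H : Subgroup G} :
    XR D x S ≤ H ↔ ∀ r ∈ S, ∀ t, x r t ∈ H := XS_le

theorem XR_le_GG (S : Set (Fin D.nroots)) : XR D x S ≤ GG D x := XS_mono (Set.subset_univ _)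

theorem x_mem_GG (r : Fin D.nroots) (t : F) : x r t ∈ GG D x := x_mem_XR (Set.mem_univ _) t

theorem hE_mem_HH (r : Fin D.nroots) {t : F} (ht : t ≠ 0) : hE D x r t ∈ HH D x :=
  Subgroup.subset_closure ⟨r, t, ht, rfl⟩

theorem HH_le_NN : HH D x ≤ NN D x := le_sup_left

theorem nE_one_mem_NN (r : Fin D.nroots) : nE D x r 1 ∈ NN D x :=
  Subgroup.mem_sup_right (Subgroup.subset_closure ⟨r, rfl⟩)

variable [hW : WeylOK D]

theorem map_UU {G' : Type*} [Group G'] (φ : G →* G') :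
    (UU D x).map φ = UU D (fun r t => φ (x r t)) := map_XS φ

theorem map_VV {G' : Type*} [Group G'] (φ : G →* G') :
    (VV D x).map φ = VV D (fun r t => φ (x r t)) := map_XS φ

theorem map_BB {G' : Type*} [Group G'] (φ : G →* G') :
    (BB D x).map φ = BB D (fun r t => φ (x r t)) := by
  rw [BB, Subgroup.map_sup, map_UU, map_HH, BB]

theorem Rep.map {G' : Type*} [Group G'] (φ : G →* G') {n : G} {w : W D} (h : Rep D x n w) :
    Rep D (fun r t => φ (x r t)) (φ n) w := by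
  obtain ⟨ω, h1, h2⟩ := h
  refine ⟨ω, h1, ?_⟩
  rw [← map_HH, ← map_nW, ← map_inv, ← map_mul]
  exact Subgroup.mem_map_of_mem φ h2

theorem nE_mem_XR {S : Set (Fin D.nroots)} {r : Fin D.nroots} (h : r ∈ S) (h' : negF D r ∈ S) (t : F) :
    nE D x r t ∈ XR D x S :=
  mul_mem (mul_mem (x_mem_XR h _) (x_mem_XR h' _)) (x_mem_XR h _)

theorem hE_mem_XR {S : Set (Fin D.nroots)} {r : Fin D.nroots} (h : r ∈ S) (h' : negF D r ∈ S) (t : F) :
    hE D x r t ∈ XR D x S := mul_mem (nE_mem_XR h h' _) (nE_mem_XR h h' _)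

theorem nE_mem_GG (r : Fin D.nroots) (t : F) : nE D x r t ∈ GG D x :=
  nE_mem_XR (Set.mem_univ _) (Set.mem_univ _) t

theorem HH_le_GG : HH D x ≤ GG D x := by
  rw [HH, Subgroup.closure_le]
  rintro _ ⟨r, t, -, rfl⟩
  exact hE_mem_XR (Set.mem_univ _) (Set.mem_univ _) t

theorem NN_le_GG : NN D x ≤ GG D x := by
  refine sup_le HH_le_GG ?_
  rw [Subgroup.closure_le]
  rintro _ ⟨r, rfl⟩
  exact nE_mem_GG r 1

theorem UU_le_BB : UU D x ≤ BB D x := le_sup_left
theorem HH_le_BB : HH D x ≤ BB D x := le_sup_right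
theorem UU_le_GG : UU D x ≤ GG D x := XR_le_GG _
theorem VV_le_GG : VV D x ≤ GG D x := XR_le_GG _
theorem BB_le_GG : BB D x ≤ GG D x := sup_le UU_le_GG HH_le_GG
theorem Um_le_UU (w : W D) : Um D x w ≤ UU D x := XS_mono fun _ h => h.1
theorem Up_le_UU (w : W D) : Up D x w ≤ UU D x := XS_mono fun _ h => h.1

theorem UU_sup_VV : UU D x ⊔ VV D x = GG D x := by
  rw [UU, VV, ← XS_union, GG]
  congr 1
  ext r
  simp [em]

theorem x_mem_UU {r : Fin D.nroots} (hr : (Φ D).Pos r) (t : F) : x r t ∈ UU D x := x_mem_XR hr t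

theorem x_mem_VV {r : Fin D.nroots} (hr : ¬ (Φ D).Pos r) (t : F) : x r t ∈ VV D x := x_mem_XR hr t

theorem nS_mem_NN (i : Fin D.rank) : nS D x i ∈ NN D x := nE_one_mem_NN (simpleF D i)

theorem nW_mem_NN (ω : List (Fin D.rank)) : nW D x ω ∈ NN D x := by
  induction ω with
  | nil => exact one_mem _
  | cons i ω ih => rw [nW_cons]; exact mul_mem (nS_mem_NN i) ih

theorem Rep.mem_NN {n : G} {w : W D} (h : Rep D x n w) : n ∈ NN D x := by
  obtain ⟨ω, -, h2⟩ := h
  simpa using mul_mem (HH_le_NN h2) (nW_mem_NN ω)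

theorem rep_nW (ω : List (Fin D.rank)) : Rep D x (nW D x ω) ((cs D).wordProd ω) :=
  ⟨ω, rfl, by simp⟩

theorem rep_nS (i : Fin D.rank) : Rep D x (nS D x i) (s D i) := by
  have := rep_nW (x := x) [i]
  rwa [CoxeterSystem.wordProd_singleton, nW_cons, nW_nil, mul_one] at this

theorem rep_of_mem_HH {g : G} (hg : g ∈ HH D x) : Rep D x g 1 := ⟨[], by simp, by simpa using hg⟩

theorem rep_one : Rep D x (1 : G) 1 := rep_of_mem_HH (one_mem _)

theorem exists_rep (w : W D) : ∃ n, Rep D x n w := by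
  obtain ⟨ω, rfl⟩ := (cs D).wordProd_surjective w
  exact ⟨_, rep_nW ω⟩

/-! ### `ActsBy` -/

theorem ActsBy.ne_zero {g : G} {w : W D} {χ : Fin D.nroots → F} (h : ActsBy D x g w χ)
    (r : Fin D.nroots) : χ r ≠ 0 := left_ne_zero_of_mul_eq_one (h.1 r)

theorem ActsBy.neg_eq {g : G} {w : W D} {χ : Fin D.nroots → F} (h : ActsBy D x g w χ)
    (r : Fin D.nroots) : χ (negF D r) = (χ r)⁻¹ := eq_inv_of_mul_eq_one_right (h.1 r)

theorem actsBy_one : ActsBy D x (1 : G) 1 fun _ => 1 := ⟨by simp, by simp⟩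

theorem ActsBy.mul {g g' : G} {w w' : W D} {χ χ' : Fin D.nroots → F} (h : ActsBy D x g w χ)
    (h' : ActsBy D x g' w' χ') : ActsBy D x (g * g') (w * w') fun r => χ (w' • r) * χ' r := by
  refine ⟨fun r => ?_, fun r t => ?_⟩
  · beta_reduce
    rw [smul_negF, mul_mul_mul_comm, h.1, h'.1, one_mul]
  · beta_reduce
    rw [mul_inv_rev, mul_smul, mul_assoc (χ _), ← h.2, ← h'.2]; group

theorem ActsBy.inv {g : G} {w : W D} {χ : Fin D.nroots → F} (h : ActsBy D x g w χ) :
    ActsBy D x g⁻¹ w⁻¹ fun r => (χ (w⁻¹ • r))⁻¹ := by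
  refine ⟨fun r => ?_, fun r t => ?_⟩
  · beta_reduce
    rw [smul_negF, ← mul_inv, h.1, inv_one]
  · have := h.2 (w⁻¹ • r) ((χ (w⁻¹ • r))⁻¹ * t)
    rw [smul_inv_smul, mul_inv_cancel_left₀ (h.ne_zero _)] at this
    rw [← this]; group

theorem ActsBy.congr {g : G} {w : W D} {χ χ' : Fin D.nroots → F} (h : ActsBy D x g w χ)
    (e : ∀ r, χ r = χ' r) : ActsBy D x g w χ' := by rwa [← funext e]

theorem ActsBy.conj_nE {g : G} {w : W D} {χ : Fin D.nroots → F} (h : ActsBy D x g w χ)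
    (r : Fin D.nroots) (t : F) :
    g * nE D x r t * g⁻¹ = nE D x (w • r : Fin D.nroots) (χ r * t) := by
  have h1 := h.2 r t
  have h2 := h.2 (negF D r) (-t⁻¹)
  rw [smul_negF, h.neg_eq, val_negF, val_negF, mul_neg, ← mul_inv] at h2
  rw [nE, nE, ← h1, ← h2]; group

theorem acts_one : Acts D x (1 : G) 1 := ⟨_, actsBy_one⟩

theorem Acts.mul {g g' : G} {w w' : W D} (h : Acts D x g w) (h' : Acts D x g' w') :
    Acts D x (g * g') (w * w') := by
  obtain ⟨χ, h⟩ := h
  obtain ⟨χ', h'⟩ := h'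
  exact ⟨_, h.mul h'⟩

theorem Acts.inv {g : G} {w : W D} (h : Acts D x g w) : Acts D x g⁻¹ w⁻¹ := by
  obtain ⟨χ, h⟩ := h
  exact ⟨_, h.inv⟩

theorem Acts.conj_mem_XR {g : G} {w : W D} (h : Acts D x g w) {S T : Set (Fin D.nroots)}
    (hST : ∀ r ∈ S, w • r ∈ T) {y : G} (hy : y ∈ XR D x S) : g * y * g⁻¹ ∈ XR D x T := by
  obtain ⟨χ, h⟩ := h
  refine conj_mem_of_mem_XS (fun r hr t => ?_) hy
  rw [show xF D x r t = x r t from rfl, h.2]
  exact x_mem_XR (hST r hr) _

theorem Acts.conj_mem_XR' {g : G} {w : W D} (h : Acts D x g w) {S T : Set (Fin D.nroots)}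
    (hST : ∀ r ∈ S, w⁻¹ • r ∈ T) {y : G} (hy : y ∈ XR D x S) : g⁻¹ * y * g ∈ XR D x T := by
  simpa using h.inv.conj_mem_XR hST hy

theorem Acts.mem_normalizer_XR {g : G} {w : W D} (h : Acts D x g w) {S : Set (Fin D.nroots)}
    (hS : ∀ r, w • r ∈ S ↔ r ∈ S) : g ∈ Subgroup.normalizer (XR D x S : Set G) :=
  mem_normalizer_XS (fun r hr t => h.conj_mem_XR (fun r hr => (hS r).2 hr) (x_mem_XR hr t))
    (fun r hr t => h.conj_mem_XR' (fun r hr => (hS _).1 (by simpa using hr)) (x_mem_XR hr t))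

theorem Acts.map_conj_XR {g : G} {w : W D} (h : Acts D x g w) {S T : Set (Fin D.nroots)}
    (hST : ∀ r, w • r ∈ T ↔ r ∈ S) : (XR D x S).map (MulAut.conj g).toMonoidHom = XR D x T := by
  apply le_antisymm
  · rintro _ ⟨y, hy, rfl⟩
    exact h.conj_mem_XR (fun r hr => (hST r).2 hr) hy
  · intro y hy
    refine ⟨g⁻¹ * y * g, h.conj_mem_XR' (fun r hr => (hST _).1 (by simpa using hr)) hy, ?_⟩
    simp [mul_assoc]

/-! ### Steinberg's relations -/

section StRel

variable (h : StRel D x)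
include h

omit hW in
theorem _root_.CL.Rep.StRel.x_add (r : ℕ) (t u : F) : x r t * x r u = x r (t + u) := by
  by_cases hr : r < D.nroots
  · exact h.add r hr t u
  · simp [h.out r (not_lt.1 hr)]

omit hW in
theorem _root_.CL.Rep.StRel.x_zero (r : ℕ) : x r 0 = 1 := by simpa using h.x_add r 0 0

omit hW in
theorem _root_.CL.Rep.StRel.x_neg (r : ℕ) (t : F) : x r (-t) = (x r t)⁻¹ :=
  eq_inv_of_mul_eq_one_left (by rw [h.x_add, neg_add_cancel, h.x_zero])

omit hW in
theorem _root_.CL.Rep.StRel.nE_neg (r : ℕ) (t : F) : nE D x r (-t) = (nE D x r t)⁻¹ := by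
  simp only [nE, inv_neg, neg_neg, h.x_neg, mul_inv_rev, inv_inv, mul_assoc]

omit hW in
theorem _root_.CL.Rep.StRel.hE_one (r : ℕ) : hE D x r 1 = 1 := by rw [hE, h.nE_neg, mul_inv_cancel]

omit hW in
theorem _root_.CL.Rep.StRel.nE_eq (r : ℕ) (t : F) : nE D x r t = hE D x r t * nE D x r 1 := by
  rw [hE, h.nE_neg, inv_mul_cancel_right]

omit hW in
theorem _root_.CL.Rep.StRel.hE_mul (r : Fin D.nroots) {t u : F} (ht : t ≠ 0) (hu : u ≠ 0) :
    hE D x r t * hE D x r u = hE D x r (t * u) := by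
  simpa only [wP_hWord] using h.hmul r r.2 t u ht hu

omit hW in
theorem _root_.CL.Rep.StRel.hE_inv (r : Fin D.nroots) {t : F} (ht : t ≠ 0) :
    hE D x r t⁻¹ = (hE D x r t)⁻¹ :=
  eq_inv_of_mul_eq_one_left (by rw [h.hE_mul r (inv_ne_zero ht) ht, inv_mul_cancel₀ ht, h.hE_one])

omit hW in
theorem _root_.CL.Rep.StRel.nE_mul_nE_inv (r : Fin D.nroots) {t u : F} (ht : t ≠ 0) (hu : u ≠ 0) :
    nE D x r t * (nE D x r u)⁻¹ = hE D x r (t * u⁻¹) := by
  rw [h.nE_eq r t, h.nE_eq r u, ← h.hE_mul r ht (inv_ne_zero hu), h.hE_inv r hu]; group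

omit hW in
theorem _root_.CL.Rep.StRel.nE_mul_nE (r : Fin D.nroots) {t u : F} (ht : t ≠ 0) (hu : u ≠ 0) :
    nE D x r t * nE D x r u = hE D x r (-(t * u⁻¹)) := by
  have := h.nE_mul_nE_inv r ht (neg_ne_zero.2 hu)
  rwa [h.nE_neg, inv_inv, inv_neg, mul_neg] at this

omit hW in
theorem _root_.CL.Rep.StRel.nE_mem_NN (r : Fin D.nroots) {t : F} (ht : t ≠ 0) :
    nE D x r t ∈ NN D x := by
  rw [h.nE_eq]; exact mul_mem (HH_le_NN (hE_mem_HH r ht)) (nE_one_mem_NN r)

omit hW in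
theorem _root_.CL.Rep.StRel.mem_XR_singleton (r : Fin D.nroots) {g : G} :
    g ∈ XR D x {r} ↔ ∃ t, g = x r t := by
  refine ⟨fun hg => ?_, by rintro ⟨t, rfl⟩; exact x_mem_XR (Set.mem_singleton r) t⟩
  induction hg using Subgroup.closure_induction with
  | mem g hg => obtain ⟨_, rfl, t, rfl⟩ := hg; exact ⟨t, rfl⟩
  | one => exact ⟨0, (h.x_zero r).symm⟩
  | mul a b _ _ ha hb =>
    obtain ⟨t, rfl⟩ := ha
    obtain ⟨u, rfl⟩ := hb
    exact ⟨_, h.x_add r t u⟩
  | inv a _ ha => obtain ⟨t, rfl⟩ := ha; exact ⟨_, (h.x_neg r t).symm⟩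

theorem ActsBy.conj_hE {g : G} {w : W D} {χ : Fin D.nroots → F} (ha : ActsBy D x g w χ)
    (r : Fin D.nroots) {t : F} (ht : t ≠ 0) :
    g * hE D x r t * g⁻¹ = hE D x (w • r : Fin D.nroots) t := by
  have h1 := ha.conj_nE r t
  have h2 := ha.conj_nE r 1
  have h3 := h.nE_mul_nE_inv (w • r) (mul_ne_zero (ha.ne_zero r) ht)
    (mul_ne_zero (ha.ne_zero r) one_ne_zero)
  rw [← h1, ← h2, mul_one, mul_right_comm, mul_inv_cancel₀ (ha.ne_zero r), one_mul] at h3
  rw [← h3, hE, h.nE_neg]; group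

theorem Acts.conj_hE {g : G} {w : W D} (ha : Acts D x g w) (r : Fin D.nroots) {t : F} (ht : t ≠ 0) :
    g * hE D x r t * g⁻¹ = hE D x (w • r : Fin D.nroots) t := by
  obtain ⟨χ, ha⟩ := ha
  exact ha.conj_hE h r ht

theorem Acts.conj_mem_HH {g : G} {w : W D} (ha : Acts D x g w) {y : G} (hy : y ∈ HH D x) :
    g * y * g⁻¹ ∈ HH D x := by
  have : HH D x ≤ (HH D x).comap (MulAut.conj g).toMonoidHom := by
    rw [HH, Subgroup.closure_le]
    rintro _ ⟨r, t, ht, rfl⟩
    change g * hE D x r t * g⁻¹ ∈ HH D x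
    rw [ha.conj_hE h r ht]
    exact hE_mem_HH _ ht
  exact this hy

theorem Acts.conj_mem_HH' {g : G} {w : W D} (ha : Acts D x g w) {y : G} (hy : y ∈ HH D x) :
    g⁻¹ * y * g ∈ HH D x := by simpa using ha.inv.conj_mem_HH h hy

theorem Acts.mem_normalizer_HH {g : G} {w : W D} (ha : Acts D x g w) :
    g ∈ Subgroup.normalizer (HH D x : Set G) := by
  rw [Subgroup.mem_normalizer_iff]
  exact fun y => ⟨ha.conj_mem_HH h, fun hy => by simpa [mul_assoc] using ha.conj_mem_HH' h hy⟩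

variable [hR : RootOK D]

omit hW in
theorem _root_.CL.Rep.StRel.commWord_mem (r s : Fin D.nroots) (t u : F) :
    wP x (D.commWord F r s t u) ∈ XR D x {k | Comb D r s k} := by
  refine Subgroup.list_prod_mem _ fun g hg => ?_
  simp only [ChevalleyDatum.commWord, List.map_map, List.mem_map, Function.comp] at hg
  obtain ⟨c, hc, rfl⟩ := hg
  obtain ⟨h1, h2⟩ := commTerms_comb r.2 s.2 hc
  exact x_mem_XR (r := ⟨c.1, h1⟩) h2 _

/-- weak form of the commutator formula -/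
theorem _root_.CL.Rep.StRel.comm_mem {r s : Fin D.nroots} (h2 : s ≠ negF D r) (t u : F) :
    (x s u)⁻¹ * (x r t)⁻¹ * x s u * x r t ∈ XR D x {k | Comb D r s k} := by
  by_cases h1 : s = r
  · subst h1
    rw [mul_assoc _ (x s u), h.x_add, add_comm, ← h.x_add]
    simp
  have := h.comm r r.2 s s.2 (fun e => h1 (Fin.ext e)) (fun e => h2 (Fin.ext e)) t u
  rw [mul_assoc _ (x s u), this]
  simpa [mul_assoc] using h.commWord_mem r s t u

theorem _root_.CL.Rep.StRel.graded {S : Set (Fin D.nroots)} (hS : Closed D S)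
    {f : (Fin D.rank → ℤ) →+ ℤ} (hf : ∀ r ∈ S, 0 < f (rc D r)) :
    Graded (xF D x) S fun r => f (rc D r) where
  fin := S.toFinite
  add r _ := h.x_add r
  comm r hr s hs _ t u := by
    refine XS_mono ?_ (h.comm_mem (r := r) (s := s) ?_ t u)
    · intro k hk
      exact ⟨hS r hr s hs k hk, hk.lt (hf r hr) (hf s hs)⟩
    · rintro rfl
      have h1 := hf r hr
      have h2 := hf _ hs
      rw [rc_negF, map_neg] at h2
      omega

theorem _root_.CL.Rep.StRel.graded_pos {S : Set (Fin D.nroots)} (hS : Closed D S)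
    (hf : ∀ r ∈ S, (Φ D).Pos r) : Graded (xF D x) S fun r => ht D (rc D r) :=
  h.graded hS fun r hr => (pos_iff_ht r).1 (hf r hr)

theorem _root_.CL.Rep.StRel.graded_UU : Graded (xF D x) {r | (Φ D).Pos r} fun r => ht D (rc D r) :=
  h.graded_pos closed_pos fun _ hr => hr

theorem _root_.CL.Rep.StRel.graded_VV :
    Graded (xF D x) {r | ¬ (Φ D).Pos r} fun r => (-ht D) (rc D r) :=
  h.graded closed_not_pos fun r hr => (not_pos_iff_ht r).1 hr

/-- `X_r` normalises `X_S` if `-r ∉ S` and `S` is stable under combinations with `r`. -/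
theorem _root_.CL.Rep.StRel.x_mem_normalizer {S : Set (Fin D.nroots)} {r : Fin D.nroots}
    (hr : negF D r ∉ S) (hS : ∀ s ∈ S, ∀ k : Fin D.nroots, Comb D r s k → k ∈ S) (t : F) :
    x r t ∈ Subgroup.normalizer (XR D x S : Set G) := by
  have key : ∀ t, ∀ s ∈ S, ∀ u, (x r t)⁻¹ * xF D x s u * x r t ∈ XR D x S := by
    intro t s hs u
    have := mul_mem (x_mem_XR hs u) (XS_mono (hS s hs)
      (h.comm_mem (r := r) (s := s) (by rintro rfl; exact hr hs) t u))
    simpa [mul_assoc] using this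
  refine mem_normalizer_XS (fun s hs u => ?_) (key t)
  simpa [h.x_neg] using key (-t) s hs u

theorem _root_.CL.Rep.StRel.XR_le_normalizer {S T : Set (Fin D.nroots)}
    (hr : ∀ r ∈ T, negF D r ∉ S) (hS : ∀ r ∈ T, ∀ s ∈ S, ∀ k : Fin D.nroots, Comb D r s k → k ∈ S) :
    XR D x T ≤ Subgroup.normalizer (XR D x S : Set G) :=
  XR_le.2 fun r hT t => h.x_mem_normalizer (hr r hT) (hS r hT) t

theorem _root_.CL.Rep.StRel.isNilpotent_UU : Group.IsNilpotent (UU D x) := h.graded_UU.isNilpotent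

/-- `U = U_w^+ U_w^-` -/
theorem _root_.CL.Rep.StRel.exists_Up_mul_Um (w : W D) {u : G} (hu : u ∈ UU D x) :
    ∃ a ∈ Up D x w, ∃ b ∈ Um D x w, u = a * b :=
  h.graded_UU.exists_mul (S₁ := {r | (Φ D).Pos (w • r)}) (S₂ := {r | ¬ (Φ D).Pos (w • r)})
    (fun _ _ => em _) hu

theorem _root_.CL.Rep.StRel.exists_Um_mul_Up (w : W D) {u : G} (hu : u ∈ UU D x) :
    ∃ a ∈ Um D x w, ∃ b ∈ Up D x w, u = a * b :=
  h.graded_UU.exists_mul (S₂ := {r | (Φ D).Pos (w • r)}) (S₁ := {r | ¬ (Φ D).Pos (w • r)})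
    (fun _ _ => (em _).symm) hu

end StRel

end CL.Chev
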