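import Cfsg.Agent.Base
import Cfsg.Agent.Chev.Sys

/-!
Consequences of the Chevalley relations `ChevRel`: the action of `n_r(t)` and `h_r(t)` for all roots,
the structure of `H`, representatives of Weyl group elements, `B = U H`, and the existence part of the
Bruhat decomposition (also for standard parabolic subgroups).
-/

set_option autoImplicit false
set_option linter.unusedSectionVars false

namespace CL.Chev

open Cfsg.Lie CL.Weyl CL.Cox CL.ChevM CL.Rep
open scoped commutatorElement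

variable {D : ChevalleyDatum} {F : Type*} [Field F] {G : Type*} [Group G] {x : ℕ → F → G}
variable [hW : WeylOK D]

variable (D x) in
/-- conjugation by `g` maps `x r t` to `x (w r) (± t)` -/
def SActs (g : G) (w : W D) : Prop :=
  ∃ η : Fin D.nroots → ℤ, (∀ r, η r = 1 ∨ η r = -1) ∧ ActsBy D x g w fun r => (η r : F)

theorem SActs.acts {g : G} {w : W D} (h : SActs D x g w) : Acts D x g w := by
  obtain ⟨η, -, h⟩ := h
  exact ⟨_, h⟩

theorem sacts_one : SActs D x (1 : G) 1 := ⟨fun _ => 1, fun _ => Or.inl rfl, by simpa using actsBy_one⟩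

theorem SActs.mul {g g' : G} {w w' : W D} (h : SActs D x g w) (h' : SActs D x g' w') :
    SActs D x (g * g') (w * w') := by
  obtain ⟨η, h1, h⟩ := h
  obtain ⟨η', h1', h'⟩ := h'
  refine ⟨fun r => η (w' • r) * η' r, fun r => ?_, (h.mul h').congr fun r => by simp⟩
  rcases h1 (w' • r) with e | e <;> rcases h1' r with e' | e' <;> simp [e, e']

theorem SActs.inv {g : G} {w : W D} (h : SActs D x g w) : SActs D x g⁻¹ w⁻¹ := by
  obtain ⟨η, h1, h⟩ := h
  refine ⟨fun r => η (w⁻¹ • r), fun r => h1 _, h.inv.congr fun r => ?_⟩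
  rcases h1 (w⁻¹ • r) with e | e <;> simp [e]

omit hW in
/-- the exchange property on words -/
theorem exists_split_of_not_pos [WeylOK D] (ω : List (Fin D.rank)) (i : Fin D.rank)
    (h : ¬ (Φ D).Pos ((cs D).wordProd ω • simpleF D i)) :
    ∃ α j β, ω = α ++ j :: β ∧ (cs D).wordProd β • simpleF D i = simpleF D j := by
  induction ω with
  | nil => exact absurd (by rw [(cs D).wordProd_nil, one_smul]; exact (Φ D).pos_simple i) h
  | cons j ω ih =>
    by_cases hp : (Φ D).Pos ((cs D).wordProd ω • simpleF D i)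
    · rw [(cs D).wordProd_cons, mul_smul] at h
      exact ⟨[], j, ω, rfl, ((Φ D).not_pos_simple_smul_iff hp).1 h⟩
    · obtain ⟨α, k, β, rfl, h2⟩ := ih hp
      exact ⟨j :: α, k, β, rfl, h2⟩

variable (D x) in
/-- the standard parabolic subgroup `P_J = ⟨B, n_j : j ∈ J⟩` -/
def PP (J : Set (Fin D.rank)) : Subgroup G := BB D x ⊔ Subgroup.closure (nS D x '' J)

variable (D x) in
/-- the unipotent radical `U_J` -/
def UJ (J : Set (Fin D.rank)) : Subgroup G := XR D x {r | (Φ D).Pos r ∧ ¬ (Φ D).InSub J r}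

variable (D x) in
/-- the Levi subgroup `L_J` -/
def LJ (J : Set (Fin D.rank)) : Subgroup G := HH D x ⊔ XR D x {r | (Φ D).InSub J r}

theorem BB_le_PP (J : Set (Fin D.rank)) : BB D x ≤ PP D x J := le_sup_left

theorem nS_mem_PP {J : Set (Fin D.rank)} {j : Fin D.rank} (hj : j ∈ J) : nS D x j ∈ PP D x J :=
  Subgroup.mem_sup_right (Subgroup.subset_closure ⟨j, hj, rfl⟩)

theorem nW_mem_PP {J : Set (Fin D.rank)} {ω : List (Fin D.rank)} (h : ∀ j ∈ ω, j ∈ J) :
    nW D x ω ∈ PP D x J := by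
  induction ω with
  | nil => exact one_mem _
  | cons i ω ih =>
    rw [nW_cons]
    exact mul_mem (nS_mem_PP (h i (by simp))) (ih fun j hj => h j (by simp [hj]))

theorem PP_le_GG (J : Set (Fin D.rank)) : PP D x J ≤ GG D x := by
  refine sup_le BB_le_GG ?_
  rw [Subgroup.closure_le]
  rintro _ ⟨j, -, rfl⟩
  exact NN_le_GG (nS_mem_NN j)

theorem UJ_le_UU (J : Set (Fin D.rank)) : UJ D x J ≤ UU D x := XS_mono fun _ h => h.1

namespace ChevRel

variable (h : ChevRel D x)
include h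

theorem sacts_nS' (i : Fin D.rank) : ∃ η : Fin D.nroots → ℤ, (∀ r, η r = 1 ∨ η r = -1) ∧
    η (simpleF D i) = -1 ∧ ActsBy D x (nS D x i) (s D i) fun r => (η r : F) := by
  obtain ⟨η, h1, h2, h3⟩ := h.nconj i i.2
  refine ⟨fun r => η r, fun r => (h1 r r.2).1, h2, fun r => ?_, fun r t => ?_⟩
  · beta_reduce
    rw [val_negF, (h1 r r.2).2]
    rcases (h1 r r.2).1 with e | e <;> simp [e]
  · rw [nS, h3 r r.2, val_s_smul, mul_inv_cancel_right]

theorem sacts_nS (i : Fin D.rank) : SActs D x (nS D x i) (s D i) := by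
  obtain ⟨η, h1, -, h2⟩ := h.sacts_nS' i
  exact ⟨η, h1, h2⟩

theorem sacts_nW (ω : List (Fin D.rank)) : SActs D x (nW D x ω) ((cs D).wordProd ω) := by
  induction ω with
  | nil => simpa using sacts_one
  | cons i ω ih => rw [nW_cons, (cs D).wordProd_cons]; exact (h.sacts_nS i).mul ih

theorem actsBy_hE_simple (i : Fin D.rank) {c : F} (hc : c ≠ 0) :
    ActsBy D x (hE D x (D.simple i) c) 1 fun r => c ^ D.cartan i r := by
  refine ⟨fun r => ?_, fun r t => ?_⟩
  · beta_reduce
    rw [← cartR_simpleF, ← cartR_simpleF, cartR_negF_right, ← zpow_add₀ hc, add_neg_cancel, zpow_zero]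
  · rw [h.hconj i i.2 r r.2 c hc, one_smul, mul_inv_cancel_right]

theorem exists_sacts_simple (r : Fin D.nroots) :
    ∃ (ω : List (Fin D.rank)) (i : Fin D.rank), r = (cs D).wordProd ω • simpleF D i := by
  obtain ⟨w, i, rfl⟩ := exists_smul_simpleF D r
  obtain ⟨ω, rfl⟩ := (cs D).wordProd_surjective w
  exact ⟨ω, i, rfl⟩

/-- `h_r(c) x_s(t) h_r(c)⁻¹ = x_s(c^{A_{rs}} t)` -/
theorem actsBy_hE (r : Fin D.nroots) {c : F} (hc : c ≠ 0) :
    ActsBy D x (hE D x r c) 1 fun t => c ^ cartR D r t := by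
  obtain ⟨ω, i, rfl⟩ := h.exists_sacts_simple r
  obtain ⟨χ, ha⟩ := (h.sacts_nW ω).acts
  have h1 := (ha.mul (h.actsBy_hE_simple i hc)).mul ha.inv
  rw [mul_one, mul_inv_cancel, show D.simple i = simpleF D i from rfl,
    ha.conj_hE h.toStRel _ hc] at h1
  refine h1.congr fun t => ?_
  rw [one_smul, mul_right_comm, mul_inv_cancel₀ (ha.ne_zero _), one_mul, ← cartR_simpleF,
    ← cartR_smul ((cs D).wordProd ω), smul_inv_smul]

theorem hE_conj_x (r t : Fin D.nroots) {c : F} (hc : c ≠ 0) (u : F) :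
    hE D x r c * x t u * (hE D x r c)⁻¹ = x t (c ^ cartR D r t * u) := by
  simpa using (h.actsBy_hE r hc).2 t u

theorem acts_of_mem_HH {g : G} (hg : g ∈ HH D x) : Acts D x g 1 := by
  induction hg using Subgroup.closure_induction with
  | mem g hg => obtain ⟨r, t, ht, rfl⟩ := hg; exact ⟨_, h.actsBy_hE r ht⟩
  | one => exact acts_one
  | mul a b _ _ ha hb => simpa using ha.mul hb
  | inv a _ ha => simpa using ha.inv

theorem HH_comm {a b : G} (ha : a ∈ HH D x) (hb : b ∈ HH D x) : a * b = b * a := by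
  have : HH D x ≤ Subgroup.centralizer {a} := by
    rw [HH, Subgroup.closure_le]
    rintro _ ⟨r, t, ht, rfl⟩
    have := (h.acts_of_mem_HH ha).conj_hE h.toStRel r ht
    rw [one_smul, mul_inv_eq_iff_eq_mul] at this
    simpa [Subgroup.mem_centralizer_iff] using this
  simpa [Subgroup.mem_centralizer_iff] using this hb

theorem isMulCommutative_HH : IsMulCommutative (HH D x) :=
  ⟨⟨fun a b => Subtype.ext (h.HH_comm a.2 b.2)⟩⟩

theorem HH_le_normalizer_XR (S : Set (Fin D.nroots)) :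
    HH D x ≤ Subgroup.normalizer (XR D x S : Set G) :=
  fun _ hg => (h.acts_of_mem_HH hg).mem_normalizer_XR fun r => by rw [one_smul]

theorem _root_.CL.Chev.Rep.acts {n : G} {w : W D} (hn : Rep D x n w) : Acts D x n w := by
  obtain ⟨ω, rfl, h2⟩ := hn
  simpa using (h.acts_of_mem_HH h2).mul (h.sacts_nW ω).acts

theorem _root_.CL.Chev.Rep.mul {n n' : G} {w w' : W D} (hn : Rep D x n w) (hn' : Rep D x n' w') :
    Rep D x (n * n') (w * w') := by
  have ha := hn.acts h
  obtain ⟨ω, rfl, h2⟩ := hn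
  obtain ⟨ω', rfl, h2'⟩ := hn'
  refine ⟨ω ++ ω', (cs D).wordProd_append _ _, ?_⟩
  have := mul_mem (ha.conj_mem_HH h.toStRel h2') h2
  simpa [mul_assoc] using this

theorem nS_mul_nS_mem (i : Fin D.rank) : nS D x i * nS D x i ∈ HH D x := by
  have := h.toStRel.nE_mul_nE (simpleF D i) one_ne_zero one_ne_zero
  rw [nS, show D.simple i = simpleF D i from rfl, this]
  exact hE_mem_HH _ (by simp)

theorem rep_nS_inv (i : Fin D.rank) : Rep D x (nS D x i)⁻¹ (s D i) :=
  ⟨[i], (cs D).wordProd_singleton i, by simpa using inv_mem (h.nS_mul_nS_mem i)⟩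

theorem rep_nW_inv (ω : List (Fin D.rank)) : Rep D x (nW D x ω)⁻¹ ((cs D).wordProd ω)⁻¹ := by
  induction ω with
  | nil => simpa using rep_one
  | cons i ω ih =>
    rw [nW_cons, (cs D).wordProd_cons, mul_inv_rev, mul_inv_rev, (cs D).inv_simple]
    exact ih.mul h (h.rep_nS_inv i)

theorem _root_.CL.Chev.Rep.inv {n : G} {w : W D} (hn : Rep D x n w) : Rep D x n⁻¹ w⁻¹ := by
  obtain ⟨ω, rfl, h2⟩ := hn
  simpa using (h.rep_nW_inv ω).mul h (rep_of_mem_HH (inv_mem h2))

theorem nW_mem_HH {ω : List (Fin D.rank)} (hω : (cs D).wordProd ω = 1) : nW D x ω ∈ HH D x := by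
  induction hn : ω.length using Nat.strong_induction_on generalizing ω with
  | _ n ih =>
  rcases List.eq_nil_or_concat ω with rfl | ⟨ω', i, rfl⟩
  · exact one_mem _
  rw [(cs D).wordProd_concat, mul_eq_one_iff_eq_inv, (cs D).inv_simple] at hω
  obtain ⟨α, j, β, rfl, h2⟩ := exists_split_of_not_pos ω' i (by
    rw [hω, s_smul_simpleF, ← Φ_neg, (Φ D).not_pos_neg_iff]; exact (Φ D).pos_simple i)
  have h3 := (Φ D).conj_simple_of_smul_eq h2
  have h4 : (cs D).wordProd (α ++ β) = 1 := by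
    rw [(cs D).wordProd_append, (cs D).wordProd_cons, ← h3] at hω
    rw [(cs D).wordProd_append]
    rw [inv_mul_cancel_right, ← mul_assoc] at hω
    exact mul_eq_right.1 hω
  have h5 := ih (α ++ β).length (by simp at hn ⊢; omega) h4 rfl
  obtain ⟨χ, ha⟩ := (h.sacts_nW β).acts
  have h6 := ha.conj_nE (simpleF D i) 1
  rw [h2] at h6
  have h7 : nS D x j * nE D x (simpleF D j) (χ (simpleF D i) * 1) ∈ HH D x := by
    have := h.toStRel.nE_mul_nE (simpleF D j) one_ne_zero (mul_ne_zero (ha.ne_zero (simpleF D i)) one_ne_zero)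
    rw [nS, show D.simple j = simpleF D j from rfl, this]
    exact hE_mem_HH _ (by simp [ha.ne_zero])
  have h8 := mul_mem ((h.sacts_nW α).acts.conj_mem_HH h.toStRel h7) h5
  rw [← h6] at h8
  simpa [List.concat_eq_append, mul_assoc, nS, val_simpleF] using h8

theorem _root_.CL.Chev.Rep.mem_HH {n : G} (hn : Rep D x n 1) : n ∈ HH D x := by
  obtain ⟨ω, h1, h2⟩ := hn
  simpa using mul_mem h2 (h.nW_mem_HH h1)

theorem _root_.CL.Chev.Rep.inv_mul_mem {n n' : G} {w : W D} (hn : Rep D x n w) (hn' : Rep D x n' w) :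
    n⁻¹ * n' ∈ HH D x := Rep.mem_HH h (by simpa using (hn.inv h).mul h hn')

theorem _root_.CL.Chev.Rep.mul_inv_mem {n n' : G} {w : W D} (hn : Rep D x n w) (hn' : Rep D x n' w) :
    n * n'⁻¹ ∈ HH D x := Rep.mem_HH h (by simpa using hn.mul h (hn'.inv h))

theorem _root_.CL.Chev.Rep.mul_HH {n g : G} {w : W D} (hn : Rep D x n w) (hg : g ∈ HH D x) :
    Rep D x (n * g) w := by simpa using hn.mul h (rep_of_mem_HH hg)

theorem _root_.CL.Chev.Rep.HH_mul {n g : G} {w : W D} (hn : Rep D x n w) (hg : g ∈ HH D x) :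
    Rep D x (g * n) w := by simpa using (rep_of_mem_HH hg).mul h hn

theorem rep_nE (r : Fin D.nroots) {t : F} (ht : t ≠ 0) :
    Rep D x (nE D x r t) ((Φ D).reflection r) := by
  obtain ⟨ω, i, rfl⟩ := h.exists_sacts_simple r
  obtain ⟨χ, ha⟩ := (h.sacts_nW ω).acts
  have h0 := ha.ne_zero (simpleF D i)
  have h1 := ha.conj_nE (simpleF D i) ((χ (simpleF D i))⁻¹ * t)
  rw [mul_inv_cancel_left₀ h0] at h1
  rw [← h1, (Φ D).reflection_smul, ← Φ_simple, (Φ D).reflection_simple, Φ_simple, h.toStRel.nE_eq]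
  exact ((rep_nW ω).mul h ((rep_nS i).HH_mul h (hE_mem_HH _ (mul_ne_zero (inv_ne_zero h0) ht)))).mul h
    (h.rep_nW_inv ω)

theorem exists_rep_of_mem_NN {n : G} (hn : n ∈ NN D x) : ∃ w, Rep D x n w := by
  have : NN D x ≤
      { carrier := {n | ∃ w, Rep D x n w}
        one_mem' := ⟨1, rep_one⟩
        mul_mem' := fun ⟨_, ha⟩ ⟨_, hb⟩ => ⟨_, ha.mul h hb⟩
        inv_mem' := fun ⟨_, ha⟩ => ⟨_, ha.inv h⟩ } := by
    refine sup_le (fun g hg => ⟨1, rep_of_mem_HH hg⟩) ?_
    rw [Subgroup.closure_le]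
    rintro _ ⟨r, rfl⟩
    exact ⟨_, h.rep_nE r one_ne_zero⟩
  exact this hn

theorem mem_NN_iff {n : G} : n ∈ NN D x ↔ ∃ w, Rep D x n w :=
  ⟨h.exists_rep_of_mem_NN, fun ⟨_, hn⟩ => hn.mem_NN⟩

theorem NN_le_normalizer_HH : NN D x ≤ Subgroup.normalizer (HH D x : Set G) := fun n hn => by
  obtain ⟨w, hw⟩ := h.exists_rep_of_mem_NN hn
  exact (hw.acts h).mem_normalizer_HH h.toStRel

theorem NN_eq : NN D x = HH D x ⊔ Subgroup.closure (Set.range (nS D x)) := by
  refine le_antisymm (fun n hn => ?_) (sup_le HH_le_NN ?_)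
  · obtain ⟨w, ω, -, h2⟩ := h.exists_rep_of_mem_NN hn
    have : nW D x ω ∈ Subgroup.closure (Set.range (nS D x)) :=
      Subgroup.list_prod_mem _ fun g hg => by
        obtain ⟨i, -, rfl⟩ := List.mem_map.1 hg
        exact Subgroup.subset_closure ⟨i, rfl⟩
    simpa using mul_mem (Subgroup.mem_sup_left h2) (Subgroup.mem_sup_right this)
  · rw [Subgroup.closure_le]
    rintro _ ⟨i, rfl⟩
    exact nS_mem_NN i

theorem sacts_nE_one (r : Fin D.nroots) : SActs D x (nE D x r 1) ((Φ D).reflection r) := by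
  obtain ⟨ω, i, rfl⟩ := h.exists_sacts_simple r
  obtain ⟨η, h1, ha⟩ := h.sacts_nW ω
  have h2 := ha.conj_nE (simpleF D i) 1
  have h3 := ((h.sacts_nW ω).mul (h.sacts_nS i)).mul (h.sacts_nW ω).inv
  rw [nS, show D.simple i = simpleF D i from rfl, h2] at h3
  rw [(Φ D).reflection_smul, ← Φ_simple, (Φ D).reflection_simple, Φ_simple]
  rcases h1 (simpleF D i) with e | e
  · simp only [e, Int.cast_one, mul_one] at h3
    exact h3
  · have h4 := h3.inv
    simp only [e, Int.cast_neg, Int.cast_one, mul_one, h.toStRel.nE_neg, inv_inv, mul_inv_rev,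
      (cs D).inv_simple, ← mul_assoc] at h4
    exact h4

/-- `n_r(c) x_s(u) n_r(c)⁻¹ = x_{w_r s}(η c^{-A_{rs}} u)` -/
theorem exists_actsBy_nE (r : Fin D.nroots) : ∃ η : Fin D.nroots → ℤ, (∀ t, η t = 1 ∨ η t = -1) ∧
    ∀ c : F, c ≠ 0 → ActsBy D x (nE D x r c) ((Φ D).reflection r)
      fun t => (η t : F) * c ^ (-cartR D r t) := by
  obtain ⟨η, h1, ha⟩ := h.sacts_nE_one r
  refine ⟨η, h1, fun c hc => ?_⟩
  have h2 := (h.actsBy_hE r hc).mul ha
  rw [← h.toStRel.nE_eq, one_mul] at h2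
  refine h2.congr fun t => ?_
  rw [mul_comm, ← cartR_smul ((Φ D).reflection r), (Φ D).reflection_smul_self, smul_smul,
    (Φ D).reflection_mul_self, one_smul, Φ_neg, cartR_negF_left]

theorem nE_conj_x_self (r : Fin D.nroots) {c : F} (hc : c ≠ 0) (t : F) :
    nE D x r c * x r t * (nE D x r c)⁻¹ = x (D.neg r) (-(c⁻¹ ^ 2 * t)) := by
  have key : ∀ (i : Fin D.rank) (c : F), c ≠ 0 → ∀ t : F,
      nE D x (simpleF D i) c * x (simpleF D i) t * (nE D x (simpleF D i) c)⁻¹ =
        x (negF D (simpleF D i)) (-(c⁻¹ ^ 2 * t)) := by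
    intro i c hc t
    obtain ⟨η, -, h1, ha⟩ := h.sacts_nS' i
    have h2 := ((h.actsBy_hE (simpleF D i) hc).mul ha).2 (simpleF D i) t
    rw [nS, show D.simple i = simpleF D i from rfl, ← h.toStRel.nE_eq, one_mul, s_smul_simpleF] at h2
    rw [h2]
    beta_reduce
    rw [h1, s_smul_simpleF, cartR_negF_right, cartR_self']
    congr 1
    simp [zpow_ofNat]
  obtain ⟨ω, i, rfl⟩ := h.exists_sacts_simple r
  obtain ⟨χ, ha⟩ := (h.sacts_nW ω).acts
  have h0 := ha.ne_zero (simpleF D i)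
  have h1 := ha.conj_nE (simpleF D i) ((χ (simpleF D i))⁻¹ * c)
  have h2 := ha.2 (simpleF D i) ((χ (simpleF D i))⁻¹ * t)
  rw [mul_inv_cancel_left₀ h0] at h1 h2
  have h3 := ha.2 (negF D (simpleF D i))
    (-(((χ (simpleF D i))⁻¹ * c)⁻¹ ^ 2 * ((χ (simpleF D i))⁻¹ * t)))
  rw [smul_negF, ← key i _ (mul_ne_zero (inv_ne_zero h0) hc), ha.neg_eq, val_negF] at h3
  rw [← h1, ← h2]
  refine Eq.trans (by group) (h3.trans ?_)
  congr 1
  field_simp

theorem sl2Rel (r : Fin D.nroots) : SL2P.Rel (x r) (x (D.neg r)) where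
  X_add := h.toStRel.x_add r
  Y_add := h.toStRel.x_add _
  n_X c hc t := by
    have := h.nE_conj_x_self r hc t
    rw [mul_inv_eq_iff_eq_mul] at this
    exact this
  h_mul c hc d hd := h.toStRel.hE_mul r hc hd

/-- `x_{-r}(u) = x_r(u⁻¹) n_r(-u⁻¹) x_r(u⁻¹)` -/
theorem x_neg_eq (r : Fin D.nroots) (u : F) :
    x (D.neg r) u = x r u⁻¹ * nE D x r (-u⁻¹) * x r u⁻¹ := (h.sl2Rel r).Y_eq

/-! ### The structure of `H` -/

omit hW in
theorem hE_list_mul [WeylOK D] (L : List (Fin D.rank)) {c d : Fin D.rank → F} (hc : ∀ i, c i ≠ 0)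
    (hd : ∀ i, d i ≠ 0) :
    (L.map fun i : Fin D.rank => hE D x (D.simple i) (c i * d i)).prod =
      (L.map fun i : Fin D.rank => hE D x (D.simple i) (c i)).prod *
        (L.map fun i : Fin D.rank => hE D x (D.simple i) (d i)).prod := by
  induction L with
  | nil => simp
  | cons i L ih =>
    simp only [List.map_cons, List.prod_cons, ih]
    have h1 : (L.map fun i : Fin D.rank => hE D x (D.simple i) (c i)).prod ∈ HH D x :=
      Subgroup.list_prod_mem _ fun g hg => by
        obtain ⟨j, -, rfl⟩ := List.mem_map.1 hg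
        exact hE_mem_HH (simpleF D j) (hc j)
    have h2 := h.HH_comm h1 (hE_mem_HH (simpleF D i) (hd i))
    rw [val_simpleF] at h2
    rw [← show _ = hE D x (D.simple i) (c i * d i) from h.toStRel.hE_mul (simpleF D i) (hc i) (hd i),
      mul_assoc, mul_assoc, ← mul_assoc (L.map _).prod, h2, mul_assoc, val_simpleF]

theorem torE_mul {c d : Fin D.rank → F} (hc : ∀ i, c i ≠ 0) (hd : ∀ i, d i ≠ 0) :
    torE D x (c * d) = torE D x c * torE D x d := h.hE_list_mul _ hc hd

theorem torE_one : torE D x 1 = 1 := by simp [torE, h.toStRel.hE_one]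

omit h in
theorem _root_.CL.Chev.torE_mem_HH {c : Fin D.rank → F} (hc : ∀ i, c i ≠ 0) : torE D x c ∈ HH D x :=
  Subgroup.list_prod_mem _ fun g hg => by
    obtain ⟨j, -, rfl⟩ := List.mem_map.1 hg
    exact hE_mem_HH (simpleF D j) (hc j)

theorem torE_single (i : Fin D.rank) (c : F) :
    torE D x (Pi.mulSingle i c) = hE D x (D.simple i) c := by
  have key : ∀ L : List (Fin D.rank), L.Nodup →
      (L.map fun j : Fin D.rank => hE D x (D.simple j) ((Pi.mulSingle i c : Fin D.rank → F) j)).prod =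
        if i ∈ L then hE D x (D.simple i) c else 1 := by
    intro L hL
    induction L with
    | nil => simp
    | cons j L ih =>
      rw [List.nodup_cons] at hL
      rw [List.map_cons, List.prod_cons, ih hL.2]
      by_cases hj : j = i
      · subst hj; simp [hL.1]
      · simp [h.toStRel.hE_one, Ne.symm hj]
  rw [torE, key _ (List.nodup_finRange _), if_pos (List.mem_finRange i)]

/-- the homomorphism `c ↦ h_{p_1}(c_1) ⋯ h_{p_l}(c_l)` -/
def torH : (Fin D.rank → Fˣ) →* G where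
  toFun c := torE D x fun i => c i
  map_one' := h.torE_one
  map_mul' c d := h.torE_mul (fun i => (c i).ne_zero) fun i => (d i).ne_zero

theorem torH_apply (c : Fin D.rank → Fˣ) : h.torH c = torE D x fun i => c i := rfl

theorem torH_single (i : Fin D.rank) (c : Fˣ) :
    h.torH (Pi.mulSingle i c) = hE D x (D.simple i) c := by
  rw [torH_apply, ← h.torE_single]
  congr 1
  funext j
  by_cases hj : j = i
  · subst hj; simp
  · simp [Pi.mulSingle_eq_of_ne hj]

theorem hE_s_smul (i : Fin D.rank) (r : Fin D.nroots) {c : F} (hc : c ≠ 0) :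
    hE D x (s D i • r : Fin D.nroots) c =
      hE D x r c * hE D x (D.simple i) (c ^ (-cartR D r (D.simple i))) := by
  have h1 := (h.sacts_nS i).acts.conj_hE h.toStRel r hc
  have h2 := (h.actsBy_hE r hc).inv.conj_nE (simpleF D i) 1
  rw [inv_one, one_smul, inv_inv, mul_one, val_simpleF, ← zpow_neg] at h2
  have h3 : ∀ d, hE D x (D.simple i) d = nE D x (D.simple i) d * (nE D x (D.simple i) 1)⁻¹ :=
    fun d => by rw [hE, h.toStRel.nE_neg]
  rw [← h1, h3, ← h2, nS]
  group

/-- `h_r(c) = ∏ h_{p_i}(c^{c_i(r)})` -/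
theorem hE_eq_torH (r : Fin D.nroots) (c : Fˣ) :
    hE D x r c = h.torH fun i => c ^ crt D r i := by
  obtain ⟨w, i, rfl⟩ := exists_smul_simpleF D r
  induction w using (cs D).simple_induction_left with
  | one =>
    rw [one_smul, val_simpleF, ← h.torH_single, hW.crt_simple]
    congr 1
    funext j
    by_cases hj : j = i
    · subst hj; simp
    · simp [Pi.mulSingle_eq_of_ne hj, Pi.single_eq_of_ne hj]
  | mul_simple_left w j ih =>
    rw [mul_smul, h.hE_s_smul j _ c.ne_zero, ih, ← Units.val_zpow_eq_zpow_val, ← h.torH_single,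
      ← map_mul, val_s_smul, hW.crt_reflect j _ (w • simpleF D i).2]
    congr 1
    funext k
    have e : form (cA D) j (crt D (w • simpleF D i : Fin D.nroots)) =
        cartR D (w • simpleF D i : Fin D.nroots) (D.simple j) := by
      rw [form_apply, cartR, ← Fin.sum_univ_eq_sum_range (fun k => cor D _ k * D.cartan k (D.simple j))]
      exact Finset.sum_congr rfl fun _ _ => mul_comm _ _
    by_cases hk : k = j
    · subst hk
      rw [refl_apply_self, e, Pi.mul_apply, Pi.mulSingle_eq_same, ← zpow_add, sub_eq_add_neg]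
    · rw [refl_apply_of_ne _ hk, Pi.mul_apply, Pi.mulSingle_eq_of_ne hk, mul_one]

theorem range_torH : h.torH.range = HH D x := by
  apply le_antisymm
  · rintro _ ⟨c, rfl⟩
    exact torE_mem_HH fun i => (c i).ne_zero
  · rw [HH, Subgroup.closure_le]
    rintro _ ⟨r, t, ht, rfl⟩
    exact ⟨_, (h.hE_eq_torH r (Units.mk0 t ht)).symm⟩

theorem mem_HH_iff {g : G} : g ∈ HH D x ↔ ∃ c : Fin D.rank → Fˣ, g = h.torH c := by
  rw [← h.range_torH]
  exact ⟨fun ⟨c, hc⟩ => ⟨c, hc.symm⟩, fun ⟨c, hc⟩ => ⟨c, hc.symm⟩⟩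

theorem actsBy_torH (c : Fin D.rank → Fˣ) :
    ActsBy D x (h.torH c) 1 fun r => ((∏ i, c i ^ D.cartan i r : Fˣ) : F) := by
  have key : ∀ L : List (Fin D.rank),
      ActsBy D x (L.map fun i : Fin D.rank => hE D x (D.simple i) (c i)).prod 1
        fun r => (L.map fun i : Fin D.rank => (c i : F) ^ D.cartan i r).prod := by
    intro L
    induction L with
    | nil => simpa using actsBy_one
    | cons i L ih => simpa using (h.actsBy_hE_simple i (c i).ne_zero).mul ih
  refine (key (List.finRange D.rank)).congr fun r => ?_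
  rw [← Fin.prod_univ_def]
  simp

theorem HH_eq_closure_simple : HH D x =
    Subgroup.closure {g | ∃ i < D.rank, ∃ t : F, t ≠ 0 ∧ g = hE D x (D.simple i) t} := by
  apply le_antisymm
  · intro g hg
    obtain ⟨c, rfl⟩ := h.mem_HH_iff.1 hg
    refine Subgroup.list_prod_mem _ fun g hg => ?_
    obtain ⟨j, -, rfl⟩ := List.mem_map.1 hg
    exact Subgroup.subset_closure ⟨j, j.2, _, (c j).ne_zero, rfl⟩
  · rw [Subgroup.closure_le]
    rintro _ ⟨i, hi, t, ht, rfl⟩
    exact hE_mem_HH (simpleF D ⟨i, hi⟩) ht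

end ChevRel

end CL.Chev
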