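import Cfsg.Agent.Base
import Cfsg.Agent.Chev.Sys2

/-!
`B = U H`, double cosets `B n B`, the existence part of the Bruhat decomposition (also in standard
parabolic subgroups), Levi factorisation; all under the Chevalley relations `ChevRel`.
-/

set_option autoImplicit false
set_option linter.unusedSectionVars false

namespace CL.Chev

open Cfsg.Lie CL.Weyl CL.Cox CL.ChevM CL.Rep
open scoped commutatorElement

theorem mem_sup_iff_of_le_normalizer {G : Type*} [Group G] {U H : Subgroup G}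
    (h : H ≤ Subgroup.normalizer (U : Set G)) {g : G} :
    g ∈ U ⊔ H ↔ ∃ u ∈ U, ∃ k ∈ H, g = u * k := by
  rw [← SetLike.mem_coe, Subgroup.coe_mul_of_right_le_normalizer_left U H h, Set.mem_mul]
  exact ⟨fun ⟨a, ha, b, hb, e⟩ => ⟨a, ha, b, hb, e.symm⟩, fun ⟨a, ha, b, hb, e⟩ => ⟨a, ha, b, hb, e.symm⟩⟩

theorem mem_sup_iff_of_le_normalizer' {G : Type*} [Group G] {U H : Subgroup G}
    (h : H ≤ Subgroup.normalizer (U : Set G)) {g : G} :
    g ∈ U ⊔ H ↔ ∃ k ∈ H, ∃ u ∈ U, g = k * u := by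
  rw [← SetLike.mem_coe, sup_comm, Subgroup.coe_mul_of_left_le_normalizer_right H U h, Set.mem_mul]
  exact ⟨fun ⟨a, ha, b, hb, e⟩ => ⟨a, ha, b, hb, e.symm⟩, fun ⟨a, ha, b, hb, e⟩ => ⟨a, ha, b, hb, e.symm⟩⟩

variable {D : ChevalleyDatum} {F : Type*} [Field F] {G : Type*} [Group G] {x : ℕ → F → G}
variable [hW : WeylOK D]

variable (D x) in
/-- the double coset `B w B` -/
def Cell (w : W D) : Set G := {g | ∃ b ∈ BB D x, ∃ n, Rep D x n w ∧ ∃ b' ∈ BB D x, g = b * n * b'}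

theorem Cell.mul_left {w : W D} {g b : G} (hb : b ∈ BB D x) (hg : g ∈ Cell D x w) :
    b * g ∈ Cell D x w := by
  obtain ⟨b1, h1, n, hn, b2, h2, rfl⟩ := hg
  exact ⟨b * b1, mul_mem hb h1, n, hn, b2, h2, by group⟩

theorem Cell.mul_right {w : W D} {g b : G} (hg : g ∈ Cell D x w) (hb : b ∈ BB D x) :
    g * b ∈ Cell D x w := by
  obtain ⟨b1, h1, n, hn, b2, h2, rfl⟩ := hg
  exact ⟨b1, h1, n, hn, b2 * b, mul_mem h2 hb, by group⟩

theorem Rep.mem_cell {w : W D} {n : G} (hn : Rep D x n w) : n ∈ Cell D x w :=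
  ⟨1, one_mem _, n, hn, 1, one_mem _, by simp⟩

theorem mem_cell_one_of_mem_BB {b : G} (hb : b ∈ BB D x) : b ∈ Cell D x 1 :=
  ⟨b, hb, 1, rep_one, 1, one_mem _, by simp⟩

theorem cell_subset_GG (w : W D) : Cell D x w ⊆ GG D x := by
  rintro _ ⟨b1, h1, n, hn, b2, h2, rfl⟩
  exact mul_mem (mul_mem (BB_le_GG h1) (NN_le_GG hn.mem_NN)) (BB_le_GG h2)

theorem inSub_singleton_iff {i : Fin D.rank} {r : Fin D.nroots} (hr : (Φ D).Pos r) :
    (Φ D).InSub {i} r ↔ r = simpleF D i :=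
  ⟨fun h => (Φ D).reduced i r hr fun j hj => h j hj,
    by rintro rfl; exact (Φ D).inSub_simple_iff.2 rfl⟩

theorem UJ_singleton (i : Fin D.rank) :
    UJ D x {i} = XR D x {r | (Φ D).Pos r ∧ r ≠ simpleF D i} := by
  rw [UJ]
  congr 1
  ext r
  exact and_congr_right fun hr => not_congr (inSub_singleton_iff hr)

theorem Rep.mem_PP {J : Set (Fin D.rank)} {n : G} {w : W D} (h : ChevRel D x) (hn : Rep D x n w)
    (hw : w ∈ parab (cs D) J) : n ∈ PP D x J := by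
  obtain ⟨ω, -, h1, rfl⟩ := (Φ D).exists_reduced_of_mem_parab hw
  have := mul_mem (nW_mem_PP (x := x) h1) (BB_le_PP J (HH_le_BB ((rep_nW ω).inv_mul_mem h hn)))
  simpa using this

theorem cell_subset_PP {J : Set (Fin D.rank)} {w : W D} (h : ChevRel D x)
    (hw : w ∈ parab (cs D) J) : Cell D x w ⊆ PP D x J := by
  rintro _ ⟨b1, h1, n, hn, b2, h2, rfl⟩
  exact mul_mem (mul_mem (BB_le_PP J h1) (hn.mem_PP h hw)) (BB_le_PP J h2)

namespace ChevRel

variable (h : ChevRel D x)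
include h

theorem mem_BB_iff {g : G} : g ∈ BB D x ↔ ∃ u ∈ UU D x, ∃ k ∈ HH D x, g = u * k :=
  mem_sup_iff_of_le_normalizer (h.HH_le_normalizer_XR _)

theorem mem_BB_iff' {g : G} : g ∈ BB D x ↔ ∃ k ∈ HH D x, ∃ u ∈ UU D x, g = k * u :=
  mem_sup_iff_of_le_normalizer' (h.HH_le_normalizer_XR _)

theorem BB_le_normalizer_UU : BB D x ≤ Subgroup.normalizer (UU D x : Set G) :=
  sup_le Subgroup.le_normalizer (h.HH_le_normalizer_XR _)

theorem mem_cell_iff {w : W D} {n g : G} (hn : Rep D x n w) :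
    g ∈ Cell D x w ↔ ∃ b ∈ BB D x, ∃ b' ∈ BB D x, g = b * n * b' := by
  refine ⟨?_, fun ⟨b, hb, b', hb', e⟩ => ⟨b, hb, n, hn, b', hb', e⟩⟩
  rintro ⟨b1, h1, m, hm, b2, h2, rfl⟩
  exact ⟨b1, h1, n⁻¹ * m * b2, mul_mem (HH_le_BB (hn.inv_mul_mem h hm)) h2, by group⟩

theorem cell_eq_doubleCoset {w : W D} {n : G} (hn : Rep D x n w) :
    Cell D x w = DoubleCoset.doubleCoset n (BB D x : Set G) (BB D x) := by
  ext g
  rw [h.mem_cell_iff hn, DoubleCoset.mem_doubleCoset]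
  rfl

theorem mem_cell_one {g : G} : g ∈ Cell D x 1 ↔ g ∈ BB D x := by
  refine ⟨fun hg => ?_, mem_cell_one_of_mem_BB⟩
  obtain ⟨b, hb, b', hb', rfl⟩ := (h.mem_cell_iff rep_one).1 hg
  simpa using mul_mem hb hb'

theorem inv_mem_cell {w : W D} {g : G} (hg : g ∈ Cell D x w) : g⁻¹ ∈ Cell D x w⁻¹ := by
  obtain ⟨b1, h1, n, hn, b2, h2, rfl⟩ := hg
  exact ⟨b2⁻¹, inv_mem h2, n⁻¹, hn.inv h, b1⁻¹, inv_mem h1, by group⟩

theorem _root_.CL.Chev.Rep.conj_Up {w : W D} {n u : G} (hn : Rep D x n w) (hu : u ∈ Up D x w) :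
    n * u * n⁻¹ ∈ UU D x := (hn.acts h).conj_mem_XR (fun _ hr => hr.2) hu

theorem _root_.CL.Chev.Rep.conj_Um {w : W D} {n u : G} (hn : Rep D x n w) (hu : u ∈ Um D x w) :
    n * u * n⁻¹ ∈ VV D x := (hn.acts h).conj_mem_XR (fun _ hr => hr.2) hu

theorem _root_.CL.Chev.Rep.mem_normalizer_UJ {J : Set (Fin D.rank)} {w : W D} {n : G}
    (hn : Rep D x n w) (hw : w ∈ parab (cs D) J) : n ∈ Subgroup.normalizer (UJ D x J : Set G) := by
  refine (hn.acts h).mem_normalizer_XR fun r => ?_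
  simp only [Set.mem_ofPred_eq, (Φ D).inSub_smul_iff hw]
  exact and_congr_left fun hJ => (Φ D).pos_smul_iff_of_not_inSub hw hJ

/-- a representative of the longest element conjugates `U` onto `V` -/
theorem map_conj_UU {n : G} (hn : Rep D x n ((Φ D).w0 Set.univ)) :
    (UU D x).map (MulAut.conj n).toMonoidHom = VV D x :=
  (hn.acts h).map_conj_XR fun r => by
    simp only [Set.mem_ofPred_eq, (Φ D).pos_w0_univ_smul_iff, not_not]

theorem x_mem_PP {J : Set (Fin D.rank)} {r : Fin D.nroots}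
    (hr : (Φ D).Pos r ∨ (Φ D).InSub J r) (t : F) : x r t ∈ PP D x J := by
  rcases hr with hr | hr
  · exact BB_le_PP J (UU_le_BB (x_mem_UU hr t))
  obtain ⟨w, hw, j, hj, rfl⟩ := (Φ D).exists_parab_smul_simple hr
  obtain ⟨n, hn⟩ := exists_rep (x := x) w
  obtain ⟨χ, ha⟩ := hn.acts h
  have h1 := ha.2 ((Φ D).simple j) ((χ ((Φ D).simple j))⁻¹ * t)
  rw [mul_inv_cancel_left₀ (ha.ne_zero _)] at h1
  rw [← h1]
  have h2 := hn.mem_PP h hw
  exact mul_mem (mul_mem h2 (BB_le_PP J (UU_le_BB (x_mem_UU ((Φ D).pos_simple j) _)))) (inv_mem h2)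

theorem PP_eq (J : Set (Fin D.rank)) :
    PP D x J = HH D x ⊔ XR D x {r | (Φ D).Pos r ∨ (Φ D).InSub J r} := by
  refine le_antisymm (sup_le (sup_le ?_ le_sup_left) ?_)
    (sup_le (HH_le_BB.trans (BB_le_PP J)) (XR_le.2 fun r hr t => h.x_mem_PP hr t))
  · exact le_sup_of_le_right (XS_mono fun _ hr => Or.inl hr)
  · rw [Subgroup.closure_le]
    rintro _ ⟨j, hj, rfl⟩
    refine Subgroup.mem_sup_right (nE_mem_XR (r := simpleF D j) (Or.inl ((Φ D).pos_simple j))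
      (Or.inr ?_) 1)
    exact (Φ D).inSub_neg_iff.2 ((Φ D).inSub_simple_iff.2 hj)

theorem PP_univ : PP D x Set.univ = GG D x :=
  le_antisymm (PP_le_GG _) (XR_le.2 fun r _ t => h.x_mem_PP (Or.inr ((Φ D).inSub_univ r)) t)

theorem PP_empty : PP D x ∅ = BB D x := by simp [PP]

theorem BB_sup_NN : BB D x ⊔ NN D x = GG D x := by
  refine le_antisymm (sup_le BB_le_GG NN_le_GG) ?_
  rw [← h.PP_univ]
  refine sup_le_sup_left ?_ _
  rw [Subgroup.closure_le]
  rintro _ ⟨j, -, rfl⟩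
  exact nS_mem_NN j

theorem LJ_le_PP (J : Set (Fin D.rank)) : LJ D x J ≤ PP D x J := by
  rw [h.PP_eq]
  exact sup_le_sup_left (XS_mono fun _ hr => Or.inr hr) _

theorem UJ_sup_LJ (J : Set (Fin D.rank)) : UJ D x J ⊔ LJ D x J = PP D x J := by
  rw [h.PP_eq, LJ, sup_left_comm, UJ, ← XS_union]
  congr 2
  ext r
  simp only [Set.mem_union, Set.mem_ofPred_eq]
  tauto

variable [hR : RootOK D]

theorem PP_le_normalizer_UJ (J : Set (Fin D.rank)) :
    PP D x J ≤ Subgroup.normalizer (UJ D x J : Set G) := by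
  rw [h.PP_eq]
  refine sup_le (h.HH_le_normalizer_XR _) (h.toStRel.XR_le_normalizer ?_ ?_)
  · intro r hr hn
    rw [Set.mem_ofPred_eq, ← htOut_nonneg_iff] at hr
    rw [Set.mem_ofPred_eq, ← htOut_pos_iff, rc_negF, map_neg] at hn
    omega
  · intro r hr t ht k hk
    rw [Set.mem_ofPred_eq, ← htOut_nonneg_iff] at hr
    rw [Set.mem_ofPred_eq, ← htOut_pos_iff] at ht ⊢
    exact hk.pos_of_nonneg hr ht

theorem mem_PP_iff_levi {J : Set (Fin D.rank)} {g : G} :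
    g ∈ PP D x J ↔ ∃ u ∈ UJ D x J, ∃ l ∈ LJ D x J, g = u * l := by
  rw [← h.UJ_sup_LJ]
  exact mem_sup_iff_of_le_normalizer ((h.LJ_le_PP J).trans (h.PP_le_normalizer_UJ J))

/-- `U = U_p X_p` -/
theorem exists_UJ_mul_x (i : Fin D.rank) {u : G} (hu : u ∈ UU D x) :
    ∃ u' ∈ UJ D x {i}, ∃ t, u = u' * x (simpleF D i) t := by
  obtain ⟨a, ha, b, hb, rfl⟩ := h.toStRel.graded_UU.exists_mul (S₁ := {r | ¬ (Φ D).InSub {i} r})
    (S₂ := {simpleF D i}) (fun r hr => by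
      by_cases h' : (Φ D).InSub {i} r
      · exact Or.inr ((inSub_singleton_iff hr).1 h')
      · exact Or.inl h') hu
  obtain ⟨t, rfl⟩ := (h.toStRel.mem_XR_singleton (simpleF D i)).1 (XS_mono Set.inter_subset_right hb)
  exact ⟨a, ha, t, rfl⟩

theorem x_mul_mem_cell {r : Fin D.nroots} {w : W D} (hp : (Φ D).Pos (w⁻¹ • r)) {n : G}
    (hn : Rep D x n w) (t : F) : ∃ u ∈ UU D x, x r t * n = n * u :=
  ⟨_, (hn.acts h).conj_mem_XR' (S := {r}) (T := {r | (Φ D).Pos r}) (by rintro _ rfl; exact hp)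
    (x_mem_XR (Set.mem_singleton r) t), by group⟩

/-- `n_p B w B ⊆ B s_p w B` when `w⁻¹ p > 0` -/
theorem nS_mul_mem_cell_of_pos {i : Fin D.rank} {w : W D} (hp : (Φ D).Pos (w⁻¹ • simpleF D i))
    {g : G} (hg : g ∈ Cell D x w) : nS D x i * g ∈ Cell D x (s D i * w) := by
  obtain ⟨b1, h1, n, hn, b2, h2, rfl⟩ := hg
  obtain ⟨u, hu, k, hk, rfl⟩ := h.mem_BB_iff.1 h1
  obtain ⟨u', hu', t, rfl⟩ := h.exists_UJ_mul_x i hu
  have hn' := hn.HH_mul h hk
  obtain ⟨v, hv, e⟩ := h.x_mul_mem_cell hp hn' t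
  have h3 := conj_mem_of_mem_normalizer
    ((rep_nS i).mem_normalizer_UJ h (simple_mem_parab (cs D) (Set.mem_singleton i))) hu'
  refine ⟨_, UU_le_BB (UJ_le_UU _ h3), _, (rep_nS i).mul h hn', v * b2, mul_mem (UU_le_BB hv) h2, ?_⟩
  calc _ = nS D x i * u' * (x (simpleF D i) t * (k * n)) * b2 := by group
    _ = _ := by rw [e]; group

/-- `n_p B w B ⊆ B s_p w B ∪ B w B` -/
theorem nS_mul_mem_cell (i : Fin D.rank) {w : W D} {g : G} (hg : g ∈ Cell D x w) :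
    nS D x i * g ∈ Cell D x (s D i * w) ∨ nS D x i * g ∈ Cell D x w := by
  by_cases hp : (Φ D).Pos (w⁻¹ • simpleF D i)
  · exact Or.inl (h.nS_mul_mem_cell_of_pos hp hg)
  obtain ⟨b1, h1, n, hn, b2, h2, rfl⟩ := hg
  obtain ⟨u, hu, k, hk, rfl⟩ := h.mem_BB_iff.1 h1
  obtain ⟨u', hu', t, rfl⟩ := h.exists_UJ_mul_x i hu
  have hn' := hn.HH_mul h hk
  have h3 := UU_le_BB (UJ_le_UU _ (conj_mem_of_mem_normalizer
    ((rep_nS i).mem_normalizer_UJ h (simple_mem_parab (cs D) (Set.mem_singleton i))) hu'))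
  have hn'' := (rep_nS i).mul h hn'
  by_cases ht : t = 0
  · refine Or.inl ⟨_, h3, _, hn'', b2, h2, ?_⟩
    rw [ht, h.toStRel.x_zero]; group
  right
  have h4 := h.nE_conj_x_self (simpleF D i) one_ne_zero t
  rw [h.x_neg_eq] at h4
  have hp' : (Φ D).Pos ((s D i * w)⁻¹ • simpleF D i) := by
    rw [mul_inv_rev, (cs D).inv_simple, mul_smul, s_smul_simpleF, smul_negF, ← Φ_neg,
      (Φ D).pos_neg_iff]
    exact hp
  set c : F := (-(1⁻¹ ^ 2 * t))⁻¹ with hc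
  have hc0 : c ≠ 0 := by simp [hc, ht]
  obtain ⟨v, hv, e⟩ := h.x_mul_mem_cell hp' hn'' c
  have h5 : Rep D x (nE D x (simpleF D i) (-c) * (nS D x i * (k * n))) w := by
    have := (h.rep_nE (simpleF D i) (neg_ne_zero.2 hc0)).mul h hn''
    rwa [← Φ_simple, (Φ D).reflection_simple, (cs D).simple_mul_simple_cancel_left] at this
  refine ⟨_, mul_mem h3 (UU_le_BB (x_mem_UU ((Φ D).pos_simple i) c)), _, h5, v * b2,
    mul_mem (UU_le_BB hv) h2, ?_⟩
  change nS D x i * x (simpleF D i) t * (nS D x i)⁻¹ = _ at h4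
  calc _ = nS D x i * u' * (nS D x i)⁻¹ * (nS D x i * x (simpleF D i) t * (nS D x i)⁻¹) *
        (nS D x i * (k * n)) * b2 := by group
    _ = nS D x i * u' * (nS D x i)⁻¹ * x (simpleF D i) c * nE D x (simpleF D i) (-c) *
        (x (simpleF D i) c * (nS D x i * (k * n))) * b2 := by rw [h4]; group
    _ = _ := by rw [e, Φ_simple]; group

theorem mul_mem_cell_of_mem_cell_simple (i : Fin D.rank) {w : W D} {a g : G}
    (ha : a ∈ Cell D x (s D i)) (hg : g ∈ Cell D x w) :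
    a * g ∈ Cell D x (s D i * w) ∨ a * g ∈ Cell D x w := by
  obtain ⟨b, hb, b', hb', rfl⟩ := (h.mem_cell_iff (rep_nS i)).1 ha
  rw [mul_assoc, mul_assoc]
  exact (h.nS_mul_mem_cell i (Cell.mul_left hb' hg)).imp (Cell.mul_left hb) (Cell.mul_left hb)

theorem mul_mem_cell_of_pos {i : Fin D.rank} {w : W D} (hp : (Φ D).Pos (w⁻¹ • simpleF D i)) {a g : G}
    (ha : a ∈ Cell D x (s D i)) (hg : g ∈ Cell D x w) : a * g ∈ Cell D x (s D i * w) := by
  obtain ⟨b, hb, b', hb', rfl⟩ := (h.mem_cell_iff (rep_nS i)).1 ha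
  rw [mul_assoc, mul_assoc]
  exact Cell.mul_left hb (h.nS_mul_mem_cell_of_pos hp (Cell.mul_left hb' hg))

/-- `P_J = B W_J B` -/
theorem mem_PP_iff {J : Set (Fin D.rank)} {g : G} :
    g ∈ PP D x J ↔ ∃ w ∈ parab (cs D) J, g ∈ Cell D x w := by
  refine ⟨fun hg => ?_, fun ⟨w, hw, hg⟩ => cell_subset_PP h hw hg⟩
  have e : PP D x J = Subgroup.closure ((BB D x : Set G) ∪ nS D x '' J) := by
    rw [Subgroup.closure_union, Subgroup.closure_eq, PP]
  have step : ∀ j ∈ J, ∀ a ∈ Cell D x (s D j), ∀ g, (∃ w ∈ parab (cs D) J, g ∈ Cell D x w) →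
      ∃ w ∈ parab (cs D) J, a * g ∈ Cell D x w := by
    rintro j hj a ha g ⟨w, hw, hg⟩
    rcases h.mul_mem_cell_of_mem_cell_simple j ha hg with h1 | h1
    · exact ⟨_, mul_mem (simple_mem_parab _ hj) hw, h1⟩
    · exact ⟨_, hw, h1⟩
  rw [e] at hg
  induction hg using Subgroup.closure_induction_left with
  | one => exact ⟨1, one_mem _, mem_cell_one_of_mem_BB (one_mem _)⟩
  | mul_left a ha g _ ih =>
    rcases ha with ha | ⟨j, hj, rfl⟩
    · obtain ⟨w, hw, hg⟩ := ih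
      exact ⟨w, hw, Cell.mul_left ha hg⟩
    · exact step j hj _ (rep_nS j).mem_cell g ih
  | inv_mul_cancel a ha g _ ih =>
    rcases ha with ha | ⟨j, hj, rfl⟩
    · obtain ⟨w, hw, hg⟩ := ih
      exact ⟨w, hw, Cell.mul_left (inv_mem ha) hg⟩
    · exact step j hj _ (h.rep_nS_inv j).mem_cell g ih

/-- `G = B W B` -/
theorem exists_mem_cell {g : G} (hg : g ∈ GG D x) : ∃ w, g ∈ Cell D x w := by
  rw [← h.PP_univ, h.mem_PP_iff] at hg
  obtain ⟨w, -, hg⟩ := hg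
  exact ⟨w, hg⟩

/-- `B w B = B n U_w^-` -/
theorem exists_bruhat_of_mem_cell {w : W D} {n g : G} (hn : Rep D x n w) (hg : g ∈ Cell D x w) :
    ∃ b ∈ BB D x, ∃ u ∈ Um D x w, g = b * n * u := by
  obtain ⟨b, hb, b', hb', rfl⟩ := (h.mem_cell_iff hn).1 hg
  obtain ⟨k, hk, u, hu, rfl⟩ := h.mem_BB_iff'.1 hb'
  obtain ⟨a, ha, c, hc, rfl⟩ := h.toStRel.exists_Up_mul_Um w hu
  refine ⟨b * (n * k * n⁻¹) * (n * a * n⁻¹), mul_mem (mul_mem hb
    (HH_le_BB ((hn.acts h).conj_mem_HH h.toStRel hk))) (UU_le_BB (hn.conj_Up h ha)), c, hc, by group⟩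

/-- `B w B = ⋃ U n U_w^-` over the representatives `n` of `w` -/
theorem exists_bruhat_of_mem_cell' {w : W D} {g : G} (hg : g ∈ Cell D x w) :
    ∃ u ∈ UU D x, ∃ n, Rep D x n w ∧ ∃ u' ∈ Um D x w, g = u * n * u' := by
  obtain ⟨n, hn⟩ := exists_rep (x := x) w
  obtain ⟨b, hb, u', hu', rfl⟩ := h.exists_bruhat_of_mem_cell hn hg
  obtain ⟨u, hu, k, hk, rfl⟩ := h.mem_BB_iff.1 hb
  exact ⟨u, hu, k * n, hn.HH_mul h hk, u', hu', by group⟩

/-- Bruhat decomposition, existence -/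
theorem exists_bruhat {g : G} (hg : g ∈ GG D x) :
    ∃ (w : W D), ∃ u ∈ UU D x, ∃ n, Rep D x n w ∧ ∃ u' ∈ Um D x w, g = u * n * u' := by
  obtain ⟨w, hw⟩ := h.exists_mem_cell hg
  exact ⟨w, h.exists_bruhat_of_mem_cell' hw⟩

theorem coe_PP_singleton (i : Fin D.rank) :
    (PP D x {i} : Set G) = (BB D x : Set G) ∪ Cell D x (s D i) := by
  ext g
  rw [SetLike.mem_coe, h.mem_PP_iff]
  constructor
  · rintro ⟨w, hw, hg⟩
    have : w = 1 ∨ w = s D i := by
      refine parab_induction_left (cs D) (p := fun w => w = 1 ∨ w = s D i) (Or.inl rfl) ?_ hw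
      rintro j rfl w - (rfl | rfl)
      · exact Or.inr (mul_one _)
      · exact Or.inl ((cs D).simple_mul_simple_self _)
    rcases this with rfl | rfl
    · exact Or.inl (h.mem_cell_one.1 hg)
    · exact Or.inr hg
  · rintro (hg | hg)
    · exact ⟨1, one_mem _, h.mem_cell_one.2 hg⟩
    · exact ⟨_, simple_mem_parab _ (Set.mem_singleton i), hg⟩

theorem isSolvable_BB : Group.IsSolvable (BB D x) := by
  have hU : Group.IsNilpotent (UU D x) := h.toStRel.isNilpotent_UU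
  have hH := h.isMulCommutative_HH
  have hN : ((UU D x).subgroupOf (BB D x)).Normal :=
    (Subgroup.normal_subgroupOf_iff_le_normalizer UU_le_BB).2 h.BB_le_normalizer_UU
  have h1 : Group.IsSolvable ((UU D x).subgroupOf (BB D x)) :=
    Group.isSolvable_of_isSolvable_injective
      (f := (Subgroup.subgroupOfEquivOfLe UU_le_BB).toMonoidHom) (MulEquiv.injective _)
  have h2 : Group.IsSolvable (BB D x ⧸ (UU D x).subgroupOf (BB D x)) := by
    have : Group.IsSolvable (HH D x) := by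
      let : CommGroup (HH D x) := { (inferInstance : Group (HH D x)) with mul_comm := hH.1.1 }
      infer_instance
    refine Group.isSolvable_of_surjective
      (f := (QuotientGroup.mk' _).comp (Subgroup.inclusion (HH_le_BB (D := D) (x := x)))) ?_
    intro q
    obtain ⟨⟨b, hb⟩, rfl⟩ := QuotientGroup.mk'_surjective _ q
    obtain ⟨k, hk, u, hu, rfl⟩ := h.mem_BB_iff'.1 hb
    refine ⟨⟨k, hk⟩, ?_⟩
    simp only [MonoidHom.comp_apply, QuotientGroup.mk'_apply, QuotientGroup.eq, Subgroup.mem_subgroupOf]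
    simpa using hu
  exact Group.isSolvable_of_ker_le_range ((UU D x).subgroupOf (BB D x)).subtype
    (QuotientGroup.mk' ((UU D x).subgroupOf (BB D x))) (by simp)

end ChevRel

end CL.Chev
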