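import Cfsg.Agent.Base
import Cfsg.Agent.Chev.TwField

/-!
Fixed points of the twisting endomorphism in the groups `U_J`, for the types of orbits `J` that occur
(A₁, A₁×A₁, A₁×A₁×A₁, B₂, G₂), for families of elements of an arbitrary group.
-/

set_option autoImplicit false

namespace CL.Tw

variable {K : Type*} [Field K] {G : Type*} [Group G] {σ : G →* G} {Q : Subgroup G}

theorem fixA {xa : K → G} {φ : K → K} (hQ : ∀ g, g ∈ Q ↔ ∃ t, g = xa t) (inj : Function.Injective xa)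
    (hσ : ∀ t, σ (xa t) = xa (φ t)) (g : G) : g ∈ Q ∧ σ g = g ↔ ∃ t, φ t = t ∧ g = xa t := by
  constructor
  · rintro ⟨h1, h2⟩
    obtain ⟨t, rfl⟩ := (hQ g).1 h1
    rw [hσ] at h2
    exact ⟨t, inj h2, rfl⟩
  · rintro ⟨t, ht, rfl⟩
    exact ⟨(hQ _).2 ⟨t, rfl⟩, by rw [hσ, ht]⟩

theorem fixB {xa xb : K → G} {φ ψ : K → K} (hQ : ∀ g, g ∈ Q ↔ ∃ t u, g = xa t * xb u)
    (inj : ∀ t u t' u', xa t * xb u = xa t' * xb u' → t = t' ∧ u = u')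
    (hc : ∀ t u, xb u * xa t = xa t * xb u)
    (hσa : ∀ t, σ (xa t) = xb (φ t)) (hσb : ∀ t, σ (xb t) = xa (ψ t)) (g : G) :
    g ∈ Q ∧ σ g = g ↔ ∃ t u, φ t = u ∧ ψ u = t ∧ g = xa t * xb u := by
  constructor
  · rintro ⟨h1, h2⟩
    obtain ⟨t, u, rfl⟩ := (hQ g).1 h1
    rw [map_mul, hσa, hσb, hc] at h2
    obtain ⟨e1, e2⟩ := inj _ _ _ _ h2
    exact ⟨t, u, e2, e1, rfl⟩
  · rintro ⟨t, u, h1, h2, rfl⟩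
    exact ⟨(hQ _).2 ⟨t, u, rfl⟩, by rw [map_mul, hσa, hσb, hc, h1, h2]⟩

theorem fixC {xa xb xc : K → G} {φ : K → K} (hQ : ∀ g, g ∈ Q ↔ ∃ t u v, g = xa t * xb u * xc v)
    (inj : ∀ t u v t' u' v', xa t * xb u * xc v = xa t' * xb u' * xc v' → t = t' ∧ u = u' ∧ v = v')
    (hab : ∀ t u, xb u * xa t = xa t * xb u) (hac : ∀ t u, xc u * xa t = xa t * xc u)
    (hσa : ∀ t, σ (xa t) = xb (φ t)) (hσb : ∀ t, σ (xb t) = xc (φ t)) (hσc : ∀ t, σ (xc t) = xa (φ t))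
    (hφ : ∀ t, φ (φ (φ t)) = t) (g : G) :
    g ∈ Q ∧ σ g = g ↔ ∃ t, g = xa t * xb (φ t) * xc (φ (φ t)) := by
  have key : ∀ t u v, σ (xa t * xb u * xc v) = xa (φ v) * xb (φ t) * xc (φ u) := by
    intro t u v
    rw [map_mul, map_mul, hσa, hσb, hσc, mul_assoc, hac, ← mul_assoc, hab]
  constructor
  · rintro ⟨h1, h2⟩
    obtain ⟨t, u, v, rfl⟩ := (hQ g).1 h1
    rw [key] at h2
    obtain ⟨-, e2, e3⟩ := inj _ _ _ _ _ _ h2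
    exact ⟨t, by rw [e2, e3]⟩
  · rintro ⟨t, rfl⟩
    exact ⟨(hQ _).2 ⟨_, _, _, rfl⟩, by rw [key, hφ]⟩

/-- Orbit of type B₂ in characteristic 2. -/
theorem fixE [CharP K 2] {xa xb xc xd : K → G} {e : ℕ} (hθ : ∀ t : K, ((t ^ e) ^ e) ^ 2 = t)
    (he : ∀ t u : K, (t + u) ^ e = t ^ e + u ^ e)
    (hQ : ∀ g, g ∈ Q ↔ ∃ t u v w, g = xa t * xb u * xc v * xd w)
    (inj : ∀ t u v w t' u' v' w', xa t * xb u * xc v * xd w = xa t' * xb u' * xc v' * xd w' →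
      t = t' ∧ u = u' ∧ v = v' ∧ w = w')
    (hba : ∀ t u, xb u * xa t = xa t * xb u * (xc (t * u) * xd (t ^ 2 * u)))
    (hcd : ∀ t u, xd u * xc t = xc t * xd u) (hc : ∀ t u, xc t * xc u = xc (t + u))
    (hd : ∀ t u, xd t * xd u = xd (t + u))
    (hσa : ∀ t, σ (xa t) = xb ((t ^ e) ^ 2)) (hσb : ∀ t, σ (xb t) = xa (t ^ e))
    (hσc : ∀ t, σ (xc t) = xd ((t ^ e) ^ 2)) (hσd : ∀ t, σ (xd t) = xc (t ^ e)) (g : G) :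
    g ∈ Q ∧ σ g = g ↔ ∃ t u, g = xa (t ^ e) * xb t * xc (t ^ (e + 1) + u) * xd (u ^ (2 * e)) := by
  have key : ∀ t u v w, σ (xa t * xb u * xc v * xd w) = xa (u ^ e) * xb ((t ^ e) ^ 2) *
      xc (u ^ e * (t ^ e) ^ 2 + w ^ e) * xd ((u ^ e) ^ 2 * (t ^ e) ^ 2 + (v ^ e) ^ 2) := by
    intro t u v w
    rw [map_mul, map_mul, map_mul, hσa, hσb, hσc, hσd, hba, ← hc, ← hd]
    simp only [mul_assoc]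
    congr 3
    rw [← mul_assoc, hd, hcd]
  have h2e : ∀ u : K, u ^ (2 * e) = (u ^ e) ^ 2 := fun u => by rw [mul_comm, pow_mul]
  have hθ' : ∀ u : K, ((u ^ e) ^ 2) ^ e = u := fun u => by rw [← pow_mul, mul_comm 2 e, pow_mul, hθ]
  constructor
  · rintro ⟨h1, h2⟩
    obtain ⟨t, u, v, w, rfl⟩ := (hQ g).1 h1
    rw [key] at h2
    obtain ⟨e1, e2, e3, -⟩ := inj _ _ _ _ _ _ _ _ h2
    refine ⟨u, w ^ e, ?_⟩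
    rw [h2e, hθ, pow_succ, e1]
    rw [e1, e2] at e3
    rw [e3]
  · rintro ⟨t, u, rfl⟩
    refine ⟨(hQ _).2 ⟨_, _, _, _, rfl⟩, ?_⟩
    rw [key, hθ, h2e, hθ', pow_succ t e, he, mul_pow (t ^ e), CharTwo.add_sq, mul_pow, hθ]
    congr 2
    linear_combination ((t ^ e) ^ 2 * t) * (CharTwo.two_eq_zero (R := K))

/-- Orbit of type G₂ in characteristic 3. -/
theorem fixF [CharP K 3] {x₁ x₂ x₃ x₄ x₅ x₆ : K → G} {e : ℕ} (hθ : ∀ t : K, ((t ^ e) ^ e) ^ 3 = t)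
    (he : ∀ t u : K, (t + u) ^ e = t ^ e + u ^ e)
    (hQ : ∀ g, g ∈ Q ↔ ∃ t₁ t₂ t₃ t₄ t₅ t₆, g = x₁ t₁ * x₂ t₂ * x₃ t₃ * x₄ t₄ * x₅ t₅ * x₆ t₆)
    (inj : ∀ t₁ t₂ t₃ t₄ t₅ t₆ u₁ u₂ u₃ u₄ u₅ u₆, x₁ t₁ * x₂ t₂ * x₃ t₃ * x₄ t₄ * x₅ t₅ * x₆ t₆ =
      x₁ u₁ * x₂ u₂ * x₃ u₃ * x₄ u₄ * x₅ u₅ * x₆ u₆ → t₁ = u₁ ∧ t₂ = u₂ ∧ t₃ = u₃ ∧ t₄ = u₄ ∧ t₅ = u₅ ∧ t₆ = u₆)
    (h21 : ∀ t u, x₂ u * x₁ t = x₁ t * x₂ u * (x₃ (t * u) * x₄ (t ^ 2 * u) * x₅ (-(t ^ 3 * u)) * x₆ (-(t ^ 3 * u ^ 2))))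
    (h34 : ∀ t u, Commute (x₃ t) (x₄ u)) (h35 : ∀ t u, Commute (x₃ t) (x₅ u)) (h36 : ∀ t u, Commute (x₃ t) (x₆ u))
    (h45 : ∀ t u, Commute (x₄ t) (x₅ u)) (h46 : ∀ t u, Commute (x₄ t) (x₆ u)) (h56 : ∀ t u, Commute (x₅ t) (x₆ u))
    (h3 : ∀ t u, x₃ t * x₃ u = x₃ (t + u)) (h4 : ∀ t u, x₄ t * x₄ u = x₄ (t + u))
    (h5 : ∀ t u, x₅ t * x₅ u = x₅ (t + u)) (h6 : ∀ t u, x₆ t * x₆ u = x₆ (t + u))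
    (hσ1 : ∀ t, σ (x₁ t) = x₂ ((t ^ e) ^ 3)) (hσ2 : ∀ t, σ (x₂ t) = x₁ (t ^ e))
    (hσ3 : ∀ t, σ (x₃ t) = x₅ ((t ^ e) ^ 3)) (hσ4 : ∀ t, σ (x₄ t) = x₆ ((t ^ e) ^ 3))
    (hσ5 : ∀ t, σ (x₅ t) = x₃ (t ^ e)) (hσ6 : ∀ t, σ (x₆ t) = x₄ (t ^ e)) (g : G) :
    g ∈ Q ∧ σ g = g ↔ ∃ t u v, g = x₁ (t ^ e) * x₂ t * x₃ (t ^ (e + 1) + u ^ e) * x₄ (t ^ (2 * e + 1) + v ^ e) *
      x₅ u * x₆ v := by
  have mulA : ∀ a b c d a' b' c' d', x₃ a * x₄ b * x₅ c * x₆ d * (x₅ c' * x₆ d' * x₃ a' * x₄ b') =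
      x₃ (a + a') * x₄ (b + b') * x₅ (c + c') * x₆ (d + d') := by
    intro a b c d a' b' c' d'
    have e1 : x₅ c' * x₆ d' * x₃ a' * x₄ b' = x₃ a' * x₄ b' * (x₅ c' * x₆ d') := by
      rw [mul_assoc (x₅ c' * x₆ d')]
      exact (((h35 a' c').mul_right (h36 a' d')).mul_left ((h45 b' c').mul_right (h46 b' d'))).eq.symm
    have e2 : x₅ c * x₆ d * (x₃ a' * x₄ b') = x₃ a' * x₄ b' * (x₅ c * x₆ d) :=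
      (((h35 a' c).mul_right (h36 a' d)).mul_left ((h45 b' c).mul_right (h46 b' d))).eq.symm
    calc x₃ a * x₄ b * x₅ c * x₆ d * (x₅ c' * x₆ d' * x₃ a' * x₄ b')
        = x₃ a * x₄ b * (x₅ c * x₆ d * (x₃ a' * x₄ b')) * (x₅ c' * x₆ d') := by rw [e1]; group
      _ = x₃ a * (x₄ b * x₃ a') * x₄ b' * x₅ c * (x₆ d * x₅ c') * x₆ d' := by rw [e2]; group
      _ = x₃ a * x₃ a' * (x₄ b * x₄ b') * (x₅ c * x₅ c') * (x₆ d * x₆ d') := by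
        rw [← (h34 a' b).eq, ← (h56 c' d).eq]; group
      _ = _ := by rw [h3, h4, h5, h6]
  have key : ∀ t₁ t₂ t₃ t₄ t₅ t₆, σ (x₁ t₁ * x₂ t₂ * x₃ t₃ * x₄ t₄ * x₅ t₅ * x₆ t₆) =
      x₁ (t₂ ^ e) * x₂ ((t₁ ^ e) ^ 3) * x₃ (t₂ ^ e * (t₁ ^ e) ^ 3 + t₅ ^ e) *
        x₄ ((t₂ ^ e) ^ 2 * (t₁ ^ e) ^ 3 + t₆ ^ e) * x₅ (-((t₂ ^ e) ^ 3 * (t₁ ^ e) ^ 3) + (t₃ ^ e) ^ 3) *
        x₆ (-((t₂ ^ e) ^ 3 * ((t₁ ^ e) ^ 3) ^ 2) + (t₄ ^ e) ^ 3) := by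
    intro t₁ t₂ t₃ t₄ t₅ t₆
    simp only [map_mul, hσ1, hσ2, hσ3, hσ4, hσ5, hσ6]
    rw [h21]
    have := mulA (t₂ ^ e * (t₁ ^ e) ^ 3) ((t₂ ^ e) ^ 2 * (t₁ ^ e) ^ 3) (-((t₂ ^ e) ^ 3 * (t₁ ^ e) ^ 3))
      (-((t₂ ^ e) ^ 3 * ((t₁ ^ e) ^ 3) ^ 2)) (t₅ ^ e) (t₆ ^ e) ((t₃ ^ e) ^ 3) ((t₄ ^ e) ^ 3)
    simp only [mul_assoc] at this ⊢
    rw [this]
  have : Fact (Nat.Prime 3) := ⟨by norm_num⟩
  have p1 : ∀ t : K, t ^ (e + 1) = t ^ e * t := fun t => pow_succ t e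
  have p2 : ∀ t : K, t ^ (2 * e + 1) = (t ^ e) ^ 2 * t := fun t => by rw [pow_succ, mul_comm 2 e, pow_mul]
  constructor
  · rintro ⟨h1, h2⟩
    obtain ⟨t₁, t₂, t₃, t₄, t₅, t₆, rfl⟩ := (hQ g).1 h1
    rw [key] at h2
    obtain ⟨e1, e2, e3, e4, -, -⟩ := inj _ _ _ _ _ _ _ _ _ _ _ _ h2
    refine ⟨t₂, t₅, t₆, ?_⟩
    rw [e2] at e3 e4
    rw [p1, p2, e3, e4, e1]
  · rintro ⟨t, u, v, rfl⟩
    refine ⟨(hQ _).2 ⟨_, _, _, _, _, _, rfl⟩, ?_⟩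
    rw [key, hθ, p1, p2, he, he, add_pow_char, add_pow_char, hθ, hθ, mul_pow, mul_pow, mul_pow, mul_pow, hθ,
      ← pow_mul (t ^ e) 2 e, mul_comm 2 e, pow_mul (t ^ e) e 2, ← pow_mul ((t ^ e) ^ e) 2 3, mul_comm 2 3,
      pow_mul ((t ^ e) ^ e) 3 2, hθ]
    congr 2
    · congr 1; ring
    · ring

end CL.Tw
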