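import Cfsg.Agent.Base
import Cfsg.Agent.Chev.TwMk
import Cfsg.Agent.Chev.TwFix
import Cfsg.Agent.Chev.TwCoef
import Cfsg.Agent.Chev.WeylWord

/-!
Normal forms in the groups generated by short explicit lists of root subgroups; explicit description of the sets
`Φ_J^±` and of the elements `w₀^J`.
-/

set_option autoImplicit false
set_option linter.unusedSectionVars false

namespace CL.Tw

open Cfsg Cfsg.Lie Cfsg.Lie.ChevalleyDatum CL.ChevM CL.Weyl CL.Cox CL.WC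

variable {D : ChevalleyDatum} {η : ℕ → ℕ → ℤ} (C : Core D η) {K : Type*} [Field K]

variable (D) in
/-- The set of roots whose index lies in a list. -/
def LS (l : List ℕ) : Set (Fin D.nroots) := {r | (r : ℕ) ∈ l}

theorem xG_mem_LS {l : List ℕ} {r : ℕ} (h : r < D.nroots) (hr : r ∈ l) (t : K) : xG C r t ∈ XSg C K (LS D l) :=
  xG_mem_XSg' C h hr t

variable (D) in
/-- The table conditions for `X_a` to normalise `X_l` and to meet it trivially. -/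
def ConsOK (a : ℕ) (l : List ℕ) (c : List ℤ) : Prop :=
  a < D.nroots ∧ ∑ i ∈ Finset.range D.rank, c.getD i 0 * D.cartan i a ≤ 0 ∧
    ∀ s ∈ l, s < D.nroots ∧ s ≠ a ∧ s ≠ D.neg a ∧ (∀ q ∈ D.commTerms a s, q.1 ∈ l) ∧
      0 < ∑ i ∈ Finset.range D.rank, c.getD i 0 * D.cartan i s

instance instDecidableConsOK (a : ℕ) (l : List ℕ) (c : List ℤ) : Decidable (ConsOK D a l c) := by
  unfold ConsOK; infer_instance

variable {a : ℕ} {l : List ℕ} {c : List ℤ}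

theorem ConsOK.conj_mem (h : ConsOK D a l c) (t : K) {g : ↥(D.group K)} (hg : g ∈ XSg C K (LS D l)) :
    xG C a t * g * (xG C a t)⁻¹ ∈ XSg C K (LS D l) := by
  refine conj_mem_XSg C (fun s hs u => ?_) hg
  obtain ⟨h1, h2, h3, h4, -⟩ := h.2.2 s hs
  rw [xG_inv, mul_assoc, xG_comm C h.1 h1 h2 h3, ← mul_assoc, ← mul_assoc, xG_add, add_neg_cancel, xG_zero, one_mul]
  refine mul_mem (xG_mem_XSg C hs _) (list_prod_mem fun y hy => ?_)
  simp only [commWord, List.map_map, List.mem_map, Function.comp] at hy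
  obtain ⟨q, hq, rfl⟩ := hy
  exact xG_mem_LS C (C.commTerms_lt h.1 h1 q hq) (h4 q hq) _

theorem ConsOK.mem_iff (h : ConsOK D a l c) (g : ↥(D.group K)) :
    g ∈ XSg C K (LS D (a :: l)) ↔ ∃ t, ∃ b ∈ XSg C K (LS D l), g = xG C a t * b := by
  constructor
  · exact exists_split' C (p := ⟨a, h.1⟩) (fun r hr => (List.mem_cons.1 hr).imp_left Fin.ext)
      fun t g hg => h.conj_mem C t hg
  · rintro ⟨t, b, hb, rfl⟩
    exact mul_mem (xG_mem_LS C h.1 (by simp) t) (XSg_mono C (fun r hr => List.mem_cons_of_mem a hr) hb)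

theorem ConsOK.unique (h : ConsOK D a l c) {t t' : K} {b b' : ↥(D.group K)} (hb : b ∈ XSg C K (LS D l))
    (hb' : b' ∈ XSg C K (LS D l)) (e : xG C a t * b = xG C a t' * b') : t = t' ∧ b = b' := by
  let L : (Fin D.rank → ℤ) →+ ℤ :=
    { toFun := fun v => ∑ i : Fin D.rank, c.getD i 0 * v i
      map_zero' := by simp
      map_add' := fun v w => by simp [mul_add, Finset.sum_add_distrib] }
  have hL : ∀ r, L (wt D r) = ∑ i ∈ Finset.range D.rank, c.getD i 0 * D.cartan i r := fun r => by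
    rw [Finset.sum_range]; rfl
  exact split_unique C L (p := ⟨a, h.1⟩) (fun r hr => by rw [hL]; exact (h.2.2 r hr).2.2.2.2)
    (by rw [hL]; exact h.2.1) hb hb' e

theorem mem_LS1 (ha : a < D.nroots) (g : ↥(D.group K)) : g ∈ XSg C K (LS D [a]) ↔ ∃ t, g = xG C a t := by
  have : LS D [a] = {⟨a, ha⟩} := by ext r; simp [LS, Fin.ext_iff]
  rw [this, mem_XSg_singleton]

theorem mem_LS2 {b : ℕ} (h : ConsOK D a [b] c) (g : ↥(D.group K)) :
    g ∈ XSg C K (LS D [a, b]) ↔ ∃ t u, g = xG C a t * xG C b u := by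
  simp only [h.mem_iff C, mem_LS1 C (h.2.2 b (by simp)).1]
  exact ⟨fun ⟨t, _, ⟨u, rfl⟩, e⟩ => ⟨t, u, e⟩, fun ⟨t, u, e⟩ => ⟨t, _, ⟨u, rfl⟩, e⟩⟩

theorem inj_LS2 {b : ℕ} (h : ConsOK D a [b] c) (t u t' u' : K) (e : xG C a t * xG C b u = xG C a t' * xG C b u') :
    t = t' ∧ u = u' := by
  have hb := (h.2.2 b (by simp)).1
  obtain ⟨h1, h2⟩ := h.unique C (xG_mem_LS C hb (by simp) u) (xG_mem_LS C hb (by simp) u') e
  exact ⟨h1, xG_injective C hb h2⟩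

theorem mem_LS3 {b d : ℕ} {c' : List ℤ} (h : ConsOK D a [b, d] c) (h' : ConsOK D b [d] c') (g : ↥(D.group K)) :
    g ∈ XSg C K (LS D [a, b, d]) ↔ ∃ t u v, g = xG C a t * xG C b u * xG C d v := by
  simp only [h.mem_iff C, mem_LS2 C h', mul_assoc]
  exact ⟨fun ⟨t, _, ⟨u, v, rfl⟩, e⟩ => ⟨t, u, v, e⟩, fun ⟨t, u, v, e⟩ => ⟨t, _, ⟨u, v, rfl⟩, e⟩⟩

theorem inj_LS3 {b d : ℕ} {c' : List ℤ} (h : ConsOK D a [b, d] c) (h' : ConsOK D b [d] c') (t u v t' u' v' : K)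
    (e : xG C a t * xG C b u * xG C d v = xG C a t' * xG C b u' * xG C d v') : t = t' ∧ u = u' ∧ v = v' := by
  rw [mul_assoc, mul_assoc] at e
  obtain ⟨h1, h2⟩ := h.unique C ((mem_LS2 C h' _).2 ⟨_, _, rfl⟩) ((mem_LS2 C h' _).2 ⟨_, _, rfl⟩) e
  exact ⟨h1, inj_LS2 C h' _ _ _ _ h2⟩

theorem mem_LS4 {b d f : ℕ} {c' c'' : List ℤ} (h : ConsOK D a [b, d, f] c) (h' : ConsOK D b [d, f] c')
    (h'' : ConsOK D d [f] c'') (g : ↥(D.group K)) :
    g ∈ XSg C K (LS D [a, b, d, f]) ↔ ∃ t u v w, g = xG C a t * xG C b u * xG C d v * xG C f w := by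
  simp only [h.mem_iff C, mem_LS3 C h' h'', mul_assoc]
  exact ⟨fun ⟨t, _, ⟨u, v, w, rfl⟩, e⟩ => ⟨t, u, v, w, e⟩, fun ⟨t, u, v, w, e⟩ => ⟨t, _, ⟨u, v, w, rfl⟩, e⟩⟩

theorem inj_LS4 {b d f : ℕ} {c' c'' : List ℤ} (h : ConsOK D a [b, d, f] c) (h' : ConsOK D b [d, f] c')
    (h'' : ConsOK D d [f] c'') (t u v w t' u' v' w' : K)
    (e : xG C a t * xG C b u * xG C d v * xG C f w = xG C a t' * xG C b u' * xG C d v' * xG C f w') :
    t = t' ∧ u = u' ∧ v = v' ∧ w = w' := by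
  simp only [mul_assoc] at e
  obtain ⟨h1, h2⟩ := h.unique C ((mem_LS3 C h' h'' _).2 ⟨_, _, _, (mul_assoc _ _ _).symm⟩)
    ((mem_LS3 C h' h'' _).2 ⟨_, _, _, (mul_assoc _ _ _).symm⟩) e
  exact ⟨h1, inj_LS3 C h' h'' _ _ _ _ _ _ (by rw [mul_assoc, mul_assoc, h2])⟩

theorem ncard_LS (hl : l.Nodup ∧ ∀ r ∈ l, r < D.nroots) : (LS D l).ncard = l.length := by
  rw [← Set.ncard_image_of_injective _ Fin.val_injective, ← List.toFinset_card_of_nodup hl.1, ← Set.ncard_coe_finset]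
  congr 1
  ext r
  simp only [Set.mem_image, LS, Set.mem_ofPred_eq, List.coe_toFinset]
  exact ⟨fun ⟨_, h, e⟩ => e ▸ h, fun h => ⟨⟨r, hl.2 r h⟩, h, rfl⟩⟩

variable [WeylOK D] {T : Fast}

theorem inSub_iff (h : FastW D T) {J : Set (Fin D.rank)} {lJ : List ℕ} (hJ : ∀ k, k ∈ J ↔ (k : ℕ) ∈ lJ)
    (r : Fin D.nroots) : (Φ D).InSub J r ↔ ∀ k < T.l, k ∉ lJ → T.cor r k = 0 := by
  rw [← h.agree.l, ← h.agree.cor]
  exact ⟨fun H k hk hk' => H ⟨k, hk⟩ fun e => hk' ((hJ _).1 e), fun H k hk => H k k.2 fun e => hk ((hJ _).2 e)⟩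

theorem pos_inSub_eq (h : FastW D T) {J : Set (Fin D.rank)} {lJ : List ℕ} (hJ : ∀ k, k ∈ J ↔ (k : ℕ) ∈ lJ)
    (hl : ∀ r < T.n, (T.n / 2 ≤ r ∧ ∀ k < T.l, k ∉ lJ → T.cor r k = 0) ↔ r ∈ l) :
    {r | (Φ D).Pos r ∧ (Φ D).InSub J r} = LS D l := by
  ext r
  rw [Set.mem_ofPred_eq, h.pos_iff, inSub_iff h hJ]
  exact hl r (h.agree.n ▸ r.2)

theorem neg_inSub_eq (h : FastW D T) {J : Set (Fin D.rank)} {lJ : List ℕ} (hJ : ∀ k, k ∈ J ↔ (k : ℕ) ∈ lJ)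
    (hl : ∀ r < T.n, (r < T.n / 2 ∧ ∀ k < T.l, k ∉ lJ → T.cor r k = 0) ↔ r ∈ l) :
    {r | ¬ (Φ D).Pos r ∧ (Φ D).InSub J r} = LS D l := by
  ext r
  rw [Set.mem_ofPred_eq, h.pos_iff, inSub_iff h hJ, not_le]
  exact hl r (h.agree.n ▸ r.2)

theorem w0_eq_wordN (h : FastW D T) {J : Set (Fin D.rank)} {lJ : List ℕ} (hJ : ∀ k, k ∈ J ↔ (k : ℕ) ∈ lJ)
    {ω : List ℕ} (hω : allL ω (fun i => Nat.blt i T.l) = true ∧ (∀ i ∈ ω, i ∈ lJ) ∧
      ∀ j ∈ lJ, actN T ω (T.sim j) < T.n / 2) : (Φ D).w0 J = wordN D ω := by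
  refine ((Φ D).eq_w0 (wordN_mem_parab D fun i hi => (hJ i).2 (hω.2.1 i hi)) fun j hj => ?_).symm
  rw [h.pos_iff, h.val_wordN_smul hω.1, Φ_simple, h.val_simpleF, not_le]
  exact hω.2.2 j ((hJ j).1 hj)

theorem ncard_PP (h : FastW D T) : (PP D).ncard = T.n - T.n / 2 := by
  have : PP D = LS D (List.range' (T.n / 2) (T.n - T.n / 2)) := by
    ext r
    have : (r : ℕ) < T.n := h.agree.n ▸ r.2
    rw [PP, Set.mem_ofPred_eq, h.pos_iff, LS, Set.mem_ofPred_eq, List.mem_range'_1]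
    omega
  rw [this, ncard_LS ⟨List.nodup_range' .., fun r hr => by rw [List.mem_range'_1] at hr; rw [h.agree.n]; omega⟩,
    List.length_range']

/-- A diagram symmetry given by tables. -/
def mkDiagAut (h : FastW D T) (ρ : Equiv.Perm (Fin D.nroots)) (π : Equiv.Perm (Fin D.rank)) (ρN πN : ℕ → ℕ)
    (hρ : ∀ r, (ρ r : ℕ) = ρN r) (hπ : ∀ i, (π i : ℕ) = πN i)
    (hc : ∀ i < T.l, ρN (T.sim i) = T.sim (πN i) ∧ ∀ r < T.n, ρN (T.wN i r) = T.wN (πN i) (ρN r)) :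
    DiagAut (Φ D) where
  ρ := ρ
  π := π
  ρ_simple i := Fin.ext (by
    rw [hρ, Φ_simple, Φ_simple, h.val_simpleF, h.val_simpleF, hπ]; exact (hc i (h.agree.l ▸ i.2)).1)
  ρ_simple_smul i r := Fin.ext (by
    rw [hρ, h.val_s_smul, h.val_s_smul, hπ, hρ]; exact (hc i (h.agree.l ▸ i.2)).2 r (h.agree.n ▸ r.2))

variable [CoefOK D] {ι : Type*}

/-- The twisted group is generated by given words if these describe the fixed points in the `X_J^±`. -/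
theorem TwData.genSubgroup_eq {C : Core D η} (T : TwData C K ι) (S : Set (List (ℕ × K)))
    (h1 : ∀ w ∈ S, wG C w ∈ T.sys.G1)
    (h2 : ∀ j, ∀ g ∈ T.sys.Uw (T.sys.wJ j), T.σ g = g → ∃ w ∈ S, g = wG C w)
    (h3 : ∀ j, ∀ g ∈ T.sys.XS (ninvS T.sys.P (T.sys.wJ j)), T.σ g = g → ∃ w ∈ S, g = wG C w) :
    D.genSubgroup K S = T.sys.G1.map (D.group K).subtype := by
  rw [subgroupOf_genSubgroup C]
  congr 1
  refine le_antisymm ((Subgroup.closure_le _).2 ?_) (iSup_le fun j => sup_le ?_ ?_)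
  · rintro _ ⟨w, hw, rfl⟩; exact h1 w hw
  · intro g hg
    obtain ⟨w, hw, rfl⟩ := h2 j g hg.1 hg.2
    exact Subgroup.subset_closure ⟨w, hw, rfl⟩
  · intro g hg
    obtain ⟨w, hw, rfl⟩ := h3 j g hg.1 hg.2
    exact Subgroup.subset_closure ⟨w, hw, rfl⟩

/-- The order formula. -/
theorem TwData.card_G1 {C : Core D η} (T : TwData C K ι) [Finite K] [Fintype T.τ.fixed] {q k : ℕ} (hk : 0 < k)
    (hJ : ∀ j, ∃ e, Nat.card ↥(T.sys.Uw (T.sys.wJ j) ⊓ T.sys.Fix) = q ^ e ∧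
      k * e = (invS T.sys.P (T.sys.wJ j)).ncard) :
    Nat.card T.sys.G1 = q ^ ((PP D).ncard / k) * Nat.card ↥((tor C (K := K)).range ⊓ T.sys.G1) *
      ∑ w : T.τ.fixed, q ^ ((cs D).length (w : W D) / k) := by
  have : Finite ↥(D.group K) := inferInstance
  have h := @TwSys.card_G1 _ _ _ _ _ _ _ T.sys _ _ (inferInstanceAs (Fintype T.τ.fixed))
  rw [h, TwSys.card_U_inf_G1 hk hJ]
  congr 1
  refine Finset.sum_congr rfl fun w _ => ?_
  rw [TwSys.card_Uw_div hk hJ w.2, ← ncard_invS]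
  rfl

end CL.Tw
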