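import Cfsg.Agent.Base
import Cfsg.Agent.Chev.TwRho

/-!
Automorphisms of the Chevalley groups induced by automorphisms of the matrix monoid: field automorphisms and the
linear graph automorphisms (conjugation by a signed permutation matrix) of E₆ and D₄.
-/

set_option autoImplicit false

namespace CL.Tw

open Cfsg Cfsg.Lie Cfsg.Lie.ChevalleyDatum

variable {F : Type*} [Field F]

theorem x_eq_xMat (D : ChevalleyDatum) (r : Fin D.nroots) (t : F) : D.x F r t = D.xMat F r t := by
  unfold ChevalleyDatum.x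
  rw [dif_pos r.2]

theorem x_eq_xMat' (D : ChevalleyDatum) {r : ℕ} (hr : r < D.nroots) (t : F) : D.x F r t = D.xMat F ⟨r, hr⟩ t :=
  x_eq_xMat D ⟨r, hr⟩ t

/-- An automorphism of the matrix monoid permuting the root elements induces an automorphism of the Chevalley
group. -/
theorem exists_aut_of_matrixEquiv (D : ChevalleyDatum) (Ψ : Matrix D.Idx D.Idx F ≃* Matrix D.Idx D.Idx F)
    (h1 : ∀ r t, ∃ r' t', Ψ (D.xMat F r t) = D.xMat F r' t')
    (h2 : ∀ r' t', ∃ r t, Ψ (D.xMat F r t) = D.xMat F r' t') :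
    ∃ α : ↥(D.group F) ≃* ↥(D.group F), ∀ g : ↥(D.group F),
      ((α g : GL D.Idx F) : Matrix D.Idx D.Idx F) = Ψ ((g : GL D.Idx F) : Matrix D.Idx D.Idx F) := by
  let Ψ' : GL D.Idx F ≃* GL D.Idx F := Units.mapEquiv Ψ
  have hΨ : ∀ g : GL D.Idx F, ((Ψ' g : GL D.Idx F) : Matrix D.Idx D.Idx F) = Ψ (g : Matrix D.Idx D.Idx F) :=
    fun g => rfl
  have hmap : (D.group F).map (Ψ' : GL D.Idx F →* GL D.Idx F) = D.group F := by
    unfold ChevalleyDatum.group
    rw [MonoidHom.map_closure]
    congr 1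
    ext g
    constructor
    · rintro ⟨g0, ⟨r, t, h⟩, rfl⟩
      obtain ⟨r', t', h'⟩ := h1 r t
      exact ⟨r', t', by rw [← h', ← h]; exact hΨ g0⟩
    · rintro ⟨r', t', h⟩
      obtain ⟨r, t, h'⟩ := h2 r' t'
      refine ⟨Ψ'.symm g, ⟨r, t, ?_⟩, by simp⟩
      apply Ψ.injective
      rw [← hΨ, h', ← h]
      simp
  refine ⟨(Ψ'.subgroupMap (D.group F)).trans (MulEquiv.subgroupCongr hmap), fun g => ?_⟩
  rw [← hΨ]
  rfl

/-- A ring homomorphism applied entrywise sends `x_r(t)` to `x_r(f t)`. -/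
theorem xMat_map {F' : Type*} [Field F'] (D : ChevalleyDatum) (f : F →+* F') (r : Fin D.nroots) (t : F) :
    (D.xMat F r t).map f = D.xMat F' r (f t) := by
  ext a b
  rw [Matrix.map_apply]
  unfold ChevalleyDatum.xMat
  simp only [Matrix.of_apply]
  rcases b with i | s
  · rcases a with i' | u
    · simp only; split_ifs <;> simp
    · simp only; split_ifs <;> simp
  · simp only
    split_ifs with h1 h2
    · rcases a with i' | u
      · simp
      · simp only; split_ifs <;> simp
    · rcases a with i' | u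
      · simp
      · simp only; split_ifs <;> simp
    · rcases a with i' | u
      · simp
      · simp only [map_add, map_list_sum, List.map_map]
        congr 1
        · split_ifs <;> simp
        · congr 1
          apply List.map_congr_left
          intro km _
          simp

theorem x_map {F' : Type*} [Field F'] (D : ChevalleyDatum) (f : F →+* F') (r : ℕ) (t : F) :
    (D.x F r t).map f = D.x F' r (f t) := by
  unfold ChevalleyDatum.x
  split_ifs with h
  · exact xMat_map D f _ t
  · exact Matrix.map_one _ f.map_zero f.map_one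

/-- The entries of the chain table for the pair `(r, s)`, numbered. -/
def ent (D : ChevalleyDatum) (r s : ℕ) : List ((ℕ × ℤ) × ℕ) :=
  ((D.chain.getD r #[]).toList.filter (fun e => e.1 = s)).flatMap fun e => e.2.toList.zipIdx

theorem chainCoeff_eq_ent (D : ChevalleyDatum) (r s u : ℕ) :
    D.chainCoeff r s u = ((ent D r s).filter (fun q => q.1.1 = u)).map fun q => (q.2 + 1, q.1.2) := by
  unfold ChevalleyDatum.chainCoeff ent
  rw [List.filter_flatMap, List.map_flatMap]

/-- The table conditions for a signed permutation of the Chevalley basis to be an automorphism. -/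
def LinOK (D : ChevalleyDatum) (ρ π : ℕ → ℕ) (γ : ℕ → ℤ) : Prop :=
  (∀ r < D.nroots, (γ r = 1 ∨ γ r = -1) ∧ D.neg r < D.nroots ∧ γ (D.neg r) = γ r ∧ D.neg (ρ r) = ρ (D.neg r) ∧
    (∀ i < D.rank, D.cartan (π i) (ρ r) = D.cartan i r ∧
      (D.coroot.getD (ρ r) #[]).getD (π i) 0 = (D.coroot.getD r #[]).getD i 0) ∧
    ∀ s < D.nroots, (∀ q ∈ ent D r s, q.1.1 < D.nroots) ∧
      ent D (ρ r) (ρ s) = (ent D r s).map fun q => ((ρ q.1.1, q.1.2 * γ r ^ (q.2 + 1) * γ s * γ q.1.1), q.2))

instance instDecidableLinOK (D : ChevalleyDatum) (ρ π : ℕ → ℕ) (γ : ℕ → ℤ) : Decidable (LinOK D ρ π γ) :=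
  inferInstanceAs (Decidable (∀ r < D.nroots, _))

theorem linOK_E6 : LinOK chevE6 (rhoE6Tab.getD · 0) (piE6Tab.getD · 0) (gamE6Tab.getD · 0) := by decide +kernel
theorem linOK_D4 : LinOK chevD4 (rhoD4Tab.getD · 0) (piD4Tab.getD · 0) (gamD4Tab.getD · 0) := by decide +kernel
theorem linOK_D4b : LinOK chevD4 (rhoD4bTab.getD · 0) (piD4bTab.getD · 0) (gamD4bTab.getD · 0) := by decide +kernel

/-- The sign attached to a basis vector. -/
def idxSign (D : ChevalleyDatum) (F : Type*) [Field F] (γ : ℕ → ℤ) : D.Idx → F :=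
  Sum.elim (fun _ => 1) (fun s => ((γ s : ℤ) : F))

theorem xMat_signPerm (D : ChevalleyDatum) (ρ : Equiv.Perm (Fin D.nroots)) (π : Equiv.Perm (Fin D.rank))
    (ρN πN : ℕ → ℕ) (hρ : ∀ r, (ρ r : ℕ) = ρN r) (hπ : ∀ i, (π i : ℕ) = πN i) (γ : ℕ → ℤ)
    (h : LinOK D ρN πN γ) (r : Fin D.nroots) (t : F) (a b : D.Idx) :
    D.xMat F (ρ r) ((γ r : F) * t) (Equiv.sumCongr π ρ a) (Equiv.sumCongr π ρ b) =
      idxSign D F γ a * D.xMat F r t a b * idxSign D F γ b := by
  have hsq : ∀ s : Fin D.nroots, ((γ s : ℤ) : F) * γ s = 1 := by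
    intro s
    rcases (h s s.2).1 with h1 | h1 <;> simp [h1]
  obtain ⟨hγ, hnlt, hγn, hneg, hcar, hch⟩ := h r r.2
  unfold ChevalleyDatum.xMat idxSign
  simp only [Matrix.of_apply]
  rcases b with i | s
  · rcases a with i' | u
    · simp
    · simp only [Equiv.sumCongr_apply, Sum.map_inl, Sum.map_inr, EmbeddingLike.apply_eq_iff_eq, Sum.elim_inl,
        Sum.elim_inr]
      split_ifs with hu
      · subst hu
        have := (hcar i i.2).1
        unfold ChevalleyDatum.cartan at this
        rw [hρ, hπ, this]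
        ring
      · simp
  · have hn : (ρ s : ℕ) = D.negIdx.getD (ρ r) 0 ↔ (s : ℕ) = D.negIdx.getD r 0 := by
      have h1 : D.negIdx.getD (ρ r) 0 = (ρ ⟨D.neg r, hnlt⟩ : ℕ) := by
        rw [hρ, hρ]; exact hneg
      rw [h1, Fin.val_inj, ρ.apply_eq_iff_eq, Fin.ext_iff]
      rfl
    simp only [Equiv.sumCongr_apply, Sum.map_inr, EmbeddingLike.apply_eq_iff_eq, Sum.elim_inr, hn]
    split_ifs with h1 h2
    · subst h1
      rcases a with i' | u
      · simp
      · simp only [Sum.map_inr, EmbeddingLike.apply_eq_iff_eq, Sum.elim_inr]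
        split_ifs with hu
        · subst hu; rw [mul_one, hsq]
        · simp
    · have hs : γ s = γ r := by rw [h2]; exact hγn
      rcases a with i' | u
      · simp only [Sum.map_inl, Sum.elim_inl]
        rw [hρ, hπ, (hcar i' i'.2).2, hs]
        ring
      · simp only [Sum.map_inr, EmbeddingLike.apply_eq_iff_eq, Sum.elim_inr]
        split_ifs with hu hu'
        · subst hu; rw [mul_one, hsq]
        · subst hu'
          rw [hs]
          ring
        · simp
    · rcases a with i' | u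
      · simp
      · simp only [Sum.map_inr, EmbeddingLike.apply_eq_iff_eq, Sum.elim_inr]
        rw [mul_add, add_mul]
        congr 1
        · split_ifs with hu
          · subst hu; rw [mul_one, hsq]
          · simp
        · obtain ⟨hlt, hent⟩ := hch s s.2
          rw [chainCoeff_eq_ent, chainCoeff_eq_ent, hρ r, hρ s, hent, List.filter_map, List.map_map, List.map_map,
            List.map_map, ← List.sum_map_mul_left, ← List.sum_map_mul_right]
          have hf : (ent D r s).filter ((fun q : (ℕ × ℤ) × ℕ => decide (q.1.1 = (ρ u : ℕ))) ∘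
              fun q => ((ρN q.1.1, q.1.2 * γ r ^ (q.2 + 1) * γ s * γ q.1.1), q.2)) =
              (ent D r s).filter (fun q => q.1.1 = (u : ℕ)) := by
            apply List.filter_congr
            intro q hq
            have h3 : ρN q.1.1 = (ρ ⟨q.1.1, hlt q hq⟩ : ℕ) := (hρ ⟨q.1.1, hlt q hq⟩).symm
            simp only [Function.comp, h3, Fin.val_inj, EmbeddingLike.apply_eq_iff_eq]
            simp [Fin.ext_iff]
          rw [hf]
          congr 1
          apply List.map_congr_left
          intro q hq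
          have hq' : q.1.1 = (u : ℕ) := by simpa using (List.mem_filter.1 hq).2
          simp only [Function.comp, hq']
          push_cast
          have : ((γ r : ℤ) : F) ^ (q.2 + 1) * ((γ r : ℤ) : F) ^ (q.2 + 1) = 1 := by
            rw [← mul_pow, hsq, one_pow]
          rw [mul_pow]
          linear_combination ((q.1.2 : F) * γ s * γ u * t ^ (q.2 + 1)) * this

/-- Conjugation by a signed permutation matrix, followed by an automorphism of the field applied entrywise. -/
def signPermEquiv {ι : Type*} [Fintype ι] [DecidableEq ι] (τ : Equiv.Perm ι) (ε : ι → F) (hε : ∀ a, ε a * ε a = 1)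
    (f : F ≃+* F) : Matrix ι ι F ≃* Matrix ι ι F where
  toFun M := Matrix.of fun a b => f (ε (τ.symm a) * M (τ.symm a) (τ.symm b) * ε (τ.symm b))
  invFun M := Matrix.of fun a b => ε a * f.symm (M (τ a) (τ b)) * ε b
  left_inv M := by
    ext a b
    simp only [Matrix.of_apply, Equiv.symm_apply_apply, RingEquiv.symm_apply_apply]
    linear_combination (M a b * ε b * ε b) * hε a + (M a b) * hε b
  right_inv M := by
    ext a b
    simp only [Matrix.of_apply, Equiv.apply_symm_apply]
    have : ε (τ.symm a) * (ε (τ.symm a) * f.symm (M a b) * ε (τ.symm b)) * ε (τ.symm b) = f.symm (M a b) := by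
      linear_combination (f.symm (M a b) * ε (τ.symm b) * ε (τ.symm b)) * hε (τ.symm a) +
        (f.symm (M a b)) * hε (τ.symm b)
    rw [this, RingEquiv.apply_symm_apply]
  map_mul' M N := by
    ext a b
    simp only [Matrix.of_apply, Matrix.mul_apply, ← map_mul, ← map_sum]
    congr 1
    rw [Finset.mul_sum, Finset.sum_mul, ← τ.symm.sum_comp]
    apply Finset.sum_congr rfl
    intro c _
    linear_combination (-(ε (τ.symm a) * M (τ.symm a) (τ.symm c) * N (τ.symm c) (τ.symm b) * ε (τ.symm b))) *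
      hε (τ.symm c)

/-- Graph-field automorphisms of the simply laced types: `x_r(t) ↦ x_{ρ r}(γ_r f(t))` for every root `r`. -/
theorem exists_linAut (D : ChevalleyDatum) (ρ : Equiv.Perm (Fin D.nroots)) (π : Equiv.Perm (Fin D.rank))
    (ρN πN : ℕ → ℕ) (hρ : ∀ r, (ρ r : ℕ) = ρN r) (hπ : ∀ i, (π i : ℕ) = πN i) (γ : ℕ → ℤ)
    (h : LinOK D ρN πN γ) (f : F ≃+* F) :
    ∃ α : ↥(D.group F) ≃* ↥(D.group F), ∀ (g : ↥(D.group F)) (r : ℕ) (t : F), r < D.nroots →
      ((g : GL D.Idx F) : Matrix D.Idx D.Idx F) = D.x F r t →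
      ((α g : GL D.Idx F) : Matrix D.Idx D.Idx F) = D.x F (ρN r) ((γ r : F) * f t) := by
  have hsq : ∀ s : Fin D.nroots, ((γ s : ℤ) : F) * γ s = 1 := by
    intro s
    rcases (h s s.2).1 with h1 | h1 <;> simp [h1]
  have hε : ∀ a, idxSign D F γ a * idxSign D F γ a = 1 := by
    rintro (i | s)
    · simp [idxSign]
    · exact hsq s
  have hfε : ∀ a, f (idxSign D F γ a) = idxSign D F γ a := by
    rintro (i | s) <;> simp [idxSign]
  let Ψ := signPermEquiv (Equiv.sumCongr π ρ) (idxSign D F γ) hε f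
  have key : ∀ r t, Ψ (D.xMat F r t) = D.xMat F (ρ r) ((γ r : F) * f t) := by
    intro r t
    ext a b
    obtain ⟨a, rfl⟩ := (Equiv.sumCongr π ρ).surjective a
    obtain ⟨b, rfl⟩ := (Equiv.sumCongr π ρ).surjective b
    have hm : D.xMat F r (f t) a b = f (D.xMat F r t a b) :=
      (congrFun (congrFun (xMat_map D (f : F →+* F) r t) a) b).symm
    rw [xMat_signPerm D ρ π ρN πN hρ hπ γ h, hm]
    simp only [Ψ, signPermEquiv, MulEquiv.coe_mk, Equiv.coe_fn_mk, Matrix.of_apply, Equiv.symm_apply_apply, map_mul,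
      hfε]
  obtain ⟨α, hα⟩ := exists_aut_of_matrixEquiv D Ψ (fun r t => ⟨_, _, key r t⟩) (fun r' t' => by
    refine ⟨ρ.symm r', f.symm ((γ (ρ.symm r') : F) * t'), ?_⟩
    rw [key, Equiv.apply_symm_apply, RingEquiv.apply_symm_apply, ← mul_assoc, hsq, one_mul])
  refine ⟨α, fun g r t hr hg => ?_⟩
  rw [hα, hg, x_eq_xMat' D hr, key, ← x_eq_xMat, hρ]

/-- Field automorphisms. -/
theorem exists_fieldAut (D : ChevalleyDatum) (f : F ≃+* F) :
    ∃ α : ↥(D.group F) ≃* ↥(D.group F),
      (∀ g : ↥(D.group F), ((α g : GL D.Idx F) : Matrix D.Idx D.Idx F) =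
        ((g : GL D.Idx F) : Matrix D.Idx D.Idx F).map f) := by
  let Ψ : Matrix D.Idx D.Idx F ≃* Matrix D.Idx D.Idx F := (f.mapMatrix : Matrix D.Idx D.Idx F ≃+* _)
  have key : ∀ r t, Ψ (D.xMat F r t) = D.xMat F r (f t) := fun r t => xMat_map D (f : F →+* F) r t
  exact exists_aut_of_matrixEquiv D Ψ (fun r t => ⟨_, _, key r t⟩) (fun r' t' =>
    ⟨r', f.symm t', by rw [key, RingEquiv.apply_symm_apply]⟩)

end CL.Tw
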