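import Cfsg.Agent.Base
import Cfsg.Agent.Chev.TwCls

/-!
The torus of a twisted group: action of the twisting endomorphism and of `N` on `H`.
-/

set_option autoImplicit false
set_option linter.unusedSectionVars false

namespace CL.Tw

open Cfsg Cfsg.Lie Cfsg.Lie.ChevalleyDatum CL.ChevM CL.Weyl CL.Cox

theorem exists_fix_of_ker {A G : Type*} [CommGroup A] [Finite A] [Group G] (φ : A →* G) (τ : A →* A) (σ : G →* G)
    (h : ∀ a, σ (φ a) = φ (τ a)) (hk : ∀ z, φ z = 1 → τ z = z → z = 1) {a : A} (ha : σ (φ a) = φ a) :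
    ∃ b, τ b = b ∧ φ b = φ a := by
  let f : φ.ker → φ.ker := fun z => ⟨τ z / z, by
    rw [MonoidHom.mem_ker, map_div, ← h, MonoidHom.mem_ker.1 z.2, map_one, div_one]⟩
  have hf : Function.Injective f := by
    intro z z' e
    have e' : τ z / z = τ z' / z' := congrArg Subtype.val e
    have := hk (z / z') (by rw [map_div, MonoidHom.mem_ker.1 z.2, MonoidHom.mem_ker.1 z'.2, div_one])
      (by rw [map_div, div_eq_div_iff_div_eq_div, e'])
    exact Subtype.ext (div_eq_one.1 this)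
  obtain ⟨z, hz⟩ := Finite.surjective_of_injective hf ⟨τ a / a, by
    rw [MonoidHom.mem_ker, map_div, ← h, ha, div_self']⟩
  have hz' : τ z / z = τ a / a := congrArg Subtype.val hz
  exact ⟨a / z, by rw [map_div, div_eq_div_iff_div_eq_div, hz'], by
    rw [map_div, MonoidHom.mem_ker.1 z.2, div_one]⟩

theorem mul_mul_mul_comm₃ {G : Type*} [Group G] {a₁ a₂ a₃ b₁ b₂ b₃ : G} (h12 : Commute b₁ a₂) (h13 : Commute b₁ a₃)
    (h23 : Commute b₂ a₃) : a₁ * b₁ * (a₂ * b₂) * (a₃ * b₃) = a₁ * a₂ * a₃ * (b₁ * b₂ * b₃) := by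
  calc a₁ * b₁ * (a₂ * b₂) * (a₃ * b₃) = a₁ * (b₁ * a₂) * (b₂ * a₃) * b₃ := by group
    _ = a₁ * a₂ * (b₁ * a₃) * b₂ * b₃ := by rw [h12.eq, h23.eq]; group
    _ = _ := by rw [h13.eq]; group

variable {D : ChevalleyDatum} {η : ℕ → ℕ → ℤ} (C : Core D η) {K : Type*} [Field K]

variable (D) in
/-- The table condition for the groups `⟨X_a, X_{-a}⟩` and `⟨X_b, X_{-b}⟩` to commute. -/
def OrthOK (a b : ℕ) : Prop :=
  ∀ r ∈ [a, D.neg a], ∀ s ∈ [b, D.neg b], r < D.nroots ∧ s < D.nroots ∧ s ≠ r ∧ s ≠ D.neg r ∧ D.commTerms r s = []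

instance instDecidableOrthOK (a b : ℕ) : Decidable (OrthOK D a b) := by unfold OrthOK; infer_instance

section Orth
variable {a b : ℕ} (h : OrthOK D a b)
include h

theorem OrthOK.pp (t u : K) : Commute (xG C b u) (xG C a t) := xG_commute C (h a (by simp) b (by simp)) t u
theorem OrthOK.pn (t u : K) : Commute (xG C (D.neg b) u) (xG C a t) :=
  xG_commute C (h a (by simp) _ (by simp)) t u
theorem OrthOK.np (t u : K) : Commute (xG C b u) (xG C (D.neg a) t) :=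
  xG_commute C (h _ (by simp) b (by simp)) t u
theorem OrthOK.nn (t u : K) : Commute (xG C (D.neg b) u) (xG C (D.neg a) t) :=
  xG_commute C (h _ (by simp) _ (by simp)) t u

theorem OrthOK.nG_p (t u : K) : Commute (nG C b u) (xG C a t) :=
  ((h.pp C _ _).mul_left (h.pn C _ _)).mul_left (h.pp C _ _)
theorem OrthOK.nG_n (t u : K) : Commute (nG C b u) (xG C (D.neg a) t) :=
  ((h.np C _ _).mul_left (h.nn C _ _)).mul_left (h.np C _ _)
theorem OrthOK.p_nG (t u : K) : Commute (xG C b u) (nG C a t) :=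
  ((h.pp C _ _).mul_right (h.np C _ _)).mul_right (h.pp C _ _)
theorem OrthOK.nG_nG (t u : K) : Commute (nG C b u) (nG C a t) :=
  ((h.nG_p C _ _).mul_right (h.nG_n C _ _)).mul_right (h.nG_p C _ _)

theorem OrthOK.nG_mul (t u : K) : nG C a t * nG C b u =
    xG C a t * xG C b u * (xG C (D.neg a) (-t⁻¹) * xG C (D.neg b) (-u⁻¹)) * (xG C a t * xG C b u) :=
  (mul_mul_mul_comm₃ (h.np C _ _) (h.pp C _ _) (h.pn C _ _)).symm

theorem OrthOK.neg_mul (t u : K) : xG C (D.neg a) t * xG C (D.neg b) u =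
    xG C a t⁻¹ * xG C b u⁻¹ * (nG C a (-t⁻¹) * nG C b (-u⁻¹)) * (xG C a t⁻¹ * xG C b u⁻¹) := by
  rw [mul_mul_mul_comm₃ (h.p_nG C _ _) (h.pp C _ _) (h.nG_p C _ _), ← xG_neg_eq, ← xG_neg_eq]

theorem OrthOK.hG_mul (t u : K) : hG C a t * hG C b u = nG C a t * nG C b u * (nG C a (-1) * nG C b (-1)) := by
  rw [hG, hG, (h.nG_nG C (-1) u).mul_mul_mul_comm]

end Orth

theorem tor_conj_nG (c : Fin D.rank → Kˣ) {r : ℕ} (hr : r < D.nroots) (t : K) :
    tor C c * nG C r t * (tor C c)⁻¹ = nG C r (chi D c r * t) := by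
  rw [nG, nG, ← tor_conj_xG C c hr, mul_inv, ← mul_neg, ← Units.val_inv_eq_inv_val, ← chi_neg C c hr,
    ← tor_conj_xG C c (C.tab.neg_lt r hr)]
  group

theorem nS_conj_tor_eq (i : Fin D.rank) (c : Fin D.rank → Kˣ) :
    nS C K i * tor C c * (nS C K i)⁻¹ = tor C (c * Pi.mulSingle i (chi D c (D.simple i))⁻¹) := by
  have h := tor_conj_nG C c⁻¹ (C.tab.simple_lt i i.2) (1 : K)
  have h1 : chi D c⁻¹ (D.simple i) = (chi D c (D.simple i))⁻¹ :=
    eq_inv_of_mul_eq_one_left (by rw [← chi_mul, inv_mul_cancel, chi_one])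
  rw [map_mul, tor_mulSingle, ← h1, hG, ← mul_one (chi D c⁻¹ (D.simple i) : K), ← h, ← nG_inv, map_inv, nS]
  group

theorem nS_pow_four (i : Fin D.rank) : nS C K i ^ 4 = 1 := by
  have h : hG C (D.simple i) (-1 : K) = tor C (Pi.mulSingle i (-1)) := (tor_mulSingle C i (-1)).symm
  rw [show 4 = 2 * 2 from rfl, pow_mul, sq (nS C K i), nS_sq, h, ← map_inv, ← map_pow, ← Pi.mulSingle_inv,
    ← Pi.mulSingle_pow]
  simp

variable [WeylOK D]

theorem nW_conj_sign (l : List (Fin D.rank)) (r : Fin D.nroots) : ∃ a : K, a * a = 1 ∧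
    ∀ t : K, nW C K l * xG C r t * (nW C K l)⁻¹ = xG C ((cs D).wordProd l • r : Fin D.nroots) (a * t) := by
  induction l with
  | nil => exact ⟨1, by simp, by simp [nW_nil]⟩
  | cons i l ih =>
    obtain ⟨a, h1, h2⟩ := ih
    have e : ∀ a b y : ↥(D.group K), a * b * y * (a * b)⁻¹ = a * (b * y * b⁻¹) * a⁻¹ := fun a b y => by group
    set r' : Fin D.nroots := (cs D).wordProd l • r with hr'
    have hb : (η i r' : K) * η i r' = 1 := (C.sa i i.2).sq' r'.2
    refine ⟨η i r' * a, by linear_combination a * a * hb + h1, fun t => ?_⟩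
    rw [nW_cons, e, h2, nS, nG_simple_mul_xG C i.2 r'.2, mul_inv_cancel_right, CoxeterSystem.wordProd_cons,
      mul_smul, val_s_smul, mul_assoc]

theorem exists_nW_of_mem {m : ↥(D.group K)} (hm : m ∈ Subgroup.closure (Set.range (nS C K))) :
    ∃ l, m = nW C K l := by
  induction hm using Subgroup.closure_induction_left with
  | one => exact ⟨[], rfl⟩
  | mul_left x hx y _ ih =>
    obtain ⟨i, rfl⟩ := hx
    obtain ⟨l, rfl⟩ := ih
    exact ⟨i :: l, (nW_cons C i l).symm⟩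
  | inv_mul_cancel x hx y _ ih =>
    obtain ⟨i, rfl⟩ := hx
    obtain ⟨l, rfl⟩ := ih
    refine ⟨i :: i :: i :: l, ?_⟩
    rw [nW_cons, nW_cons, nW_cons, inv_mul_eq_iff_eq_mul]
    calc nW C K l = nS C K i ^ 4 * nW C K l := by rw [nS_pow_four, one_mul]
      _ = _ := by simp only [pow_succ, pow_zero, one_mul, mul_assoc]

theorem Rep.chi_conj {C : Core D η} {n : ↥(D.group K)} {w : W D} (hn : Rep C n w) {c c' : Fin D.rank → Kˣ}
    (h : n * tor C c * n⁻¹ = tor C c') (r : Fin D.nroots) : chi D c' (w • r : Fin D.nroots) = chi D c r := by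
  obtain ⟨a, ha, -⟩ := hn.exists_conj r
  have h1 := tor_conj_xG C c' (w • r).2 ((a : K) * 1)
  rw [← h, ← ha, show n * tor C c * n⁻¹ * (n * xG C r 1 * n⁻¹) * (n * tor C c * n⁻¹)⁻¹ =
    n * (tor C c * xG C r 1 * (tor C c)⁻¹) * n⁻¹ by group, tor_conj_xG C c r.2, ha] at h1
  have h2 := xG_injective C (w • r).2 h1
  rw [mul_one, mul_one, mul_comm] at h2
  exact Units.ext (mul_right_cancel₀ a.ne_zero h2).symm

theorem Rep.conj_eq_inv {C : Core D η} {n h : ↥(D.group K)} {w : W D} (hn : Rep C n w)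
    (hw : ∀ r : Fin D.nroots, ((w • r : Fin D.nroots) : ℕ) = D.neg r) (hh : h ∈ (tor C).range) :
    n * h * n⁻¹ = h⁻¹ := by
  obtain ⟨c', hc'⟩ := hn.conj_tor hh
  obtain ⟨c, rfl⟩ := hh
  rw [← hc', eq_inv_iff_mul_eq_one, ← map_mul, tor_eq_one_iff]
  intro j hj
  have hp := C.tab.simple_lt j hj
  have := hn.chi_conj hc'.symm ⟨_, C.tab.neg_lt _ hp⟩
  rw [hw, C.tab.neg_neg _ hp, chi_neg C c hp] at this
  rw [chi_mul, this, inv_mul_cancel]

variable [CoefOK D]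

theorem sq_eq_one_of_mem {m : ↥(D.group K)} (hm : m ∈ Subgroup.closure (Set.range (nS C K)))
    (hH : m ∈ (tor C).range) : m * m = 1 := by
  obtain ⟨l, rfl⟩ := exists_nW_of_mem C hm
  have hl : (cs D).wordProd l = 1 := (rep_nW C l).unique (rep_of_mem_H C hH)
  obtain ⟨c, hc⟩ := hH
  rw [← hc, ← map_mul, tor_eq_one_iff]
  intro j hj
  have hp := C.tab.simple_lt j hj
  obtain ⟨a, h1, h2⟩ := nW_conj_sign C (K := K) l ⟨_, hp⟩
  have h3 := h2 1
  rw [← hc, tor_conj_xG C c hp, hl, one_smul] at h3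
  have h4 := xG_injective C hp h3
  rw [mul_one, mul_one] at h4
  exact Units.ext (by rw [chi_mul, Units.val_mul, h4, h1, Units.val_one])

namespace TwData

variable {C} {ι : Type*} (T : TwData C K ι)

/-- The action of the twisting endomorphism on the parameters of the torus. -/
def τc : (Fin D.rank → Kˣ) →* (Fin D.rank → Kˣ) where
  toFun c j := c (T.τ.π.symm j) ^ T.e (T.τ.π.symm j)
  map_one' := by ext j; simp
  map_mul' c d := by ext j; simp [mul_pow]

/-- The fixed parameters. -/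
def C0 : Subgroup (Fin D.rank → Kˣ) := T.τc.eqLocus (MonoidHom.id _)

theorem σ_tor' (c : Fin D.rank → Kˣ) : T.σ (tor C c) = tor C (T.τc c) := T.σ_tor c

theorem mem_C0 {c : Fin D.rank → Kˣ} : c ∈ T.C0 ↔ ∀ i, c (T.τ.π i) = c i ^ T.e i := by
  change T.τc c = c ↔ _
  rw [funext_iff, ← T.τ.π.forall_congr_right]
  simp [τc, eq_comm]

theorem σ_tor_of_mem {c : Fin D.rank → Kˣ} (hc : c ∈ T.C0) : T.σ (tor C c) = tor C c := by
  rw [σ_tor']; exact congrArg _ hc

theorem chi_fix {c : Fin D.rank → Kˣ} (hc : T.σ (tor C c) = tor C c) (i : Fin D.rank) :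
    chi D c (D.simple (T.τ.π i)) = chi D c (D.simple i) ^ T.e i := by
  have h := congrArg T.σ (tor_conj_xG C c (C.tab.simple_lt i i.2) (1 : K))
  rw [map_mul, map_mul, map_inv, hc, T.h1, T.h1, tor_conj_xG C c (C.tab.simple_lt _ (T.τ.π i).2)] at h
  have := xG_injective C (C.tab.simple_lt _ (T.τ.π i).2) h
  exact Units.ext (by simpa using this)

theorem H_inf_eq [Finite K] (hk : ∀ z ∈ T.C0, tor C z = 1 → z = 1) (h : ∀ c ∈ T.C0, tor C c ∈ T.sys.G1) :
    (tor C).range ⊓ T.sys.G1 = T.C0.map (tor C) := by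
  apply le_antisymm
  · rintro _ ⟨⟨c, rfl⟩, hc⟩
    obtain ⟨b, h1, h2⟩ := exists_fix_of_ker (tor C (K := K)) T.τc T.σ T.σ_tor' (fun z hz hz' => hk z hz' hz)
      (a := c) (TwSys.mem_Fix.1 (TwSys.G1_le_Fix hc))
    exact ⟨b, h1, h2⟩
  · rintro _ ⟨c, hc, rfl⟩
    exact ⟨⟨c, rfl⟩, h c hc⟩

theorem card_H_inf [Finite K] (hk : ∀ z ∈ T.C0, tor C z = 1 → z = 1) (h : ∀ c ∈ T.C0, tor C c ∈ T.sys.G1) :
    Nat.card ↥((tor C (K := K)).range ⊓ T.sys.G1) = Nat.card T.C0 := by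
  rw [T.H_inf_eq hk h, ← card_map_mul_card_ker (tor C) T.C0,
    show T.C0 ⊓ (tor C).ker = ⊥ from eq_bot_iff.2 fun z hz => hk z hz.1 hz.2, Subgroup.card_bot, one_mul]

theorem xG_mem_G1 {r : ℕ} (hr : r < D.nroots) {t : K} (h : T.σ (xG C r t) = xG C r t) : xG C r t ∈ T.sys.G1 := by
  by_cases hp : (Φ D).Pos ⟨r, hr⟩
  · exact TwSys.mem_G1_of_U (T := T.sys) (xG_mem_XSg' C (S := PP D) hr hp t) h
  · exact TwSys.mem_G1_of_V (T := T.sys) (xG_mem_XSg' C (S := (PP D)ᶜ) hr hp t) h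

theorem mem_commutator_of_comm {a b c : ↥(D.group K)} (ha : a ∈ T.sys.G1) (hb : b ∈ T.sys.G1)
    (h : b * a = a * b * c) : c ∈ ⁅T.sys.G1, T.sys.G1⁆ := by
  have := Subgroup.commutator_mem_commutator (inv_mem hb) (inv_mem ha)
  rwa [commutatorElement_def, inv_inv, inv_inv, mul_assoc, h, show b⁻¹ * a⁻¹ * (a * b * c) = c by group] at this

end TwData

end CL.Tw
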