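import Cfsg.Agent.Base
import Cfsg.Agent.Chev.TwTor
import Cfsg.Agent.Chev.TwLinAut
import Cfsg.Agent.Chev.WeylTw

/-!
The groups ³D₄(q).
-/

set_option autoImplicit false
set_option linter.unusedSectionVars false

namespace CL.Tw

open Cfsg Cfsg.Lie Cfsg.Lie.ChevalleyDatum CL.ChevM CL.Weyl CL.Cox CL.WC

variable {K : Type*} [Field K] [Fintype K] {q : ℕ}

theorem conn_two {W : Type*} [Group W] {f : Fin 2 → W} (h : f 0 * f 1 ≠ f 1 * f 0) (A : Set (Fin 2))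
    (h1 : A.Nonempty) (h2 : Aᶜ.Nonempty) : ∃ j ∈ A, ∃ k ∉ A, f j * f k ≠ f k * f j := by
  obtain ⟨j, hj⟩ := h1
  obtain ⟨k, hk⟩ := h2
  refine ⟨j, hj, k, hk, ?_⟩
  fin_cases j <;> fin_cases k
  exacts [absurd hj hk, h, h.symm, absurd hj hk]

/-- The twisting endomorphism of ³D₄(q). -/
structure D4Hyp (q : ℕ) (σ : ↥(chevD4.group K) →* ↥(chevD4.group K)) : Prop where
  hq : 1 < q
  card : Fintype.card K = q ^ 3
  neg : ∀ t : K, (-t) ^ q = -t ^ q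
  act : ∀ r < chevD4.nroots, ∀ t : K,
    σ (xG coreD4 r t) = xG coreD4 (rhoD4Tab.getD r 0) ((gamD4Tab.getD r 0 : ℤ) * t ^ q)

theorem exists_D4Hyp (hq : IsPrimePow q) (hK : Fintype.card K = q ^ 3) :
    ∃ σ : ↥(chevD4.group K) →* ↥(chevD4.group K), D4Hyp q σ := by
  obtain ⟨f, hf⟩ := exists_frob hq hK
  obtain ⟨α, hα⟩ := exists_linAut chevD4 rhoD4 piD4 (rhoD4Tab.getD · 0) (piD4Tab.getD · 0) (fun _ => rfl)
    (fun _ => rfl) (gamD4Tab.getD · 0) linOK_D4 f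
  exact ⟨α, hq.one_lt, hK, fun t => by rw [← hf, ← hf, map_neg],
    fun r hr t => mat_injective (by rw [← hf]; exact hα _ r t hr rfl)⟩

/-- Representatives of the orbits of triality on the nodes. -/
def repD4 : Fin 2 → Fin chevD4.rank := ![⟨1, by decide⟩, ⟨0, by decide⟩]

theorem orbD4 (j : Fin 2) (k : Fin chevD4.rank) :
    k ∈ tauD4.orb (repD4 j) ↔ (k : ℕ) ∈ [[1], [0, 2, 3]].getD j [] := by
  rw [mem_orb_D4]; revert j k; decide +kernel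

theorem posD4 (j : Fin 2) : {r | (Φ chevD4).Pos r ∧ (Φ chevD4).InSub (tauD4.orb (repD4 j)) r} =
    LS chevD4 ([[14], [18, 13, 12]].getD j []) := pos_inSub_eq fastW_D4 (orbD4 j) (by revert j; decide +kernel)

theorem negD4 (j : Fin 2) : {r | ¬ (Φ chevD4).Pos r ∧ (Φ chevD4).InSub (tauD4.orb (repD4 j)) r} =
    LS chevD4 ([[9], [5, 10, 11]].getD j []) := neg_inSub_eq fastW_D4 (orbD4 j) (by revert j; decide +kernel)

theorem consD4a : ConsOK chevD4 18 [13, 12] [-1, -1, 0, 0] := by decide +kernel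
theorem consD4b : ConsOK chevD4 13 [12] [-1, -1, -1, 0] := by decide +kernel
theorem consD4c : ConsOK chevD4 5 [10, 11] [0, -1, -1, -1] := by decide +kernel
theorem consD4d : ConsOK chevD4 10 [11] [-1, -1, 0, -1] := by decide +kernel
theorem orthD4a : OrthOK chevD4 18 13 := by decide +kernel
theorem orthD4b : OrthOK chevD4 18 12 := by decide +kernel
theorem orthD4c : OrthOK chevD4 13 12 := by decide +kernel
theorem negD4_18 : chevD4.neg 18 = 5 := by decide +kernel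
theorem negD4_13 : chevD4.neg 13 = 10 := by decide +kernel
theorem negD4_12 : chevD4.neg 12 = 11 := by decide +kernel
theorem negD4_14 : chevD4.neg 14 = 9 := by decide +kernel

theorem chi_D4 (c : Fin 4 → Kˣ) : chi chevD4 c 18 = c 0 ^ 2 * (c 1)⁻¹ ∧
    chi chevD4 c 14 = (c 0)⁻¹ * c 1 ^ 2 * (c 2)⁻¹ * (c 3)⁻¹ ∧ chi chevD4 c 13 = (c 1)⁻¹ * c 2 ^ 2 ∧
    chi chevD4 c 12 = (c 1)⁻¹ * c 3 ^ 2 := by
  have h : ∀ s, chi chevD4 c s = c 0 ^ chevD4.cartan 0 s * c 1 ^ chevD4.cartan 1 s * c 2 ^ chevD4.cartan 2 s *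
    c 3 ^ chevD4.cartan 3 s := fun s => Fin.prod_univ_four _
  have e : ∀ p ∈ [(0, 18, 2), (1, 18, -1), (2, 18, 0), (3, 18, 0), (0, 14, -1), (1, 14, 2), (2, 14, -1),
    (3, 14, -1), (0, 13, 0), (1, 13, -1), (2, 13, 2), (3, 13, 0), (0, 12, 0), (1, 12, -1), (2, 12, 0), (3, 12, 2)],
    chevD4.cartan p.1 p.2.1 = p.2.2 := by decide +kernel
  simp only [List.forall_mem_cons] at e
  simp only [h, e]
  simp [zpow_ofNat]

theorem tor_D4_eq_one_iff (c : Fin 4 → Kˣ) : tor coreD4 c = 1 ↔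
    chi chevD4 c 18 = 1 ∧ chi chevD4 c 14 = 1 ∧ chi chevD4 c 13 = 1 ∧ chi chevD4 c 12 = 1 := by
  refine (tor_eq_one_iff coreD4 c).trans ?_
  constructor
  · exact fun h => ⟨h 0 (by decide), h 1 (by decide), h 2 (by decide), h 3 (by decide)⟩
  · rintro ⟨h0, h1, h2, h3⟩ j hj
    have hj' : j < 4 := hj
    interval_cases j
    exacts [h0, h1, h2, h3]

theorem tor_D4 (c : Fin 4 → Kˣ) : tor coreD4 c =
    hG coreD4 14 (c 1 : K) * (hG coreD4 18 (c 0 : K) * hG coreD4 13 (c 2 : K) * hG coreD4 12 (c 3 : K)) := by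
  have : c = Pi.mulSingle 1 (c 1) * (Pi.mulSingle 0 (c 0) * Pi.mulSingle 2 (c 2) * Pi.mulSingle 3 (c 3)) := by
    ext i; fin_cases i <;> simp
  let f : (Fin 4 → Kˣ) →* ↥(chevD4.group K) := tor coreD4
  change f c = _
  conv_lhs => rw [this]
  rw [map_mul, map_mul, map_mul]
  exact congrArg₂ _ (tor_mulSingle coreD4 _ _) (congrArg₂ _ (congrArg₂ _ (tor_mulSingle coreD4 _ _)
    (tor_mulSingle coreD4 _ _)) (tor_mulSingle coreD4 _ _))

namespace D4Hyp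

variable {σ : ↥(chevD4.group K) →* ↥(chevD4.group K)} (H : D4Hyp q σ)
include H

theorem act' {r s : ℕ} (h : r < chevD4.nroots ∧ rhoD4Tab.getD r 0 = s ∧ gamD4Tab.getD r 0 = 1) (t : K) :
    σ (xG coreD4 r t) = xG coreD4 s (t ^ q) := by
  rw [H.act r h.1, h.2.1, h.2.2, Int.cast_one, one_mul]

theorem pow3 (t : K) : ((t ^ q) ^ q) ^ q = t := by
  rw [← pow_mul, ← pow_mul, show q * (q * q) = q ^ 3 by ring, pow_pow_card H.card]

theorem fixA' {r : ℕ} (h : r < chevD4.nroots ∧ rhoD4Tab.getD r 0 = r ∧ gamD4Tab.getD r 0 = 1)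
    (g : ↥(chevD4.group K)) : g ∈ XSg coreD4 K (LS chevD4 [r]) ∧ σ g = g ↔ ∃ t, t ^ q = t ∧ g = xG coreD4 r t :=
  fixA (mem_LS1 coreD4 h.1) (xG_injective coreD4 h.1) (H.act' h) g

theorem fixP (g : ↥(chevD4.group K)) : g ∈ XSg coreD4 K (LS chevD4 [18, 13, 12]) ∧ σ g = g ↔
    ∃ t, g = xG coreD4 18 t * xG coreD4 13 (t ^ q) * xG coreD4 12 ((t ^ q) ^ q) :=
  fixC (φ := (· ^ q)) (mem_LS3 coreD4 consD4a consD4b) (inj_LS3 coreD4 consD4a consD4b) (orthD4a.pp coreD4)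
    (orthD4b.pp coreD4) (H.act' (by decide +kernel)) (H.act' (by decide +kernel)) (H.act' (by decide +kernel))
    H.pow3 g

theorem fixN (g : ↥(chevD4.group K)) : g ∈ XSg coreD4 K (LS chevD4 [5, 10, 11]) ∧ σ g = g ↔
    ∃ t, g = xG coreD4 5 t * xG coreD4 10 (t ^ q) * xG coreD4 11 ((t ^ q) ^ q) :=
  fixC (φ := (· ^ q)) (mem_LS3 coreD4 consD4c consD4d) (inj_LS3 coreD4 consD4c consD4d) (orthD4a.nn coreD4)
    (orthD4b.nn coreD4) (H.act' (by decide +kernel)) (H.act' (by decide +kernel)) (H.act' (by decide +kernel))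
    H.pow3 g

/-- The data of ³D₄(q). -/
noncomputable def tw : TwData coreD4 K (Fin 2) where
  τ := tauD4
  σ := σ
  e _ := q
  rep := repD4
  he _ := H.neg
  h1 i := H.act' (by revert i; decide +kernel)
  h2 i := H.act' (by revert i; decide +kernel)
  rep_inj j k := by rw [orbD4]; revert j k; decide +kernel
  rep_surj i := by simp only [orbD4]; revert i; decide +kernel
  nontriv := by
    simp only [negD4]
    refine Fin.forall_fin_two.2 ⟨?_, ?_⟩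
    · obtain ⟨h1, h2⟩ := (H.fixA' (r := 9) (by decide +kernel) _).2 ⟨1, one_pow q, rfl⟩
      exact ⟨_, h1, by rw [Ne, xG_eq_one_iff _ (by decide)]; exact one_ne_zero, h2⟩
    · obtain ⟨h1, h2⟩ := (H.fixN _).2 ⟨1, rfl⟩
      refine ⟨_, h1, fun h => one_ne_zero (inj_LS3 coreD4 consD4c consD4d _ _ _ 0 0 0 (h.trans ?_)).1, h2⟩
      simp [xG_zero]

theorem Uw0 : H.tw.sys.Uw (H.tw.sys.wJ 0) = XSg coreD4 K (LS chevD4 [14]) :=
  (H.tw.sys_Uw 0).trans (congrArg _ (posD4 0))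
theorem Uw1 : H.tw.sys.Uw (H.tw.sys.wJ 1) = XSg coreD4 K (LS chevD4 [18, 13, 12]) :=
  (H.tw.sys_Uw 1).trans (congrArg _ (posD4 1))
theorem Vw0 : H.tw.sys.XS (ninvS H.tw.sys.P (H.tw.sys.wJ 0)) = XSg coreD4 K (LS chevD4 [9]) :=
  (H.tw.sys_ninv 0).trans (congrArg _ (negD4 0))
theorem Vw1 : H.tw.sys.XS (ninvS H.tw.sys.P (H.tw.sys.wJ 1)) = XSg coreD4 K (LS chevD4 [5, 10, 11]) :=
  (H.tw.sys_ninv 1).trans (congrArg _ (negD4 1))

theorem x_mem {r : ℕ} (h : r < chevD4.nroots ∧ rhoD4Tab.getD r 0 = r ∧ gamD4Tab.getD r 0 = 1) {t : K}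
    (ht : t ^ q = t) : xG coreD4 r t ∈ H.tw.sys.G1 :=
  H.tw.xG_mem_G1 h.1 ((H.act' h t).trans (by rw [ht]))

theorem xP_mem (t : K) : xG coreD4 18 t * xG coreD4 13 (t ^ q) * xG coreD4 12 ((t ^ q) ^ q) ∈ H.tw.sys.G1 := by
  obtain ⟨h1, h2⟩ := (H.fixP _).2 ⟨t, rfl⟩
  exact TwSys.mem_G1_of_pos (j := 1) (H.Uw1 ▸ h1) h2

theorem xN_mem (t : K) : xG coreD4 5 t * xG coreD4 10 (t ^ q) * xG coreD4 11 ((t ^ q) ^ q) ∈ H.tw.sys.G1 := by
  obtain ⟨h1, h2⟩ := (H.fixN _).2 ⟨t, rfl⟩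
  exact TwSys.mem_G1_of_neg (j := 1) (H.Vw1 ▸ h1) h2

theorem twisted_eq : twistedD4 K q = H.tw.sys.G1.map (chevD4.group K).subtype := by
  have e : ∀ t : K, t ^ q ^ 2 = (t ^ q) ^ q := fun t => by rw [sq, pow_mul]
  refine H.tw.genSubgroup_eq _ ?_ (Fin.forall_fin_two.2 ⟨?_, ?_⟩) (Fin.forall_fin_two.2 ⟨?_, ?_⟩)
  · rintro w (⟨t, ht, r, hr, rfl⟩ | ⟨t, rs, hr, rfl⟩)
    · simp only [List.mem_cons, List.not_mem_nil, or_false] at hr
      rcases hr with rfl | rfl <;> simpa [wG] using H.x_mem (by decide +kernel) ht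
    · simp only [List.mem_cons, List.not_mem_nil, or_false] at hr
      rcases hr with rfl | rfl
      · simpa [wG, e, mul_assoc, d4p1, d4p3, d4p4] using H.xP_mem t
      · simpa [wG, e, mul_assoc, d4m1, d4m3, d4m4] using H.xN_mem t
  · intro g hg hσ
    obtain ⟨t, ht, rfl⟩ := (H.fixA' (r := 14) (by decide +kernel) g).1 ⟨H.Uw0 ▸ hg, hσ⟩
    exact ⟨[(14, t)], Or.inl ⟨t, ht, d4p2, by simp, rfl⟩, by simp [wG]⟩
  · intro g hg hσ
    obtain ⟨t, rfl⟩ := (H.fixP g).1 ⟨H.Uw1 ▸ hg, hσ⟩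
    exact ⟨_, Or.inr ⟨t, (d4p1, d4p3, d4p4), by simp, rfl⟩, by simp [wG, e, mul_assoc]; rfl⟩
  · intro g hg hσ
    obtain ⟨t, ht, rfl⟩ := (H.fixA' (r := 9) (by decide +kernel) g).1 ⟨H.Vw0 ▸ hg, hσ⟩
    exact ⟨[(9, t)], Or.inl ⟨t, ht, d4m2, by simp, rfl⟩, by simp [wG]⟩
  · intro g hg hσ
    obtain ⟨t, rfl⟩ := (H.fixN g).1 ⟨H.Vw1 ▸ hg, hσ⟩
    exact ⟨_, Or.inr ⟨t, (d4m1, d4m3, d4m4), by simp, rfl⟩, by simp [wG, e, mul_assoc]; rfl⟩

theorem hJ : ∀ j, ∃ e, Nat.card ↥(H.tw.sys.Uw (H.tw.sys.wJ j) ⊓ H.tw.sys.Fix) = q ^ e ∧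
    1 * e = (invS H.tw.sys.P (H.tw.sys.wJ j)).ncard := by
  have hn : ∀ j, invS H.tw.sys.P (H.tw.sys.wJ j) = LS chevD4 ([[14], [18, 13, 12]].getD j []) := fun j =>
    (invS_w0 _).trans (posD4 j)
  refine Fin.forall_fin_two.2 ⟨⟨1, ?_, ?_⟩, ⟨3, ?_, ?_⟩⟩
  · rw [H.Uw0, pow_one]
    refine (card_eq_of_bij _ (fun t : {t : K // t ^ q = t} => xG coreD4 14 t.1)
      (fun a b h => Subtype.ext (xG_injective coreD4 (by decide) h)) fun g => ?_).trans (card_fixed H.hq H.card)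
    exact (H.fixA' (r := 14) (by decide +kernel) g).trans
      ⟨fun ⟨t, h, e⟩ => ⟨⟨t, h⟩, e⟩, fun ⟨t, e⟩ => ⟨t.1, t.2, e⟩⟩
  · rw [hn, ncard_LS (by decide)]; rfl
  · rw [H.Uw1, ← H.card, ← Nat.card_eq_fintype_card]
    exact card_eq_of_bij _ _ (fun a b h => (inj_LS3 coreD4 consD4a consD4b _ _ _ _ _ _ h).1) H.fixP
  · rw [hn, ncard_LS (by decide)]; rfl

theorem card_U : Nat.card ↥(chevD4.posUnipotent K ⊓ twistedD4 K q) = q ^ 12 := by
  rw [H.tw.card_U H.twisted_eq, TwSys.card_U_inf_G1 one_pos H.hJ]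
  exact congrArg _ (by rw [Nat.div_one]; exact ncard_PP fastW_D4)

theorem mem_C0 (c : Fin 4 → Kˣ) : c ∈ H.tw.C0 ↔ c 2 = c 0 ^ q ∧ c 1 = c 1 ^ q ∧ c 3 = c 2 ^ q ∧ c 0 = c 3 ^ q := by
  refine H.tw.mem_C0.trans ?_
  exact Fin.forall_fin_succ.trans (and_congr Iff.rfl (Fin.forall_fin_succ.trans (and_congr Iff.rfl
    Fin.forall_fin_two)))

theorem nP_mem {t : K} : nG coreD4 18 t * nG coreD4 13 (t ^ q) * nG coreD4 12 ((t ^ q) ^ q) ∈ H.tw.sys.G1 := by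
  rw [orthD4a.nG_mul, nG, ← mul_mul_mul_comm₃ ((orthD4b.np _ _ _).mul_right (orthD4c.np _ _ _))
    ((orthD4b.pp _ _ _).mul_right (orthD4c.pp _ _ _)) ((orthD4b.pn _ _ _).mul_right (orthD4c.pn _ _ _)),
    negD4_18, negD4_13, negD4_12, ← inv_pow, ← inv_pow, ← inv_pow, ← H.neg, ← H.neg, ← H.neg]
  exact mul_mem (mul_mem (H.xP_mem t) (H.xN_mem _)) (H.xP_mem t)

theorem tor_mem (c : Fin 4 → Kˣ) (hc : c ∈ H.tw.C0) : tor coreD4 c ∈ H.tw.sys.G1 := by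
  obtain ⟨h2, h1, h3, -⟩ := (H.mem_C0 c).1 hc
  have hn : ∀ t : K, t ^ q = t → nG coreD4 14 t ∈ H.tw.sys.G1 := fun t ht => by
    rw [nG, negD4_14]
    exact mul_mem (mul_mem (H.x_mem (by decide +kernel) ht) (H.x_mem (by decide +kernel)
      (by rw [H.neg, inv_pow, ht]))) (H.x_mem (by decide +kernel) ht)
  have hm : (-1 : K) ^ q = -1 := by rw [H.neg, one_pow]
  rw [tor_D4, orthD4a.hG_mul, hG, hG, ((orthD4b.nG_nG _ _ _).mul_right (orthD4c.nG_nG _ _ _)).symm.mul_mul_mul_comm,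
    h3, h2, Units.val_pow_eq_pow_val, Units.val_pow_eq_pow_val]
  refine mul_mem (mul_mem (hn _ (by rw [← Units.val_pow_eq_pow_val, ← h1])) (hn _ hm)) (mul_mem H.nP_mem ?_)
  have := H.nP_mem (t := -1)
  rwa [hm, hm] at this

theorem ker_C0 (c : Fin 4 → Kˣ) (hc : c ∈ H.tw.C0) (h : tor coreD4 c = 1) : c = 1 := by
  obtain ⟨h2, -, h3, -⟩ := (H.mem_C0 c).1 hc
  obtain ⟨e0, e1, e2, e3⟩ := (tor_D4_eq_one_iff c).1 h
  obtain ⟨f0, f1, f2, f3⟩ := chi_D4 c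
  rw [f0, mul_inv_eq_one] at e0
  rw [f2, inv_mul_eq_one] at e2
  rw [f3, inv_mul_eq_one] at e3
  rw [f1] at e1
  rw [mul_inv_eq_one, mul_inv_eq_iff_eq_mul, inv_mul_eq_iff_eq_mul] at e1
  have h4 : (c 0 : K) ^ 2 = 1 := by
    simp only [Units.ext_iff, Units.val_mul, Units.val_pow_eq_pow_val] at e0 e1 e2 e3
    refine mul_left_cancel₀ (pow_ne_zero 6 (c 0).ne_zero) ?_
    have : (c 0 : K) ^ 8 = (c 1) ^ 4 := by rw [← e0]; ring
    have : (c 1 : K) ^ 4 = (c 0 * (c 3 * c 2)) ^ 2 := by rw [← e1]; ring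
    have : (c 0 * (c 3 * c 2) : K) ^ 2 = (c 0) ^ 6 := by
      rw [mul_pow, mul_pow, ← e2, ← e3, ← e0]; ring
    grind
  have h5 : c 0 ^ q = c 0 := Units.ext (by
    rw [Units.val_pow_eq_pow_val]
    rcases sq_eq_one_iff.1 h4 with h | h <;> rw [h]
    · exact one_pow q
    · rw [H.neg, one_pow])
  have h6 : c 0 ^ 2 = 1 := Units.ext h4
  rw [h5] at h2
  rw [h2, h5] at h3
  rw [h2, h3, ← e0, h6, one_pow, ← sq, h6, mul_one] at e1
  rw [← e1, one_pow] at e0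
  funext i
  fin_cases i
  exacts [e1.symm, e0.symm, h2.trans e1.symm, h3.trans e1.symm]

theorem card_C0 : Nat.card H.tw.C0 = (q - 1) ^ 2 * (q ^ 2 + q + 1) := by
  have h3 : ∀ a : Kˣ, ((a ^ q) ^ q) ^ q = a := fun a => Units.ext (H.pow3 a)
  rw [card_eq_of_bij H.tw.C0 (fun p : {u : Kˣ // u ^ q = u} × Kˣ => (![p.2, p.1, p.2 ^ q, (p.2 ^ q) ^ q] : Fin 4 → Kˣ))
    (fun a b h => Prod.ext (Subtype.ext (congrFun h (1 : Fin 4))) (congrFun h (0 : Fin 4))) fun c => ?_,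
    Nat.card_prod, card_units_fixed H.hq H.card, Nat.card_units, Nat.card_eq_fintype_card, H.card]
  · have := H.hq.le
    have h1 : 1 ≤ q ^ 3 := Nat.one_le_pow _ _ this
    zify [this, h1]; ring
  · refine (H.mem_C0 c).trans ⟨fun ⟨h2, h1, h3, _⟩ => ⟨⟨⟨_, h1.symm⟩, c (0 : Fin 4)⟩, ?_⟩, ?_⟩
    · funext i
      fin_cases i
      exacts [rfl, rfl, h2, h3.trans (congrArg (· ^ q) h2)]
    · rintro ⟨⟨a, b⟩, rfl⟩
      exact ⟨rfl, a.2.symm, rfl, (h3 b).symm⟩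

theorem card_H' : Nat.card ↥((tor coreD4 (K := K)).range ⊓ H.tw.sys.G1) = (q - 1) ^ 2 * (q ^ 2 + q + 1) := by
  rw [H.tw.card_H_inf H.ker_C0 H.tor_mem, H.card_C0]

theorem card_H : Nat.card ↥(chevD4.diagonalSubgroup K ⊓ twistedD4 K q) = (q - 1) ^ 2 * (q ^ 2 + q + 1) := by
  rw [H.tw.card_H H.twisted_eq, H.card_H']

theorem card_twisted : Nat.card ↥(twistedD4 K q) = q ^ 12 * (q ^ 2 - 1) * (q ^ 6 - 1) * (q ^ 8 + q ^ 4 + 1) := by
  have : Fintype tauD4.fixed := Fintype.ofFinite _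
  have h := @TwData.card_G1 _ _ _ _ _ _ _ _ H.tw _ this _ _ one_pos H.hJ
  rw [H.card_H', ncard_PP fastW_D4] at h
  simp only [Nat.div_one] at h
  rw [H.tw.card_eq H.twisted_eq, h, mul_assoc]
  refine (congrArg _ (poincare_tw_D4_nat H.hq.le)).trans ?_
  rw [show fastD4.n - fastD4.n / 2 = 12 from rfl]
  ring

theorem core_eq_bot :
    ((chevD4.borelSubgroup K ⊓ twistedD4 K q).subgroupOf (twistedD4 K q)).normalCore = ⊥ := by
  refine H.tw.core_eq_bot H.twisted_eq fun c hc => (tor_D4_eq_one_iff c).2 ?_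
  obtain ⟨h1, h2⟩ := (H.fixA' (r := 14) (by decide +kernel) _).2 ⟨1, one_pow q, rfl⟩
  have h3 := hc 0 _ (H.Uw0 ▸ h1) h2
  rw [tor_mul_xG coreD4 c (by decide), mul_left_inj, mul_one] at h3
  obtain ⟨h4, h5⟩ := (H.fixP _).2 ⟨1, rfl⟩
  have h6 := hc 1 _ (H.Uw1 ▸ h4) h5
  rw [← mul_assoc, ← mul_assoc, tor_mul_xG coreD4 c (by decide), mul_assoc _ (tor coreD4 c),
    tor_mul_xG coreD4 c (by decide), ← mul_assoc, mul_assoc _ (tor coreD4 c), tor_mul_xG coreD4 c (by decide),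
    ← mul_assoc, mul_left_inj] at h6
  obtain ⟨h7, h8, h9⟩ := inj_LS3 coreD4 consD4a consD4b _ _ _ _ _ _ h6
  simp only [one_pow, mul_one] at h7 h8 h9
  exact ⟨Units.ext h7, Units.ext (xG_injective coreD4 (by decide) h3), Units.ext h8, Units.ext h9⟩

theorem perfect : commutator ↥(twistedD4 K q) = ⊤ := by
  refine H.tw.perfect H.twisted_eq (Fin.forall_fin_two.2 ⟨fun u hu hσ => ?_, ?_⟩)
  · obtain ⟨t, ht, rfl⟩ := (H.fixA' (r := 14) (by decide +kernel) u).1 ⟨H.Uw0 ▸ hu, hσ⟩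
    refine H.tw.mem_commutator_of_comm (H.x_mem (r := 23) (by decide +kernel) (t := -1) (by rw [H.neg, one_pow]))
      (H.x_mem (r := 1) (by decide +kernel) ht) ?_
    simpa using xG_comm_of coreD4 (r := 23) (s := 1) (L := [(14, 1, 1, 1)]) (by decide +kernel) (-1) t
  · obtain ⟨a, ha⟩ := exists_sq_ne_one (K := K) (by
      rw [H.card]; exact le_trans (by norm_num) (Nat.pow_le_pow_left H.hq 3))
    have hc : (![a, 1, a ^ q, (a ^ q) ^ q] : Fin 4 → Kˣ) ∈ H.tw.C0 :=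
      (H.mem_C0 _).2 ⟨rfl, (one_pow q).symm, rfl, Units.ext (H.pow3 a).symm⟩
    refine TwSys.mem_commutator_of_fpf (T := H.tw.sys) ⟨_, rfl⟩ (H.tor_mem _ hc) fun u hu hσ h => ?_
    obtain ⟨t, rfl⟩ := (H.fixP u).1 ⟨H.Uw1 ▸ hu, hσ⟩
    generalize hc' : (![a, 1, a ^ q, (a ^ q) ^ q] : Fin chevD4.rank → Kˣ) = c at h
    rw [← mul_assoc, ← mul_assoc, tor_mul_xG coreD4 c (by decide), mul_assoc _ (tor coreD4 c),
      tor_mul_xG coreD4 c (by decide), ← mul_assoc, mul_assoc _ (tor coreD4 c), tor_mul_xG coreD4 c (by decide),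
      ← mul_assoc, mul_left_inj] at h
    have h1 := (inj_LS3 coreD4 consD4a consD4b _ _ _ _ _ _ h).1
    rw [← hc', (chi_D4 _).1, mul_left_eq_self₀] at h1
    have h2 : t = 0 := h1.resolve_left fun e => ha (Units.ext (by simpa using e))
    simp [h2, xG_zero, zero_pow (ne_of_gt (zero_lt_one.trans H.hq))]

theorem simple : IsSimpleGroup ↥(twistedD4 K q) ∧ ¬ IsMulCommutative ↥(twistedD4 K q) := by
  have h0 : H.tw.sys.wJ 0 = wordN chevD4 [1] := w0_eq_wordN fastW_D4 (orbD4 0) (by decide +kernel)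
  have h1 : H.tw.sys.wJ 1 = wordN chevD4 [0, 2, 3] := w0_eq_wordN fastW_D4 (orbD4 1) (by decide +kernel)
  have h : H.tw.sys.wJ 0 * H.tw.sys.wJ 1 ≠ H.tw.sys.wJ 1 * H.tw.sys.wJ 0 := by
    rw [h0, h1, ← wordN_append, ← wordN_append]
    exact fastW_D4.wordN_ne_of_chk (by decide +kernel)
  exact H.tw.simple H.twisted_eq H.perfect H.core_eq_bot (conn_two h)

end D4Hyp

end CL.Tw
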