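import Cfsg.Agent.Base
import Cfsg.Agent.Chev.TwTor

/-!
Orbits of length one and two of the diagram symmetry; determination of `H ∩ G¹` when the torus map has a kernel of
exponent three.
-/

set_option autoImplicit false
set_option linter.unusedSectionVars false

namespace CL.Tw

open Cfsg Cfsg.Lie Cfsg.Lie.ChevalleyDatum CL.ChevM CL.Weyl CL.Cox
open scoped Pointwise

theorem conn_four {W : Type*} [Group W] {f : Fin 4 → W} (h01 : f 0 * f 1 ≠ f 1 * f 0) (h12 : f 1 * f 2 ≠ f 2 * f 1)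
    (h23 : f 2 * f 3 ≠ f 3 * f 2) (A : Set (Fin 4)) (h1 : A.Nonempty) (h2 : Aᶜ.Nonempty) :
    ∃ j ∈ A, ∃ k ∉ A, f j * f k ≠ f k * f j := by
  have key : ∀ j k, f j * f k ≠ f k * f j → ¬ (j ∈ A ↔ k ∈ A) → ∃ j ∈ A, ∃ k ∉ A, f j * f k ≠ f k * f j := by
    intro j k h h'
    by_cases hj : j ∈ A
    · exact ⟨j, hj, k, fun hk => h' (iff_of_true hj hk), h⟩
    · exact ⟨k, by_contra fun hk => h' (iff_of_false hj hk), j, hj, h.symm⟩
  by_contra hc
  have e1 : 0 ∈ A ↔ 1 ∈ A := by_contra fun h => hc (key _ _ h01 h)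
  have e2 : 1 ∈ A ↔ 2 ∈ A := by_contra fun h => hc (key _ _ h12 h)
  have e3 : 2 ∈ A ↔ 3 ∈ A := by_contra fun h => hc (key _ _ h23 h)
  have e : ∀ j, j ∈ A ↔ 0 ∈ A := fun j => by
    fin_cases j
    exacts [Iff.rfl, e1.symm, (e1.trans e2).symm, ((e1.trans e2).trans e3).symm]
  obtain ⟨j, hj⟩ := h1
  obtain ⟨k, hk⟩ := h2
  exact hk ((e k).2 ((e j).1 hj))

variable {D : ChevalleyDatum} {η : ℕ → ℕ → ℤ} (C : Core D η) {K : Type*} [Field K]

theorem tor_mul_xG₂ (c : Fin D.rank → Kˣ) {a b : ℕ} (ha : a < D.nroots) (hb : b < D.nroots) (t u : K) :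
    tor C c * (xG C a t * xG C b u) = xG C a (chi D c a * t) * xG C b (chi D c b * u) * tor C c := by
  rw [← mul_assoc, tor_mul_xG C c ha, mul_assoc, tor_mul_xG C c hb, mul_assoc]

theorem OrthOK.nG_mul_eq {a b : ℕ} (h : OrthOK D a b) (t u : K) :
    nG C a t * nG C b u = hG C a t * hG C b u * (nG C a 1 * nG C b 1) := by
  rw [nG_eq_hG_mul C a t, nG_eq_hG_mul C b u]
  exact ((h.nG_nG C 1 u).mul_left (h.nG_nG C 1 (-1))).symm.mul_mul_mul_comm _ _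

variable [WeylOK D] [CoefOK D]

namespace TwData

variable {C} {ι : Type*} (T : TwData C K ι)

theorem single_mem_C0 {i : Fin D.rank} (hi : T.τ.π i = i) {a : Kˣ} (ha : a ^ T.e i = a) : Pi.mulSingle i a ∈ T.C0 := by
  rw [mem_C0]
  intro k
  by_cases hk : k = i
  · subst hk; rw [hi, Pi.mulSingle_eq_same, ha]
  · rw [Pi.mulSingle_eq_of_ne hk, Pi.mulSingle_eq_of_ne (by rw [← hi]; exact T.τ.π.injective.ne hk), one_pow]

theorem pair_mem_C0 {i j : Fin D.rank} (hi : T.τ.π i = j) (hj : T.τ.π j = i) (hij : i ≠ j) {a b : Kˣ}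
    (ha : a ^ T.e i = b) (hb : b ^ T.e j = a) : Pi.mulSingle i a * Pi.mulSingle j b ∈ T.C0 := by
  rw [mem_C0]
  intro k
  by_cases hk : k = i
  · subst hk; simp [hi, hij, hij.symm, ha]
  by_cases hk' : k = j
  · subst hk'; simp [hj, hij, hij.symm, hb]
  have h1 : T.τ.π k ≠ i := by rw [← hj]; exact T.τ.π.injective.ne hk'
  have h2 : T.τ.π k ≠ j := by rw [← hi]; exact T.τ.π.injective.ne hk
  simp [hk, hk', h1, h2]

theorem single_conj_mem {i : Fin D.rank} (hi : T.τ.π i = i) {h : ↥(D.group K)} (hh : h ∈ T.C0.map (tor C)) :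
    nS C K i * h * (nS C K i)⁻¹ ∈ T.C0.map (tor C) := by
  obtain ⟨c, hc, rfl⟩ := hh
  refine ⟨_, mul_mem hc (T.single_mem_C0 hi ?_), (nS_conj_tor_eq C i c).symm⟩
  rw [inv_pow, ← T.chi_fix (T.σ_tor_of_mem hc), hi]

theorem pair_conj_mem {i j : Fin D.rank} (hi : T.τ.π i = j) (hj : T.τ.π j = i) (hij : i ≠ j)
    (h0 : D.cartan j (D.simple i) = 0) {h : ↥(D.group K)} (hh : h ∈ T.C0.map (tor C)) :
    nS C K i * nS C K j * h * (nS C K i * nS C K j)⁻¹ ∈ T.C0.map (tor C) := by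
  obtain ⟨c, hc, rfl⟩ := hh
  have h1 := T.chi_fix (T.σ_tor_of_mem hc) i
  have h2 := T.chi_fix (T.σ_tor_of_mem hc) j
  refine ⟨_, mul_mem hc (T.pair_mem_C0 hi hj hij (a := (chi D c (D.simple i))⁻¹) (b := (chi D c (D.simple j))⁻¹)
    (by rw [inv_pow, ← h1, hi]) (by rw [inv_pow, ← h2, hj])), ?_⟩
  rw [show ∀ a b y : ↥(D.group K), a * b * y * (a * b)⁻¹ = a * (b * y * b⁻¹) * a⁻¹ from fun a b y => by group,
    nS_conj_tor_eq, nS_conj_tor_eq, chi_mul, chi_mulSingle, h0, zpow_zero, mul_one, mul_assoc, mul_comm (Pi.mulSingle j _)]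

theorem H_inf_eq_of_cube [Finite K] (S : Set ↥(D.group K)) (hS : ∀ m ∈ S, m ∈ Subgroup.closure (Set.range (nS C K)))
    (hσ : ∀ m ∈ S, T.σ m = m) (hn : ∀ m ∈ S, ∀ h ∈ T.C0.map (tor C), m * h * m⁻¹ ∈ T.C0.map (tor C))
    (h₀ : ∀ j, ∀ y ∈ T.sys.XS (ninvS T.sys.P (T.sys.wJ j)), y ≠ 1 → T.σ y = y →
      ∃ b ∈ XSg C K (PP D), ∃ h ∈ T.C0.map (tor C), ∃ m ∈ S, ∃ v ∈ XSg C K (PP D), y = b * (h * m) * v)
    (h3 : ∀ z : Fin D.rank → Kˣ, tor C z = 1 → z ^ 3 = 1) (hG : ∀ c ∈ T.C0, tor C c ∈ T.sys.G1) :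
    (tor C).range ⊓ T.sys.G1 = T.C0.map (tor C) := by
  have hM : Subgroup.closure S ≤ Subgroup.closure (Set.range (nS C K)) := (Subgroup.closure_le _).2 hS
  have hMσ : Subgroup.closure S ≤ T.sys.Fix := (Subgroup.closure_le _).2 hσ
  have hH : T.C0.map (tor C) ≤ (tor C).range := Subgroup.map_le_range _ _
  have h1 : T.sys.N ⊓ T.sys.G1 ≤ T.C0.map (tor C) ⊔ Subgroup.closure S := by
    refine TwSys.N_inf_G1_le (sup_le (hH.trans (TwSys.H_le_N (T := T.sys))) (hM.trans ?_)) (sup_le ?_ hMσ) ?_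
    · rw [Subgroup.closure_le]
      rintro _ ⟨i, rfl⟩
      exact TwSys.Rep_mem_N (T := T.sys) (rep_nS C i)
    · rintro _ ⟨c, hc, rfl⟩
      exact T.σ_tor_of_mem hc
    · intro j y hy hy1 hy2
      obtain ⟨b, hb, h, hh, m, hm, v, hv, e⟩ := h₀ j y hy hy1 hy2
      exact ⟨b, hb, _, mul_mem (Subgroup.mem_sup_left hh) (Subgroup.mem_sup_right (Subgroup.subset_closure hm)),
        v, hv, e⟩
  apply le_antisymm
  · intro h hh
    have h2 : h ∈ ((T.C0.map (tor C) : Set ↥(D.group K)) * (Subgroup.closure S : Set ↥(D.group K)) :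
        Set ↥(D.group K)) := by
      rw [← Subgroup.coe_mul_of_right_le_normalizer_left _ _
        ((Subgroup.closure_le _).2 fun m hm => Subgroup.mem_normalizer_fintype (hn m hm))]
      exact h1 ⟨TwSys.H_le_N (T := T.sys) hh.1, hh.2⟩
    obtain ⟨a, ha, m, hm, rfl⟩ := h2
    have hmH : m ∈ (tor C).range := by simpa using mul_mem (inv_mem (hH ha)) hh.1
    have h4 := sq_eq_one_of_mem C (hM hm) hmH
    obtain ⟨c, rfl⟩ := hmH
    have h5 : T.σ (tor C c) = tor C c := hMσ hm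
    have h6 := h3 (T.τc c / c) (by rw [map_div, ← σ_tor', h5, div_self'])
    refine mul_mem ha ⟨c ^ 3, ?_, by rw [map_pow, pow_succ, sq, h4, one_mul]⟩
    change T.τc (c ^ 3) = c ^ 3
    rwa [div_pow, div_eq_one, ← map_pow] at h6
  · rintro _ ⟨c, hc, rfl⟩
    exact ⟨⟨c, rfl⟩, hG c hc⟩

end TwData

end CL.Tw
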