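import Cfsg.Agent.Base
import Cfsg.Agent.Chev.TwPair
import Cfsg.Agent.Chev.TwLinAut
import Cfsg.Agent.Chev.WeylTw

/-!
The groups ²E₆(q).
-/

set_option autoImplicit false
set_option linter.unusedSectionVars false

namespace CL.Tw

open Cfsg Cfsg.Lie Cfsg.Lie.ChevalleyDatum CL.ChevM CL.Weyl CL.Cox CL.WC

variable {K : Type*} [Field K] [Fintype K] {q : ℕ}

/-- The twisting endomorphism of ²E₆(q). -/
structure E6Hyp (q : ℕ) (σ : ↥(chevE6.group K) →* ↥(chevE6.group K)) : Prop where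
  hq : 1 < q
  card : Fintype.card K = q ^ 2
  neg : ∀ t : K, (-t) ^ q = -t ^ q
  act : ∀ r < chevE6.nroots, ∀ t : K,
    σ (xG coreE6 r t) = xG coreE6 (rhoE6Tab.getD r 0) ((gamE6Tab.getD r 0 : ℤ) * t ^ q)

theorem exists_E6Hyp (hq : IsPrimePow q) (hK : Fintype.card K = q ^ 2) :
    ∃ σ : ↥(chevE6.group K) →* ↥(chevE6.group K), E6Hyp q σ := by
  obtain ⟨f, hf⟩ := exists_frob hq hK
  obtain ⟨α, hα⟩ := exists_linAut chevE6 rhoE6 piE6 (rhoE6Tab.getD · 0) (piE6Tab.getD · 0) (fun _ => rfl)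
    (fun _ => rfl) (gamE6Tab.getD · 0) linOK_E6 f
  exact ⟨α, hq.one_lt, hK, fun t => by rw [← hf, ← hf, map_neg],
    fun r hr t => mat_injective (by rw [← hf]; exact hα _ r t hr rfl)⟩

/-- The nodes of the diagram of type E₆. -/
def ndE6 (k : Fin 6) : Fin chevE6.rank := k

/-- Representatives of the orbits of the symmetry on the nodes. -/
def repE6 : Fin 4 → Fin chevE6.rank := ![ndE6 1, ndE6 3, ndE6 2, ndE6 0]

theorem orbE6 (j : Fin 4) (k : Fin chevE6.rank) :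
    k ∈ tauE6.orb (repE6 j) ↔ (k : ℕ) ∈ [[1], [3], [2, 4], [0, 5]].getD j [] := by
  rw [mem_orb_E6]; revert j k; decide +kernel

theorem posE6 (j : Fin 4) : {r | (Φ chevE6).Pos r ∧ (Φ chevE6).InSub (tauE6.orb (repE6 j)) r} =
    LS chevE6 ([[46], [39], [42, 37], [56, 36]].getD j []) :=
  pos_inSub_eq fastW_E6 (orbE6 j) (by revert j; decide +kernel)

theorem negE6 (j : Fin 4) : {r | ¬ (Φ chevE6).Pos r ∧ (Φ chevE6).InSub (tauE6.orb (repE6 j)) r} =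
    LS chevE6 ([[25], [32], [29, 34], [15, 35]].getD j []) :=
  neg_inSub_eq fastW_E6 (orbE6 j) (by revert j; decide +kernel)

theorem consE6a : ConsOK chevE6 42 [37] [-1, -1, -1, -1, 0, -1] := by decide +kernel
theorem consE6b : ConsOK chevE6 56 [36] [-1, -1, -1, -1, -1, 0] := by decide +kernel
theorem consE6c : ConsOK chevE6 29 [34] [-1, -1, -1, -1, -1, 0] := by decide +kernel
theorem consE6d : ConsOK chevE6 15 [35] [0, -1, -1, -1, -1, -1] := by decide +kernel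
theorem orthE6a : OrthOK chevE6 42 37 := by decide +kernel
theorem orthE6b : OrthOK chevE6 56 36 := by decide +kernel

theorem chi_E6 (c : Fin 6 → Kˣ) : chi chevE6 c 56 = c 0 ^ 2 * (c 2)⁻¹ ∧ chi chevE6 c 46 = c 1 ^ 2 * (c 3)⁻¹ ∧
    chi chevE6 c 42 = (c 0)⁻¹ * c 2 ^ 2 * (c 3)⁻¹ ∧ chi chevE6 c 39 = (c 1)⁻¹ * (c 2)⁻¹ * c 3 ^ 2 * (c 4)⁻¹ ∧
    chi chevE6 c 37 = (c 3)⁻¹ * c 4 ^ 2 * (c 5)⁻¹ ∧ chi chevE6 c 36 = (c 4)⁻¹ * c 5 ^ 2 := by
  have h : ∀ s, chi chevE6 c s = c 0 ^ chevE6.cartan 0 s * c 1 ^ chevE6.cartan 1 s * c 2 ^ chevE6.cartan 2 s *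
    c 3 ^ chevE6.cartan 3 s * c 4 ^ chevE6.cartan 4 s * c 5 ^ chevE6.cartan 5 s := fun s => Fin.prod_univ_six _
  have e : ∀ p ∈ [(0, 56, 2), (1, 56, 0), (2, 56, -1), (3, 56, 0), (4, 56, 0), (5, 56, 0),
    (0, 46, 0), (1, 46, 2), (2, 46, 0), (3, 46, -1), (4, 46, 0), (5, 46, 0),
    (0, 42, -1), (1, 42, 0), (2, 42, 2), (3, 42, -1), (4, 42, 0), (5, 42, 0),
    (0, 39, 0), (1, 39, -1), (2, 39, -1), (3, 39, 2), (4, 39, -1), (5, 39, 0),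
    (0, 37, 0), (1, 37, 0), (2, 37, 0), (3, 37, -1), (4, 37, 2), (5, 37, -1),
    (0, 36, 0), (1, 36, 0), (2, 36, 0), (3, 36, 0), (4, 36, -1), (5, 36, 2)],
    chevE6.cartan p.1 p.2.1 = p.2.2 := by decide +kernel
  simp only [List.forall_mem_cons] at e
  simp only [h, e]
  simp [zpow_ofNat]

theorem tor_E6_eq_one_iff (c : Fin 6 → Kˣ) : tor coreE6 c = 1 ↔ chi chevE6 c 56 = 1 ∧ chi chevE6 c 46 = 1 ∧
    chi chevE6 c 42 = 1 ∧ chi chevE6 c 39 = 1 ∧ chi chevE6 c 37 = 1 ∧ chi chevE6 c 36 = 1 := by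
  refine (tor_eq_one_iff coreE6 c).trans ?_
  constructor
  · exact fun h => ⟨h 0 (by decide), h 1 (by decide), h 2 (by decide), h 3 (by decide), h 4 (by decide),
      h 5 (by decide)⟩
  · rintro ⟨h0, h1, h2, h3, h4, h5⟩ j hj
    have hj' : j < 6 := hj
    interval_cases j
    exacts [h0, h1, h2, h3, h4, h5]

theorem kerE6_add {A : Type*} [AddCommGroup A] {a b c d e f : A} (h0 : 2 • a + -c = 0) (h1 : 2 • b + -d = 0)
    (h2 : -a + 2 • c + -d = 0) (h3 : -b + -c + 2 • d + -e = 0) (h4 : -d + 2 • e + -f = 0) (h5 : -e + 2 • f = 0) :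
    3 • a = 0 ∧ b = 0 ∧ c = 2 • a ∧ d = 0 ∧ e = a ∧ f = 2 • a :=
  ⟨by linear_combination (norm := module) 4 • h0 + 3 • h1 + 5 • h2 + 6 • h3 + 4 • h4 + 2 • h5,
    by linear_combination (norm := module) h0 + 2 • h1 + 2 • h2 + 3 • h3 + 2 • h4 + h5,
    by linear_combination (norm := module) -h0,
    by linear_combination (norm := module) 2 • h0 + 3 • h1 + 4 • h2 + 6 • h3 + 4 • h4 + 2 • h5,
    by linear_combination (norm := module) h1 + h2 + 2 • h3 + 2 • h4 + h5,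
    by linear_combination (norm := module) -(2 • h0) - h1 - 2 • h2 - 2 • h3 - h4⟩

theorem ker_E6 (c : Fin 6 → Kˣ) : tor coreE6 c = 1 ↔ ∃ a : Kˣ, a ^ 3 = 1 ∧ c = ![a, 1, a ^ 2, 1, a, a ^ 2] := by
  obtain ⟨f0, f1, f2, f3, f4, f5⟩ := chi_E6 c
  rw [tor_E6_eq_one_iff, f0, f1, f2, f3, f4, f5]
  constructor
  · rintro ⟨h0, h1, h2, h3, h4, h5⟩
    obtain ⟨e0, e1, e2, e3, e4, e5⟩ := kerE6_add (A := Additive Kˣ) (a := c 0) (b := c 1) (c := c 2) (d := c 3)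
      (e := c 4) (f := c 5) h0 h1 h2 h3 h4 h5
    refine ⟨c 0, e0, funext fun i => ?_⟩
    fin_cases i
    exacts [rfl, e1, e2, e3, e4, e5]
  · rintro ⟨a, ha, rfl⟩
    have h : a⁻¹ = a ^ 2 := inv_eq_of_mul_eq_one_right (by rw [← pow_succ', ha])
    have h' : (a ^ 2)⁻¹ = a := by rw [← h, inv_inv]
    have h4 : a ^ 6 = 1 := by rw [show 6 = 3 * 2 from rfl, pow_mul, ha, one_pow]
    simp only [Matrix.cons_val, h, h', inv_one, one_pow, mul_one, one_mul, ← pow_mul, ← pow_add, ← pow_succ,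
      ← pow_succ', ha, h4, true_and]

namespace E6Hyp

variable {σ : ↥(chevE6.group K) →* ↥(chevE6.group K)} (H : E6Hyp q σ)
include H

theorem act' {r s : ℕ} (h : r < chevE6.nroots ∧ rhoE6Tab.getD r 0 = s ∧ gamE6Tab.getD r 0 = 1) (t : K) :
    σ (xG coreE6 r t) = xG coreE6 s (t ^ q) := by
  rw [H.act r h.1, h.2.1, h.2.2, Int.cast_one, one_mul]

theorem pow2 (t : K) : (t ^ q) ^ q = t := by rw [← pow_mul, ← sq, pow_pow_card H.card]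

theorem fixA' {r : ℕ} (h : r < chevE6.nroots ∧ rhoE6Tab.getD r 0 = r ∧ gamE6Tab.getD r 0 = 1)
    (g : ↥(chevE6.group K)) : g ∈ XSg coreE6 K (LS chevE6 [r]) ∧ σ g = g ↔ ∃ t, t ^ q = t ∧ g = xG coreE6 r t :=
  fixA (mem_LS1 coreE6 h.1) (xG_injective coreE6 h.1) (H.act' h) g

theorem fixB' {a b : ℕ} {c : List ℤ} (hc : ConsOK chevE6 a [b] c)
    (hm : ∀ t u : K, Commute (xG coreE6 b u) (xG coreE6 a t))
    (h : (a < chevE6.nroots ∧ rhoE6Tab.getD a 0 = b ∧ gamE6Tab.getD a 0 = 1) ∧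
      b < chevE6.nroots ∧ rhoE6Tab.getD b 0 = a ∧ gamE6Tab.getD b 0 = 1) (g : ↥(chevE6.group K)) :
    g ∈ XSg coreE6 K (LS chevE6 [a, b]) ∧ σ g = g ↔ ∃ t, g = xG coreE6 a t * xG coreE6 b (t ^ q) :=
  (fixB (φ := (· ^ q)) (ψ := (· ^ q)) (mem_LS2 coreE6 hc) (inj_LS2 coreE6 hc) hm (H.act' h.1) (H.act' h.2) g).trans
    ⟨fun ⟨t, _, h1, _, e⟩ => ⟨t, h1 ▸ e⟩, fun ⟨t, e⟩ => ⟨t, _, rfl, H.pow2 t, e⟩⟩

theorem fixP2 (g : ↥(chevE6.group K)) : g ∈ XSg coreE6 K (LS chevE6 [42, 37]) ∧ σ g = g ↔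
    ∃ t, g = xG coreE6 42 t * xG coreE6 37 (t ^ q) := H.fixB' consE6a (orthE6a.pp coreE6) (by decide +kernel) g
theorem fixP3 (g : ↥(chevE6.group K)) : g ∈ XSg coreE6 K (LS chevE6 [56, 36]) ∧ σ g = g ↔
    ∃ t, g = xG coreE6 56 t * xG coreE6 36 (t ^ q) := H.fixB' consE6b (orthE6b.pp coreE6) (by decide +kernel) g
theorem fixN2 (g : ↥(chevE6.group K)) : g ∈ XSg coreE6 K (LS chevE6 [29, 34]) ∧ σ g = g ↔
    ∃ t, g = xG coreE6 29 t * xG coreE6 34 (t ^ q) := H.fixB' consE6c (orthE6a.nn coreE6) (by decide +kernel) g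
theorem fixN3 (g : ↥(chevE6.group K)) : g ∈ XSg coreE6 K (LS chevE6 [15, 35]) ∧ σ g = g ↔
    ∃ t, g = xG coreE6 15 t * xG coreE6 35 (t ^ q) := H.fixB' consE6d (orthE6b.nn coreE6) (by decide +kernel) g

/-- The data of ²E₆(q). -/
noncomputable def tw : TwData coreE6 K (Fin 4) where
  τ := tauE6
  σ := σ
  e _ := q
  rep := repE6
  he _ := H.neg
  h1 i := H.act' (by revert i; decide +kernel)
  h2 i := H.act' (by revert i; decide +kernel)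
  rep_inj j k := by rw [orbE6]; revert j k; decide +kernel
  rep_surj i := by simp only [orbE6]; revert i; decide +kernel
  nontriv j := by
    rw [negE6]
    fin_cases j
    · obtain ⟨h1, h2⟩ := (H.fixA' (r := 25) (by decide +kernel) _).2 ⟨1, one_pow q, rfl⟩
      exact ⟨_, h1, by rw [Ne, xG_eq_one_iff _ (by decide)]; exact one_ne_zero, h2⟩
    · obtain ⟨h1, h2⟩ := (H.fixA' (r := 32) (by decide +kernel) _).2 ⟨1, one_pow q, rfl⟩
      exact ⟨_, h1, by rw [Ne, xG_eq_one_iff _ (by decide)]; exact one_ne_zero, h2⟩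
    · obtain ⟨h1, h2⟩ := (H.fixN2 _).2 ⟨1, rfl⟩
      refine ⟨_, h1, fun h => one_ne_zero (inj_LS2 coreE6 consE6c _ _ 0 0 (h.trans ?_)).1, h2⟩
      simp [xG_zero]
    · obtain ⟨h1, h2⟩ := (H.fixN3 _).2 ⟨1, rfl⟩
      refine ⟨_, h1, fun h => one_ne_zero (inj_LS2 coreE6 consE6d _ _ 0 0 (h.trans ?_)).1, h2⟩
      simp [xG_zero]

theorem Uw (j : Fin 4) : H.tw.sys.Uw (H.tw.sys.wJ j) =
    XSg coreE6 K (LS chevE6 ([[46], [39], [42, 37], [56, 36]].getD j [])) :=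
  (H.tw.sys_Uw j).trans (congrArg _ (posE6 j))
theorem Vw (j : Fin 4) : H.tw.sys.XS (ninvS H.tw.sys.P (H.tw.sys.wJ j)) =
    XSg coreE6 K (LS chevE6 ([[25], [32], [29, 34], [15, 35]].getD j [])) :=
  (H.tw.sys_ninv j).trans (congrArg _ (negE6 j))

theorem x_mem {r : ℕ} (h : r < chevE6.nroots ∧ rhoE6Tab.getD r 0 = r ∧ gamE6Tab.getD r 0 = 1) {t : K}
    (ht : t ^ q = t) : xG coreE6 r t ∈ H.tw.sys.G1 :=
  H.tw.xG_mem_G1 h.1 ((H.act' h t).trans (by rw [ht]))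

theorem P2_mem (t : K) : xG coreE6 42 t * xG coreE6 37 (t ^ q) ∈ H.tw.sys.G1 := by
  obtain ⟨h1, h2⟩ := (H.fixP2 _).2 ⟨t, rfl⟩
  exact TwSys.mem_G1_of_pos (j := 2) (H.Uw 2 ▸ h1) h2
theorem P3_mem (t : K) : xG coreE6 56 t * xG coreE6 36 (t ^ q) ∈ H.tw.sys.G1 := by
  obtain ⟨h1, h2⟩ := (H.fixP3 _).2 ⟨t, rfl⟩
  exact TwSys.mem_G1_of_pos (j := 3) (H.Uw 3 ▸ h1) h2
theorem N2_mem (t : K) : xG coreE6 29 t * xG coreE6 34 (t ^ q) ∈ H.tw.sys.G1 := by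
  obtain ⟨h1, h2⟩ := (H.fixN2 _).2 ⟨t, rfl⟩
  exact TwSys.mem_G1_of_neg (j := 2) (H.Vw 2 ▸ h1) h2
theorem N3_mem (t : K) : xG coreE6 15 t * xG coreE6 35 (t ^ q) ∈ H.tw.sys.G1 := by
  obtain ⟨h1, h2⟩ := (H.fixN3 _).2 ⟨t, rfl⟩
  exact TwSys.mem_G1_of_neg (j := 3) (H.Vw 3 ▸ h1) h2

theorem twisted_eq : twistedE6 K q = H.tw.sys.G1.map (chevE6.group K).subtype := by
  refine H.tw.genSubgroup_eq _ ?_ (fun j g hg hσ => ?_) (fun j g hg hσ => ?_)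
  · rintro w (⟨t, ht, r, hr, rfl⟩ | ⟨t, rs, hr, rfl⟩)
    · simp only [List.mem_cons, List.not_mem_nil, or_false] at hr
      rcases hr with rfl | rfl | rfl | rfl <;> simpa [wG] using H.x_mem (by decide +kernel) ht
    · simp only [List.mem_cons, List.not_mem_nil, or_false] at hr
      rcases hr with rfl | rfl | rfl | rfl
      · simpa [wG, e6p1, e6p6] using H.P3_mem t
      · simpa [wG, e6m1, e6m6] using H.N3_mem t
      · simpa [wG, e6p3, e6p5] using H.P2_mem t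
      · simpa [wG, e6m3, e6m5] using H.N2_mem t
  · rw [H.Uw] at hg
    fin_cases j
    · obtain ⟨t, ht, rfl⟩ := (H.fixA' (r := 46) (by decide +kernel) g).1 ⟨hg, hσ⟩
      exact ⟨[(46, t)], Or.inl ⟨t, ht, e6p2, by simp, rfl⟩, by simp [wG]⟩
    · obtain ⟨t, ht, rfl⟩ := (H.fixA' (r := 39) (by decide +kernel) g).1 ⟨hg, hσ⟩
      exact ⟨[(39, t)], Or.inl ⟨t, ht, e6p4, by simp, rfl⟩, by simp [wG]⟩
    · obtain ⟨t, rfl⟩ := (H.fixP2 g).1 ⟨hg, hσ⟩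
      exact ⟨_, Or.inr ⟨t, (e6p3, e6p5), by simp, rfl⟩, by simp [wG]; rfl⟩
    · obtain ⟨t, rfl⟩ := (H.fixP3 g).1 ⟨hg, hσ⟩
      exact ⟨_, Or.inr ⟨t, (e6p1, e6p6), by simp, rfl⟩, by simp [wG]; rfl⟩
  · rw [H.Vw] at hg
    fin_cases j
    · obtain ⟨t, ht, rfl⟩ := (H.fixA' (r := 25) (by decide +kernel) g).1 ⟨hg, hσ⟩
      exact ⟨[(25, t)], Or.inl ⟨t, ht, e6m2, by simp, rfl⟩, by simp [wG]⟩
    · obtain ⟨t, ht, rfl⟩ := (H.fixA' (r := 32) (by decide +kernel) g).1 ⟨hg, hσ⟩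
      exact ⟨[(32, t)], Or.inl ⟨t, ht, e6m4, by simp, rfl⟩, by simp [wG]⟩
    · obtain ⟨t, rfl⟩ := (H.fixN2 g).1 ⟨hg, hσ⟩
      exact ⟨_, Or.inr ⟨t, (e6m3, e6m5), by simp, rfl⟩, by simp [wG]; rfl⟩
    · obtain ⟨t, rfl⟩ := (H.fixN3 g).1 ⟨hg, hσ⟩
      exact ⟨_, Or.inr ⟨t, (e6m1, e6m6), by simp, rfl⟩, by simp [wG]; rfl⟩

theorem card_fixA {r : ℕ} (h : r < chevE6.nroots ∧ rhoE6Tab.getD r 0 = r ∧ gamE6Tab.getD r 0 = 1) :
    Nat.card ↥(XSg coreE6 K (LS chevE6 [r]) ⊓ H.tw.sys.Fix) = q ^ 1 := by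
  rw [pow_one]
  refine (card_eq_of_bij _ (fun t : {t : K // t ^ q = t} => xG coreE6 r t.1)
    (fun a b e => Subtype.ext (xG_injective coreE6 h.1 e)) fun g => ?_).trans (card_fixed H.hq H.card)
  exact (H.fixA' h g).trans ⟨fun ⟨t, h, e⟩ => ⟨⟨t, h⟩, e⟩, fun ⟨t, e⟩ => ⟨t.1, t.2, e⟩⟩

theorem hJ (j : Fin 4) : ∃ e, Nat.card ↥(H.tw.sys.Uw (H.tw.sys.wJ j) ⊓ H.tw.sys.Fix) = q ^ e ∧
    1 * e = (invS H.tw.sys.P (H.tw.sys.wJ j)).ncard := by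
  have hn : invS H.tw.sys.P (H.tw.sys.wJ j) = LS chevE6 ([[46], [39], [42, 37], [56, 36]].getD j []) :=
    (invS_w0 _).trans (posE6 j)
  rw [hn, ncard_LS (by clear hn; revert j; decide), H.Uw]
  fin_cases j
  · exact ⟨1, H.card_fixA (r := 46) (by decide +kernel), rfl⟩
  · exact ⟨1, H.card_fixA (r := 39) (by decide +kernel), rfl⟩
  · exact ⟨2, (card_eq_of_bij _ _ (fun a b h => (inj_LS2 coreE6 consE6a _ _ _ _ h).1) H.fixP2).trans
      (Nat.card_eq_fintype_card.trans H.card), rfl⟩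
  · exact ⟨2, (card_eq_of_bij _ _ (fun a b h => (inj_LS2 coreE6 consE6b _ _ _ _ h).1) H.fixP3).trans
      (Nat.card_eq_fintype_card.trans H.card), rfl⟩

theorem card_U : Nat.card ↥(chevE6.posUnipotent K ⊓ twistedE6 K q) = q ^ 36 := by
  rw [H.tw.card_U H.twisted_eq, TwSys.card_U_inf_G1 one_pos H.hJ]
  exact congrArg _ (by rw [Nat.div_one]; exact ncard_PP fastW_E6)

theorem mem_C0 (c : Fin 6 → Kˣ) : c ∈ H.tw.C0 ↔
    c 5 = c 0 ^ q ∧ c 1 = c 1 ^ q ∧ c 4 = c 2 ^ q ∧ c 3 = c 3 ^ q ∧ c 2 = c 4 ^ q ∧ c 0 = c 5 ^ q := by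
  refine H.tw.mem_C0.trans ?_
  exact Fin.forall_fin_succ.trans (and_congr Iff.rfl (Fin.forall_fin_succ.trans (and_congr Iff.rfl
    (Fin.forall_fin_succ.trans (and_congr Iff.rfl (Fin.forall_fin_succ.trans (and_congr Iff.rfl
      Fin.forall_fin_two)))))))

theorem neg_one_pow' : (-1 : K) ^ q = -1 := by rw [H.neg, one_pow]

theorem h1_mem {r : ℕ} (h : (r < chevE6.nroots ∧ rhoE6Tab.getD r 0 = r ∧ gamE6Tab.getD r 0 = 1) ∧
    chevE6.neg r < chevE6.nroots ∧ rhoE6Tab.getD (chevE6.neg r) 0 = chevE6.neg r ∧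
      gamE6Tab.getD (chevE6.neg r) 0 = 1) {t : K} (ht : t ^ q = t) : hG coreE6 r t ∈ H.tw.sys.G1 := by
  have hn : ∀ t : K, t ^ q = t → nG coreE6 r t ∈ H.tw.sys.G1 := fun t ht =>
    mul_mem (mul_mem (H.x_mem h.1 ht) (H.x_mem h.2 (by rw [H.neg, inv_pow, ht]))) (H.x_mem h.1 ht)
  exact mul_mem (hn t ht) (hn _ H.neg_one_pow')

theorem h2_mem {a b : ℕ} (h : OrthOK chevE6 a b) (hP : ∀ t : K, xG coreE6 a t * xG coreE6 b (t ^ q) ∈ H.tw.sys.G1)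
    (hN : ∀ t : K, xG coreE6 (chevE6.neg a) t * xG coreE6 (chevE6.neg b) (t ^ q) ∈ H.tw.sys.G1) (t : K) :
    hG coreE6 a t * hG coreE6 b (t ^ q) ∈ H.tw.sys.G1 := by
  have hn : ∀ t : K, nG coreE6 a t * nG coreE6 b (t ^ q) ∈ H.tw.sys.G1 := fun t => by
    rw [h.nG_mul, ← inv_pow, ← H.neg]
    exact mul_mem (mul_mem (hP t) (hN _)) (hP t)
  have := hn (-1)
  rw [H.neg_one_pow'] at this
  rw [h.hG_mul]
  exact mul_mem (hn t) this

theorem tor_mem (c : Fin 6 → Kˣ) (hc : c ∈ H.tw.C0) : tor coreE6 c ∈ H.tw.sys.G1 := by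
  obtain ⟨h0, h1, h2, h3, -, -⟩ := (H.mem_C0 c).1 hc
  have : c = Pi.mulSingle 1 (c 1) * Pi.mulSingle 3 (c 3) * (Pi.mulSingle 2 (c 2) * Pi.mulSingle 4 (c 2 ^ q)) *
      (Pi.mulSingle 0 (c 0) * Pi.mulSingle 5 (c 0 ^ q)) := by
    rw [← h0, ← h2]; ext i; fin_cases i <;> simp
  let f : (Fin 6 → Kˣ) →* ↥(chevE6.group K) := tor coreE6
  have hf : ∀ (i : Fin 6) (a : Kˣ), f (Pi.mulSingle i a) = hG coreE6 (chevE6.simple i) (a : K) :=
    fun i a => tor_mulSingle coreE6 i a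
  change f c ∈ _
  rw [this]
  simp only [map_mul, hf, Units.val_pow_eq_pow_val]
  refine mul_mem (mul_mem (mul_mem ?_ ?_) ?_) ?_
  · exact H.h1_mem (by decide +kernel) (by rw [← Units.val_pow_eq_pow_val, ← h1])
  · exact H.h1_mem (by decide +kernel) (by rw [← Units.val_pow_eq_pow_val, ← h3])
  · exact H.h2_mem orthE6a H.P2_mem H.N2_mem _
  · exact H.h2_mem orthE6b H.P3_mem H.N3_mem _

theorem H_inf_eq : (tor coreE6).range ⊓ H.tw.sys.G1 = H.tw.C0.map (tor coreE6) := by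
  have hm : ∀ i, nS coreE6 K i ∈ Subgroup.closure (Set.range (nS coreE6 K)) :=
    fun i => Subgroup.subset_closure ⟨i, rfl⟩
  have hc : ∀ t u : K, Commute (nG coreE6 37 u) (nG coreE6 42 t) := orthE6a.nG_nG coreE6
  have hc' : ∀ t u : K, Commute (nG coreE6 36 u) (nG coreE6 56 t) := orthE6b.nG_nG coreE6
  have hs : ∀ (i : Fin chevE6.rank), H.tw.τ.π i = i → ∀ t : K, t ≠ 0 → t ^ q = t →
      ∃ b ∈ XSg coreE6 K (PP chevE6), ∃ h ∈ H.tw.C0.map (tor coreE6), ∃ v ∈ XSg coreE6 K (PP chevE6),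
        xG coreE6 (chevE6.neg (chevE6.simple i)) t = b * (h * nS coreE6 K i) * v := by
    intro i hi t h0 ht
    have hx := fun u : K => xG_mem_XSg coreE6 (S := PP chevE6) ((Φ chevE6).pos_simple i) u
    refine ⟨_, hx t⁻¹, _, ⟨_, H.tw.single_mem_C0 hi (a := Units.mk0 (-t⁻¹) (by simpa using h0))
      (Units.ext (by change (-t⁻¹) ^ q = -t⁻¹; rw [H.neg, inv_pow, ht])), rfl⟩, _, hx t⁻¹, ?_⟩
    rw [xG_neg_eq, tor_mulSingle, nG_eq_hG_mul]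
    rfl
  have hp : ∀ (i j : Fin chevE6.rank), H.tw.τ.π i = j → H.tw.τ.π j = i → i ≠ j →
      OrthOK chevE6 (chevE6.simple i) (chevE6.simple j) → ∀ t : K, t ≠ 0 →
      ∃ b ∈ XSg coreE6 K (PP chevE6), ∃ h ∈ H.tw.C0.map (tor coreE6), ∃ v ∈ XSg coreE6 K (PP chevE6),
        xG coreE6 (chevE6.neg (chevE6.simple i)) t * xG coreE6 (chevE6.neg (chevE6.simple j)) (t ^ q) =
          b * (h * (nS coreE6 K i * nS coreE6 K j)) * v := by
    intro i j hi hj hij ho t h0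
    have hx := fun u v : K => mul_mem (xG_mem_XSg coreE6 (S := PP chevE6) ((Φ chevE6).pos_simple i) u)
      (xG_mem_XSg coreE6 (S := PP chevE6) ((Φ chevE6).pos_simple j) v)
    refine ⟨_, hx t⁻¹ (t ^ q)⁻¹, _, ⟨_, H.tw.pair_mem_C0 hi hj hij (a := Units.mk0 (-t⁻¹) (by simpa using h0))
      (b := Units.mk0 (-(t ^ q)⁻¹) (by simp [h0]))
      (Units.ext (by change (-t⁻¹) ^ q = -(t ^ q)⁻¹; rw [H.neg, inv_pow]))
      (Units.ext (by change (-(t ^ q)⁻¹) ^ q = -t⁻¹; rw [H.neg, inv_pow, H.pow2])), rfl⟩, _, hx t⁻¹ (t ^ q)⁻¹, ?_⟩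
    rw [ho.neg_mul, map_mul, tor_mulSingle, tor_mulSingle, ho.nG_mul_eq]
    rfl
  refine H.tw.H_inf_eq_of_cube {nS coreE6 K (ndE6 1), nS coreE6 K (ndE6 3),
    nS coreE6 K (ndE6 2) * nS coreE6 K (ndE6 4), nS coreE6 K (ndE6 0) * nS coreE6 K (ndE6 5)} ?_ ?_ ?_ ?_ ?_
    H.tor_mem
  · rintro m (rfl | rfl | rfl | rfl)
    exacts [hm _, hm _, mul_mem (hm _) (hm _), mul_mem (hm _) (hm _)]
  · rintro m (rfl | rfl | rfl | rfl)
    · exact H.tw.σ_nS _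
    · exact H.tw.σ_nS _
    · rw [map_mul, H.tw.σ_nS, H.tw.σ_nS]; exact hc 1 1
    · rw [map_mul, H.tw.σ_nS, H.tw.σ_nS]; exact hc' 1 1
  · rintro m (rfl | rfl | rfl | rfl) h hh
    · exact H.tw.single_conj_mem rfl hh
    · exact H.tw.single_conj_mem rfl hh
    · exact H.tw.pair_conj_mem (i := ndE6 2) (j := ndE6 4) rfl rfl (by decide) (by decide +kernel) hh
    · exact H.tw.pair_conj_mem (i := ndE6 0) (j := ndE6 5) rfl rfl (by decide) (by decide +kernel) hh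
  · intro j y hy h1 hσ
    rw [H.Vw] at hy
    fin_cases j
    · obtain ⟨t, ht, rfl⟩ := (H.fixA' (r := 25) (by decide +kernel) y).1 ⟨hy, hσ⟩
      obtain ⟨b, hb, h, hh, v, hv, e⟩ := hs (ndE6 1) rfl t (by rintro rfl; exact h1 (xG_zero _ _)) ht
      exact ⟨b, hb, h, hh, _, by simp, v, hv, e⟩
    · obtain ⟨t, ht, rfl⟩ := (H.fixA' (r := 32) (by decide +kernel) y).1 ⟨hy, hσ⟩
      obtain ⟨b, hb, h, hh, v, hv, e⟩ := hs (ndE6 3) rfl t (by rintro rfl; exact h1 (xG_zero _ _)) ht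
      exact ⟨b, hb, h, hh, _, by simp, v, hv, e⟩
    · obtain ⟨t, rfl⟩ := (H.fixN2 y).1 ⟨hy, hσ⟩
      obtain ⟨b, hb, h, hh, v, hv, e⟩ := hp (ndE6 2) (ndE6 4) rfl rfl (by decide) orthE6a t (by
        rintro rfl; exact h1 (by simp [xG_zero, zero_pow (zero_lt_one.trans H.hq).ne']))
      exact ⟨b, hb, h, hh, _, by simp, v, hv, e⟩
    · obtain ⟨t, rfl⟩ := (H.fixN3 y).1 ⟨hy, hσ⟩
      obtain ⟨b, hb, h, hh, v, hv, e⟩ := hp (ndE6 0) (ndE6 5) rfl rfl (by decide) orthE6b t (by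
        rintro rfl; exact h1 (by simp [xG_zero, zero_pow (zero_lt_one.trans H.hq).ne']))
      exact ⟨b, hb, h, hh, _, by simp, v, hv, e⟩
  · intro z hz
    obtain ⟨a, ha, rfl⟩ := (ker_E6 z).1 hz
    have h2 : (a ^ 2) ^ 3 = 1 := by rw [← pow_mul, mul_comm, pow_mul, ha, one_pow]
    funext i
    fin_cases i
    exacts [ha, one_pow 3, h2, one_pow 3, ha, h2]

theorem card_C0 : Nat.card H.tw.C0 = (q - 1) ^ 4 * (q + 1) ^ 2 := by
  have h2 : ∀ a : Kˣ, (a ^ q) ^ q = a := fun a => Units.ext (H.pow2 a)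
  rw [card_eq_of_bij H.tw.C0 (fun p : {u : Kˣ // u ^ q = u} × {u : Kˣ // u ^ q = u} × Kˣ × Kˣ =>
      (![p.2.2.1, p.1, p.2.2.2, p.2.1, p.2.2.2 ^ q, p.2.2.1 ^ q] : Fin 6 → Kˣ))
    (fun a b h => Prod.ext (Subtype.ext (congrFun h (1 : Fin 6))) (Prod.ext (Subtype.ext (congrFun h (3 : Fin 6)))
      (Prod.ext (congrFun h (0 : Fin 6)) (congrFun h (2 : Fin 6))))) fun c => ?_,
    Nat.card_prod, Nat.card_prod, Nat.card_prod, card_units_fixed H.hq H.card, Nat.card_units,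
    Nat.card_eq_fintype_card, H.card]
  · have := H.hq.le
    have h1 : 1 ≤ q ^ 2 := Nat.one_le_pow _ _ this
    zify [this, h1]; ring
  · refine (H.mem_C0 c).trans ⟨fun ⟨h0, h1, h2, h3, _, _⟩ =>
      ⟨⟨⟨_, h1.symm⟩, ⟨_, h3.symm⟩, c (0 : Fin 6), c (2 : Fin 6)⟩, ?_⟩, ?_⟩
    · funext i
      fin_cases i
      exacts [rfl, rfl, rfl, rfl, h2, h0]
    · rintro ⟨⟨a, b, c, d⟩, rfl⟩
      exact ⟨rfl, a.2.symm, rfl, b.2.symm, (h2 d).symm, (h2 c).symm⟩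

theorem card_C0_ker : Nat.card ↥(H.tw.C0 ⊓ (tor coreE6).ker) = Nat.gcd 3 (q + 1) := by
  rw [card_eq_of_bij (H.tw.C0 ⊓ (tor coreE6).ker) (fun a : {u : Kˣ // u ^ Nat.gcd 3 (q + 1) = 1} =>
      (![a.1, 1, a.1 ^ 2, 1, a.1, a.1 ^ 2] : Fin 6 → Kˣ)) (fun a b h => Subtype.ext (congrFun h (0 : Fin 6)))
    fun c => ?_, card_units_pow_eq_one, H.card, Nat.gcd_eq_right]
  · refine (Nat.gcd_dvd_right _ _).trans ⟨q - 1, ?_⟩
    have := H.hq.le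
    have h1 : 1 ≤ q ^ 2 := Nat.one_le_pow _ _ this
    zify [this, h1]; ring
  · constructor
    · rintro ⟨h1, h2⟩
      obtain ⟨a, ha, rfl⟩ := (ker_E6 c).1 h2
      have h3 : a ^ 2 = a ^ q := ((H.mem_C0 _).1 h1).1
      exact ⟨⟨a, pow_gcd_eq_one.2 ⟨ha, by rw [pow_succ, ← h3, ← pow_succ, ha]⟩⟩, rfl⟩
    · rintro ⟨⟨a, ha⟩, rfl⟩
      obtain ⟨h1, h2⟩ := pow_gcd_eq_one.1 ha
      have h3 : a ^ 2 = a ^ q := mul_right_cancel (b := a) (by rw [← pow_succ, ← pow_succ, h1, h2])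
      have h4 : a = (a ^ 2) ^ q := by
        rw [← pow_mul, mul_comm, pow_mul, ← h3, ← pow_mul, show 2 * 2 = 3 + 1 from rfl, pow_succ, h1, one_mul]
      exact ⟨(H.mem_C0 _).2 ⟨h3, (one_pow q).symm, h4, (one_pow q).symm, h3, h4⟩, (ker_E6 _).2 ⟨a, h1, rfl⟩⟩

theorem card_H' : Nat.gcd 3 (q + 1) * Nat.card ↥((tor coreE6 (K := K)).range ⊓ H.tw.sys.G1) =
    (q - 1) ^ 4 * (q + 1) ^ 2 := by
  rw [H.H_inf_eq, ← H.card_C0_ker, card_map_mul_card_ker, H.card_C0]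

theorem card_H : Nat.gcd 3 (q + 1) * Nat.card ↥(chevE6.diagonalSubgroup K ⊓ twistedE6 K q) =
    (q - 1) ^ 4 * (q + 1) ^ 2 := by
  rw [H.tw.card_H H.twisted_eq, H.card_H']

theorem card_twisted : Nat.gcd 3 (q + 1) * Nat.card ↥(twistedE6 K q) =
    q ^ 36 * (q ^ 2 - 1) * (q ^ 5 + 1) * (q ^ 6 - 1) * (q ^ 8 - 1) * (q ^ 9 + 1) * (q ^ 12 - 1) := by
  have : Fintype tauE6.fixed := Fintype.ofFinite _
  have h := @TwData.card_G1 _ _ _ _ _ _ _ _ H.tw _ this _ _ one_pos H.hJ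
  rw [ncard_PP fastW_E6] at h
  simp only [Nat.div_one] at h
  rw [H.tw.card_eq H.twisted_eq, h, ← mul_assoc, mul_left_comm, H.card_H', mul_assoc]
  refine (congrArg _ (poincare_tw_E6_nat H.hq.le)).trans ?_
  rw [show fastE6.n - fastE6.n / 2 = 36 from rfl]
  ring

theorem core_eq_bot :
    ((chevE6.borelSubgroup K ⊓ twistedE6 K q).subgroupOf (twistedE6 K q)).normalCore = ⊥ := by
  refine H.tw.core_eq_bot H.twisted_eq fun c hc => (tor_E6_eq_one_iff c).2 ?_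
  obtain ⟨a1, a2⟩ := (H.fixA' (r := 46) (by decide +kernel) _).2 ⟨1, one_pow q, rfl⟩
  obtain ⟨b1, b2⟩ := (H.fixA' (r := 39) (by decide +kernel) _).2 ⟨1, one_pow q, rfl⟩
  obtain ⟨c1, c2⟩ := (H.fixP2 _).2 ⟨1, rfl⟩
  obtain ⟨d1, d2⟩ := (H.fixP3 _).2 ⟨1, rfl⟩
  have ha := hc 0 _ (H.Uw 0 ▸ a1) a2
  have hb := hc 1 _ (H.Uw 1 ▸ b1) b2
  have hc' := hc 2 _ (H.Uw 2 ▸ c1) c2
  have hd := hc 3 _ (H.Uw 3 ▸ d1) d2
  rw [tor_mul_xG coreE6 c (by decide), mul_left_inj, mul_one] at ha hb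
  rw [tor_mul_xG₂ coreE6 c (by decide) (by decide), mul_left_inj, one_pow, mul_one, mul_one] at hc' hd
  obtain ⟨h1, h2⟩ := inj_LS2 coreE6 consE6a _ _ _ _ hc'
  obtain ⟨h3, h4⟩ := inj_LS2 coreE6 consE6b _ _ _ _ hd
  exact ⟨Units.ext h3, Units.ext (xG_injective coreE6 (by decide) ha), Units.ext h1,
    Units.ext (xG_injective coreE6 (by decide) hb), Units.ext h2, Units.ext h4⟩

theorem perfect : commutator ↥(twistedE6 K q) = ⊤ := by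
  obtain ⟨a, ha⟩ := exists_sq_ne_one (K := K) (by rw [H.card]; exact Nat.pow_le_pow_left H.hq 2)
  have h0 := (zero_lt_one.trans H.hq).ne'
  have h2 : a = (a ^ q) ^ q := Units.ext (H.pow2 a).symm
  refine H.tw.perfect H.twisted_eq fun j => ?_
  fin_cases j
  · intro u hu hσ
    obtain ⟨t, ht, rfl⟩ := (H.fixA' (r := 46) (by decide +kernel) u).1 ⟨H.Uw 0 ▸ hu, hσ⟩
    refine H.tw.mem_commutator_of_comm (H.x_mem (r := 47) (by decide +kernel) (one_pow q))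
      (H.x_mem (r := 32) (by decide +kernel) ht) ?_
    simpa using xG_comm_of coreE6 (r := 47) (s := 32) (L := [(46, -1, 1, 1)]) (by decide +kernel) 1 t
  · intro u hu hσ
    obtain ⟨t, ht, rfl⟩ := (H.fixA' (r := 39) (by decide +kernel) u).1 ⟨H.Uw 1 ▸ hu, hσ⟩
    refine H.tw.mem_commutator_of_comm (H.x_mem (r := 47) (by decide +kernel) H.neg_one_pow')
      (H.x_mem (r := 25) (by decide +kernel) ht) ?_
    simpa using xG_comm_of coreE6 (r := 47) (s := 25) (L := [(39, 1, 1, 1)]) (by decide +kernel) (-1) t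
  · have hc : (![1, 1, a, 1, a ^ q, 1] : Fin 6 → Kˣ) ∈ H.tw.C0 :=
      (H.mem_C0 _).2 ⟨(one_pow q).symm, (one_pow q).symm, rfl, (one_pow q).symm, h2, (one_pow q).symm⟩
    refine TwSys.mem_commutator_of_fpf (T := H.tw.sys) ⟨_, rfl⟩ (H.tor_mem _ hc) fun u hu hσ h => ?_
    obtain ⟨t, rfl⟩ := (H.fixP2 u).1 ⟨H.Uw 2 ▸ hu, hσ⟩
    have h1 := (inj_LS2 coreE6 consE6a _ _ _ _ (mul_right_cancel
      ((tor_mul_xG₂ coreE6 _ (by decide) (by decide) _ _).symm.trans h))).1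
    rw [(chi_E6 _).2.2.1, mul_left_eq_self₀] at h1
    have h2 : t = 0 := h1.resolve_left fun e => ha (Units.ext (by simpa using e))
    simp [h2, xG_zero, zero_pow h0]
  · have hc : (![a, 1, 1, 1, 1, a ^ q] : Fin 6 → Kˣ) ∈ H.tw.C0 :=
      (H.mem_C0 _).2 ⟨rfl, (one_pow q).symm, (one_pow q).symm, (one_pow q).symm, (one_pow q).symm, h2⟩
    refine TwSys.mem_commutator_of_fpf (T := H.tw.sys) ⟨_, rfl⟩ (H.tor_mem _ hc) fun u hu hσ h => ?_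
    obtain ⟨t, rfl⟩ := (H.fixP3 u).1 ⟨H.Uw 3 ▸ hu, hσ⟩
    have h1 := (inj_LS2 coreE6 consE6b _ _ _ _ (mul_right_cancel
      ((tor_mul_xG₂ coreE6 _ (by decide) (by decide) _ _).symm.trans h))).1
    rw [(chi_E6 _).1, mul_left_eq_self₀] at h1
    have h2 : t = 0 := h1.resolve_left fun e => ha (Units.ext (by simpa using e))
    simp [h2, xG_zero, zero_pow h0]

theorem simple : IsSimpleGroup ↥(twistedE6 K q) ∧ ¬ IsMulCommutative ↥(twistedE6 K q) := by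
  have h : ∀ j : Fin 4, H.tw.sys.wJ j = wordN chevE6 ([[1], [3], [2, 4], [0, 5]].getD j []) :=
    fun j => w0_eq_wordN fastW_E6 (orbE6 j) (by revert j; decide +kernel)
  refine H.tw.simple H.twisted_eq H.perfect H.core_eq_bot (conn_four ?_ ?_ ?_) <;>
    rw [h, h, ← wordN_append, ← wordN_append] <;> exact fastW_E6.wordN_ne_of_chk (by decide +kernel)

end E6Hyp

end CL.Tw
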