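import Cfsg.Agent.Base
import Cfsg.Agent.Chev.TwPair
import Cfsg.Agent.Chev.TwD4

/-!
The groups ²F₄(2^(2m+1)), given the twisting endomorphism.
-/

set_option autoImplicit false
set_option linter.unusedSectionVars false

namespace CL.Tw

open Cfsg Cfsg.Lie Cfsg.Lie.ChevalleyDatum CL.ChevM CL.Weyl CL.Cox CL.WC

variable {K : Type*} [Field K] [Fintype K] {m : ℕ}

/-- The twisting endomorphism of ²F₄(2^(2m+1)). -/
structure F4Hyp (m : ℕ) (σ : ↥(chevF4.group K) →* ↥(chevF4.group K)) : Prop where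
  card : Fintype.card K = 2 ^ (2 * m + 1)
  act : ∀ r < chevF4.nroots, ∀ t : K,
    σ (xG coreF4 r t) = xG coreF4 (rhoF4Tab.getD r 0) ((t ^ 2 ^ m) ^ lamF4Tab.getD r 0)

/-- The nodes of the diagram of type F₄. -/
def ndF4 (k : Fin 4) : Fin chevF4.rank := k

/-- Representatives of the orbits of the symmetry on the nodes. -/
def repF4 : Fin 2 → Fin chevF4.rank := ![ndF4 0, ndF4 1]

theorem orbF4 (j : Fin 2) (k : Fin chevF4.rank) :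
    k ∈ tauF4.orb (repF4 j) ↔ (k : ℕ) ∈ [[0, 3], [1, 2]].getD j [] := by
  rw [mem_orb_F4]; revert j k; decide +kernel

theorem posF4 (j : Fin 2) : {r | (Φ chevF4).Pos r ∧ (Φ chevF4).InSub (tauF4.orb (repF4 j)) r} =
    LS chevF4 ([[33, 24], [27, 25, 28, 30]].getD j []) := pos_inSub_eq fastW_F4 (orbF4 j) (by revert j; decide +kernel)

theorem negF4 (j : Fin 2) : {r | ¬ (Φ chevF4).Pos r ∧ (Φ chevF4).InSub (tauF4.orb (repF4 j)) r} =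
    LS chevF4 ([[14, 23], [20, 22, 19, 17]].getD j []) := neg_inSub_eq fastW_F4 (orbF4 j) (by revert j; decide +kernel)

theorem consF4a : ConsOK chevF4 33 [24] [-1, -1, -1, 0] := by decide +kernel
theorem consF4b : ConsOK chevF4 14 [23] [0, -1, -1, -1] := by decide +kernel
theorem consF4c : ConsOK chevF4 27 [25, 28, 30] [-1, -1, -1, -1] := by decide +kernel
theorem consF4d : ConsOK chevF4 25 [28, 30] [-1, 0, -1, -1] := by decide +kernel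
theorem consF4e : ConsOK chevF4 28 [30] [-1, 0, -1, 0] := by decide +kernel
theorem consF4f : ConsOK chevF4 20 [22, 19, 17] [-1, -1, -1, 1] := by decide +kernel
theorem consF4g : ConsOK chevF4 22 [19, 17] [0, -1, -1, 0] := by decide +kernel
theorem consF4h : ConsOK chevF4 19 [17] [-1, -1, 0, 1] := by decide +kernel
theorem orthF4 : OrthOK chevF4 33 24 := by decide +kernel

theorem chi_F4 (c : Fin 4 → Kˣ) : chi chevF4 c 33 = c 0 ^ 2 * (c 1)⁻¹ ∧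
    chi chevF4 c 27 = (c 0)⁻¹ * c 1 ^ 2 * (c 2)⁻¹ ∧ chi chevF4 c 25 = (c 1 ^ 2)⁻¹ * c 2 ^ 2 * (c 3)⁻¹ ∧
    chi chevF4 c 24 = (c 2)⁻¹ * c 3 ^ 2 ∧ chi chevF4 c 28 = (c 0)⁻¹ * c 2 * (c 3)⁻¹ := by
  have h : ∀ s, chi chevF4 c s = c 0 ^ chevF4.cartan 0 s * c 1 ^ chevF4.cartan 1 s * c 2 ^ chevF4.cartan 2 s *
    c 3 ^ chevF4.cartan 3 s := fun s => Fin.prod_univ_four _
  have e : ∀ p ∈ [(0, 33, 2), (1, 33, -1), (2, 33, 0), (3, 33, 0), (0, 27, -1), (1, 27, 2), (2, 27, -1),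
    (3, 27, 0), (0, 25, 0), (1, 25, -2), (2, 25, 2), (3, 25, -1), (0, 24, 0), (1, 24, 0), (2, 24, -1), (3, 24, 2),
    (0, 28, -1), (1, 28, 0), (2, 28, 1), (3, 28, -1)], chevF4.cartan p.1 p.2.1 = p.2.2 := by decide +kernel
  simp only [List.forall_mem_cons] at e
  simp only [h, e]
  simp [zpow_ofNat]

theorem tor_F4_eq_one_iff (c : Fin 4 → Kˣ) : tor coreF4 c = 1 ↔
    chi chevF4 c 33 = 1 ∧ chi chevF4 c 27 = 1 ∧ chi chevF4 c 25 = 1 ∧ chi chevF4 c 24 = 1 := by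
  refine (tor_eq_one_iff coreF4 c).trans ?_
  constructor
  · exact fun h => ⟨h 0 (by decide), h 1 (by decide), h 2 (by decide), h 3 (by decide)⟩
  · rintro ⟨h0, h1, h2, h3⟩ j hj
    have hj' : j < 4 := hj
    interval_cases j
    exacts [h0, h1, h2, h3]

theorem kerF4_add {A : Type*} [AddCommGroup A] {a b c d : A} (h0 : 2 • a + -b = 0) (h1 : -a + 2 • b + -c = 0)
    (h2 : -(2 • b) + 2 • c + -d = 0) (h3 : -c + 2 • d = 0) : a = 0 ∧ b = 0 ∧ c = 0 ∧ d = 0 :=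
  ⟨by linear_combination (norm := module) 2 • h0 + 3 • h1 + 2 • h2 + h3,
    by linear_combination (norm := module) 3 • h0 + 6 • h1 + 4 • h2 + 2 • h3,
    by linear_combination (norm := module) 4 • h0 + 8 • h1 + 6 • h2 + 3 • h3,
    by linear_combination (norm := module) 2 • h0 + 4 • h1 + 3 • h2 + 2 • h3⟩

theorem ker_F4 (c : Fin 4 → Kˣ) (h : tor coreF4 c = 1) : c = 1 := by
  obtain ⟨f0, f1, f2, f3, -⟩ := chi_F4 c
  rw [tor_F4_eq_one_iff, f0, f1, f2, f3] at h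
  obtain ⟨e0, e1, e2, e3⟩ := kerF4_add (A := Additive Kˣ) (a := c 0) (b := c 1) (c := c 2) (d := c 3)
    h.1 h.2.1 h.2.2.1 h.2.2.2
  funext i
  fin_cases i
  exacts [e0, e1, e2, e3]

theorem w0_F4_smul (r : Fin chevF4.nroots) :
    (((Φ chevF4).w0 Set.univ • r : Fin chevF4.nroots) : ℕ) = chevF4.neg r := by
  rw [w0_eq_wordN fastW_F4 (lJ := [0, 1, 2, 3]) (fun k => by revert k; decide)
    (ω := [0, 1, 0, 2, 1, 0, 2, 1, 2, 3, 2, 1, 0, 2, 1, 2, 3, 2, 1, 0, 2, 1, 2, 3]) (by decide +kernel),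
    fastW_F4.val_wordN_smul (by decide +kernel)]
  revert r
  decide +kernel

namespace F4Hyp

variable {σ : ↥(chevF4.group K) →* ↥(chevF4.group K)} (H : F4Hyp m σ)
include H

theorem charP : CharP K 2 := charP_of_card_eq_prime_pow H.card

theorem actS {r s : ℕ} (h : r < chevF4.nroots ∧ rhoF4Tab.getD r 0 = s ∧ lamF4Tab.getD r 0 = 2) (t : K) :
    σ (xG coreF4 r t) = xG coreF4 s ((t ^ 2 ^ m) ^ 2) := by
  rw [H.act r h.1, h.2.1, h.2.2]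

theorem actL {r s : ℕ} (h : r < chevF4.nroots ∧ rhoF4Tab.getD r 0 = s ∧ lamF4Tab.getD r 0 = 1) (t : K) :
    σ (xG coreF4 r t) = xG coreF4 s (t ^ 2 ^ m) := by
  rw [H.act r h.1, h.2.1, h.2.2, pow_one]

theorem theta (t : K) : ((t ^ 2 ^ m) ^ 2 ^ m) ^ 2 = t := pow_theta H.card t

theorem theta_add (t u : K) : (t + u) ^ 2 ^ m = t ^ 2 ^ m + u ^ 2 ^ m :=
  have := H.charP
  add_pow_char_pow t u 2 m

theorem neg_eq (t : K) : -t = t :=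
  have := H.charP
  CharTwo.neg_eq t

theorem fixB' {a b : ℕ} {c : List ℤ} (hc : ConsOK chevF4 a [b] c)
    (hm : ∀ t u : K, Commute (xG coreF4 b u) (xG coreF4 a t))
    (h : (a < chevF4.nroots ∧ rhoF4Tab.getD a 0 = b ∧ lamF4Tab.getD a 0 = 2) ∧
      b < chevF4.nroots ∧ rhoF4Tab.getD b 0 = a ∧ lamF4Tab.getD b 0 = 1) (g : ↥(chevF4.group K)) :
    g ∈ XSg coreF4 K (LS chevF4 [a, b]) ∧ σ g = g ↔ ∃ t, g = xG coreF4 a (t ^ 2 ^ m) * xG coreF4 b t :=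
  (fixB (φ := fun t => (t ^ 2 ^ m) ^ 2) (ψ := (· ^ 2 ^ m)) (mem_LS2 coreF4 hc) (inj_LS2 coreF4 hc) hm (H.actS h.1)
    (H.actL h.2) g).trans ⟨fun ⟨_, u, _, h1, e⟩ => ⟨u, h1 ▸ e⟩, fun ⟨t, e⟩ => ⟨_, t, H.theta t, rfl, e⟩⟩

theorem fixP0 (g : ↥(chevF4.group K)) : g ∈ XSg coreF4 K (LS chevF4 [33, 24]) ∧ σ g = g ↔
    ∃ t, g = xG coreF4 33 (t ^ 2 ^ m) * xG coreF4 24 t := H.fixB' consF4a (orthF4.pp coreF4) (by decide +kernel) g

theorem fixN0 (g : ↥(chevF4.group K)) : g ∈ XSg coreF4 K (LS chevF4 [14, 23]) ∧ σ g = g ↔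
    ∃ t, g = xG coreF4 14 (t ^ 2 ^ m) * xG coreF4 23 t := H.fixB' consF4b (orthF4.nn coreF4) (by decide +kernel) g

theorem fixP1 (g : ↥(chevF4.group K)) : g ∈ XSg coreF4 K (LS chevF4 [27, 25, 28, 30]) ∧ σ g = g ↔
    ∃ t u, g = xG coreF4 27 (t ^ 2 ^ m) * xG coreF4 25 t * xG coreF4 28 (t ^ (2 ^ m + 1) + u) *
      xG coreF4 30 (u ^ (2 * 2 ^ m)) :=
  have := H.charP
  fixE H.theta H.theta_add (mem_LS4 coreF4 consF4c consF4d consF4e) (inj_LS4 coreF4 consF4c consF4d consF4e)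
    (fun t u => by
      simpa [H.neg_eq] using
        xG_comm_of coreF4 (r := 27) (s := 25) (L := [(28, -1, 1, 1), (30, -1, 2, 1)]) (by decide +kernel) t u)
    (xG_commute coreF4 (by decide +kernel)) (xG_add coreF4 28) (xG_add coreF4 30) (H.actS (by decide +kernel))
    (H.actL (by decide +kernel)) (H.actS (by decide +kernel)) (H.actL (by decide +kernel)) g

theorem fixN1 (g : ↥(chevF4.group K)) : g ∈ XSg coreF4 K (LS chevF4 [20, 22, 19, 17]) ∧ σ g = g ↔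
    ∃ t u, g = xG coreF4 20 (t ^ 2 ^ m) * xG coreF4 22 t * xG coreF4 19 (t ^ (2 ^ m + 1) + u) *
      xG coreF4 17 (u ^ (2 * 2 ^ m)) :=
  have := H.charP
  fixE H.theta H.theta_add (mem_LS4 coreF4 consF4f consF4g consF4h) (inj_LS4 coreF4 consF4f consF4g consF4h)
    (fun t u => by
      simpa [H.neg_eq] using
        xG_comm_of coreF4 (r := 20) (s := 22) (L := [(19, 1, 1, 1), (17, -1, 2, 1)]) (by decide +kernel) t u)
    (xG_commute coreF4 (by decide +kernel)) (xG_add coreF4 19) (xG_add coreF4 17) (H.actS (by decide +kernel))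
    (H.actL (by decide +kernel)) (H.actS (by decide +kernel)) (H.actL (by decide +kernel)) g

/-- The data of ²F₄(2^(2m+1)). -/
noncomputable def tw : TwData coreF4 K (Fin 2) where
  τ := tauF4
  σ := σ
  e i := 2 ^ m * [2, 2, 1, 1].getD i 0
  rep := repF4
  he _ t := by rw [H.neg_eq, H.neg_eq]
  h1 i t := by
    have : ∀ i : Fin chevF4.rank, chevF4.simple i < chevF4.nroots ∧
      rhoF4Tab.getD (chevF4.simple i) 0 = chevF4.simple (piF4 i) ∧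
        lamF4Tab.getD (chevF4.simple i) 0 = [2, 2, 1, 1].getD i 0 := by decide +kernel
    rw [H.act _ (this i).1, (this i).2.1, (this i).2.2, pow_mul]; rfl
  h2 i t := by
    have : ∀ i : Fin chevF4.rank, chevF4.neg (chevF4.simple i) < chevF4.nroots ∧
      rhoF4Tab.getD (chevF4.neg (chevF4.simple i)) 0 = chevF4.neg (chevF4.simple (piF4 i)) ∧
        lamF4Tab.getD (chevF4.neg (chevF4.simple i)) 0 = [2, 2, 1, 1].getD i 0 := by decide +kernel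
    rw [H.act _ (this i).1, (this i).2.1, (this i).2.2, pow_mul]; rfl
  rep_inj j k := by rw [orbF4]; revert j k; decide +kernel
  rep_surj i := by simp only [orbF4]; revert i; decide +kernel
  nontriv := by
    simp only [negF4]
    refine Fin.forall_fin_two.2 ⟨?_, ?_⟩
    · obtain ⟨h1, h2⟩ := (H.fixN0 _).2 ⟨1, rfl⟩
      refine ⟨_, h1, fun h => one_ne_zero (inj_LS2 coreF4 consF4b _ _ 0 0 (h.trans ?_)).2, h2⟩
      simp [xG_zero]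
    · obtain ⟨h1, h2⟩ := (H.fixN1 _).2 ⟨1, 0, rfl⟩
      refine ⟨_, h1, fun h => one_ne_zero
        (inj_LS4 coreF4 consF4f consF4g consF4h _ _ _ _ 0 0 0 0 (h.trans ?_)).2.1, h2⟩
      simp [xG_zero]

theorem Uw0 : H.tw.sys.Uw (H.tw.sys.wJ 0) = XSg coreF4 K (LS chevF4 [33, 24]) :=
  (H.tw.sys_Uw 0).trans (congrArg _ (posF4 0))
theorem Uw1 : H.tw.sys.Uw (H.tw.sys.wJ 1) = XSg coreF4 K (LS chevF4 [27, 25, 28, 30]) :=
  (H.tw.sys_Uw 1).trans (congrArg _ (posF4 1))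
theorem Vw0 : H.tw.sys.XS (ninvS H.tw.sys.P (H.tw.sys.wJ 0)) = XSg coreF4 K (LS chevF4 [14, 23]) :=
  (H.tw.sys_ninv 0).trans (congrArg _ (negF4 0))
theorem Vw1 : H.tw.sys.XS (ninvS H.tw.sys.P (H.tw.sys.wJ 1)) = XSg coreF4 K (LS chevF4 [20, 22, 19, 17]) :=
  (H.tw.sys_ninv 1).trans (congrArg _ (negF4 1))

theorem twisted_eq : twistedF4 K (2 ^ m) = H.tw.sys.G1.map (chevF4.group K).subtype := by
  refine H.tw.genSubgroup_eq _ ?_ (Fin.forall_fin_two.2 ⟨?_, ?_⟩) (Fin.forall_fin_two.2 ⟨?_, ?_⟩)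
  · rintro w (⟨t, rfl | rfl⟩ | ⟨t, u, rfl | rfl⟩)
    · obtain ⟨h1, h2⟩ := (H.fixP0 _).2 ⟨t, rfl⟩
      simpa [wG, f4PairWord, f4p1, f4p4] using TwSys.mem_G1_of_pos (T := H.tw.sys) (j := 0) (H.Uw0 ▸ h1) h2
    · obtain ⟨h1, h2⟩ := (H.fixN0 _).2 ⟨t, rfl⟩
      simpa [wG, f4PairWord, f4m1, f4m4] using TwSys.mem_G1_of_neg (T := H.tw.sys) (j := 0) (H.Vw0 ▸ h1) h2
    · obtain ⟨h1, h2⟩ := (H.fixP1 _).2 ⟨t, u, rfl⟩
      simpa [wG, b2ClassWord, f4a, f4b, f4ab, f4aab, mul_assoc] using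
        TwSys.mem_G1_of_pos (T := H.tw.sys) (j := 1) (H.Uw1 ▸ h1) h2
    · obtain ⟨h1, h2⟩ := (H.fixN1 _).2 ⟨t, u, rfl⟩
      simpa [wG, b2ClassWord, f4ma, f4mb, f4mab, f4maab, mul_assoc] using
        TwSys.mem_G1_of_neg (T := H.tw.sys) (j := 1) (H.Vw1 ▸ h1) h2
  · intro g hg hσ
    obtain ⟨t, rfl⟩ := (H.fixP0 g).1 ⟨H.Uw0 ▸ hg, hσ⟩
    exact ⟨_, Or.inl ⟨t, Or.inl rfl⟩, by simp [wG, f4PairWord, f4p1, f4p4]⟩
  · intro g hg hσ
    obtain ⟨t, u, rfl⟩ := (H.fixP1 g).1 ⟨H.Uw1 ▸ hg, hσ⟩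
    exact ⟨_, Or.inr ⟨t, u, Or.inl rfl⟩, by simp [wG, b2ClassWord, f4a, f4b, f4ab, f4aab, mul_assoc]⟩
  · intro g hg hσ
    obtain ⟨t, rfl⟩ := (H.fixN0 g).1 ⟨H.Vw0 ▸ hg, hσ⟩
    exact ⟨_, Or.inl ⟨t, Or.inr rfl⟩, by simp [wG, f4PairWord, f4m1, f4m4]⟩
  · intro g hg hσ
    obtain ⟨t, u, rfl⟩ := (H.fixN1 g).1 ⟨H.Vw1 ▸ hg, hσ⟩
    exact ⟨_, Or.inr ⟨t, u, Or.inr rfl⟩, by simp [wG, b2ClassWord, f4ma, f4mb, f4mab, f4maab, mul_assoc]⟩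

theorem hJ : ∀ j, ∃ e, Nat.card ↥(H.tw.sys.Uw (H.tw.sys.wJ j) ⊓ H.tw.sys.Fix) = (2 ^ (2 * m + 1)) ^ e ∧
    2 * e = (invS H.tw.sys.P (H.tw.sys.wJ j)).ncard := by
  have hn : ∀ j, invS H.tw.sys.P (H.tw.sys.wJ j) = LS chevF4 ([[33, 24], [27, 25, 28, 30]].getD j []) := fun j =>
    (invS_w0 _).trans (posF4 j)
  refine Fin.forall_fin_two.2 ⟨⟨1, ?_, ?_⟩, ⟨2, ?_, ?_⟩⟩
  · rw [H.Uw0, pow_one, ← H.card, ← Nat.card_eq_fintype_card]
    exact card_eq_of_bij _ _ (fun a b h => (inj_LS2 coreF4 consF4a _ _ _ _ h).2) H.fixP0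
  · rw [hn, ncard_LS (by decide)]; rfl
  · rw [H.Uw1, ← H.card, ← Nat.card_eq_fintype_card, sq, ← Nat.card_prod]
    refine card_eq_of_bij _ (fun p : K × K => xG coreF4 27 (p.1 ^ 2 ^ m) * xG coreF4 25 p.1 *
      xG coreF4 28 (p.1 ^ (2 ^ m + 1) + p.2) * xG coreF4 30 (p.2 ^ (2 * 2 ^ m))) (fun a b h => ?_)
      fun g => (H.fixP1 g).trans ⟨fun ⟨t, u, e⟩ => ⟨(t, u), e⟩, fun ⟨p, e⟩ => ⟨p.1, p.2, e⟩⟩
    obtain ⟨-, h1, h2, -⟩ := inj_LS4 coreF4 consF4c consF4d consF4e _ _ _ _ _ _ _ _ h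
    exact Prod.ext h1 (by rwa [h1, add_right_inj] at h2)
  · rw [hn, ncard_LS (by decide)]; rfl

theorem card_U : Nat.card ↥(chevF4.posUnipotent K ⊓ twistedF4 K (2 ^ m)) = (2 ^ (2 * m + 1)) ^ 12 := by
  rw [H.tw.card_U H.twisted_eq, TwSys.card_U_inf_G1 two_pos H.hJ]
  exact congrArg _ (congrArg (· / 2) (ncard_PP fastW_F4))

theorem mem_C0 (c : Fin 4 → Kˣ) : c ∈ H.tw.C0 ↔
    c 3 = (c 0 ^ 2 ^ m) ^ 2 ∧ c 2 = (c 1 ^ 2 ^ m) ^ 2 ∧ c 1 = c 2 ^ 2 ^ m ∧ c 0 = c 3 ^ 2 ^ m := by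
  refine H.tw.mem_C0.trans ?_
  rw [← pow_mul, ← pow_mul, ← mul_one (2 ^ m)]
  simp only [mul_assoc, one_mul]
  exact Fin.forall_fin_succ.trans (and_congr Iff.rfl (Fin.forall_fin_succ.trans (and_congr Iff.rfl
    Fin.forall_fin_two)))

theorem tor_mem (c : Fin chevF4.rank → Kˣ) (hc : c ∈ H.tw.C0) : tor coreF4 c ∈ H.tw.sys.G1 := by
  obtain ⟨n, hn1, hn⟩ := TwSys.exists_rep_G1 (T := H.tw.sys) _ tauF4.w0_univ_mem_fixed
  have h1 : c = c ^ 2 ^ (2 * m) * c ^ 2 ^ (2 * m) := by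
    rw [← sq, ← pow_mul, ← pow_succ]
    funext i
    exact Units.ext (pow_pow_card H.card _).symm
  rw [h1, map_mul]
  exact TwSys.sq_mem_G1 (T := H.tw.sys) ⟨_, rfl⟩ (H.tw.σ_tor_of_mem (pow_mem hc _)) hn1
    (Rep.conj_eq_inv hn w0_F4_smul ⟨_, rfl⟩)

theorem card_C0 : Nat.card H.tw.C0 = (2 ^ (2 * m + 1) - 1) ^ 2 := by
  have h3 : ∀ a : Kˣ, ((a ^ 2 ^ m) ^ 2 ^ m) ^ 2 = a := fun a => Units.ext (H.theta a)
  rw [card_eq_of_bij H.tw.C0 (fun p : Kˣ × Kˣ => (![p.2 ^ 2 ^ m, p.1 ^ 2 ^ m, p.1, p.2] : Fin 4 → Kˣ))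
    (fun a b h => Prod.ext (congrFun h (2 : Fin 4)) (congrFun h (3 : Fin 4))) fun c => ?_,
    Nat.card_prod, Nat.card_units, Nat.card_eq_fintype_card, H.card, sq]
  refine (H.mem_C0 c).trans ⟨fun ⟨_, _, h1, h0⟩ => ⟨⟨c (2 : Fin 4), c (3 : Fin 4)⟩, ?_⟩, ?_⟩
  · funext i
    fin_cases i
    exacts [h0, h1, rfl, rfl]
  · rintro ⟨⟨a, b⟩, rfl⟩
    exact ⟨(h3 b).symm, (h3 a).symm, rfl, rfl⟩

theorem card_H' : Nat.card ↥((tor coreF4 (K := K)).range ⊓ H.tw.sys.G1) = (2 ^ (2 * m + 1) - 1) ^ 2 := by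
  rw [H.tw.card_H_inf (fun z _ => ker_F4 z) H.tor_mem, H.card_C0]

theorem card_H : Nat.card ↥(chevF4.diagonalSubgroup K ⊓ twistedF4 K (2 ^ m)) = (2 ^ (2 * m + 1) - 1) ^ 2 := by
  rw [H.tw.card_H H.twisted_eq, H.card_H']

theorem card_twisted : Nat.card ↥(twistedF4 K (2 ^ m)) = (2 ^ (2 * m + 1)) ^ 12 * (2 ^ (2 * m + 1) - 1) *
    ((2 ^ (2 * m + 1)) ^ 3 + 1) * ((2 ^ (2 * m + 1)) ^ 4 - 1) * ((2 ^ (2 * m + 1)) ^ 6 + 1) := by
  have : Fintype tauF4.fixed := Fintype.ofFinite _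
  have h := @TwData.card_G1 _ _ _ _ _ _ _ _ H.tw _ this _ _ two_pos H.hJ
  rw [H.card_H', ncard_PP fastW_F4] at h
  rw [H.tw.card_eq H.twisted_eq, h, mul_assoc]
  refine (congrArg _ (poincare_tw_F4_nat Nat.one_le_two_pow)).trans ?_
  rw [show (fastF4.n - fastF4.n / 2) / 2 = 12 from rfl]
  simp only [mul_assoc]

theorem conj_P1 {c : Fin chevF4.rank → Kˣ} {a b d e : K}
    (h : tor coreF4 c * (xG coreF4 27 a * xG coreF4 25 b * xG coreF4 28 d * xG coreF4 30 e) =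
      xG coreF4 27 a * xG coreF4 25 b * xG coreF4 28 d * xG coreF4 30 e * tor coreF4 c) :
    chi chevF4 c 27 * a = a ∧ chi chevF4 c 25 * b = b ∧ chi chevF4 c 28 * d = d ∧ chi chevF4 c 30 * e = e := by
  rw [mul_assoc (xG coreF4 27 a * xG coreF4 25 b), ← mul_assoc, tor_mul_xG₂ coreF4 c (by decide) (by decide),
    mul_assoc _ (tor coreF4 c), tor_mul_xG₂ coreF4 c (by decide) (by decide), ← mul_assoc, mul_left_inj,
    ← mul_assoc, ← mul_assoc] at h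
  exact inj_LS4 coreF4 consF4c consF4d consF4e _ _ _ _ _ _ _ _ h

theorem chi_eq_one_of_comm0 (c : Fin chevF4.rank → Kˣ)
    (hc : ∀ u ∈ H.tw.sys.Uw (H.tw.sys.wJ 0), σ u = u → tor coreF4 c * u = u * tor coreF4 c) :
    chi chevF4 c 33 = 1 ∧ chi chevF4 c 24 = 1 := by
  obtain ⟨a1, a2⟩ := (H.fixP0 _).2 ⟨1, rfl⟩
  have ha := hc _ (H.Uw0 ▸ a1) a2
  rw [tor_mul_xG₂ coreF4 c (by decide) (by decide), mul_left_inj, one_pow, mul_one, mul_one] at ha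
  obtain ⟨h1, h2⟩ := inj_LS2 coreF4 consF4a _ _ _ _ ha
  exact ⟨Units.ext h1, Units.ext h2⟩

theorem chi_eq_one_of_comm1 (c : Fin chevF4.rank → Kˣ)
    (hc : ∀ u ∈ H.tw.sys.Uw (H.tw.sys.wJ 1), σ u = u → tor coreF4 c * u = u * tor coreF4 c) :
    chi chevF4 c 27 = 1 ∧ chi chevF4 c 25 = 1 := by
  obtain ⟨b1, b2⟩ := (H.fixP1 _).2 ⟨1, 0, rfl⟩
  obtain ⟨h3, h4, -⟩ := H.conj_P1 (hc _ (H.Uw1 ▸ b1) b2)
  exact ⟨Units.ext (by simpa using h3), Units.ext (by simpa using h4)⟩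

theorem core_eq_bot :
    ((chevF4.borelSubgroup K ⊓ twistedF4 K (2 ^ m)).subgroupOf (twistedF4 K (2 ^ m))).normalCore = ⊥ := by
  refine H.tw.core_eq_bot H.twisted_eq fun c hc => (tor_F4_eq_one_iff c).2 ?_
  obtain ⟨h1, h2⟩ := H.chi_eq_one_of_comm0 c (hc 0)
  obtain ⟨h3, h4⟩ := H.chi_eq_one_of_comm1 c (hc 1)
  exact ⟨h1, h3, h4, h2⟩

theorem perfect (hm : 1 ≤ m) : commutator ↥(twistedF4 K (2 ^ m)) = ⊤ := by
  obtain ⟨a, ha⟩ := exists_unit_ne_one (K := K) (by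
    rw [H.card]; exact le_trans (by norm_num) (Nat.pow_le_pow_right two_pos (show 2 ≤ 2 * m + 1 by omega)))
  have h3 : ((a ^ 2 ^ m) ^ 2 ^ m) ^ 2 = a := Units.ext (H.theta a)
  have hc : (![a ^ 2 ^ m, 1, 1, a] : Fin 4 → Kˣ) ∈ H.tw.C0 := (H.mem_C0 _).2 ⟨h3.symm, by simp, by simp, rfl⟩
  obtain ⟨-, -, f2, f3, f4⟩ := chi_F4 (![a ^ 2 ^ m, 1, 1, a] : Fin 4 → Kˣ)
  have h0 : (2 : ℕ) ^ m ≠ 0 := by positivity
  refine H.tw.perfect H.twisted_eq (Fin.forall_fin_two.2 ⟨?_, ?_⟩) <;>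
    refine TwSys.mem_commutator_of_fpf (T := H.tw.sys) ⟨_, rfl⟩ (H.tor_mem _ hc) fun u hu hσ h => ?_
  · obtain ⟨t, rfl⟩ := (H.fixP0 u).1 ⟨H.Uw0 ▸ hu, hσ⟩
    have h1 := (inj_LS2 coreF4 consF4a _ _ _ _ (mul_right_cancel
      ((tor_mul_xG₂ coreF4 _ (by decide) (by decide) _ _).symm.trans h))).2
    rw [f3, mul_left_eq_self₀] at h1
    have h2 : t = 0 := h1.resolve_left fun e => ha (Units.ext (by
      have : (a : K) ^ 2 = 1 := by simpa using e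
      exact (sq_eq_one_iff.1 this).elim id fun e => e.trans (H.neg_eq 1)))
    simp [h2, xG_zero, zero_pow h0]
  · obtain ⟨t, v, rfl⟩ := (H.fixP1 u).1 ⟨H.Uw1 ▸ hu, hσ⟩
    obtain ⟨-, h1, h2, -⟩ := H.conj_P1 h
    rw [f2, mul_left_eq_self₀] at h1
    have ht : t = 0 := h1.resolve_left fun e => ha (by simpa using e)
    rw [f4, ht, zero_pow (Nat.succ_ne_zero _), zero_add, mul_left_eq_self₀] at h2
    have hv : v = 0 := h2.resolve_left fun e => ha (by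
      have e1 : (a ^ 2 ^ m)⁻¹ * a⁻¹ = 1 := Units.ext (by simpa using e)
      have e2 : a ^ 2 ^ m = a⁻¹ := by rwa [inv_mul_eq_one] at e1
      rw [e2, inv_pow, e2, inv_inv, sq, mul_eq_left] at h3
      exact h3)
    simp [ht, hv, xG_zero, zero_pow h0]

theorem hconn : H.tw.sys.wJ 0 * H.tw.sys.wJ 1 ≠ H.tw.sys.wJ 1 * H.tw.sys.wJ 0 := by
  have h0 : H.tw.sys.wJ 0 = wordN chevF4 [0, 3] := w0_eq_wordN fastW_F4 (orbF4 0) (by decide +kernel)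
  have h1 : H.tw.sys.wJ 1 = wordN chevF4 [1, 2, 1, 2] := w0_eq_wordN fastW_F4 (orbF4 1) (by decide +kernel)
  rw [h0, h1, ← wordN_append, ← wordN_append]
  exact fastW_F4.wordN_ne_of_chk (by decide +kernel)

theorem simple (hm : 1 ≤ m) :
    IsSimpleGroup ↥(twistedF4 K (2 ^ m)) ∧ ¬ IsMulCommutative ↥(twistedF4 K (2 ^ m)) :=
  H.tw.simple H.twisted_eq (H.perfect hm) H.core_eq_bot (conn_two H.hconn)

end F4Hyp

end CL.Tw
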