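import Cfsg.Agent.Base
import Cfsg.Agent.Chev.TwLinAut

/-!
The exceptional graph endomorphisms of B₂, F₄ (characteristic 2) and G₂ (characteristic 3), obtained from Steinberg's
presentation: `x_r(t) ↦ x_{ρ r}(t^{λ r})` preserves the defining relations.
-/

set_option autoImplicit false

namespace CL.Tw

open Cfsg Cfsg.Lie Cfsg.Lie.ChevalleyDatum

/-- Monomial word: the image of the commutator word of `(r, s)` under `x_k(c) ↦ x_{ρ k}(c^{λ k})`, coefficients
reduced modulo `p`, zero terms dropped. -/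
def mwOne (D : ChevalleyDatum) (p : ℕ) (ρ lam : ℕ → ℕ) (r s : ℕ) : List (ℕ × ℤ × ℕ × ℕ) :=
  ((D.commTerms r s).map fun c =>
    (ρ c.1, ((c.2.1 * (-1) ^ c.2.2.1) ^ (lam c.1)) % (p : ℤ), c.2.2.1 * lam c.1, c.2.2.2 * lam c.1)).filter
    fun c => c.2.1 ≠ 0

/-- Monomial word: the commutator word of `(ρ r, ρ s)` at the parameters `t^{λ r}`, `u^{λ s}`. -/
def mwTwo (D : ChevalleyDatum) (p : ℕ) (ρ lam : ℕ → ℕ) (r s : ℕ) : List (ℕ × ℤ × ℕ × ℕ) :=
  ((D.commTerms (ρ r) (ρ s)).map fun c =>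
    (c.1, (c.2.1 * (-1) ^ c.2.2.1) % (p : ℤ), lam r * c.2.2.1, lam s * c.2.2.2)).filter fun c => c.2.1 ≠ 0

/-- The root subgroups of `k` and `k'` commute in characteristic `p` by the commutator formula. -/
def CommOK (D : ChevalleyDatum) (p : ℕ) (k k' : ℕ) : Prop :=
  k < D.nroots ∧ k' < D.nroots ∧ k' ≠ k ∧ k' ≠ D.neg k ∧ ∀ c ∈ D.commTerms k k', c.2.1 % (p : ℤ) = 0 ∧ c.1 < D.nroots

instance instDecidableCommOK (D : ChevalleyDatum) (p k k' : ℕ) : Decidable (CommOK D p k k') :=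
  inferInstanceAs (Decidable (_ ∧ _))

/-- The condition for one pair of roots. -/
def IsogPairOK (D : ChevalleyDatum) (p : ℕ) (ρ lam : ℕ → ℕ) (r s : ℕ) : Prop :=
  (∀ c ∈ D.commTerms r s, c.1 < D.nroots) ∧ (mwOne D p ρ lam r s).Perm (mwTwo D p ρ lam r s) ∧
    (mwTwo D p ρ lam r s).Pairwise fun a b => CommOK D p a.1 b.1

instance instDecidableIsogPairOK (D : ChevalleyDatum) (p : ℕ) (ρ lam : ℕ → ℕ) (r s : ℕ) :
    Decidable (IsogPairOK D p ρ lam r s) :=
  @instDecidableAnd _ _ inferInstance (@instDecidableAnd _ _ (List.decidablePerm _ _) inferInstance)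

/-- Table conditions for the exceptional graph endomorphism in characteristic `p`. -/
def IsogOK (D : ChevalleyDatum) (p : ℕ) (ρ lam : ℕ → ℕ) : Prop :=
  ∀ r < D.nroots, ρ r < D.nroots ∧ ρ (ρ r) = r ∧ D.neg r < D.nroots ∧ D.neg (ρ r) = ρ (D.neg r) ∧
    lam (D.neg r) = lam r ∧ (lam r = 1 ∨ lam r = p) ∧ lam r * lam (ρ r) = p ∧
    ∀ s < D.nroots, s ≠ r → s ≠ D.neg r → IsogPairOK D p ρ lam r s

instance instDecidableIsogOK (D : ChevalleyDatum) (p : ℕ) (ρ lam : ℕ → ℕ) : Decidable (IsogOK D p ρ lam) := by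
  unfold IsogOK; infer_instance

theorem isogOK_B2 : IsogOK chevB2 2 (rhoB2Tab.getD · 0) (lamB2Tab.getD · 0) := by decide +kernel
theorem isogOK_G2 : IsogOK chevG2 3 (rhoG2Tab.getD · 0) (lamG2Tab.getD · 0) := by decide +kernel
theorem isogOK_F4 : IsogOK chevF4 2 (rhoF4Tab.getD · 0) (lamF4Tab.getD · 0) := by decide +kernel

section Abstract

variable {K : Type*} [Field K] {G : Type*} [Group G] {D : ChevalleyDatum} {x : ℕ → K → G}

theorem x_zero_of_add (hadd : ∀ r < D.nroots, ∀ t u, x r t * x r u = x r (t + u)) {r : ℕ} (hr : r < D.nroots) :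
    x r 0 = 1 := by
  have := hadd r hr 0 0
  rw [add_zero] at this
  exact mul_eq_left.1 this

theorem prod_filter_zero (x : ℕ → K → G) (t u : K) (l : List (ℕ × ℤ × ℕ × ℕ))
    (h0 : ∀ c ∈ l, x c.1 0 = 1) :
    ((l.filter fun c => c.2.1 ≠ 0).map fun c => x c.1 ((c.2.1 : K) * t ^ c.2.2.1 * u ^ c.2.2.2)).prod =
      (l.map fun c => x c.1 ((c.2.1 : K) * t ^ c.2.2.1 * u ^ c.2.2.2)).prod := by
  induction l with
  | nil => rfl
  | cons c l ih =>
    have ih' := ih fun c hc => h0 c (List.mem_cons_of_mem _ hc)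
    by_cases hc : c.2.1 = 0
    · rw [List.filter_cons_of_neg (by simpa using hc), ih', List.map_cons, List.prod_cons, hc]
      simp [h0 c List.mem_cons_self]
    · rw [List.filter_cons_of_pos (by simpa using hc), List.map_cons, List.map_cons, List.prod_cons, List.prod_cons,
        ih']

theorem commute_of_commOK {p : ℕ} [CharP K p] (hadd : ∀ r < D.nroots, ∀ t u, x r t * x r u = x r (t + u))
    (hcomm : ∀ r < D.nroots, ∀ s < D.nroots, s ≠ r → s ≠ D.neg r → ∀ t u,
      x s u * x r t = x r t * x s u * ((D.commWord K r s t u).map fun c => x c.1 c.2).prod)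
    {k k' : ℕ} (h : CommOK D p k k') (t u : K) : Commute (x k t) (x k' u) := by
  obtain ⟨h1, h2, h3, h4, h5⟩ := h
  have := hcomm k h1 k' h2 h3 h4 t u
  rw [List.prod_eq_one, mul_one] at this
  · exact this.symm
  · intro g hg
    obtain ⟨c, hc, rfl⟩ := List.mem_map.1 hg
    unfold ChevalleyDatum.commWord at hc
    obtain ⟨d, hd, rfl⟩ := List.mem_map.1 hc
    have : ((d.2.1 : ℤ) : K) = 0 := by
      rw [CharP.intCast_eq_zero_iff K p]
      exact Int.dvd_of_emod_eq_zero (h5 d hd).1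
    simp only [this, zero_mul]
    exact x_zero_of_add hadd (h5 d hd).2

theorem isog_add {p : ℕ} [Fact p.Prime] [CharP K p] {ρ lam : ℕ → ℕ} (hI : IsogOK D p ρ lam)
    (hadd : ∀ r < D.nroots, ∀ t u, x r t * x r u = x r (t + u)) :
    ∀ r < D.nroots, ∀ t u : K, x (ρ r) (t ^ lam r) * x (ρ r) (u ^ lam r) = x (ρ r) ((t + u) ^ lam r) := by
  intro r hr t u
  obtain ⟨h1, -, -, -, -, h2, -⟩ := hI r hr
  rw [hadd _ h1]
  rcases h2 with h2 | h2
  · simp [h2]
  · rw [h2, add_pow_char]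

theorem isog_neg_pow {p : ℕ} [Fact p.Prime] [CharP K p] {ρ lam : ℕ → ℕ} (hI : IsogOK D p ρ lam) {r : ℕ}
    (hr : r < D.nroots) (t : K) : (-t) ^ lam r = -t ^ lam r := by
  obtain ⟨-, -, -, -, -, h2, -⟩ := hI r hr
  rcases h2 with h2 | h2
  · simp [h2]
  · rw [h2, neg_pow, neg_one_pow_char]; simp

theorem isog_comm {p : ℕ} [Fact p.Prime] [CharP K p] {ρ lam : ℕ → ℕ} (hI : IsogOK D p ρ lam)
    (hadd : ∀ r < D.nroots, ∀ t u, x r t * x r u = x r (t + u))
    (hcomm : ∀ r < D.nroots, ∀ s < D.nroots, s ≠ r → s ≠ D.neg r → ∀ t u,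
      x s u * x r t = x r t * x s u * ((D.commWord K r s t u).map fun c => x c.1 c.2).prod) :
    ∀ r < D.nroots, ∀ s < D.nroots, s ≠ r → s ≠ D.neg r → ∀ t u : K,
      x (ρ s) (u ^ lam s) * x (ρ r) (t ^ lam r) = x (ρ r) (t ^ lam r) * x (ρ s) (u ^ lam s) *
        ((D.commWord K r s t u).map fun c => x (ρ c.1) (c.2 ^ lam c.1)).prod := by
  intro r hr s hs h1 h2 t u
  obtain ⟨hρr, hρρr, hnr, hneg, -, -, -, hS⟩ := hI r hr
  obtain ⟨hlt, hperm, hpair⟩ := hS s hs h1 h2
  obtain ⟨hρs, hρρs, -⟩ := hI s hs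
  have h1' : ρ s ≠ ρ r := fun h => h1 (by rw [← hρρs, h, hρρr])
  have h2' : ρ s ≠ D.neg (ρ r) := fun h => h2 (by rw [← hρρs, h, hneg, (hI _ hnr).2.1])
  rw [hcomm _ hρr _ hρs h1' h2']
  congr 1
  have hcast : ∀ z : ℤ, (((z % p : ℤ)) : K) = z := fun z => by
    rw [CharP.intCast_eq_intCast K p]
    exact Int.emod_emod_of_dvd z (dvd_refl _)
  have e1 : ((D.commWord K r s t u).map fun c => x (ρ c.1) (c.2 ^ lam c.1)).prod =
      ((mwOne D p ρ lam r s).map fun c => x c.1 ((c.2.1 : K) * t ^ c.2.2.1 * u ^ c.2.2.2)).prod := by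
    unfold mwOne
    rw [prod_filter_zero]
    · unfold ChevalleyDatum.commWord
      rw [List.map_map, List.map_map]
      congr 1
      apply List.map_congr_left
      intro c _
      simp only [Function.comp, hcast]
      congr 1
      push_cast
      rw [neg_pow t, mul_pow, mul_pow, mul_pow, mul_pow, pow_mul, pow_mul]
      ring
    · intro c hc
      obtain ⟨d, hd, rfl⟩ := List.mem_map.1 hc
      exact x_zero_of_add hadd (hI _ (hlt d hd)).1
  have e2 : ((D.commWord K (ρ r) (ρ s) (t ^ lam r) (u ^ lam s)).map fun c => x c.1 c.2).prod =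
      ((mwTwo D p ρ lam r s).map fun c => x c.1 ((c.2.1 : K) * t ^ c.2.2.1 * u ^ c.2.2.2)).prod := by
    unfold mwTwo
    rw [prod_filter_zero]
    · unfold ChevalleyDatum.commWord
      rw [List.map_map, List.map_map]
      congr 1
      apply List.map_congr_left
      intro c _
      simp only [Function.comp, hcast]
      congr 1
      push_cast
      rw [neg_pow (t ^ lam r), pow_mul, pow_mul]
      ring
    · intro c hc
      obtain ⟨d, hd, rfl⟩ := List.mem_map.1 hc
      exact x_zero_of_add hadd (((hI _ hρr).2.2.2.2.2.2.2 _ hρs h1' h2').1 d hd)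
  rw [e1, e2]
  apply List.Perm.prod_eq' (hperm.symm.map _)
  rw [List.pairwise_map]
  exact hpair.imp fun h => commute_of_commOK hadd hcomm h _ _

end Abstract

section Steinberg

variable {K : Type*} [Field K] (D : ChevalleyDatum)

theorem mk_stWord (w : List (ℕ × K)) :
    PresentedGroup.mk (D.steinbergRels K) (D.stWord w) = (w.map fun c => D.stGen K c.1 c.2).prod := by
  unfold ChevalleyDatum.stWord
  rw [map_list_prod, List.map_map]
  rfl

theorem stGen_add' (r : ℕ) (hr : r < D.nroots) (t u : K) : D.stGen K r t * D.stGen K r u = D.stGen K r (t + u) := by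
  have : PresentedGroup.mk (D.steinbergRels K) (D.stX r t * D.stX r u * (D.stX r (t + u))⁻¹) = 1 :=
    PresentedGroup.one_of_mem (Or.inl (Or.inl ⟨r, t, u, hr, rfl⟩))
  rw [map_mul, map_mul, map_inv, mul_inv_eq_one] at this
  exact this

theorem stGen_comm' (r : ℕ) (hr : r < D.nroots) (s : ℕ) (hs : s < D.nroots) (h1 : s ≠ r) (h2 : s ≠ D.neg r)
    (t u : K) : D.stGen K s u * D.stGen K r t =
      D.stGen K r t * D.stGen K s u * ((D.commWord K r s t u).map fun c => D.stGen K c.1 c.2).prod := by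
  have : PresentedGroup.mk (D.steinbergRels K) ((D.stX s u)⁻¹ * (D.stX r t)⁻¹ * D.stX s u * D.stX r t *
      (D.stWord (D.commWord K r s t u))⁻¹) = 1 :=
    PresentedGroup.one_of_mem (Or.inl (Or.inr ⟨r, s, t, u, hr, hs, h1, h2, rfl⟩))
  rw [map_mul, map_mul, map_mul, map_mul, map_inv, map_inv, map_inv, mul_inv_eq_one, mk_stWord] at this
  rw [← this]
  unfold ChevalleyDatum.stGen
  group

theorem stGen_h' (r : ℕ) (hr : r < D.nroots) (t u : K) (ht : t ≠ 0) (hu : u ≠ 0) :
    ((D.hWord r t).map fun c => D.stGen K c.1 c.2).prod * ((D.hWord r u).map fun c => D.stGen K c.1 c.2).prod =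
      ((D.hWord r (t * u)).map fun c => D.stGen K c.1 c.2).prod := by
  have : PresentedGroup.mk (D.steinbergRels K) (D.stH r t * D.stH r u * (D.stH r (t * u))⁻¹) = 1 :=
    PresentedGroup.one_of_mem (Or.inr ⟨r, t, u, hr, ht, hu, rfl⟩)
  rw [map_mul, map_mul, map_inv, mul_inv_eq_one] at this
  unfold ChevalleyDatum.stH at this
  rwa [mk_stWord, mk_stWord, mk_stWord] at this

/-- The universal property of the Steinberg group, for families indexed by natural numbers. -/
theorem exists_stHom {G : Type*} [Group G] (y : ℕ → K → G) (hneg : ∀ r < D.nroots, D.neg r < D.nroots)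
    (hlt : ∀ r < D.nroots, ∀ s < D.nroots, s ≠ r → s ≠ D.neg r → ∀ c ∈ D.commTerms r s, c.1 < D.nroots)
    (hadd : ∀ r < D.nroots, ∀ t u, y r t * y r u = y r (t + u))
    (hcomm : ∀ r < D.nroots, ∀ s < D.nroots, s ≠ r → s ≠ D.neg r → ∀ t u,
      y s u * y r t = y r t * y s u * ((D.commWord K r s t u).map fun c => y c.1 c.2).prod)
    (hh : ∀ r < D.nroots, ∀ t u : K, t ≠ 0 → u ≠ 0 →
      ((D.hWord r t).map fun c => y c.1 c.2).prod * ((D.hWord r u).map fun c => y c.1 c.2).prod =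
        ((D.hWord r (t * u)).map fun c => y c.1 c.2).prod) :
    ∃ ψ : D.SteinbergGroup K →* G, ∀ r < D.nroots, ∀ t, ψ (D.stGen K r t) = y r t := by
  let f : Fin D.nroots × K → G := fun c => y c.1 c.2
  have hX : ∀ r < D.nroots, ∀ t, FreeGroup.lift f (D.stX r t) = y r t := by
    intro r hr t
    unfold ChevalleyDatum.stX
    rw [dif_pos hr, FreeGroup.lift_apply_of]
  have hW : ∀ w : List (ℕ × K), (∀ c ∈ w, c.1 < D.nroots) →
      FreeGroup.lift f (D.stWord w) = (w.map fun c => y c.1 c.2).prod := by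
    intro w hw
    unfold ChevalleyDatum.stWord
    rw [map_list_prod, List.map_map]
    congr 1
    apply List.map_congr_left
    intro c hc
    exact hX _ (hw c hc) _
  have hrel : ∀ g ∈ D.steinbergRels K, FreeGroup.lift f g = 1 := by
    rintro g ((⟨r, t, u, hr, rfl⟩ | ⟨r, s, t, u, hr, hs, h1, h2, rfl⟩) | ⟨r, t, u, hr, ht, hu, rfl⟩)
    · rw [map_mul, map_mul, map_inv, hX r hr, hX r hr, hX r hr, hadd r hr, mul_inv_cancel]
    · rw [map_mul, map_mul, map_mul, map_mul, map_inv, map_inv, map_inv, hX r hr, hX s hs, hW]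
      · have := hcomm r hr s hs h1 h2 t u
        rw [mul_inv_eq_one, mul_assoc, mul_assoc, this]
        group
      · intro c hc
        obtain ⟨d, hd, rfl⟩ := List.mem_map.1 hc
        exact hlt r hr s hs h1 h2 d hd
    · have hw : ∀ v : K, ∀ c ∈ D.hWord r v, c.1 < D.nroots := by
        intro v c hc
        simp only [ChevalleyDatum.hWord, ChevalleyDatum.nWord, List.cons_append, List.nil_append, List.mem_cons,
          List.not_mem_nil, or_false] at hc
        rcases hc with rfl | rfl | rfl | rfl | rfl | rfl <;> first | exact hr | exact hneg r hr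
      unfold ChevalleyDatum.stH
      rw [map_mul, map_mul, map_inv, hW _ (hw _), hW _ (hw _), hW _ (hw _), hh r hr t u ht hu, mul_inv_cancel]
  refine ⟨PresentedGroup.toGroup hrel, fun r hr t => ?_⟩
  rw [← hX r hr t]
  rfl

theorem stGen_closure : Subgroup.closure {g | ∃ r < D.nroots, ∃ t : K, g = D.stGen K r t} = ⊤ := by
  rw [eq_top_iff, ← PresentedGroup.closure_range_of (D.steinbergRels K)]
  apply Subgroup.closure_mono
  rintro _ ⟨⟨r, t⟩, rfl⟩
  refine ⟨r, r.2, t, ?_⟩
  unfold ChevalleyDatum.stGen ChevalleyDatum.stX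
  rw [dif_pos r.2]
  rfl

end Steinberg

end CL.Tw
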