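import Cfsg.Agent.Base
import Cfsg.Agent.Chev.MatTwo
import Cfsg.Agent.Unitary.Simple
import Cfsg.Agent.Unitary.Center
import Cfsg.Agent.Small.SimpleEmbed

/-!
# `SU₃(3) = PSU₃(3)` as an explicit permutation group on the 63 non-isotropic points
-/

set_option autoImplicit false
set_option maxRecDepth 100000

namespace CL.U33

open Matrix CL.ChevM CL.Herm

/-- The map of `Fin 63` given by a table. -/
noncomputable def tab (L : List ℕ) (i : Fin 63) : Fin 63 := Fin.ofNat 63 (nth L i)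

/-- Table of an involution. -/
def ta : List ℕ := [0, 21, 25, 22, 23, 24, 42, 43, 46, 45, 44, 11, 12, 14, 13, 15, 16, 19, 20, 17, 18, 1, 3, 4, 5, 2, 38, 40, 37,
  39, 35, 41, 34, 36, 32, 30, 33, 28, 26, 29, 27, 31, 6, 7, 10, 9, 8, 48, 47, 49, 51, 50, 52, 54, 53, 60, 57, 56,
  62, 59, 55, 61, 58]
/-- Table of an involution. -/
def tna : List ℕ := [0, 1, 2, 3, 5, 4, 6, 10, 9, 8, 7, 21, 25, 23, 24, 22, 42, 46, 44, 45, 43, 11, 15, 13, 14, 12, 31, 28, 27, 33,
  30, 26, 32, 29, 52, 49, 48, 54, 51, 47, 53, 50, 16, 20, 18, 19, 17, 39, 36, 35, 41, 38, 34, 40, 37, 60, 57, 56,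
  62, 59, 55, 61, 58]
/-- Table of an involution. -/
def tb : List ℕ := [1, 0, 2, 3, 5, 4, 6, 21, 42, 16, 11, 10, 39, 60, 31, 52, 9, 36, 57, 28, 49, 7, 34, 55, 26, 47, 24, 45, 19, 40,
  61, 14, 32, 53, 22, 43, 17, 37, 58, 12, 29, 50, 8, 35, 56, 27, 48, 25, 46, 20, 41, 62, 15, 33, 54, 23, 44, 18,
  38, 59, 13, 30, 51]
/-- Table of an involution. -/
def tnb : List ℕ := [0, 6, 10, 9, 7, 8, 1, 4, 5, 3, 2, 11, 12, 13, 14, 15, 16, 20, 19, 18, 17, 42, 45, 43, 46, 44, 38, 40, 41, 34,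
  36, 37, 39, 35, 29, 33, 30, 31, 26, 32, 27, 28, 21, 23, 25, 22, 24, 62, 58, 61, 57, 56, 59, 55, 60, 53, 51, 50,
  48, 52, 54, 49, 47]

/-- An outer involution. -/
noncomputable def pa : Equiv.Perm (Fin 63) := Function.Involutive.toPerm (tab ta) (by unfold Function.Involutive; decide +kernel)
/-- An outer involution. -/
noncomputable def pna : Equiv.Perm (Fin 63) := Function.Involutive.toPerm (tab tna) (by unfold Function.Involutive; decide +kernel)
/-- An inner involution. -/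
noncomputable def pb : Equiv.Perm (Fin 63) := Function.Involutive.toPerm (tab tb) (by unfold Function.Involutive; decide +kernel)
/-- An inner involution. -/
noncomputable def pnb : Equiv.Perm (Fin 63) := Function.Involutive.toPerm (tab tnb) (by unfold Function.Involutive; decide +kernel)

/-- The generators of the permutation group. -/
noncomputable def gen : Fin 5 → Equiv.Perm (Fin 63) := ![pb, pnb, pa * pb * pa, pa * pnb * pa, pa * pna]

/-- The permutation group. -/
def grp : Subgroup (Equiv.Perm (Fin 63)) := Subgroup.closure (Set.range gen)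

/-- The value of a word in the generators. -/
noncomputable def word (w : List (Fin 5)) : Equiv.Perm (Fin 63) := (w.map gen).prod

theorem word_mem (w : List (Fin 5)) : word w ∈ grp :=
  list_prod_mem fun _ hg => by
    obtain ⟨k, -, rfl⟩ := List.mem_map.1 hg
    exact Subgroup.subset_closure ⟨k, rfl⟩

/-- Words moving the base point. -/
def wT : List (List (Fin 5)) := [[0, 2, 1, 4], [2, 1, 4], [2, 1, 0, 2], [1, 0, 2, 4, 1], [0], [], [1, 2, 1, 4], [1, 0], [1], [0, 2, 4, 1], [2,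
  1, 4, 2], [2, 4, 1, 0], [2, 4, 2, 1], [0, 2, 0], [4, 4], [4, 1, 4, 1], [2, 4, 1], [4, 4, 1], [4, 1, 4], [1, 4,
  1, 4], [1, 4, 4, 1], [0, 1, 0], [1, 4, 1], [4], [2, 4], [0, 2, 1], [1, 2], [0, 4, 1], [1, 0, 4, 2], [4, 2, 1],
  [2, 1, 0], [0, 4, 4], [1, 2, 0, 4, 1], [0, 1, 0, 4], [0, 1, 4, 1], [0, 1, 4], [0, 4, 4, 1], [1, 0, 4, 4], [2],
  [2, 0, 4, 1], [0, 4, 2, 1], [0, 4, 2], [0, 1], [1, 4], [4, 1, 0], [4, 1], [1, 2, 4], [2, 1], [1, 0, 2], [2, 4,
  1, 4], [4, 2], [0, 1, 2, 1], [0, 4, 1, 4, 1], [1, 0, 4], [1, 2, 0], [0, 4], [0, 4, 1, 0], [1, 4, 2], [0, 2],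
  [1, 0, 4, 1, 4, 1], [2, 0], [0, 2, 1, 0], [1, 2, 1]]

/-- Words fixing the base point. -/
def wS : List (List (Fin 5)) := [[], [4, 1, 4, 4], [4, 2, 0, 4], [0, 2, 4, 2, 0], [1, 0, 2, 0, 1], [2, 1, 0, 2, 4], [4, 1, 2, 0, 4], [0, 4, 1,
  0, 2, 0], [0, 4, 2, 4, 1, 2], [0, 1, 0, 4, 2, 1, 4], [0, 1, 4, 1, 4, 4, 1]]

theorem le_card_grp : 63 * 11 ≤ Nat.card grp := by
  have h1 : ∀ i : Fin 63, word (wT.getD i []) 5 = i := by decide +kernel
  refine mul_le_card_of_chain grp 5 8 (fun i : Fin 63 => word (wT.getD i [])) (fun _ => word_mem _)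
    (fun i j h => by simpa only [h1] using h) (fun j : Fin 11 => word (wS.getD j [])) (fun _ => word_mem _)
    (by decide +kernel) (by unfold Function.Injective; decide +kernel)

/-- The Gaussian integer with a given code. -/
def gi (c : ℕ) : GaussianInt := ⟨(c % 3 : ℕ), (c / 3 % 3 : ℕ)⟩

/-- The vector with a given code. -/
def gv (c : ℕ) : Fin 3 → GaussianInt := ![gi c, gi (c / 9), gi (c / 81)]

/-- Codes of the representatives of the points. -/
def reps : List ℕ := [81, 9, 252, 495, 90, 171, 1, 244, 487, 82, 163, 28, 352, 595, 433, 676, 55, 379, 622, 460, 703, 10, 334, 577,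
  415, 658, 280, 523, 118, 361, 604, 199, 442, 685, 307, 550, 145, 388, 631, 226, 469, 712, 19, 343, 586, 424,
  667, 289, 532, 127, 370, 613, 208, 451, 694, 316, 559, 154, 397, 640, 235, 478, 721]

/-- The representatives of the points. -/
noncomputable def rep (i : Fin 63) : Fin 3 → GaussianInt := gv (nth reps i)

/-- The matrices of the generators. -/
def mat : Fin 5 → Matrix (Fin 3) (Fin 3) GaussianInt :=
  ![Matrix.of ![gv 2, gv 243, gv 54], Matrix.of ![gv 27, gv 6, gv 162], Matrix.of ![gv 424, gv 416, gv 80],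
    Matrix.of ![gv 27, gv 6, gv 162], Matrix.of ![gv 43, gv 41, gv 81]]

/-- Congruence modulo three. -/
def Cong (z w : GaussianInt) : Prop := (z.re - w.re) % 3 = 0 ∧ (z.im - w.im) % 3 = 0

instance (z w : GaussianInt) : Decidable (Cong z w) := by unfold Cong; infer_instance

theorem mat_det : ∀ k, Cong (mat k 0 0 * mat k 1 1 * mat k 2 2 - mat k 0 0 * mat k 1 2 * mat k 2 1 -
    mat k 0 1 * mat k 1 0 * mat k 2 2 + mat k 0 1 * mat k 1 2 * mat k 2 0 + mat k 0 2 * mat k 1 0 * mat k 2 1 -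
    mat k 0 2 * mat k 1 1 * mat k 2 0) 1 := by decide +kernel

theorem mat_unit : ∀ k i j, Cong (mat k 0 i * star (mat k 0 j) + mat k 1 i * star (mat k 1 j) +
    mat k 2 i * star (mat k 2 j)) (if i = j then 1 else 0) := by decide +kernel

theorem mat_act : ∀ k i, ∃ c : Fin 8, ∀ a, Cong (mat k a 0 * rep i 0 + mat k a 1 * rep i 1 + mat k a 2 * rep i 2)
    (gi (c + 1) * rep (gen k i) a) := by decide +kernel

theorem gi_norm : ∀ c : Fin 8, (gi (c + 1)).norm % 3 ≠ 0 := by decide +kernel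

theorem rep_inj : ∀ i j, (∀ a b, (rep i a * rep j b - rep i b * rep j a).norm % 3 = 0) → i = j := by
  decide +kernel

section Field

variable {K : Type*} [Field K] {σ : K →+* K} (h : Conj σ 3)
include h

theorem three_eq_zero : (3 : K) = 0 := by
  have := h.finite
  have := Fintype.ofFinite K
  have h1 := FiniteField.cast_card_eq_zero K
  rw [← Nat.card_eq_fintype_card, h.card] at h1
  exact pow_eq_zero_iff (n := 2) (by norm_num) |>.1 (by exact_mod_cast h1)

theorem exists_emb : ∃ e : GaussianInt →+* K, (∀ z, σ (e z) = e (star z)) ∧ (∀ z w, Cong z w → e z = e w) ∧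
    ∀ z, e z = 0 → z.norm % 3 = 0 := by
  have := h.finite
  have := Fintype.ofFinite K
  have h3 := three_eq_zero h
  obtain ⟨ι, hι⟩ : IsSquare (-1 : K) := by
    rw [FiniteField.isSquare_neg_one_iff, ← Nat.card_eq_fintype_card, h.card]; norm_num
  let e : GaussianInt →+* K := Zsqrtd.lift ⟨ι, by rw [← hι]; simp⟩
  have he : ∀ z, e z = z.re + z.im * ι := fun z => Zsqrtd.lift_apply_apply _ z
  have hσ : σ ι = -ι := by rw [h.apply]; linear_combination (-ι) * hι
  have hc : ∀ a b : ℤ, (a - b) % 3 = 0 → (a : K) = b := fun a b hab => by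
    obtain ⟨c, hc⟩ : ∃ c, a = b + 3 * c := ⟨(a - b) / 3, by omega⟩
    rw [hc]; push_cast; rw [h3]; ring
  have hs : ∀ z, σ (e z) = e (star z) := fun z => by simp [he, hσ]
  refine ⟨e, hs, fun z w hzw => by rw [he, he, hc _ _ hzw.1, hc _ _ hzw.2], fun z hz => ?_⟩
  have h1 : ((z.norm : ℤ) : K) = 0 := by
    rw [← map_intCast e, Zsqrtd.norm_eq_mul_conj, map_mul, hz, zero_mul]
  have : CharP K 3 := (CharP.charP_iff_prime_eq_zero (by norm_num)).2 (by exact_mod_cast h3)
  have h2 := (CharP.intCast_eq_zero_iff K 3 _).1 h1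
  omega

theorem mem_SU_of {n : ℕ} (A : SpecialLinearGroup (Fin n) K)
    (hA : (A : Matrix (Fin n) (Fin n) K)ᵀ * (A : Matrix (Fin n) (Fin n) K).map σ = 1) : A ∈ Cfsg.SU n K 3 := by
  rw [mem_SU_iff']
  intro u v
  have e : ∀ u v : Fin n → K, Cfsg.hermForm n K 3 u v = u ⬝ᵥ (σ ∘ v) := fun u v => by
    simp [Cfsg.hermForm, dotProduct, h.apply]
  have e2 : σ ∘ ((A : Matrix (Fin n) (Fin n) K) *ᵥ v) = (A : Matrix (Fin n) (Fin n) K).map σ *ᵥ (σ ∘ v) :=
    funext fun i => RingHom.map_mulVec σ _ _ i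
  rw [e, e, e2, ← vecMul_transpose, dotProduct_mulVec, vecMul_vecMul, hA, vecMul_one]

theorem center_SU : Subgroup.center (Cfsg.SU 3 K 3) = ⊥ := by
  have := h.finite
  rw [← Subgroup.card_eq_one, h.card_center_SU (by norm_num)]
  norm_num

theorem nonempty_PSU_equiv_SU : Nonempty (Cfsg.PSU 3 K 3 ≃* Cfsg.SU 3 K 3) :=
  ⟨(QuotientGroup.quotientMulEquivOfEq (center_SU h)).trans QuotientGroup.quotientBot⟩

theorem isSimpleGroup_SU : IsSimpleGroup (Cfsg.SU 3 K 3) := by
  obtain ⟨e⟩ := nonempty_PSU_equiv_SU h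
  have := h.isSimpleGroup_PSU (n := 3) le_rfl (by norm_num)
  exact e.symm.isSimpleGroup

theorem card_SU : Nat.card (Cfsg.SU 3 K 3) = 6048 := by
  have := h.card_SU (n := 3) (by norm_num)
  have e : guOrder 3 3 = 24192 := by decide +kernel
  omega

theorem not_comm_SU : ¬ IsMulCommutative (Cfsg.SU 3 K 3) :=
  have := isSimpleGroup_SU h
  CL.Small.not_comm_of_simple_of_not_prime (by rw [card_SU h]; norm_num)

theorem nonempty_SU_equiv : Nonempty (Cfsg.SU 3 K 3 ≃* grp) := by
  obtain ⟨e, hs, hc, hz⟩ := exists_emb h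
  have := isSimpleGroup_SU h
  have hfin : Finite (Cfsg.SU 3 K 3) := Nat.finite_of_card_ne_zero (by rw [card_SU h]; norm_num)
  have R : GraphRel fun (u : Cfsg.SU 3 K 3) (γ : grp) =>
      ∀ i, ∃ c : K, c ≠ 0 ∧ suHom 3 K 3 u (e ∘ rep i) = c • (e ∘ rep ((γ : Equiv.Perm (Fin 63)) i)) :=
    { one := fun i => ⟨1, one_ne_zero, by simp⟩
      mul := fun g γ g' γ' h1 h2 i => by
        obtain ⟨c, hc, h3⟩ := h2 i
        obtain ⟨c', hc', h4⟩ := h1 ((γ' : Equiv.Perm (Fin 63)) i)
        exact ⟨c * c', mul_ne_zero hc hc', by rw [map_mul, LinearEquiv.mul_apply, h3, map_smul, h4, smul_smul]; rfl⟩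
      inv := fun g γ h1 i => by
        obtain ⟨c, hc, h3⟩ := h1 ((γ : Equiv.Perm (Fin 63))⁻¹ i)
        refine ⟨c⁻¹, inv_ne_zero hc, ?_⟩
        rw [map_inv, LinearEquiv.coe_inv, LinearEquiv.symm_apply_eq, map_smul, Subgroup.coe_inv, h3, smul_smul,
          inv_mul_cancel₀ hc, one_smul]
        simp
      uniq := fun γ h1 => Subtype.ext (Equiv.ext fun i => by
        obtain ⟨c, -, h3⟩ := h1 i
        rw [map_one, LinearEquiv.coe_one, id] at h3
        refine (rep_inj i _ fun a b => hz _ ?_).symm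
        have ha := congrFun h3 a
        have hb := congrFun h3 b
        simp only [Function.comp, Pi.smul_apply, smul_eq_mul] at ha hb
        rw [map_sub, map_mul, map_mul, ha, hb]; ring) }
  have hgen : ∀ k, (⟨gen k, Subgroup.subset_closure ⟨k, rfl⟩⟩ : grp) ∈ R.hom.range := by
    intro k
    have hd : ((mat k).map e).det = 1 := by
      rw [det_fin_three, ← map_one e, ← hc _ _ (mat_det k)]
      simp
    have hu : (⟨(mat k).map e, hd⟩ : SpecialLinearGroup (Fin 3) K) ∈ Cfsg.SU 3 K 3 := mem_SU_of h _ (by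
      ext i j
      have := hc _ _ (mat_unit k i j)
      simp only [map_add, map_mul, ← hs, apply_ite e, map_one, map_zero] at this
      simpa [mul_apply, Fin.sum_univ_three, one_apply] using this)
    refine ⟨_, R.hom_eq (g := ⟨_, hu⟩) fun i => ?_⟩
    obtain ⟨c, hc'⟩ := mat_act k i
    refine ⟨e (gi (c + 1)), fun h0 => gi_norm c (hz _ h0), funext fun a => ?_⟩
    have := hc _ _ (hc' a)
    simp only [map_add, map_mul] at this
    simpa [suHom_apply, mulVec, dotProduct, Fin.sum_univ_three] using this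
  have hsurj : Function.Surjective R.hom := by
    rw [← MonoidHom.range_eq_top, eq_top_iff]
    refine (Subgroup.closure_closure_coe_preimage (k := Set.range gen)).ge.trans ((Subgroup.closure_le _).2 ?_)
    rintro ⟨_, hg⟩ ⟨k, rfl⟩
    exact hgen k
  have hna := not_comm_SU h
  have hdom : R.dom = ⊤ := by
    by_contra hne
    have h1 := CL.Small.two_mul_card_dvd_factorial_index hna hne
    have h2 := le_card_grp.trans (Nat.card_le_card_of_surjective _ hsurj)
    have h3 := R.dom.card_mul_index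
    rw [card_SU h] at h1 h3
    have h4 : R.dom.index ≤ 8 := by nlinarith
    exact absurd (h1.trans (Nat.factorial_dvd_factorial h4)) (by norm_num)
  let τ : Cfsg.SU 3 K 3 →* grp := R.hom.comp ((Subgroup.inclusion hdom.ge).comp Subgroup.topEquiv.symm.toMonoidHom)
  have hτ : Function.Surjective τ := fun γ => by
    obtain ⟨g, rfl⟩ := hsurj γ
    exact ⟨g, rfl⟩
  refine ⟨MulEquiv.ofBijective τ ⟨?_, hτ⟩⟩
  rcases CL.Small.hom_injective_or_eq_one τ with h1 | h1
  · exact h1
  · exfalso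
    have h2 : Subsingleton grp := ⟨fun x y => by
      obtain ⟨x, rfl⟩ := hτ x
      obtain ⟨y, rfl⟩ := hτ y
      simp [h1]⟩
    have := le_card_grp
    rw [Nat.card_of_subsingleton (1 : grp)] at this
    omega

end Field

end CL.U33
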