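import Cfsg.Agent.Base
import Cfsg.Agent.Chev.Levi

/-!
Unipotent subgroups of the split Chevalley groups: the degree filtration of the matrix ring, uniqueness of the
normal form `∏ x_r(t_r)` in an arbitrary order, nilpotency.
-/

set_option autoImplicit false
set_option linter.unusedSectionVars false

namespace CL.Tw

open Cfsg Cfsg.Lie Cfsg.Lie.ChevalleyDatum CL.ChevM CL.Weyl CL.Cox Matrix

section fil

variable {n R : Type*} [Fintype n] [DecidableEq n] [CommRing R]

/-- Matrices raising the degree by at least `m`. -/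
def Fil (R : Type*) [CommRing R] (d : n → ℤ) (m : ℤ) : AddSubgroup (Matrix n n R) where
  carrier := {M | ∀ i j, d i < d j + m → M i j = 0}
  add_mem' ha hb i j h := by rw [Matrix.add_apply, ha i j h, hb i j h, add_zero]
  zero_mem' _ _ _ := rfl
  neg_mem' ha i j h := by rw [Matrix.neg_apply, ha i j h, neg_zero]

variable {d : n → ℤ}

theorem mem_Fil {m : ℤ} {M : Matrix n n R} : M ∈ Fil R d m ↔ ∀ i j, d i < d j + m → M i j = 0 := Iff.rfl

theorem Fil_anti {m k : ℤ} (h : m ≤ k) : Fil R d k ≤ Fil R d m := fun _ hM i j hij => hM i j (by omega)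

theorem mul_mem_Fil {m k : ℤ} {M N : Matrix n n R} (hM : M ∈ Fil R d m) (hN : N ∈ Fil R d k) :
    M * N ∈ Fil R d (m + k) := fun i j hij => by
  rw [mul_apply]
  refine Finset.sum_eq_zero fun l _ => ?_
  by_cases h : d i < d l + m
  · rw [hM i l h, zero_mul]
  · rw [hN l j (by omega), mul_zero]

theorem mul_sub_one_mem_Fil {m : ℤ} (hm : 0 ≤ m) {M N : Matrix n n R} (hM : M - 1 ∈ Fil R d m)
    (hN : N - 1 ∈ Fil R d m) : M * N - 1 ∈ Fil R d m := by
  rw [show M * N - 1 = (M - 1) * (N - 1) + (M - 1) + (N - 1) by noncomm_ring]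
  exact add_mem (add_mem (Fil_anti (by omega) (mul_mem_Fil hM hN)) hM) hN

theorem prod_sub_one_mem_Fil {m : ℤ} (hm : 0 ≤ m) {L : List (Matrix n n R)} (h : ∀ M ∈ L, M - 1 ∈ Fil R d m) :
    L.prod - 1 ∈ Fil R d m := by
  induction L with
  | nil => simp
  | cons a L ih =>
    rw [List.prod_cons]
    exact mul_sub_one_mem_Fil hm (h a (by simp)) (ih fun M hM => h M (by simp [hM]))

theorem prod_sub_prod_mem_Fil {ι : Type*} {m : ℤ} {L : List ι} {a b : ι → Matrix n n R}
    (ha : ∀ r ∈ L, a r - 1 ∈ Fil R d 1) (hb : ∀ r ∈ L, b r - 1 ∈ Fil R d 1) (hab : ∀ r ∈ L, a r - b r ∈ Fil R d m) :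
    (L.map a).prod - (L.map b).prod - (L.map fun r => a r - b r).sum ∈ Fil R d (m + 1) := by
  induction L with
  | nil => simp
  | cons r L ih =>
    have h1 := ih (fun s hs => ha s (by simp [hs])) (fun s hs => hb s (by simp [hs]))
      fun s hs => hab s (by simp [hs])
    have h2 : (L.map fun r => a r - b r).sum ∈ Fil R d m := list_sum_mem fun y hy => by
      obtain ⟨s, hs, rfl⟩ := List.mem_map.1 hy
      exact hab s (by simp [hs])
    have h3 : (L.map a).prod - (L.map b).prod ∈ Fil R d m := by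
      simpa using add_mem (Fil_anti (by omega) h1) h2
    have h4 : (L.map a).prod - 1 ∈ Fil R d 1 := prod_sub_one_mem_Fil zero_le_one fun M hM => by
      obtain ⟨s, hs, rfl⟩ := List.mem_map.1 hM
      exact ha s (by simp [hs])
    have h5 := mul_mem_Fil (hab r (by simp)) h4
    have h6 := mul_mem_Fil (hb r (by simp)) h3
    rw [add_comm] at h6
    simp only [List.map_cons, List.prod_cons, List.sum_cons]
    convert add_mem (add_mem h5 h6) h1 using 1
    noncomm_ring

theorem pow_mem_Fil {M : Matrix n n R} (h : M ∈ Fil R d 1) (k : ℕ) : M ^ (k + 1) ∈ Fil R d (k + 1) := by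
  induction k with
  | zero => simpa using h
  | succ k ih => rw [pow_succ]; exact_mod_cast mul_mem_Fil ih h

theorem isNilpotent_of_mem_Fil {M : Matrix n n R} (h : M ∈ Fil R d 1) : IsNilpotent M := by
  obtain ⟨k, hk⟩ : ∃ k : ℕ, ∀ p : n × n, d p.1 - d p.2 ≤ k := by
    obtain ⟨b, hb⟩ := (Set.finite_range fun p : n × n => d p.1 - d p.2).bddAbove
    exact ⟨b.toNat, fun p => (hb ⟨p, rfl⟩).trans (Int.self_le_toNat b)⟩
  refine ⟨k + 1, ?_⟩
  ext i j
  exact pow_mem_Fil h k i j (by have := hk (i, j); simp only at this; omega)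

theorem pow_card_eq_zero_of_isNilpotent {K : Type*} [Field K] {M : Matrix n n K} (h : IsNilpotent M) :
    M ^ Fintype.card n = 0 := by
  have h1 := (Matrix.isNilpotent_charpoly_sub_pow_of_isNilpotent h).eq_zero
  have h2 := Matrix.aeval_self_charpoly M
  rwa [sub_eq_zero.1 h1, map_pow, Polynomial.aeval_X] at h2

end fil

variable {D : ChevalleyDatum} {η : ℕ → ℕ → ℤ} (C : Core D η) {K : Type*} [Field K]

include C in
theorem x_sub_x_mem_Fil (L : (Fin D.rank → ℤ) →+ ℤ) {r : Fin D.nroots} (hr : 0 ≤ L (wt D r)) (t u : K) :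
    D.x K r t - D.x K r u ∈ Fil K (deg D L) (L (wt D r)) := fun i j hij => by
  have key : ∀ v : K, D.x K r v i j = (1 : Matrix D.Idx D.Idx K) i j := fun v => by
    by_contra h
    obtain ⟨k, hk, e⟩ := x_entry C L r v i j h
    have : L (wt D r) ≤ k * L (wt D r) := le_mul_of_one_le_left hr (by exact_mod_cast hk)
    omega
  rw [Matrix.sub_apply, key, key, sub_self]

include C in
theorem x_sub_one_mem_Fil (L : (Fin D.rank → ℤ) →+ ℤ) {r : Fin D.nroots} (hr : 0 ≤ L (wt D r)) (t : K) :
    D.x K r t - 1 ∈ Fil K (deg D L) (L (wt D r)) := by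
  simpa [C.x_zero] using x_sub_x_mem_Fil C L hr t 0

theorem mat_sub_one_mem_Fil (L : (Fin D.rank → ℤ) →+ ℤ) {m : ℤ} (hm : 0 ≤ m) {S : Set (Fin D.nroots)}
    (hS : ∀ r ∈ S, m ≤ L (wt D r)) {g : ↥(D.group K)} (hg : g ∈ XSg C K S) : mat g - 1 ∈ Fil K (deg D L) m := by
  refine XSg_induction C (p := fun g => mat g - 1 ∈ Fil K (deg D L) m) (by simp) ?_ hg
  intro r hr t y _ ih
  rw [map_mul, mat_xG]
  exact mul_sub_one_mem_Fil hm (Fil_anti (hS r hr) (x_sub_one_mem_Fil C L (hm.trans (hS r hr)) t)) ih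

include C in
/-- The entry of `x_r(t)` in the row of `h_i` and the column of `e_{-s}`. -/
theorem x_entry_neg (r s : Fin D.nroots) (t : K) (i : Fin D.rank) :
    D.x K r t (Sum.inl i) (Sum.inr ⟨D.neg s, C.tab.neg_lt s s.2⟩) = if r = s then (crt D s i : K) * t else 0 := by
  rw [x_of_lt r.2]
  by_cases h : r = s
  · subst h
    have h1 : ¬ (⟨D.neg r, C.tab.neg_lt r r.2⟩ : Fin D.nroots) = r := fun e =>
      C.tab.neg_ne r r.2 (congrArg Fin.val e)
    simp only [xMat, of_apply, Fin.eta, if_neg h1, if_true]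
    exact if_pos rfl
  · have h2 : ¬ D.neg s = D.negIdx.getD r 0 := fun e => h (Fin.ext (by
      have e' : D.neg s = D.neg r := e
      rw [← C.tab.neg_neg r r.2, ← e', C.tab.neg_neg s s.2]))
    simp only [xMat, of_apply, Fin.eta, if_neg h, if_neg h2]
    split_ifs <;> rfl

variable [WeylOK D]

include C in
theorem exists_crt_ne_zero (K : Type*) [Field K] {r : ℕ} (hr : r < D.nroots) :
    ∃ i : Fin D.rank, (crt D r i : K) ≠ 0 := by
  obtain ⟨μ, hμ⟩ := C.red
  induction hn : μ r using Nat.strong_induction_on generalizing r with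
  | _ n ih =>
  rcases hμ r hr with ⟨i, hi, rfl⟩ | ⟨i, hi, h⟩
  · exact ⟨⟨i, hi⟩, by rw [WeylOK.crt_simple (D := D) ⟨i, hi⟩]; simp⟩
  · obtain ⟨j, hj⟩ := ih _ (hn ▸ h) (C.refl_lt hi hr) rfl
    by_contra hc
    push Not at hc
    rw [WeylOK.crt_reflect (D := D) ⟨i, hi⟩ r hr, refl_apply] at hj
    apply hj
    simp [form, hc]

/-- Uniqueness of the normal form, in an arbitrary order. -/
theorem lprod_inj (L : (Fin D.rank → ℤ) →+ ℤ) {l : List (Fin D.nroots)} (hnd : l.Nodup)
    (hl : ∀ r ∈ l, 0 < L (wt D r)) {t u : Fin D.nroots → K}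
    (h : (l.map fun r : Fin D.nroots => xG C r (t r)).prod = (l.map fun r : Fin D.nroots => xG C r (u r)).prod) :
    ∀ r ∈ l, t r = u r := by
  have h' : (l.map fun r : Fin D.nroots => D.x K r (t r)).prod =
      (l.map fun r : Fin D.nroots => D.x K r (u r)).prod := by
    simpa only [map_list_prod, List.map_map, Function.comp_def, mat_xG] using congrArg mat h
  suffices H : ∀ m : ℕ, ∀ r ∈ l, L (wt D r) < m → t r = u r from
    fun r hr => H ((L (wt D r)).toNat + 1) r hr (by omega)
  intro m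
  induction m with
  | zero => intro r hr h0; have := hl r hr; omega
  | succ m ih =>
    intro s hs h0
    by_cases h1 : L (wt D s) < m
    · exact ih s hs h1
    have h2 := prod_sub_prod_mem_Fil (d := deg D L) (m := m) (L := l) (a := fun r => D.x K r (t r))
      (b := fun r => D.x K r (u r))
      (fun r hr => Fil_anti (hl r hr) (x_sub_one_mem_Fil C L (hl r hr).le _))
      (fun r hr => Fil_anti (hl r hr) (x_sub_one_mem_Fil C L (hl r hr).le _)) fun r hr => by
        by_cases h3 : L (wt D r) < m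
        · simp [ih r hr h3]
        · exact Fil_anti (by omega) (x_sub_x_mem_Fil C L (hl r hr).le _ _)
    rw [h', sub_self, zero_sub, neg_mem_iff] at h2
    obtain ⟨i, hi⟩ := exists_crt_ne_zero C K s.2
    have h3 := h2 (Sum.inl i) (Sum.inr ⟨D.neg s, C.tab.neg_lt s s.2⟩) (by
      simp only [deg, Sum.elim_inl, Sum.elim_inr, wt_neg C s.2, map_neg]
      push_cast at h0
      omega)
    rw [← List.sum_toFinset _ hnd, Matrix.sum_apply, Finset.sum_eq_single s] at h3
    · rw [Matrix.sub_apply, x_entry_neg C, x_entry_neg C, if_pos rfl, if_pos rfl, ← mul_sub, mul_eq_zero] at h3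
      exact sub_eq_zero.1 (h3.resolve_left hi)
    · intro r _ hr
      rw [Matrix.sub_apply, x_entry_neg C, x_entry_neg C, if_neg hr, if_neg hr, sub_self]
    · simp [hs]

omit [WeylOK D] in
/-- A closed set of roots on which a linear form is positive is a graded system. -/
theorem graded_of_closed (L : (Fin D.rank → ℤ) →+ ℤ) {S : Set (Fin D.nroots)} (hS : ∀ r ∈ S, 0 < L (wt D r))
    (hc : ∀ r ∈ S, ∀ s ∈ S, ∀ (k : Fin D.nroots) (i j : ℕ), 0 < i → 0 < j →
      wt D k = i • wt D r + j • wt D s → k ∈ S) :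
    CL.Chev.Graded (fun (r : Fin D.nroots) (t : K) => xG C r t) S fun r => L (wt D r) where
  fin := Set.toFinite _
  add r _ := xG_add C r
  comm r hr s hs h t u := by
    have h5 := hS r hr
    have h6 := hS s hs
    have hne : (s : ℕ) ≠ D.neg r := fun e => by
      rw [e, wt_neg C r.2, map_neg] at h6
      omega
    rw [mul_assoc, xG_comm C r.2 s.2 (fun e => h (Fin.ext e)) hne, ← _root_.mul_inv_rev, inv_mul_cancel_left]
    refine list_prod_mem fun y hy => ?_
    simp only [commWord, List.map_map, List.mem_map, Function.comp] at hy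
    obtain ⟨c, hc', rfl⟩ := hy
    obtain ⟨h1, h2, h3, h4⟩ := wt_commTerms C r.2 s.2 c hc'
    have h7 : L (wt D c.1) = c.2.2.1 * L (wt D r) + c.2.2.2 * L (wt D s) := by
      rw [h4, map_add, map_nsmul, map_nsmul, nsmul_eq_mul, nsmul_eq_mul]
    refine xG_mem_XSg C (S := {k | k ∈ S ∧ L (wt D r) < L (wt D k) ∧ L (wt D s) < L (wt D k)}) (r := ⟨c.1, h1⟩)
      ⟨hc r hr s hs ⟨c.1, h1⟩ _ _ h2 h3 h4, ?_, ?_⟩ _ <;> simp only [h7] <;> nlinarith

variable [CoefOK D]

theorem exists_graded_PP : ∃ L : (Fin D.rank → ℤ) →+ ℤ, (∀ r ∈ PP D, 0 < L (wt D r)) ∧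
    CL.Chev.Graded (fun (r : Fin D.nroots) (t : K) => xG C r t) (PP D) fun r => L (wt D r) := by
  obtain ⟨L, hL⟩ := exists_ht (D := D) 1
  simp only [one_smul] at hL
  exact ⟨L, fun r hr => (hL r).1 hr, graded_of_closed C L (fun r hr => (hL r).1 hr)
    fun r hr s hs k i j hi _ h => by
      simpa using pos_smul_comb (w := 1) hi (by simpa using hr) (by simpa using hs) h⟩

theorem isNilpotent_U : Group.IsNilpotent ↥(XSg C K (PP D)) := by
  obtain ⟨L, -, hG⟩ := exists_graded_PP (K := K) C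
  exact hG.isNilpotent

/-- Existence of the normal form in `U`, for any ordering of the positive roots. -/
theorem exists_lprod_U {l : List (Fin D.nroots)} (hl : ∀ r, r ∈ l ↔ r ∈ PP D) (hnd : l.Nodup)
    {g : ↥(D.group K)} (hg : g ∈ XSg C K (PP D)) :
    ∃ t : Fin D.nroots → K, g = (l.map fun r : Fin D.nroots => xG C r (t r)).prod := by
  obtain ⟨L, -, hG⟩ := exists_graded_PP (K := K) C
  exact hG.exists_lprod hl hnd hg

theorem isNilpotent_mat_sub_one {g : ↥(D.group K)} (hg : g ∈ XSg C K (PP D)) : IsNilpotent (mat g - 1) := by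
  obtain ⟨L, hL, -⟩ := exists_graded_PP (K := K) C
  exact isNilpotent_of_mem_Fil (mat_sub_one_mem_Fil C L zero_le_one hL hg)

end CL.Tw
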